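import Groth.Agent.Lib.Helper71.W2

set_option autoImplicit false
universe u v

namespace Groth.Agent.Lib.Helper71.W2

open FrobAlg

variable (p : ℕ) [Fact p.Prime]

section arith

variable {R : Type u} [CommRing R]

noncomputable def T : R →* W2 p R :=
  (WittVector.truncate (p := p) (R := R) 2).toMonoidHom.comp (WittVector.teichmuller p)

theorem T_def (a : R) : T p a = WittVector.truncate 2 (WittVector.teichmuller p a) := rfl

@[simp] theorem coeff_T_zero (a : R) : (T p a).coeff 0 = a := by
  rw [T_def, WittVector.coeff_truncate]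
  rfl

@[simp] theorem coeff_T_one (a : R) : (T p a).coeff 1 = 0 := by
  rw [T_def, WittVector.coeff_truncate]
  exact WittVector.teichmuller_coeff_pos p a 1 Nat.one_pos

def Vfun (a : R) : W2 p R := TruncatedWittVector.mk p ![0, a]

theorem Vfun_eq (a : R) (X : WittVector p R) (hX : X.coeff 0 = a) :
    Vfun p a = WittVector.truncate 2 (WittVector.verschiebung X) := by
  apply ext2
  · rw [Vfun, TruncatedWittVector.coeff_mk, WittVector.coeff_truncate]
    exact (WittVector.verschiebung_coeff_zero X).symm
  · rw [Vfun, TruncatedWittVector.coeff_mk, WittVector.coeff_truncate]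
    change a = (WittVector.verschiebung X).coeff (0 + 1)
    rw [WittVector.verschiebung_coeff_succ, hX]

noncomputable def V : R →+ W2 p R where
  toFun := Vfun p
  map_zero' := by
    rw [Vfun_eq p 0 0 (WittVector.zero_coeff p R 0), map_zero, map_zero]
  map_add' a b := by
    rw [Vfun_eq p a _ (WittVector.teichmuller_coeff_zero p a),
      Vfun_eq p b _ (WittVector.teichmuller_coeff_zero p b),
      Vfun_eq p (a + b) (WittVector.teichmuller p a + WittVector.teichmuller p b)
        (by rw [WittVector.add_coeff_zero]; rfl), map_add, map_add]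

@[simp] theorem coeff_V_zero (a : R) : (V p a).coeff 0 = 0 := by
  change (Vfun p a).coeff 0 = 0
  rw [Vfun, TruncatedWittVector.coeff_mk]
  rfl

@[simp] theorem coeff_V_one (a : R) : (V p a).coeff 1 = a := by
  change (Vfun p a).coeff 1 = a
  rw [Vfun, TruncatedWittVector.coeff_mk]
  rfl

theorem V_eq (a : R) (X : WittVector p R) (hX : X.coeff 0 = a) :
    V p a = WittVector.truncate 2 (WittVector.verschiebung X) := Vfun_eq p a X hX

theorem coeff_T_add_V_zero (a b : R) : (T p a + V p b).coeff 0 = a := by
  rw [T_def, V_eq p b _ (WittVector.teichmuller_coeff_zero p b), ← map_add,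
    WittVector.coeff_truncate]
  change (_ + _ : WittVector p R).coeff 0 = a
  rw [WittVector.add_coeff_zero, WittVector.verschiebung_coeff_zero, add_zero]
  rfl

theorem coeff_T_add_V_one (a b : R) : (T p a + V p b).coeff 1 = b := by
  rw [T_def, V_eq p b _ (WittVector.teichmuller_coeff_zero p b), ← map_add,
    WittVector.coeff_truncate]
  change (_ + _ : WittVector p R).coeff 1 = b
  rw [WittVector.coeff_add_of_disjoint]
  · rw [WittVector.teichmuller_coeff_pos p a 1 Nat.one_pos, zero_add]
    change (WittVector.verschiebung _).coeff (0 + 1) = b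
    rw [WittVector.verschiebung_coeff_succ]
    rfl
  · intro n
    rcases Nat.eq_zero_or_pos n with rfl | hn
    · exact Or.inr (WittVector.verschiebung_coeff_zero _)
    · exact Or.inl (WittVector.teichmuller_coeff_pos p a n hn)

theorem eq_T_add_V (x : W2 p R) : x = T p (x.coeff 0) + V p (x.coeff 1) := by
  apply ext2
  · rw [coeff_T_add_V_zero]
  · rw [coeff_T_add_V_one]

theorem eq_V_of_coeff_zero {x : W2 p R} (h : x.coeff 0 = 0) : x = V p (x.coeff 1) := by
  apply ext2
  · rw [h, coeff_V_zero]
  · rw [coeff_V_one]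

theorem coeff_add_V_zero (x : W2 p R) (b : R) : (x + V p b).coeff 0 = x.coeff 0 := by
  conv_lhs => rw [eq_T_add_V p x, add_assoc, ← map_add]
  rw [coeff_T_add_V_zero]

theorem coeff_add_V_one (x : W2 p R) (b : R) : (x + V p b).coeff 1 = x.coeff 1 + b := by
  conv_lhs => rw [eq_T_add_V p x, add_assoc, ← map_add]
  rw [coeff_T_add_V_one]

theorem coeff_zero_add (x y : W2 p R) : (x + y).coeff 0 = x.coeff 0 + y.coeff 0 := by
  have := map_add (res p R) x y
  simpa only [res_apply] using this

theorem coeff_zero_mul (x y : W2 p R) : (x * y).coeff 0 = x.coeff 0 * y.coeff 0 := by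
  have := map_mul (res p R) x y
  simpa only [res_apply] using this

theorem coeff_zero_sub (x y : W2 p R) : (x - y).coeff 0 = x.coeff 0 - y.coeff 0 := by
  have := map_sub (res p R) x y
  simpa only [res_apply] using this

theorem eq_add_V_of_coeff_zero_eq {x y : W2 p R} (h : x.coeff 0 = y.coeff 0) :
    x = y + V p (x.coeff 1 - y.coeff 1) := by
  apply ext2
  · rw [coeff_add_V_zero, h]
  · rw [coeff_add_V_one]; ring

noncomputable def ghost1 : W2 p R →+* R :=
  RingHom.liftOfSurjective (WittVector.truncate 2) (WittVector.truncate_surjective p 2 R)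
    ⟨WittVector.ghostComponent 1, fun x hx => by
      rw [RingHom.mem_ker] at hx ⊢
      have h0 := (WittVector.mem_ker_truncate 2 x).1 (RingHom.mem_ker.2 hx) 0 (by omega)
      have h1 := (WittVector.mem_ker_truncate 2 x).1 (RingHom.mem_ker.2 hx) 1 (by omega)
      rw [WittVector.ghostComponent_apply, wittPolynomial_one, map_add, map_mul, map_pow,
        MvPolynomial.aeval_X, MvPolynomial.aeval_X, h0, h1, mul_zero,
        zero_pow (Fact.out : p.Prime).ne_zero, add_zero]⟩

theorem ghost1_truncate (X : WittVector p R) :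
    ghost1 p (WittVector.truncate 2 X) = X.coeff 0 ^ p + (p : R) * X.coeff 1 := by
  have : ghost1 p (WittVector.truncate 2 X) = WittVector.ghostComponent 1 X :=
    RingHom.liftOfRightInverse_comp_apply _ _ _ _ X
  rw [this, WittVector.ghostComponent_apply, wittPolynomial_one, map_add, map_mul, map_pow,
    MvPolynomial.aeval_X, MvPolynomial.aeval_X, MvPolynomial.aeval_C, add_comm]
  simp

theorem ghost1_apply (x : W2 p R) : ghost1 p x = x.coeff 0 ^ p + (p : R) * x.coeff 1 := by
  obtain ⟨X, rfl⟩ := WittVector.truncate_surjective p 2 R x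
  rw [ghost1_truncate, WittVector.coeff_truncate, WittVector.coeff_truncate]
  rfl

section truncMap

variable {R' : Type v} [CommRing R'] (f : R →+* R')

theorem truncMap_T (a : R) : WittGrp.truncMap p 2 f (T p a) = T p (f a) := by
  apply ext2 <;> simp [WittGrp.coeff_truncMap]

theorem truncMap_V (a : R) : WittGrp.truncMap p 2 f (V p a) = V p (f a) := by
  apply ext2 <;> simp [WittGrp.coeff_truncMap]

theorem truncMap_surjective (hf : Function.Surjective f) :
    Function.Surjective (WittGrp.truncMap p 2 f) := by
  intro y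
  obtain ⟨a, ha⟩ := hf (y.coeff 0)
  obtain ⟨b, hb⟩ := hf (y.coeff 1)
  refine ⟨T p a + V p b, ?_⟩
  rw [map_add, truncMap_T, truncMap_V, ha, hb, ← eq_T_add_V]

theorem ghost1_truncMap (x : W2 p R) :
    ghost1 p (WittGrp.truncMap p 2 f x) = f (ghost1 p x) := by
  rw [ghost1_apply, ghost1_apply, WittGrp.coeff_truncMap, WittGrp.coeff_truncMap, map_add,
    map_mul, map_pow, map_natCast]

end truncMap

end arith

section charp

variable {R : Type u} [CommRing R] [CharP R p]

theorem p_mul_eq_V (x : W2 p R) : (p : W2 p R) * x = V p (x.coeff 0 ^ p) := by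
  apply ext2
  · rw [coeff_p_mul_zero, coeff_V_zero]
  · rw [coeff_p_mul_one, coeff_V_one]

theorem mul_V (x : W2 p R) (a : R) : x * V p a = V p (x.coeff 0 ^ p * a) := by
  obtain ⟨X, rfl⟩ := WittVector.truncate_surjective p 2 R x
  rw [V_eq p a _ (WittVector.teichmuller_coeff_zero p a), ← map_mul, mul_comm,
    ← WittVector.verschiebung_mul_frobenius]
  symm
  apply V_eq
  rw [WittVector.mul_coeff_zero, WittVector.coeff_frobenius_charP, WittVector.coeff_truncate,
    mul_comm]
  rfl

theorem V_mul_V (a b : R) : V p a * V p b = 0 := by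
  rw [mul_V, coeff_V_zero, zero_pow (Fact.out : p.Prime).ne_zero, zero_mul, map_zero]

theorem T_add_V_mul (a b c d : R) :
    (T p a + V p b) * (T p c + V p d) = T p (a * c) + V p (a ^ p * d + c ^ p * b) := by
  have h1 : T p a * V p d = V p (a ^ p * d) := by rw [mul_V, coeff_T_zero]
  have h2 : V p b * T p c = V p (c ^ p * b) := by rw [mul_comm, mul_V, coeff_T_zero]
  have h3 : T p a * T p c = T p (a * c) := (map_mul (T p) a c).symm
  rw [add_mul, mul_add, mul_add, V_mul_V, add_zero, h1, h2, h3, map_add, add_assoc]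

theorem coeff_one_mul (x y : W2 p R) :
    (x * y).coeff 1 = x.coeff 0 ^ p * y.coeff 1 + y.coeff 0 ^ p * x.coeff 1 := by
  conv_lhs => rw [eq_T_add_V p x, eq_T_add_V p y, T_add_V_mul, coeff_T_add_V_one]

end charp

end Groth.Agent.Lib.Helper71.W2
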