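import Mathlib
import Groth.Prelude.Def_EtGlue

namespace Helper71.BL
open TensorProduct
universe u

section L1
variable {R S : Type u} [CommRing R] [CommRing S] [Algebra R S] (I : Ideal R)
  (hq : Function.Bijective
      (Ideal.quotientMap (Ideal.map (algebraMap R S) I) (algebraMap R S) Ideal.le_comap_map))

/-- the algebra equivalence `R/I ≃ S/IS` -/
noncomputable def eA : (R ⧸ I) ≃ₐ[R] (S ⧸ Ideal.map (algebraMap R S) I) :=
  AlgEquiv.ofBijective (Ideal.quotientMapₐ (Ideal.map (algebraMap R S) I) (Algebra.ofId R S)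
    (fun _ hx => Ideal.mem_map_of_mem _ hx)) hq

/-- `S → S/IS ≃ R/I` -/
noncomputable def psi : S →ₐ[R] R ⧸ I :=
  (eA I hq).symm.toAlgHom.comp (Ideal.Quotient.mkₐ R _)

variable (T : Type u) [AddCommGroup T] [Module R T]

theorem smul_top_eq_bot (hT : ∀ r ∈ I, ∀ y : T, r • y = 0) : I • (⊤ : Submodule R T) = ⊥ := by
  rw [eq_bot_iff, Submodule.smul_le]
  intro r hr y _
  rw [hT r hr y]
  exact zero_mem _

/-- retraction of `T → S ⊗ T` for `T` killed by `I` -/
noncomputable def retr (hT : ∀ r ∈ I, ∀ y : T, r • y = 0) : S ⊗[R] T →ₗ[R] T :=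
  (Submodule.quotEquivOfEqBot (I • (⊤ : Submodule R T)) (smul_top_eq_bot I T hT)).toLinearMap ∘ₗ
    (TensorProduct.quotTensorEquivQuotSMul T I).toLinearMap ∘ₗ ((psi I hq).toLinearMap.rTensor T)

theorem retr_one_tmul (hT : ∀ r ∈ I, ∀ y : T, r • y = 0) (y : T) :
    retr I hq T hT ((1 : S) ⊗ₜ[R] y) = y := by
  unfold retr
  simp only [LinearMap.coe_comp, LinearEquiv.coe_coe, Function.comp_apply,
    LinearMap.rTensor_tmul, AlgHom.toLinearMap_apply, map_one]
  rw [TensorProduct.quotTensorEquivQuotSMul_mk_one_tmul]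
  rfl

include hq in
theorem mk_injective_of_killed (hT : ∀ r ∈ I, ∀ y : T, r • y = 0) :
    Function.Injective (TensorProduct.mk R S T 1) := by
  intro y y' h
  have := congrArg (retr I hq T hT) h
  simpa [retr_one_tmul] using this

include hq in
theorem exists_sub_mem (s : S) : ∃ r : R, s - algebraMap R S r ∈ Ideal.map (algebraMap R S) I := by
  obtain ⟨x, hx⟩ := hq.2 (Ideal.Quotient.mk _ s)
  obtain ⟨r, rfl⟩ := Ideal.Quotient.mk_surjective x
  refine ⟨r, ?_⟩
  rw [Ideal.quotientMap_mk] at hx
  exact Ideal.Quotient.eq.mp hx.symm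

theorem tmul_eq_zero_of_mem_map (hT : ∀ r ∈ I, ∀ y : T, r • y = 0) {z : S}
    (hz : z ∈ Ideal.map (algebraMap R S) I) (y : T) : z ⊗ₜ[R] y = 0 := by
  unfold Ideal.map at hz
  induction hz using Submodule.span_induction with
  | mem z hz =>
    obtain ⟨r, hr, rfl⟩ := hz
    rw [Algebra.algebraMap_eq_smul_one, TensorProduct.smul_tmul, hT r hr y, TensorProduct.tmul_zero]
  | zero => exact TensorProduct.zero_tmul _ _
  | add a b _ _ ha hb => rw [TensorProduct.add_tmul, ha, hb, add_zero]
  | smul s z _ hz =>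
    rw [smul_eq_mul, ← smul_eq_mul, ← TensorProduct.smul_tmul', hz, smul_zero]

include hq in
theorem mk_surjective_of_killed (hT : ∀ r ∈ I, ∀ y : T, r • y = 0) :
    Function.Surjective (TensorProduct.mk R S T 1) := by
  intro w
  induction w using TensorProduct.induction_on with
  | zero => exact ⟨0, map_zero _⟩
  | tmul s y =>
    obtain ⟨r, hr⟩ := exists_sub_mem I hq s
    refine ⟨r • y, ?_⟩
    have h1 := tmul_eq_zero_of_mem_map I T hT hr y
    rw [TensorProduct.sub_tmul, sub_eq_zero] at h1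
    rw [h1, TensorProduct.mk_apply, Algebra.algebraMap_eq_smul_one, TensorProduct.smul_tmul]
  | add a b ha hb =>
    obtain ⟨ya, rfl⟩ := ha
    obtain ⟨yb, rfl⟩ := hb
    exact ⟨ya + yb, map_add _ _ _⟩

end L1

end Helper71.BL

namespace Helper71.BL
open TensorProduct
universe u

section L2
variable {R S : Type u} [CommRing R] [CommRing S] [Algebra R S] [Module.Flat R S] (I : Ideal R)
  (hq : Function.Bijective
      (Ideal.quotientMap (Ideal.map (algebraMap R S) I) (algebraMap R S) Ideal.le_comap_map))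
include hq

theorem mk_bijective_of_killed_pow (n : ℕ) :
    ∀ (T : Type u) [AddCommGroup T] [Module R T], (∀ r ∈ I ^ n, ∀ y : T, r • y = 0) →
      Function.Bijective (TensorProduct.mk R S T 1) := by
  induction n with
  | zero =>
    intro T _ _ hT
    have hsub : ∀ y : T, y = 0 := by
      intro y
      have := hT 1 (by rw [pow_zero, Ideal.one_eq_top]; trivial) y
      rwa [one_smul] at this
    constructor
    · intro y y' _
      rw [hsub y, hsub y']
    · intro w
      refine ⟨0, ?_⟩
      rw [map_zero]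
      induction w using TensorProduct.induction_on with
      | zero => rfl
      | tmul s y => rw [hsub y, TensorProduct.tmul_zero]
      | add a b ha hb => rw [← ha, ← hb, add_zero]
  | succ n ih =>
    intro T _ _ hT
    -- T' = I T, T'' = T / I T
    have hT' : ∀ r ∈ I ^ n, ∀ y : (I • (⊤ : Submodule R T) : Submodule R T), r • y = 0 := by
      intro r hr y
      apply Subtype.ext
      rw [Submodule.coe_smul, Submodule.coe_zero]
      have hy := y.2
      refine Submodule.smul_induction_on hy ?_ ?_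
      · intro a ha z _
        rw [smul_smul]
        exact hT (r * a) (by rw [pow_succ]; exact Ideal.mul_mem_mul hr ha) z
      · intro a b ha hb
        rw [smul_add, ha, hb, add_zero]
    have hT'' : ∀ r ∈ I, ∀ y : (T ⧸ (I • (⊤ : Submodule R T) : Submodule R T)), r • y = 0 := by
      intro r hr y
      obtain ⟨z, rfl⟩ := Submodule.mkQ_surjective _ y
      rw [← map_smul, Submodule.mkQ_apply, Submodule.Quotient.mk_eq_zero]
      exact Submodule.smul_mem_smul hr Submodule.mem_top
    have ih' := ih (I • (⊤ : Submodule R T) : Submodule R T) hT'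
    have hinj'' := mk_injective_of_killed I hq _ hT''
    have hsurj'' := mk_surjective_of_killed I hq _ hT''
    have hflat : Function.Injective ((I • (⊤ : Submodule R T)).subtype.lTensor S) :=
      Module.Flat.lTensor_preserves_injective_linearMap _ (Submodule.injective_subtype _)
    have hex : Function.Exact ((I • (⊤ : Submodule R T)).subtype.lTensor S)
        ((I • (⊤ : Submodule R T)).mkQ.lTensor S) :=
      lTensor_exact S (LinearMap.exact_subtype_mkQ _) (Submodule.mkQ_surjective _)
    constructor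
    · rw [injective_iff_map_eq_zero]
      intro y hy
      have h1 : TensorProduct.mk R S _ 1 ((I • (⊤ : Submodule R T)).mkQ y) = 0 := by
        have := congrArg ((I • (⊤ : Submodule R T)).mkQ.lTensor S) hy
        simpa using this
      have h2 : (I • (⊤ : Submodule R T)).mkQ y = 0 := by
        apply hinj''
        rw [h1, map_zero]
      have h3 : y ∈ (I • (⊤ : Submodule R T) : Submodule R T) := by
        rwa [Submodule.mkQ_apply, Submodule.Quotient.mk_eq_zero] at h2
      have h4 : TensorProduct.mk R S _ 1 (⟨y, h3⟩ : (I • (⊤ : Submodule R T) : Submodule R T)) = 0 := by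
        apply hflat
        rw [map_zero]
        simpa using hy
      have h5 : (⟨y, h3⟩ : (I • (⊤ : Submodule R T) : Submodule R T)) = 0 := by
        apply ih'.1
        rw [h4, map_zero]
      exact congrArg Subtype.val h5
    · intro w
      obtain ⟨ybar, hy⟩ := hsurj'' ((I • (⊤ : Submodule R T)).mkQ.lTensor S w)
      obtain ⟨y, rfl⟩ := Submodule.mkQ_surjective _ ybar
      have h1 : (I • (⊤ : Submodule R T)).mkQ.lTensor S (w - TensorProduct.mk R S T 1 y) = 0 := by
        rw [map_sub, ← hy]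
        simp
      obtain ⟨w', hw'⟩ := (hex _).mp h1
      obtain ⟨y', rfl⟩ := ih'.2 w'
      refine ⟨y + (y' : T), ?_⟩
      rw [map_add]
      have h2 : (I • (⊤ : Submodule R T)).subtype.lTensor S (TensorProduct.mk R S _ 1 y') =
          TensorProduct.mk R S T 1 (y' : T) := by simp
      rw [← h2, hw']
      abel

end L2

section L3
variable {R : Type u} [CommRing R]

theorem exists_pow_le {t : ℕ} (f : Fin t → R) (k : ℕ) :
    ∃ n : ℕ, Ideal.span (Set.range f) ^ n ≤ Ideal.span (Set.range fun i => f i ^ k) := by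
  set J := Ideal.span (Set.range fun i => f i ^ k) with hJ
  set I := Ideal.span (Set.range f) with hI
  have hfg : (I.map (Ideal.Quotient.mk J)).FG := by
    apply Ideal.FG.map
    exact Submodule.fg_span (Set.finite_range f)
  have hle : I.map (Ideal.Quotient.mk J) ≤ nilradical (R ⧸ J) := by
    rw [Ideal.map_le_iff_le_comap, hI, Ideal.span_le]
    rintro _ ⟨i, rfl⟩
    rw [SetLike.mem_coe, Ideal.mem_comap, mem_nilradical]
    refine ⟨k, ?_⟩
    rw [← map_pow, Ideal.Quotient.eq_zero_iff_mem]
    exact Ideal.subset_span ⟨i, rfl⟩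
  obtain ⟨n, hn⟩ := hfg.isNilpotent_iff_le_nilradical.mpr hle
  refine ⟨n, ?_⟩
  intro x hx
  have h1 : Ideal.Quotient.mk J x ∈ (I.map (Ideal.Quotient.mk J)) ^ n := by
    rw [← Ideal.map_pow]
    exact Ideal.mem_map_of_mem _ hx
  rw [hn] at h1
  exact Ideal.Quotient.eq_zero_iff_mem.mp h1

end L3

end Helper71.BL

namespace Helper71.BL
open TensorProduct
universe u

section Core
variable {R S : Type u} [CommRing R] [CommRing S] [Algebra R S] [Module.Flat R S] {t : ℕ}
  (I : Ideal R)
  (hq : Function.Bijective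
      (Ideal.quotientMap (Ideal.map (algebraMap R S) I) (algebraMap R S) Ideal.le_comap_map))
  (M : Type u) [AddCommGroup M] [Module R M]

omit [Module.Flat R S] in
theorem smul_eq_zero_of_mem_span {X : Type*} [AddCommGroup X] [Module R X] (g : Fin t → R) (y : X)
    (hy : ∀ i, g i • y = 0) {r : R} (hr : r ∈ Ideal.span (Set.range g)) : r • y = 0 := by
  obtain ⟨c, rfl⟩ := Ideal.mem_span_range_iff_exists_fun.mp hr
  rw [Finset.sum_smul]
  apply Finset.sum_eq_zero
  intro i _
  rw [mul_smul, hy i, smul_zero]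

omit [Module.Flat R S] in
/-- joint injectivity of the projections on `S ⊗ (Fin t → M)` -/
theorem eq_of_proj_eq (u u' : S ⊗[R] (Fin t → M))
    (h : ∀ i, (LinearMap.proj i : (Fin t → M) →ₗ[R] M).lTensor S u =
      (LinearMap.proj i : (Fin t → M) →ₗ[R] M).lTensor S u') : u = u' := by
  classical
  have key : ∀ (w : S ⊗[R] (Fin t → M)) (i : Fin t),
      TensorProduct.piRight R S S (fun _ : Fin t => M) w i =
        (LinearMap.proj i : (Fin t → M) →ₗ[R] M).lTensor S w := by
    intro w i
    induction w using TensorProduct.induction_on with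
    | zero => simp
    | tmul s v => simp
    | add a b ha hb => rw [map_add, map_add, Pi.add_apply, ha, hb]
  apply (TensorProduct.piRight R S S (fun _ : Fin t => M)).injective
  funext i
  rw [key, key, h i]

/-- the degree-zero Čech differential with multipliers `g i` -/
def d0 (g : Fin t → R) : M →ₗ[R] (Fin t → M) := LinearMap.pi (fun i => g i • LinearMap.id)

omit [Module.Flat R S] in
theorem proj_lTensor_d0 (g : Fin t → R) (i : Fin t) (x : S ⊗[R] M) :
    (LinearMap.proj i : (Fin t → M) →ₗ[R] M).lTensor S ((d0 M g).lTensor S x) = g i • x := by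
  induction x using TensorProduct.induction_on with
  | zero => simp
  | tmul s m => simp [d0, TensorProduct.tmul_smul]
  | add a b ha hb => rw [map_add, map_add, ha, hb, smul_add]

/-- cocycles -/
def ZZ (g : Fin t → R) : Submodule R (Fin t → M) where
  carrier := {a | ∀ i j, g j • a i = g i • a j}
  add_mem' := by
    intro a b ha hb i j
    rw [Pi.add_apply, Pi.add_apply, smul_add, smul_add, ha i j, hb i j]
  zero_mem' := by intro i j; simp
  smul_mem' := by
    intro c a ha i j
    rw [Pi.smul_apply, Pi.smul_apply, smul_comm, ha i j, smul_comm]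

include hq in
theorem core (g : Fin t → R) (n : ℕ) (hn : I ^ n ≤ Ideal.span (Set.range g)) (x : S ⊗[R] M)
    (a : Fin t → M) (hA : ∀ i, g i • x = (1 : S) ⊗ₜ[R] a i)
    (hB : ∀ i j, g j • a i = g i • a j) :
    ∃ μ : M, (1 : S) ⊗ₜ[R] μ = x ∧ ∀ i, g i • μ = a i := by
  classical
  have hd0 : ∀ μ i, d0 M g μ i = g i • μ := fun μ i => rfl
  have hd0Z : ∀ μ, d0 M g μ ∈ ZZ M g := by
    intro μ i j
    rw [hd0, hd0, smul_smul, smul_smul, mul_comm]
  let d0Z : M →ₗ[R] ZZ M g := (d0 M g).codRestrict (ZZ M g) hd0Z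
  -- H is killed by I^n
  have hH : ∀ r ∈ I ^ n, ∀ y : (ZZ M g ⧸ LinearMap.range d0Z), r • y = 0 := by
    intro r hr y
    obtain ⟨z, rfl⟩ := Submodule.mkQ_surjective _ y
    apply smul_eq_zero_of_mem_span g _ ?_ (hn hr)
    intro j
    rw [← map_smul, Submodule.mkQ_apply, Submodule.Quotient.mk_eq_zero]
    refine ⟨(z : Fin t → M) j, ?_⟩
    apply Subtype.ext
    funext i
    show g i • (z : Fin t → M) j = g j • (z : Fin t → M) i
    exact (z.2 i j).symm
  have hbij := mk_bijective_of_killed_pow I hq n (ZZ M g ⧸ LinearMap.range d0Z) hH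
  have hflat : Function.Injective ((ZZ M g).subtype.lTensor S) :=
    Module.Flat.lTensor_preserves_injective_linearMap _ (Submodule.injective_subtype _)
  -- step α
  have h1 : (1 : S) ⊗ₜ[R] (⟨a, hB⟩ : ZZ M g) = d0Z.lTensor S x := by
    apply hflat
    rw [LinearMap.lTensor_tmul, ← LinearMap.comp_apply, ← LinearMap.lTensor_comp]
    have hcomp : (ZZ M g).subtype ∘ₗ d0Z = d0 M g := by
      ext μ i; rfl
    rw [hcomp]
    apply eq_of_proj_eq
    intro i
    rw [proj_lTensor_d0, LinearMap.lTensor_tmul, hA i]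
    rfl
  have h2 : TensorProduct.mk R S _ 1 ((LinearMap.range d0Z).mkQ (⟨a, hB⟩ : ZZ M g)) = 0 := by
    have h3 : (LinearMap.range d0Z).mkQ ∘ₗ d0Z = 0 := by
      ext μ
      simp only [LinearMap.comp_apply, Submodule.mkQ_apply, LinearMap.zero_apply]
      rw [Submodule.Quotient.mk_eq_zero]
      exact ⟨μ, rfl⟩
    have h4 := congrArg ((LinearMap.range d0Z).mkQ.lTensor S) h1
    rw [LinearMap.lTensor_tmul, ← LinearMap.comp_apply, ← LinearMap.lTensor_comp, h3,
      LinearMap.lTensor_zero, LinearMap.zero_apply] at h4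
    exact h4
  have h5 : (LinearMap.range d0Z).mkQ (⟨a, hB⟩ : ZZ M g) = 0 := by
    apply hbij.1
    rw [h2, map_zero]
  rw [Submodule.mkQ_apply, Submodule.Quotient.mk_eq_zero] at h5
  obtain ⟨μ', hμ'⟩ := h5
  have hμ'i : ∀ i, g i • μ' = a i := by
    intro i
    have := congrFun (congrArg Subtype.val hμ') i
    exact this
  -- step β
  have hx' : ∀ i, g i • (x - (1 : S) ⊗ₜ[R] μ') = 0 := by
    intro i
    rw [smul_sub, hA i, ← TensorProduct.tmul_smul, hμ'i i, sub_self]
  have hK : ∀ r ∈ I ^ n, ∀ κ : LinearMap.ker (d0 M g), r • κ = 0 := by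
    intro r hr κ
    apply smul_eq_zero_of_mem_span g _ ?_ (hn hr)
    intro i
    apply Subtype.ext
    have := congrFun (LinearMap.mem_ker.mp κ.2) i
    exact this
  have hbijK := mk_bijective_of_killed_pow I hq n (LinearMap.ker (d0 M g)) hK
  have hex := Module.Flat.lTensor_exact S (LinearMap.exact_subtype_ker_map (d0 M g))
  have h6 : (d0 M g).lTensor S (x - (1 : S) ⊗ₜ[R] μ') = 0 := by
    apply eq_of_proj_eq
    intro i
    rw [proj_lTensor_d0, hx' i, map_zero]
  obtain ⟨w, hw⟩ := (hex _).mp h6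
  obtain ⟨κ, rfl⟩ := hbijK.2 w
  have h7 : (1 : S) ⊗ₜ[R] (κ : M) = x - (1 : S) ⊗ₜ[R] μ' := by
    rw [← hw]; simp
  refine ⟨μ' + κ, ?_, ?_⟩
  · rw [TensorProduct.tmul_add, h7]; abel
  · intro i
    rw [smul_add, hμ'i i]
    have := congrFun (LinearMap.mem_ker.mp κ.2) i
    have h8 : g i • (κ : M) = 0 := this
    rw [h8, add_zero]

end Core

end Helper71.BL

namespace Helper71.BL
open TensorProduct
universe u

section Main
variable {R S : Type u} [CommRing R] [CommRing S] [Algebra R S] [Module.Flat R S] {t : ℕ}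
  (f : Fin t → R) (I : Ideal R) (hI : Ideal.span (Set.range f) = I)
  (hq : Function.Bijective
      (Ideal.quotientMap (Ideal.map (algebraMap R S) I) (algebraMap R S) Ideal.le_comap_map))
  (M : Type u) [AddCommGroup M] [Module R M]
include hI hq

theorem part1 (m : M) (h1 : (1 : S) ⊗ₜ[R] m = 0)
    (h2 : ∀ i : Fin t, LocalizedModule.mkLinearMap (Submonoid.powers (f i)) M m = 0) : m = 0 := by
  classical
  have h2' : ∀ i : Fin t, ∃ e : ℕ, f i ^ e • m = 0 := by
    intro i
    have h := h2 i
    rw [LocalizedModule.mkLinearMap_apply, ← LocalizedModule.zero_mk 1, LocalizedModule.mk_eq] at h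
    obtain ⟨u, hu⟩ := h
    obtain ⟨e, he⟩ := (Submonoid.mem_powers_iff _ _).mp u.2
    refine ⟨e, ?_⟩
    simp only [one_smul, smul_zero] at hu
    rw [he]
    exact hu
  choose e he using h2'
  let k := Finset.univ.sup e
  have hk : ∀ i, f i ^ k • m = 0 := by
    intro i
    have hle : e i ≤ k := Finset.le_sup (Finset.mem_univ i)
    obtain ⟨d, hd⟩ := Nat.exists_eq_add_of_le hle
    rw [hd, pow_add, mul_comm, mul_smul, he i, smul_zero]
  obtain ⟨n, hn⟩ := exists_pow_le f k
  rw [hI] at hn
  have hT : ∀ r ∈ I ^ n, ∀ y : Submodule.span R {m}, r • y = 0 := by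
    intro r hr y
    apply Subtype.ext
    obtain ⟨c, hc⟩ := Submodule.mem_span_singleton.mp y.2
    rw [Submodule.coe_smul, Submodule.coe_zero, ← hc, smul_comm,
      smul_eq_zero_of_mem_span (fun i => f i ^ k) m hk (hn hr), smul_zero]
  have hbij := mk_bijective_of_killed_pow I hq n (Submodule.span R {m}) hT
  have hflat : Function.Injective ((Submodule.span R {m}).subtype.lTensor S) :=
    Module.Flat.lTensor_preserves_injective_linearMap _ (Submodule.injective_subtype _)
  have h3 : TensorProduct.mk R S _ 1 (⟨m, Submodule.mem_span_singleton_self m⟩ :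
      Submodule.span R {m}) = 0 := by
    apply hflat
    rw [map_zero]
    simpa using h1
  have h4 : (⟨m, Submodule.mem_span_singleton_self m⟩ : Submodule.span R {m}) = 0 := by
    apply hbij.1
    rw [h3, map_zero]
  exact congrArg Subtype.val h4

theorem part2 (x : S ⊗[R] M) (N : ℕ) (m : Fin t → M)
    (ha : ∀ i : Fin t, EtGlue.locOfTensor R S (f i) M x =
      EtGlue.tensorOfLoc R S (f i) M (LocalizedModule.mk (m i)
        ⟨f i ^ N, Submonoid.pow_mem _ (Submonoid.mem_powers (f i)) N⟩))
    (hb : ∀ i j : Fin t, ∃ e : ℕ, (f i * f j) ^ e • (f j ^ N • m i - f i ^ N • m j) = 0) :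
    ∃ μ : M, (1 : S) ⊗ₜ[R] μ = x ∧
      ∀ i : Fin t, LocalizedModule.mkLinearMap (Submonoid.powers (f i)) M μ =
        LocalizedModule.mk (m i) ⟨f i ^ N, Submonoid.pow_mem _ (Submonoid.mem_powers (f i)) N⟩ := by
  classical
  have ha' : ∀ i : Fin t, ∃ e : ℕ, f i ^ e • f i ^ N • x = f i ^ e • ((1 : S) ⊗ₜ[R] m i) := by
    intro i
    have h := ha i
    unfold EtGlue.locOfTensor EtGlue.tensorOfLoc at h
    rw [IsLocalizedModule.map_LocalizedModules, LocalizedModule.mkLinearMap_apply,
      LocalizedModule.mk_eq] at h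
    obtain ⟨u, hu⟩ := h
    obtain ⟨e, he⟩ := (Submonoid.mem_powers_iff _ _).mp u.2
    refine ⟨e, ?_⟩
    rw [he]
    simpa [Submonoid.smul_def] using hu
  choose ea hea using ha'
  choose eb heb using hb
  let E := (Finset.univ.sup ea) ⊔ (Finset.univ.sup fun i => Finset.univ.sup (eb i))
  have hEa : ∀ i, ea i ≤ E := fun i => le_sup_of_le_left (Finset.le_sup (Finset.mem_univ i))
  have hEb : ∀ i j, eb i j ≤ E := fun i j => le_sup_of_le_right
    ((Finset.le_sup (f := eb i) (Finset.mem_univ j)).trans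
      (Finset.le_sup (f := fun i => Finset.univ.sup (eb i)) (Finset.mem_univ i)))
  have hA : ∀ i, f i ^ (N + E) • x = (1 : S) ⊗ₜ[R] (f i ^ E • m i) := by
    intro i
    obtain ⟨d, hd⟩ := Nat.exists_eq_add_of_le (hEa i)
    rw [TensorProduct.tmul_smul]
    have h1 : f i ^ (N + E) • x = f i ^ d • (f i ^ ea i • f i ^ N • x) := by
      rw [smul_smul, smul_smul, hd]; congr 1; ring
    rw [h1, hea i, smul_smul, hd]
    congr 1; ring
  have hB : ∀ i j, f j ^ (N + E) • (f i ^ E • m i) = f i ^ (N + E) • (f j ^ E • m j) := by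
    intro i j
    obtain ⟨d, hd⟩ := Nat.exists_eq_add_of_le (hEb i j)
    have h1 : (f i * f j) ^ E • (f j ^ N • m i - f i ^ N • m j) = 0 := by
      rw [hd, pow_add, mul_comm, mul_smul, heb i j, smul_zero]
    rw [smul_sub, sub_eq_zero, smul_smul, smul_smul] at h1
    rw [smul_smul, smul_smul]
    have e1 : f j ^ (N + E) * f i ^ E = (f i * f j) ^ E * f j ^ N := by ring
    have e2 : f i ^ (N + E) * f j ^ E = (f i * f j) ^ E * f i ^ N := by ring
    rw [e1, e2, h1]
  obtain ⟨n, hn⟩ := exists_pow_le f (N + E)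
  rw [hI] at hn
  obtain ⟨μ, hμ1, hμ2⟩ := core I hq M (fun i => f i ^ (N + E)) n hn x (fun i => f i ^ E • m i) hA hB
  refine ⟨μ, hμ1, ?_⟩
  intro i
  rw [LocalizedModule.mkLinearMap_apply, LocalizedModule.mk_eq]
  refine ⟨⟨f i ^ E, Submonoid.pow_mem _ (Submonoid.mem_powers (f i)) E⟩, ?_⟩
  have h := hμ2 i
  simp only [Submonoid.smul_def, one_smul]
  show f i ^ E • f i ^ N • μ = f i ^ E • m i
  rw [← h, smul_smul]
  congr 1; ring

theorem main :
    (∀ m : M, (1 : S) ⊗ₜ[R] m = 0 →
        (∀ i : Fin t, LocalizedModule.mkLinearMap (Submonoid.powers (f i)) M m = 0) → m = 0) ∧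
    ∀ (x : S ⊗[R] M) (N : ℕ) (m : Fin t → M),
      (∀ i : Fin t, EtGlue.locOfTensor R S (f i) M x =
          EtGlue.tensorOfLoc R S (f i) M (LocalizedModule.mk (m i)
            ⟨f i ^ N, Submonoid.pow_mem _ (Submonoid.mem_powers (f i)) N⟩)) →
      (∀ i j : Fin t, ∃ e : ℕ, (f i * f j) ^ e • (f j ^ N • m i - f i ^ N • m j) = 0) →
        ∃ μ : M, (1 : S) ⊗ₜ[R] μ = x ∧
          ∀ i : Fin t, LocalizedModule.mkLinearMap (Submonoid.powers (f i)) M μ =
            LocalizedModule.mk (m i)
              ⟨f i ^ N, Submonoid.pow_mem _ (Submonoid.mem_powers (f i)) N⟩ :=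
  ⟨part1 f I hI hq M, part2 f I hI hq M⟩

end Main

end Helper71.BL
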