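import Mathlib
import Groth.Prelude.Def_FlatCA
import Groth.Prelude.Def_EGA4b
import Groth.Agent.Lib.Helper67.DepthAlg
set_option autoImplicit false
universe u

namespace Groth.Agent.Lib.Helper71.SmFibA

open Groth.Agent.Lib.Helper67

/-- (a) the depth of the fibre local module of `B` itself is the depth of the fibre local ring. -/
theorem depth_fibLocMod_eq (A B : Type u) [CommRing A] [CommRing B] [Algebra A B]
    [IsNoetherianRing B] (q : Ideal B) [q.IsPrime] [IsLocalRing (EGA4.FibLocRing A B q)] :
    LocCoh.depth (Localization.AtPrime q) (EGA4.FibLocMod A B q B) =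
      LocCoh.depth (EGA4.FibLocRing A B q) (EGA4.FibLocRing A B q) := by
  set I : Ideal (Localization.AtPrime q) :=
    (q.comap (algebraMap A B)).map (algebraMap A (Localization.AtPrime q)) with hI
  -- `LocalizedModule q.primeCompl B ≃ₗ[B_q] B_q`
  let ℓ₀ : LocalizedModule q.primeCompl B ≃ₗ[B] Localization.AtPrime q :=
    IsLocalizedModule.iso q.primeCompl (Algebra.linearMap B (Localization.AtPrime q))
  let ℓ : LocalizedModule q.primeCompl B ≃ₗ[Localization.AtPrime q] Localization.AtPrime q :=
    ℓ₀.extendScalarsOfIsLocalization q.primeCompl (Localization.AtPrime q)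
  have hmap : (I • (⊤ : Submodule (Localization.AtPrime q) (LocalizedModule q.primeCompl B))).map
      ℓ.toLinearMap = I • (⊤ : Submodule (Localization.AtPrime q) (Localization.AtPrime q)) := by
    rw [Submodule.map_smul'', Submodule.map_top, LinearEquiv.range]
  let e1 : EGA4.FibLocMod A B q B ≃ₗ[Localization.AtPrime q]
      (Localization.AtPrime q ⧸ (I • (⊤ : Submodule (Localization.AtPrime q)
        (Localization.AtPrime q)))) :=
    Submodule.Quotient.equiv _ _ ℓ hmap
  have htop : I • (⊤ : Submodule (Localization.AtPrime q) (Localization.AtPrime q)) = I := by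
    rw [smul_eq_mul, Ideal.mul_top]
  let e2 : (Localization.AtPrime q ⧸ (I • (⊤ : Submodule (Localization.AtPrime q)
        (Localization.AtPrime q)))) ≃ₗ[Localization.AtPrime q] (Localization.AtPrime q ⧸ I) :=
    Submodule.quotEquivOfEq _ _ htop
  rw [depth_congr (e1.trans e2)]
  haveI : IsNoetherianRing (Localization.AtPrime q) :=
    IsLocalization.isNoetherianRing q.primeCompl _ inferInstance
  haveI : IsLocalHom (algebraMap (Localization.AtPrime q) (Localization.AtPrime q ⧸ I)) :=
    IsLocalHom.of_surjective _ Ideal.Quotient.mk_surjective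
  exact depth_eq_depth_of_isLocalHom_of_finite (A := Localization.AtPrime q)
    (B := Localization.AtPrime q ⧸ I) (Localization.AtPrime q ⧸ I)

end Groth.Agent.Lib.Helper71.SmFibA
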