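import Mathlib
import Groth.Agent.Lib.Helper72.SchDense
set_option autoImplicit false
universe u
open CategoryTheory CategoryTheory.Limits AlgebraicGeometry TopologicalSpace

namespace Groth.Agent.Lib.Helper71.NeronDescG

/-- (helper65) two morphisms to a separated `Z`-scheme agreeing on a scheme-theoretically dominant
source agree. -/
lemma ext_of_schDominant_of_isSeparated {W X Y Z : Scheme.{u}} {f g : X ⟶ Y} (s : Y ⟶ Z)
    [IsSeparated s] (h : f ≫ s = g ≫ s) (ι : W ⟶ X) [IsSchemeTheoreticallyDominant ι]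
    (hU : ι ≫ f = ι ≫ g) : f = g := by
  let X' : Over Z := Over.mk (f ≫ s)
  let Y' : Over Z := Over.mk s
  let U' : Over Z := Over.mk (ι ≫ f ≫ s)
  let f' : X' ⟶ Y' := Over.homMk f
  let g' : X' ⟶ Y' := Over.homMk g (by simpa [X', Y'] using h.symm)
  let ι' : U' ⟶ X' := Over.homMk ι
  have : IsSeparated Y'.hom := ‹_›
  have hlift : (equalizer.lift ι' (show ι' ≫ f' = ι' ≫ g' by ext1; exact hU)).left ≫
      (equalizer.ι f' g').left = ι := by
    rw [← Over.comp_left, equalizer.lift_ι]; rfl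
  have hker : (equalizer.ι f' g').left.ker = ⊥ := by
    have h1 := Scheme.Hom.le_ker_comp
      (equalizer.lift ι' (show ι' ≫ f' = ι' ≫ g' by ext1; exact hU)).left (equalizer.ι f' g').left
    rw [hlift, ι.ker_eq_bot] at h1
    exact le_bot_iff.mp h1
  have : IsIso (equalizer.ι f' g').left := IsClosedImmersion.isIso_iff_ker_eq_bot.mpr hker
  rw [← cancel_epi (equalizer.ι f' g').left]
  exact congr($(equalizer.condition f' g').left)

/-- [G] gluing local extensions of `a : V ⟶ N` into a global morphism `Y ⟶ N`. -/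
theorem glue_of_local {Y N S : Scheme.{u}} (q : Y ⟶ S) (πN : N ⟶ S) [IsSeparated πN] (V : Y.Opens)
    (hV : ∀ W : Y.Opens, IsSchemeTheoreticallyDominant (Y.homOfLE (inf_le_left : W ⊓ V ≤ W)))
    (a : V.toScheme ⟶ N) (ha : a ≫ πN = V.ι ≫ q)
    (hloc : ∀ y : Y, ∃ (W : Y.Opens) (_ : y ∈ W) (f : W.toScheme ⟶ N), f ≫ πN = W.ι ≫ q ∧
      Y.homOfLE (inf_le_left : W ⊓ V ≤ W) ≫ f = Y.homOfLE (inf_le_right : W ⊓ V ≤ V) ≫ a) :
    ∃ b : Y ⟶ N, b ≫ πN = q ∧ V.ι ≫ b = a := by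
  choose W hW f hfπ hfa using hloc
  let 𝒰 : Y.OpenCover := {
    I₀ := Y, X i := (W i), f i := (W i).ι,
    mem₀ := by
      rw [Scheme.presieve₀_mem_precoverage_iff]
      refine ⟨fun x ↦ ⟨x, by simpa using hW x⟩, inferInstance⟩ }
  -- compatibility on overlaps
  have hcompat : ∀ y z : Y, Y.homOfLE (inf_le_left : W y ⊓ W z ≤ W y) ≫ f y =
      Y.homOfLE (inf_le_right : W y ⊓ W z ≤ W z) ≫ f z := by
    intro y z
    haveI := hV (W y ⊓ W z)
    refine ext_of_schDominant_of_isSeparated πN ?_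
      (Y.homOfLE (inf_le_left : (W y ⊓ W z) ⊓ V ≤ W y ⊓ W z)) ?_
    · rw [Category.assoc, Category.assoc, hfπ y, hfπ z, Scheme.homOfLE_ι_assoc,
        Scheme.homOfLE_ι_assoc]
    · have h1 : Y.homOfLE (inf_le_left : (W y ⊓ W z) ⊓ V ≤ W y ⊓ W z) ≫
          Y.homOfLE (inf_le_left : W y ⊓ W z ≤ W y) =
          Y.homOfLE (show (W y ⊓ W z) ⊓ V ≤ W y ⊓ V from
            inf_le_inf_right V inf_le_left) ≫ Y.homOfLE (inf_le_left : W y ⊓ V ≤ W y) := by
        rw [Scheme.homOfLE_homOfLE, Scheme.homOfLE_homOfLE]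
      have h2 : Y.homOfLE (inf_le_left : (W y ⊓ W z) ⊓ V ≤ W y ⊓ W z) ≫
          Y.homOfLE (inf_le_right : W y ⊓ W z ≤ W z) =
          Y.homOfLE (show (W y ⊓ W z) ⊓ V ≤ W z ⊓ V from
            inf_le_inf_right V inf_le_right) ≫ Y.homOfLE (inf_le_left : W z ⊓ V ≤ W z) := by
        rw [Scheme.homOfLE_homOfLE, Scheme.homOfLE_homOfLE]
      rw [← Category.assoc, ← Category.assoc, h1, h2, Category.assoc, Category.assoc, hfa y, hfa z,
        Scheme.homOfLE_homOfLE_assoc, Scheme.homOfLE_homOfLE_assoc]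
  have hglue : ∀ y z : Y, pullback.fst (𝒰.f y) (𝒰.f z) ≫ f y = pullback.snd _ _ ≫ f z := by
    intro y z
    have hpb := isPullback_opens_inf (W y) (W z)
    rw [← cancel_epi hpb.isoPullback.hom]
    have e1 : hpb.isoPullback.hom ≫ pullback.fst (W y).ι (W z).ι = _ := hpb.isoPullback_hom_fst
    have e2 : hpb.isoPullback.hom ≫ pullback.snd (W y).ι (W z).ι = _ := hpb.isoPullback_hom_snd
    change hpb.isoPullback.hom ≫ pullback.fst (W y).ι (W z).ι ≫ f y =
      hpb.isoPullback.hom ≫ pullback.snd (W y).ι (W z).ι ≫ f z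
    rw [← Category.assoc, ← Category.assoc, e1, e2]
    exact hcompat y z
  refine ⟨𝒰.glueMorphisms f hglue, ?_, ?_⟩
  · refine Scheme.Cover.hom_ext 𝒰 _ _ fun y => ?_
    rw [Scheme.Cover.ι_glueMorphisms_assoc]
    exact hfπ y
  · refine Scheme.Cover.hom_ext (𝒰.pullback₁ V.ι) _ _ fun y => ?_
    have hpb := isPullback_opens_inf V (W y)
    change pullback.fst V.ι (W y).ι ≫ V.ι ≫ 𝒰.glueMorphisms f hglue =
      pullback.fst V.ι (W y).ι ≫ a
    rw [← cancel_epi hpb.isoPullback.hom]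
    have e1 : hpb.isoPullback.hom ≫ pullback.fst V.ι (W y).ι = _ := hpb.isoPullback_hom_fst
    have e2 : hpb.isoPullback.hom ≫ pullback.snd V.ι (W y).ι = _ := hpb.isoPullback_hom_snd
    have hgl : (W y).ι ≫ 𝒰.glueMorphisms f hglue = f y := Scheme.Cover.ι_glueMorphisms 𝒰 f hglue y
    rw [pullback.condition_assoc, hgl, ← Category.assoc, ← Category.assoc, e1, e2]
    have h3 : Y.homOfLE (inf_le_right : V ⊓ W y ≤ W y) =
        Y.homOfLE (show V ⊓ W y ≤ W y ⊓ V from le_of_eq (inf_comm _ _)) ≫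
          Y.homOfLE (inf_le_left : W y ⊓ V ≤ W y) := by
      rw [Scheme.homOfLE_homOfLE]
    rw [h3, Category.assoc, hfa y, Scheme.homOfLE_homOfLE_assoc]

end Groth.Agent.Lib.Helper71.NeronDescG
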