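import Mathlib
import Groth.Prelude.Def_SGA3b

/-!
# Groups of multiplicative type of finite type: finite iff killed by some n (helper71, for S2984)

First section adapted from Lib/Helper96/TorsDense (generalised from fields to commutative rings).
-/

set_option autoImplicit false
universe u
open TensorProduct WithConv

namespace Helper71.MultFin
section PowConv

variable {R : Type u} [CommRing R] {A B : Type u} [CommRing A] [HopfAlgebra R A]
  [CommRing B] [HopfAlgebra R B]

/- The first lemmas are adapted from Lib/Helper96/TorsDense (generalised to commutative rings). -/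

lemma powConv_zero : SGA3b.powConv R A 0 = (Algebra.ofId R A).comp (Bialgebra.counitAlgHom R A) := by
  unfold SGA3b.powConv
  rw [pow_zero]
  rfl

lemma powConv_succ (n : ℕ) :
    SGA3b.powConv R A (n + 1) =
      (toConv (SGA3b.powConv R A n) * toConv (AlgHom.id R A)).ofConv := by
  unfold SGA3b.powConv
  rw [pow_succ]

lemma powConv_comp_bialgHom (f : A →ₐc[R] B) (n : ℕ) :
    (SGA3b.powConv R B n).comp (f : A →ₐ[R] B) = (f : A →ₐ[R] B).comp (SGA3b.powConv R A n) := by
  induction n with
  | zero =>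
    rw [powConv_zero, powConv_zero, AlgHom.comp_assoc, BialgHom.counitAlgHom_comp,
      ← AlgHom.comp_assoc]
    congr 1
    ext
  | succ n ih =>
    rw [powConv_succ, powConv_succ, AlgHom.convMul_comp_bialgHom_distrib,
      AlgHom.comp_convMul_distrib]
    simp only [ofConv_toConv]
    rw [ih, AlgHom.id_comp, AlgHom.comp_id]

lemma map_torsionIdeal_le (f : A →ₐc[R] B) (n : ℕ) :
    Ideal.map (f : A →ₐ[R] B).toRingHom (SGA3b.torsionIdeal R A n) ≤ SGA3b.torsionIdeal R B n := by
  unfold SGA3b.torsionIdeal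
  rw [Ideal.map_le_iff_le_comap, Ideal.map_le_iff_le_comap]
  intro a ha
  rw [Ideal.mem_comap, Ideal.mem_comap]
  rw [RingHom.mem_ker] at ha
  have h1 : (f : A →ₐ[R] B).toRingHom (SGA3b.powConv R A n a) = SGA3b.powConv R B n (f a) :=
    (congrArg (fun g => g a) (powConv_comp_bialgHom f n)).symm
  rw [h1]
  apply Ideal.mem_map_of_mem
  rw [RingHom.mem_ker]
  have h2 := congrArg (fun g => g a) (BialgHom.counitAlgHom_comp f)
  simp only [AlgHom.comp_apply] at h2
  exact h2.trans ha

lemma powConv_groupLike {g : A} (hg : IsGroupLikeElem R g) (n : ℕ) :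
    SGA3b.powConv R A n g = g ^ n := by
  induction n with
  | zero =>
    rw [powConv_zero, AlgHom.comp_apply, Bialgebra.counitAlgHom_apply, hg.counit_eq_one, map_one,
      pow_zero]
  | succ n ih =>
    rw [powConv_succ]
    show (toConv (SGA3b.powConv R A n) * toConv (AlgHom.id R A)) g = _
    rw [AlgHom.convMul_apply, hg.comul_eq_tmul_self]
    simp only [ofConv_toConv, Algebra.TensorProduct.lift_tmul, AlgHom.id_apply]
    rw [ih, pow_succ]

/-- torsion ideal of a bialgebra-isomorphic Hopf algebra -/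
lemma torsionIdeal_eq_bot_of_equiv (e : A ≃ₐc[R] B) (n : ℕ) (h : SGA3b.torsionIdeal R B n = ⊥) :
    SGA3b.torsionIdeal R A n = ⊥ := by
  have h1 := map_torsionIdeal_le (e : A →ₐc[R] B) n
  rw [h, le_bot_iff] at h1
  rw [eq_bot_iff]
  intro a ha
  have h2 : ((e : A →ₐc[R] B) : A →ₐ[R] B).toRingHom a ∈
      Ideal.map ((e : A →ₐc[R] B) : A →ₐ[R] B).toRingHom (SGA3b.torsionIdeal R A n) :=
    Ideal.mem_map_of_mem _ ha
  rw [h1, Ideal.mem_bot] at h2
  rw [Ideal.mem_bot]
  have h3 : e a = 0 := h2
  exact (map_eq_zero_iff e e.injective).mp h3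

end PowConv
section BaseChange

variable (R : Type u) [CommRing R] (S : Type u) [CommRing S] [Algebra R S]
variable (A : Type u) [CommRing A] [HopfAlgebra R A]

lemma powConv_one_tmul (n : ℕ) (a : A) :
    SGA3b.powConv S (S ⊗[R] A) n ((1 : S) ⊗ₜ[R] a) = (1 : S) ⊗ₜ[R] SGA3b.powConv R A n a := by
  induction n generalizing a with
  | zero =>
    rw [powConv_zero, powConv_zero]
    simp only [AlgHom.comp_apply, Bialgebra.counitAlgHom_apply, TensorProduct.counit_tmul]
    simp [Algebra.ofId_apply, Algebra.algebraMap_eq_smul_one]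
    rw [Algebra.TensorProduct.one_def, TensorProduct.smul_tmul']
  | succ n ih =>
    rw [powConv_succ, powConv_succ]
    show (toConv (SGA3b.powConv S (S ⊗[R] A) n) * toConv (AlgHom.id S (S ⊗[R] A))) _ =
      (1 : S) ⊗ₜ[R] ((toConv (SGA3b.powConv R A n) * toConv (AlgHom.id R A)) a)
    rw [AlgHom.convMul_apply, AlgHom.convMul_apply, TensorProduct.comul_tmul]
    simp only [ofConv_toConv]
    generalize CoalgebraStruct.comul (R := R) a = z
    induction z using TensorProduct.induction_on with
    | zero => simp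
    | add x y hx hy =>
      simp only [TensorProduct.tmul_add, map_add] at hx hy ⊢
      rw [hx, hy]
    | tmul x y =>
      simp
      rw [ih]
      simp

lemma one_tmul_mem_torsionIdeal (n : ℕ) (x : A) (hx : x ∈ SGA3b.torsionIdeal R A n) :
    (1 : S) ⊗ₜ[R] x ∈ SGA3b.torsionIdeal S (S ⊗[R] A) n := by
  have key : SGA3b.torsionIdeal R A n ≤
      Ideal.comap (Algebra.TensorProduct.includeRight (R := R) (A := S) (B := A))
        (SGA3b.torsionIdeal S (S ⊗[R] A) n) := by
    unfold SGA3b.torsionIdeal
    rw [Ideal.map_le_iff_le_comap]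
    intro a ha
    rw [Ideal.mem_comap, Ideal.mem_comap]
    rw [RingHom.mem_ker] at ha
    show (1 : S) ⊗ₜ[R] (SGA3b.powConv R A n a) ∈ _
    rw [← powConv_one_tmul]
    apply Ideal.mem_map_of_mem
    rw [RingHom.mem_ker, Bialgebra.counitAlgHom_apply, TensorProduct.counit_tmul]
    have : CoalgebraStruct.counit (R := R) a = 0 := ha
    rw [this, zero_smul]
  exact key hx

end BaseChange

section BaseChange2

variable (R : Type u) [CommRing R] (S : Type u) [CommRing S] [Algebra R S]
variable (A : Type u) [CommRing A] [HopfAlgebra R A]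

lemma powConv_sub_counit_mem (n : ℕ) (a : A) :
    SGA3b.powConv R A n (a - algebraMap R A (Coalgebra.counit (R := R) a)) ∈
      SGA3b.torsionIdeal R A n := by
  unfold SGA3b.torsionIdeal
  apply Ideal.mem_map_of_mem
  rw [RingHom.mem_ker, Bialgebra.counitAlgHom_apply, map_sub, Bialgebra.counit_algebraMap]
  simp

lemma powConv_mem_of_counit (n : ℕ) (a : A) (ha : Coalgebra.counit (R := R) a = 0) :
    SGA3b.powConv R A n a ∈ SGA3b.torsionIdeal R A n := by
  have := powConv_sub_counit_mem R A n a
  rwa [ha, map_zero, sub_zero] at this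

lemma torsionIdeal_baseChange_le (n : ℕ) :
    SGA3b.torsionIdeal S (S ⊗[R] A) n ≤
      Ideal.map (Algebra.TensorProduct.includeRight (R := R) (A := S) (B := A))
        (SGA3b.torsionIdeal R A n) := by
  have key : ∀ x : S ⊗[R] A,
      SGA3b.powConv S (S ⊗[R] A) n (x - algebraMap S (S ⊗[R] A) (Coalgebra.counit (R := S) x)) ∈
      Ideal.map (Algebra.TensorProduct.includeRight (R := R) (A := S) (B := A))
        (SGA3b.torsionIdeal R A n) := by
    intro x
    induction x using TensorProduct.induction_on with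
    | zero => simp
    | tmul s a =>
      have h1 : s ⊗ₜ[R] a - algebraMap S (S ⊗[R] A) (Coalgebra.counit (R := S) (s ⊗ₜ[R] a))
          = s • ((1 : S) ⊗ₜ[R] (a - algebraMap R A (Coalgebra.counit (R := R) a))) := by
        rw [TensorProduct.counit_tmul, TensorProduct.tmul_sub, smul_sub, TensorProduct.smul_tmul',
          smul_eq_mul, mul_one, Algebra.TensorProduct.algebraMap_apply, CommSemiring.counit_apply,
          Algebra.algebraMap_eq_smul_one (R := R) (A := A), TensorProduct.smul_tmul']
        simp only [Algebra.algebraMap_self, RingHom.id_apply, smul_eq_mul, mul_one]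
        rw [TensorProduct.smul_tmul]
      rw [h1, map_smul, powConv_one_tmul]
      rw [Algebra.smul_def]
      apply Ideal.mul_mem_left
      exact Ideal.mem_map_of_mem _ (powConv_sub_counit_mem R A n a)
    | add x y hx hy =>
      have : x + y - algebraMap S (S ⊗[R] A) (Coalgebra.counit (R := S) (x + y))
          = (x - algebraMap S (S ⊗[R] A) (Coalgebra.counit (R := S) x))
            + (y - algebraMap S (S ⊗[R] A) (Coalgebra.counit (R := S) y)) := by
        rw [map_add, map_add]; ring
      rw [this, map_add]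
      exact Ideal.add_mem _ hx hy
  unfold SGA3b.torsionIdeal
  rw [Ideal.map_le_iff_le_comap]
  intro x hx
  rw [Ideal.mem_comap]
  rw [RingHom.mem_ker, Bialgebra.counitAlgHom_apply] at hx
  have := key x
  rw [hx, map_zero, sub_zero] at this
  exact this

end BaseChange2

section Triv

variable (R : Type u) [CommRing R] (A : Type u) [CommRing A] [HopfAlgebra R A]

lemma torsionIdeal_eq_bot_iff (n : ℕ) :
    SGA3b.torsionIdeal R A n = ⊥ ↔ SGA3b.powConv R A n = SGA3b.powConv R A 0 := by
  constructor
  · intro h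
    ext a
    have h1 := powConv_sub_counit_mem R A n a
    rw [h, Ideal.mem_bot, map_sub, sub_eq_zero, AlgHom.commutes] at h1
    rw [h1, powConv_zero, AlgHom.comp_apply, Bialgebra.counitAlgHom_apply, Algebra.ofId_apply]
  · intro h
    unfold SGA3b.torsionIdeal
    rw [eq_bot_iff, Ideal.map_le_iff_le_comap]
    intro a ha
    rw [RingHom.mem_ker, Bialgebra.counitAlgHom_apply] at ha
    rw [Ideal.mem_comap, Ideal.mem_bot, h, powConv_zero, AlgHom.comp_apply,
      Bialgebra.counitAlgHom_apply, ha, map_zero]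

lemma torsionIdeal_mul_eq_bot (n k : ℕ) (h : SGA3b.torsionIdeal R A n = ⊥) :
    SGA3b.torsionIdeal R A (n * k) = ⊥ := by
  rw [torsionIdeal_eq_bot_iff] at h ⊢
  unfold SGA3b.powConv at h ⊢
  have h1 : (toConv (AlgHom.id R A)) ^ n = (toConv (AlgHom.id R A)) ^ 0 :=
    WithConv.ofConv_injective h
  rw [pow_mul, h1, pow_zero, one_pow]

end Triv
section MonoidAlg

variable (K : Type u) [CommRing K] (C : Type u) [CommGroup C]

lemma powConv_monoidAlgebra (n : ℕ) (hC : ∀ c : C, c ^ n = 1) :
    SGA3b.powConv K (MonoidAlgebra K C) n =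
      (Algebra.ofId K (MonoidAlgebra K C)).comp (Bialgebra.counitAlgHom K (MonoidAlgebra K C)) := by
  apply MonoidAlgebra.algHom_ext
  · intro c
    rw [powConv_groupLike (MonoidAlgebra.isGroupLikeElem_single_one c) n]
    simp [MonoidAlgebra.single_pow, hC c, MonoidAlgebra.one_def, Algebra.ofId_apply]
  · ext

lemma torsionIdeal_monoidAlgebra (n : ℕ) (hC : ∀ c : C, c ^ n = 1) :
    SGA3b.torsionIdeal K (MonoidAlgebra K C) n = ⊥ := by
  rw [torsionIdeal_eq_bot_iff, powConv_zero]
  exact powConv_monoidAlgebra K C n hC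

lemma pow_eq_one_of_torsionIdeal [Nontrivial K] (n : ℕ)
    (h : SGA3b.torsionIdeal K (MonoidAlgebra K C) n = ⊥) (c : C) : c ^ n = 1 := by
  rw [torsionIdeal_eq_bot_iff] at h
  have h1 := congrArg (fun f => f (MonoidAlgebra.single c (1 : K))) h
  rw [powConv_groupLike (MonoidAlgebra.isGroupLikeElem_single_one c) n,
    powConv_groupLike (MonoidAlgebra.isGroupLikeElem_single_one c) 0, pow_zero,
    MonoidAlgebra.single_pow, one_pow, MonoidAlgebra.one_def] at h1
  exact (MonoidAlgebra.single_left_inj (one_ne_zero)).mp h1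

lemma finite_of_moduleFinite [Nontrivial K] [Module.Finite K (MonoidAlgebra K C)] : Finite C :=
  Module.Finite.finite_basis (MonoidAlgebra.basis C K)

lemma moduleFinite_of_finite [Finite C] : Module.Finite K (MonoidAlgebra K C) :=
  Module.Finite.of_basis (MonoidAlgebra.basis C K)

lemma finite_of_finiteType_of_torsion [Nontrivial K] (n : ℕ) (hn : 0 < n)
    (hft : Algebra.FiniteType K (MonoidAlgebra K C))
    (h : SGA3b.torsionIdeal K (MonoidAlgebra K C) n = ⊥) : Finite C := by
  have hfg : Group.FG C := MonoidAlgebra.finiteType_iff_group_fg.mp hft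
  refine CommGroup.finite_of_fg_isMulTorsion C ?_
  intro c
  exact isOfFinOrder_iff_pow_eq_one.mpr ⟨n, hn, pow_eq_one_of_torsionIdeal K C n h c⟩

end MonoidAlg
section Const

variable (R : Type u) [CommRing R] (B : Type u) [CommRing B] [HopfAlgebra R B]

lemma torsionIdeal_eq_bot_of_faithfullyFlat (S : Type u) [CommRing S] [Algebra R S]
    [Module.FaithfullyFlat R S] (n : ℕ) (h : SGA3b.torsionIdeal S (S ⊗[R] B) n = ⊥) :
    SGA3b.torsionIdeal R B n = ⊥ := by
  rw [eq_bot_iff]
  intro b hb
  have h1 := one_tmul_mem_torsionIdeal R S B n b hb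
  rw [h, Ideal.mem_bot] at h1
  rw [Ideal.mem_bot]
  have hinj := Module.FaithfullyFlat.tensorProduct_mk_injective (A := R) (B := S) B
  apply hinj
  rw [map_zero]
  exact h1

lemma torsionIdeal_baseChange_eq_bot (S : Type u) [CommRing S] [Algebra R S]
    (n : ℕ) (h : SGA3b.torsionIdeal R B n = ⊥) :
    SGA3b.torsionIdeal S (S ⊗[R] B) n = ⊥ := by
  have := torsionIdeal_baseChange_le R S B n
  rwa [h, Ideal.map_bot, le_bot_iff] at this

theorem const_fwd (h : SGA3b.IsMultTypeConst R B) [Module.Finite R B] :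
    ∃ n : ℕ, 0 < n ∧ SGA3b.torsionIdeal R B n = ⊥ := by
  obtain ⟨R', _, _, hff, M, _, ⟨e⟩⟩ := h
  rcases subsingleton_or_nontrivial R' with hs | hn
  · refine ⟨1, one_pos, torsionIdeal_eq_bot_of_faithfullyFlat R B R' 1 ?_⟩
    have : Subsingleton (R' ⊗[R] B) := Module.subsingleton R' _
    exact Subsingleton.elim _ _
  · have hfin : Module.Finite R' (MonoidAlgebra R' M) :=
      Module.Finite.equiv (e : (R' ⊗[R] B) ≃ₐc[R'] MonoidAlgebra R' M).toLinearEquiv
    have hM : Finite M := finite_of_moduleFinite R' M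
    refine ⟨Nat.card M, Nat.card_pos, torsionIdeal_eq_bot_of_faithfullyFlat R B R' _ ?_⟩
    refine torsionIdeal_eq_bot_of_equiv e _ (torsionIdeal_monoidAlgebra R' M _ ?_)
    intro c
    exact pow_card_eq_one'

theorem const_bwd (h : SGA3b.IsMultTypeConst R B) (hft : Algebra.FiniteType R B) (n : ℕ) (hn : 0 < n)
    (ht : SGA3b.torsionIdeal R B n = ⊥) : Module.Finite R B := by
  obtain ⟨R', _, _, hff, M, _, ⟨e⟩⟩ := h
  rcases subsingleton_or_nontrivial R' with hs | hnt
  · have : Subsingleton (R' ⊗[R] B) := Module.subsingleton R' _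
    have : Module.Finite R' (R' ⊗[R] B) := inferInstance
    exact Module.Finite.of_finite_tensorProduct_of_faithfullyFlat R'
  · have h1 : SGA3b.torsionIdeal R' (R' ⊗[R] B) n = ⊥ := torsionIdeal_baseChange_eq_bot R B R' n ht
    have h2 : SGA3b.torsionIdeal R' (MonoidAlgebra R' M) n = ⊥ :=
      torsionIdeal_eq_bot_of_equiv e.symm n h1
    have hft' : Algebra.FiniteType R' (R' ⊗[R] B) := inferInstance
    have hft'' : Algebra.FiniteType R' (MonoidAlgebra R' M) :=
      Algebra.FiniteType.equiv hft' (e : (R' ⊗[R] B) ≃ₐc[R'] MonoidAlgebra R' M).toAlgEquiv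
    have hM : Finite M := finite_of_finiteType_of_torsion R' M n hn hft'' h2
    have hfin : Module.Finite R' (MonoidAlgebra R' M) := moduleFinite_of_finite R' M
    have : Module.Finite R' (R' ⊗[R] B) :=
      Module.Finite.equiv (e : (R' ⊗[R] B) ≃ₐc[R'] MonoidAlgebra R' M).symm.toLinearEquiv
    exact Module.Finite.of_finite_tensorProduct_of_faithfullyFlat R'

end Const
section Global

variable (R : Type u) [CommRing R] (A : Type u) [CommRing A] [HopfAlgebra R A]

instance isLocalizedModule_mk (f : R) (N : Type u) [AddCommGroup N] [Module R N] :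
    IsLocalizedModule (Submonoid.powers f) (TensorProduct.mk R (Localization.Away f) N 1) :=
  (isLocalizedModule_iff_isBaseChange (Submonoid.powers f) (Localization.Away f) _).mpr
    (TensorProduct.isBaseChange R N (Localization.Away f))

lemma eq_zero_of_forall_tmul_eq_zero (N : Type u) [AddCommGroup N] [Module R N]
    (t : Set R) (ht : Ideal.span t = ⊤) (a : N)
    (h : ∀ f ∈ t, (1 : Localization.Away f) ⊗ₜ[R] a = 0) : a = 0 := by
  have hann : LinearMap.ker (LinearMap.toSpanSingleton R N a) = ⊤ := by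
    by_contra hne
    obtain ⟨P, hP, hle⟩ := Ideal.exists_le_maximal _ hne
    have : Ideal.span t ≤ P := by
      rw [Ideal.span_le]
      intro f hf
      have h1 : (TensorProduct.mk R (Localization.Away f) N 1) a = 0 := h f hf
      rw [IsLocalizedModule.eq_zero_iff (Submonoid.powers f)] at h1
      obtain ⟨⟨_, k, rfl⟩, hk⟩ := h1
      have h2 : f ^ k ∈ LinearMap.ker (LinearMap.toSpanSingleton R N a) := by
        rw [LinearMap.mem_ker, LinearMap.toSpanSingleton_apply]
        exact hk
      exact hP.isPrime.mem_of_pow_mem k (hle h2)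
    rw [ht, top_le_iff] at this
    exact hP.ne_top this
  have h1 : (1 : R) ∈ LinearMap.ker (LinearMap.toSpanSingleton R N a) := by
    rw [hann]; trivial
  rw [LinearMap.mem_ker, LinearMap.toSpanSingleton_apply, one_smul] at h1
  exact h1

theorem main (hft : Algebra.FiniteType R A) (h : SGA3b.IsMultType R A) :
    Module.Finite R A ↔ ∃ n : ℕ, 0 < n ∧ SGA3b.torsionIdeal R A n = ⊥ := by
  obtain ⟨s, hs, hloc⟩ := h
  constructor
  · intro hfin
    have h1 : ∀ f : s, ∃ n : ℕ, 0 < n ∧
        SGA3b.torsionIdeal (Localization.Away (f : R)) (Localization.Away (f : R) ⊗[R] A) n = ⊥ :=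
      fun f => const_fwd _ _ (hloc f f.2)
    choose n hnpos hn using h1
    obtain ⟨t, hts, ht⟩ := (Ideal.span_eq_top_iff_finite s).mp hs
    classical
    obtain ⟨N, hN⟩ : ∃ N : ℕ, N = ∏ f ∈ t.attach, n ⟨f.1, hts f.2⟩ := ⟨_, rfl⟩
    have hNpos : 0 < N := by
      rw [hN]
      exact Finset.prod_pos (fun f _ => hnpos _)
    refine ⟨N, hNpos, ?_⟩
    rw [eq_bot_iff]
    intro a ha
    rw [Ideal.mem_bot]
    refine eq_zero_of_forall_tmul_eq_zero R A (t : Set R) ht a ?_
    intro f hf
    have hdvd : n ⟨f, hts hf⟩ ∣ N := by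
      rw [hN]
      exact Finset.dvd_prod_of_mem (fun g : {x // x ∈ t} => n ⟨g.1, hts g.2⟩)
        (Finset.mem_attach t ⟨f, hf⟩)
    obtain ⟨k, hk⟩ := hdvd
    have h2 := torsionIdeal_mul_eq_bot (Localization.Away f) (Localization.Away f ⊗[R] A)
      (n ⟨f, hts hf⟩) k (hn ⟨f, hts hf⟩)
    rw [← hk] at h2
    have h3 := one_tmul_mem_torsionIdeal R (Localization.Away f) A N a ha
    rw [h2, Ideal.mem_bot] at h3
    exact h3
  · rintro ⟨n, hn, ht⟩
    have H : ∀ g : s, Module.Finite (Localization.Away (g : R)) (Localization.Away (g : R) ⊗[R] A) := by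
      intro g
      have hft' : Algebra.FiniteType (Localization.Away (g : R)) (Localization.Away (g : R) ⊗[R] A) :=
        inferInstance
      exact const_bwd _ _ (hloc g g.2) hft' n hn (torsionIdeal_baseChange_eq_bot R A _ n ht)
    exact Module.Finite.of_localizationSpan' s hs
      (fun g => TensorProduct.mk R (Localization.Away (g : R)) A 1) H

end Global
end Helper71.MultFin
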