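import Mathlib

universe u

namespace Helper71.CycH1

open groupCohomology

section alg

variable {k : Type u} [CommRing k] {A : Type u} [AddCommGroup A] [Module k A]

/-- partial sums `Σ_{l<i} T^l` -/
noncomputable def psum (T : Module.End k A) (i : ℕ) : Module.End k A :=
  ∑ l ∈ Finset.range i, T ^ l

theorem psum_zero (T : Module.End k A) : psum T 0 = 0 := by simp [psum]

theorem psum_succ (T : Module.End k A) (i : ℕ) : psum T (i + 1) = psum T i + T ^ i := by
  simp [psum, Finset.sum_range_succ]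

theorem psum_one (T : Module.End k A) : psum T 1 = 1 := by simp [psum]

theorem psum_add (T : Module.End k A) (i j : ℕ) :
    psum T (i + j) = psum T i + T ^ i * psum T j := by
  induction j with
  | zero => simp [psum_zero]
  | succ j ih => rw [← add_assoc, psum_succ, ih, psum_succ, mul_add, pow_add]; abel

theorem psum_mul_sub_one (T : Module.End k A) (i : ℕ) : psum T i * (T - 1) = T ^ i - 1 :=
  geom_sum_mul T i

theorem psum_add_mul_apply (T : Module.End k A) (p : ℕ) (hT : T ^ p = 1) (x : A)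
    (hx : psum T p x = 0) (q r : ℕ) : psum T (p * q + r) x = psum T r x := by
  induction q with
  | zero => simp
  | succ q ih =>
    have : p * (q + 1) + r = p + (p * q + r) := by ring
    rw [this, psum_add, hT, one_mul, LinearMap.add_apply, hx, zero_add, ih]

theorem psum_mod_apply (T : Module.End k A) (p : ℕ) (hT : T ^ p = 1) (x : A)
    (hx : psum T p x = 0) (i : ℕ) : psum T i x = psum T (i % p) x := by
  conv_lhs => rw [← Nat.div_add_mod i p]
  exact psum_add_mul_apply T p hT x hx _ _

end alg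

section grp

variable {k : Type u} [CommRing k] {G : Type u} [Group G] {A : Type u} [AddCommGroup A]
  [Module k A] (ρ : Representation k G A) (g : G) (p : ℕ) (hp : 0 < p) (hord : orderOf g = p)
  (hg : ∀ x : G, x ∈ Subgroup.zpowers g)

include hp hord hg in
theorem exists_pow (y : G) : ∃ i : ℕ, g ^ i = y := by
  have hfin : IsOfFinOrder g := orderOf_pos_iff.mp (by rw [hord]; exact hp)
  have := hfin.mem_powers_iff_mem_zpowers.mpr (hg y)
  exact (Submonoid.mem_powers_iff _ _).mp this

/-- a chosen exponent -/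
noncomputable def idx (y : G) : ℕ := Classical.choose (exists_pow g p hp hord hg y)

theorem pow_idx (y : G) : g ^ idx g p hp hord hg y = y :=
  Classical.choose_spec (exists_pow g p hp hord hg y)

include hord in
theorem rho_pow_p : (ρ g) ^ p = 1 := by
  rw [← map_pow, ← hord, pow_orderOf_eq_one, map_one]

include hord in
theorem psum_congr (x : A) (hx : psum (ρ g) p x = 0) (i j : ℕ) (hij : g ^ i = g ^ j) :
    psum (ρ g) i x = psum (ρ g) j x := by
  have h := pow_eq_pow_iff_modEq.mp hij
  rw [hord] at h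
  rw [psum_mod_apply (ρ g) p (rho_pow_p ρ g p hord) x hx i,
    psum_mod_apply (ρ g) p (rho_pow_p ρ g p hord) x hx j]
  unfold Nat.ModEq at h
  rw [h]

/-- the cocycle with value `x` at `g` -/
noncomputable def cocyc (x : A) : G → A := fun y => psum (ρ g) (idx g p hp hord hg y) x

theorem cocyc_mem (x : A) (hx : psum (ρ g) p x = 0) :
    cocyc ρ g p hp hord hg x ∈ cocycles₁ (Rep.of ρ) := by
  rw [mem_cocycles₁_iff]
  intro y z
  show psum (ρ g) (idx g p hp hord hg (y * z)) x =
    ρ y (psum (ρ g) (idx g p hp hord hg z) x) + psum (ρ g) (idx g p hp hord hg y) x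
  have h1 : g ^ idx g p hp hord hg (y * z) =
      g ^ (idx g p hp hord hg y + idx g p hp hord hg z) := by
    rw [pow_add, pow_idx, pow_idx, pow_idx]
  rw [psum_congr ρ g p hord x hx _ _ h1, psum_add, LinearMap.add_apply, add_comm]
  congr 1
  rw [Module.End.mul_apply, ← map_pow, pow_idx]

theorem cocyc_g (x : A) (hx : psum (ρ g) p x = 0) : cocyc ρ g p hp hord hg x g = x := by
  show psum (ρ g) (idx g p hp hord hg g) x = x
  have h1 : g ^ idx g p hp hord hg g = g ^ 1 := by rw [pow_idx, pow_one]
  rw [psum_congr ρ g p hord x hx _ _ h1, psum_one, Module.End.one_apply]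

theorem cocycle_pow (f : cocycles₁ (Rep.of ρ)) (i : ℕ) : f (g ^ i) = psum (ρ g) i (f g) := by
  induction i with
  | zero => simp [psum_zero]
  | succ i ih =>
    have h := (mem_cocycles₁_iff (A := Rep.of ρ) f).mp f.2 (g ^ i) g
    rw [pow_succ]
    rw [psum_succ, LinearMap.add_apply, ← ih, add_comm, ← map_pow]
    exact h

include hord in
theorem psum_p_cocycle (f : cocycles₁ (Rep.of ρ)) : psum (ρ g) p (f g) = 0 := by
  rw [← cocycle_pow, ← hord, pow_orderOf_eq_one]
  exact cocycles₁_map_one f

theorem cocycle_eq (f : cocycles₁ (Rep.of ρ)) (y : G) :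
    f y = cocyc ρ g p hp hord hg (f g) y := by
  show f y = psum (ρ g) (idx g p hp hord hg y) (f g)
  rw [← cocycle_pow, pow_idx]

/-- the kernel of the norm -/
noncomputable def Vn : Submodule k A := LinearMap.ker (psum (ρ g) p)

/-- the linear map `x ↦ cocycle with value x at g` -/
noncomputable def cocycLin : Vn ρ g p →ₗ[k] cocycles₁ (Rep.of ρ) where
  toFun x := ⟨cocyc ρ g p hp hord hg x.1, cocyc_mem ρ g p hp hord hg x.1 x.2⟩
  map_add' x y := by
    apply Subtype.ext
    funext z
    show psum (ρ g) _ (x.1 + y.1) = psum (ρ g) _ x.1 + psum (ρ g) _ y.1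
    rw [map_add]
  map_smul' c x := by
    apply Subtype.ext
    funext z
    show psum (ρ g) _ (c • x.1) = c • psum (ρ g) _ x.1
    rw [map_smul]

/-- the quotient map onto `H¹`. -/
noncomputable def q : Vn ρ g p →ₗ[k] H1 (Rep.of ρ) :=
  (H1π (Rep.of ρ)).hom ∘ₗ cocycLin ρ g p hp hord hg

theorem q_ev (f : cocycles₁ (Rep.of ρ)) :
    q ρ g p hp hord hg ⟨f g, psum_p_cocycle ρ g p hord f⟩ = H1π (Rep.of ρ) f := by
  show (H1π (Rep.of ρ)).hom _ = _
  congr 1
  apply Subtype.ext
  funext y
  exact (cocycle_eq ρ g p hp hord hg f y).symm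

theorem q_surjective : Function.Surjective (q ρ g p hp hord hg) := by
  intro c
  induction c using H1_induction_on with
  | h f => exact ⟨_, q_ev ρ g p hp hord hg f⟩

theorem q_eq_zero_iff (x : Vn ρ g p) :
    q ρ g p hp hord hg x = 0 ↔ x.1 ∈ LinearMap.range (ρ g - 1) := by
  show H1π (Rep.of ρ) (cocycLin ρ g p hp hord hg x) = 0 ↔ _
  rw [H1π_eq_zero_iff]
  constructor
  · rintro ⟨b, hb⟩
    refine ⟨b, ?_⟩
    have := congrFun hb g
    rw [show (⇑(cocycLin ρ g p hp hord hg x) : G → A) g = x.1 from cocyc_g ρ g p hp hord hg x.1 x.2]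
      at this
    rw [← this]
    rfl
  · rintro ⟨b, hb⟩
    refine ⟨b, ?_⟩
    funext y
    show ρ y b - b = psum (ρ g) (idx g p hp hord hg y) x.1
    rw [← hb, ← Module.End.mul_apply, psum_mul_sub_one, ← map_pow, pow_idx]
    rfl

end grp

section nat

variable {k : Type u} [CommRing k] {G : Type u} [Group G] {A B : Type u} [AddCommGroup A]
  [Module k A] [AddCommGroup B] [Module k B] (ρ : Representation k G A)
  (ρ' : Representation k G B) (g : G) (p : ℕ) (hp : 0 < p) (hord : orderOf g = p)
  (hg : ∀ x : G, x ∈ Subgroup.zpowers g) (φ : Rep.of ρ ⟶ Rep.of ρ')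

theorem hom_psum (i : ℕ) (x : A) : φ.hom (psum (ρ g) i x) = psum (ρ' g) i (φ.hom x) := by
  induction i with
  | zero => simp [psum_zero]
  | succ i ih =>
    rw [psum_succ, psum_succ, LinearMap.add_apply, LinearMap.add_apply, map_add, ih]
    congr 1
    rw [← map_pow, ← map_pow]
    exact Rep.hom_comm_apply φ (g ^ i) x

theorem hom_mem_Vn (x : Vn ρ g p) : φ.hom x.1 ∈ Vn ρ' g p := by
  have hx : psum (ρ g) p x.1 = 0 := x.2
  show psum (ρ' g) p (φ.hom x.1) = 0
  rw [← hom_psum, hx, map_zero]

theorem map_q (x : Vn ρ g p) :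
    ((groupCohomology.functor k G 1).map φ).hom (q ρ g p hp hord hg x) =
      q ρ' g p hp hord hg ⟨φ.hom x.1, hom_mem_Vn ρ ρ' g p φ x⟩ := by
  show (groupCohomology.map (MonoidHom.id G) φ 1)
    (H1π (Rep.of ρ) (cocycLin ρ g p hp hord hg x)) = _
  rw [H1π_comp_map_apply]
  rw [← q_ev ρ' g p hp hord hg]
  congr 1
  apply Subtype.ext
  show φ.hom (cocyc ρ g p hp hord hg x.1 g) = φ.hom x.1
  rw [cocyc_g ρ g p hp hord hg x.1 x.2]

end nat

end Helper71.CycH1
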