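import Groth.Agent.Lib.Helper16.ASCov
import Groth.Agent.S13863
import Groth.Agent.S13864
import Groth.Agent.Lib.Helper71.CycH1

universe u

namespace Helper71.ASH1

open PowerSeries Groth.Agent.S15813 Groth.Agent.Lib.Helper16.ASCov

section poly

variable {k : Type u} [Field k] (p : ℕ) [Fact p.Prime] [CharP k p]
  {A : Type u} [AddCommGroup A] [Module k A]

theorem poly_geom : (∑ i ∈ Finset.range p, (Polynomial.X : Polynomial k) ^ i) =
    (Polynomial.X - 1) ^ (p - 1) := by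
  have hp : 0 < p := (Fact.out : p.Prime).pos
  have h1 : (∑ i ∈ Finset.range p, (Polynomial.X : Polynomial k) ^ i) * (Polynomial.X - 1) =
      (Polynomial.X - 1) ^ (p - 1) * (Polynomial.X - 1) := by
    rw [geom_sum_mul, ← pow_succ, Nat.sub_add_cancel hp, sub_pow_char, one_pow]
  have hne : (Polynomial.X - 1 : Polynomial k) ≠ 0 := by
    have := Polynomial.X_sub_C_ne_zero (1 : k)
    simpa using this
  exact mul_right_cancel₀ hne h1

theorem psum_eq_pow (T : Module.End k A) : CycH1.psum T p = (T - 1) ^ (p - 1) := by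
  have h := congrArg (Polynomial.aeval T) (poly_geom (k := k) p)
  simpa [CycH1.psum, map_sum] using h

theorem sub_one_pow_p (T : Module.End k A) (hT : T ^ p = 1) : (T - 1) ^ p = 0 := by
  have h : ((Polynomial.X : Polynomial k) - 1) ^ p = Polynomial.X ^ p - 1 := by
    rw [sub_pow_char, one_pow]
  have h2 := congrArg (Polynomial.aeval T) h
  simp only [map_pow, map_sub, Polynomial.aeval_X, map_one] at h2
  rw [h2, hT, sub_self]

end poly

section basic

variable {k : Type u} [Field k] {u : PowerSeries k}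

/-- `u ^ a` for an integer `a`. -/
noncomputable def Uz (hu : IsUnit u) (a : ℤ) : PowerSeries k :=
  ((hu.unit ^ a : (PowerSeries k)ˣ) : PowerSeries k)

/-- the twisted operator `h ↦ u^a · h(t u)`. -/
noncomputable def Tw (hu : IsUnit u) (a : ℤ) : Module.End k (PowerSeries k) :=
  LinearMap.mulLeft k (Uz hu a) ∘ₗ (sig u).toLinearMap

theorem Tw_apply (hu : IsUnit u) (a : ℤ) (h : PowerSeries k) :
    Tw hu a h = Uz hu a * sig u h := rfl

/-- `T - 1` -/
noncomputable def Lw (hu : IsUnit u) (a : ℤ) : Module.End k (PowerSeries k) := Tw hu a - 1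

theorem Lw_apply (hu : IsUnit u) (a : ℤ) (h : PowerSeries k) :
    Lw hu a h = Uz hu a * sig u h - h := rfl

theorem Uz_mul_pow (hu : IsUnit u) (a : ℤ) (j : ℕ) : Uz hu a * u ^ j = Uz hu (a + j) :=
  val_zpow_mul_pow hu a j

theorem Lw_X_pow_mul (hu : IsUnit u) (a : ℤ) (r : ℕ) (η : PowerSeries k) :
    Lw hu a (X ^ r * η) = X ^ r * Lw hu (a + r) η := by
  rw [Lw_apply, Lw_apply, sig_X_pow_mul, ← Uz_mul_pow]; ring

theorem Tw_X_pow_mul (hu : IsUnit u) (a : ℤ) (r : ℕ) (η : PowerSeries k) :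
    Tw hu a (X ^ r * η) = X ^ r * Tw hu (a + r) η := by
  rw [Tw_apply, Tw_apply, sig_X_pow_mul, ← Uz_mul_pow]; ring

theorem Lw_pow_X_pow_mul (hu : IsUnit u) (a : ℤ) (r : ℕ) (l : ℕ) (η : PowerSeries k) :
    (Lw hu a ^ l) (X ^ r * η) = X ^ r * (Lw hu (a + r) ^ l) η := by
  induction l generalizing η with
  | zero => simp
  | succ l ih =>
    rw [pow_succ, Module.End.mul_apply, Lw_X_pow_mul, ih, pow_succ, Module.End.mul_apply]

end basic

section main

variable {k : Type u} [Field k] {u : PowerSeries k} (hu1 : constantCoeff u = 1) (n : ℕ)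
  (hn0 : (n : k) ≠ 0) (hun : u ^ n * (1 + X ^ n) = 1) (hu : IsUnit u)

include hu1 hn0 hun in
theorem isXU_Lw (a : ℤ) (ha : ((a : ℤ) : k) ≠ 0) {η : PowerSeries k} (hη : IsUnit η) :
    IsXU (Lw hu a η) n := twistedKL hu1 n hn0 hun hu a ha hη

include hu1 hn0 hun in
theorem dvd_Uz_sub_one (a : ℤ) : X ^ n ∣ Uz hu a - 1 := by
  obtain ⟨w, -, hw⟩ := isXU_u_sub_one hu1 n hn0 hun
  apply Groth.Agent.S13863.dvd_zpow_sub_one hu.unit (X ^ n) _ a
  rw [IsUnit.unit_spec]
  exact ⟨w, hw⟩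

include hu1 hn0 hun in
theorem dvd_Lw (a : ℤ) (η : PowerSeries k) : X ^ n ∣ Lw hu a η := by
  have e : Lw hu a η = (Uz hu a - 1) * sig u η + (sig u η - η) := by rw [Lw_apply]; ring
  rw [e]
  apply dvd_add
  · exact Dvd.dvd.mul_right (dvd_Uz_sub_one hu1 n hn0 hun hu a) _
  · exact (pow_dvd_pow X (Nat.le_succ n)).trans (dvd_sig_sub hu1 n hn0 hun η)

include hu1 hn0 hun in
theorem dvd_Lw_of_dvd (a : ℤ) (r : ℕ) (h : PowerSeries k) (hh : X ^ r ∣ h) :
    X ^ (r + n) ∣ Lw hu a h := by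
  obtain ⟨η, rfl⟩ := hh
  rw [Lw_X_pow_mul, pow_add]
  exact mul_dvd_mul_left _ (dvd_Lw hu1 n hn0 hun hu _ η)

end main

section iter

variable {k : Type u} [Field k] {u : PowerSeries k}

/-- the iterates `u_i` as units -/
noncomputable def Uu (hu : IsUnit u) : ℕ → (PowerSeries k)ˣ
  | 0 => 1
  | (i + 1) => hu.unit * Units.map (sig u : PowerSeries k →* PowerSeries k) (Uu hu i)

theorem Uu_val (hu : IsUnit u) (i : ℕ) : ((Uu hu i : (PowerSeries k)ˣ) : PowerSeries k) = uj u i := by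
  induction i with
  | zero => simp [Uu, uj]
  | succ i ih =>
    rw [Uu, uj, Units.val_mul, IsUnit.unit_spec, Units.coe_map, ← ih]
    rfl

theorem sig_zpow (v : (PowerSeries k)ˣ) (a : ℤ) :
    sig u ((v ^ a : (PowerSeries k)ˣ) : PowerSeries k) =
      (((Units.map (sig u : PowerSeries k →* PowerSeries k) v) ^ a : (PowerSeries k)ˣ) :
        PowerSeries k) := by
  rw [← map_zpow, Units.coe_map]
  rfl

theorem Tw_pow_apply (hu : IsUnit u) (a : ℤ) (i : ℕ) (h : PowerSeries k) :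
    (Tw hu a ^ i) h =
      ((Uu hu i ^ a : (PowerSeries k)ˣ) : PowerSeries k) * ((sig u).toLinearMap ^ i) h := by
  induction i with
  | zero => simp [Uu]
  | succ i ih =>
    rw [pow_succ', Module.End.mul_apply, ih, Tw_apply, map_mul, sig_zpow, Uu, mul_zpow,
      Units.val_mul, pow_succ', Module.End.mul_apply]
    simp only [Uz, AlgHom.toLinearMap_apply]
    ring

theorem Tw_pow_p_of (p : ℕ) [CharP k p] (hu1 : constantCoeff u = 1) (n : ℕ) (hn0 : (n : k) ≠ 0)
    (hun : u ^ n * (1 + X ^ n) = 1) (hu : IsUnit u) (a b : ℤ) (hT : Tw hu a ^ p = 1) :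
    Tw hu b ^ p = 1 := by
  have hUp : Uu hu p = 1 := by
    apply Units.ext
    rw [Uu_val, uj_p p hu1 n hn0 hun]
    rfl
  have hσ : ∀ h : PowerSeries k, ((sig u).toLinearMap ^ p) h = h := by
    intro h
    have := Tw_pow_apply hu a p h
    rw [hT, hUp, one_zpow, Units.val_one, one_mul] at this
    exact this.symm
  apply LinearMap.ext
  intro h
  rw [Tw_pow_apply, hUp, one_zpow, Units.val_one, one_mul, hσ]
  rfl

end iter

section F1

variable {k : Type u} [Field k] {u : PowerSeries k} (p : ℕ) [Fact p.Prime] [CharP k p]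
  (hu1 : constantCoeff u = 1) (n : ℕ)
  (hn0 : (n : k) ≠ 0) (hun : u ^ n * (1 + X ^ n) = 1) (hu : IsUnit u)

include hu1 hn0 hun in
theorem isXU_Lw_pow (a : ℤ) (j : ℕ) (hcong : ((a + j - n : ℤ) : k) = 0) (h : PowerSeries k)
    (hh : IsXU h j) : ∀ l : ℕ, l ≤ p - 1 → IsXU ((Lw hu a ^ l) h) (j + l * n) := by
  intro l
  induction l with
  | zero => intro _; simpa using hh
  | succ l ih =>
    intro hl
    obtain ⟨η, hη, he⟩ := ih (by omega)
    rw [pow_succ', Module.End.mul_apply, he, Lw_X_pow_mul]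
    have hne : (((a + ((j + l * n : ℕ) : ℤ)) : ℤ) : k) ≠ 0 := by
      have e : (a + ((j + l * n : ℕ) : ℤ)) = (a + j - n) + ((l + 1 : ℕ) : ℤ) * n := by
        push_cast; ring
      rw [e, Int.cast_add, hcong, zero_add, Int.cast_mul, Int.cast_natCast, Int.cast_natCast]
      refine mul_ne_zero ?_ hn0
      intro h0
      have hdvd := (CharP.cast_eq_zero_iff k p (l + 1)).mp h0
      have hp : 0 < p := (Fact.out : p.Prime).pos
      have := Nat.le_of_dvd (by omega) hdvd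
      omega
    have h2 := isXU_Lw hu1 n hn0 hun hu _ hne hη
    exact ((isXU_X_pow (j + l * n)).mul h2).congr (by ring)

include hu1 hn0 hun in
/-- F1: an element of order `j` in the kernel of `(T-1)^(p-1)` has `p ∤ a + j - n`. -/
theorem F1 (a : ℤ) (j : ℕ) (h : PowerSeries k) (hh : IsXU h j)
    (hker : (Lw hu a ^ (p - 1)) h = 0) : ((a + j - n : ℤ) : k) ≠ 0 := by
  intro hcong
  have := isXU_Lw_pow p hu1 n hn0 hun hu a j hcong h hh (p - 1) le_rfl
  exact this.ne_zero hker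

end F1

section aux

variable {k : Type u} [Field k]

theorem dvd_succ_of_coeff_eq_zero {N : ℕ} {e : PowerSeries k} (hd : X ^ N ∣ e)
    (hc : coeff N e = 0) : X ^ (N + 1) ∣ e := by
  rw [X_pow_dvd_iff] at hd ⊢
  intro m hm
  rcases Nat.lt_succ_iff_lt_or_eq.mp hm with h | h
  · exact hd m h
  · rw [h]; exact hc

theorem isXU_of_dvd_of_coeff_ne_zero {N : ℕ} {e : PowerSeries k} (hd : X ^ N ∣ e)
    (hc : coeff N e ≠ 0) : IsXU e N := by
  obtain ⟨w, rfl⟩ := hd
  refine ⟨w, ?_, rfl⟩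
  rw [isUnit_iff']
  have : coeff N (X ^ N * w) = constantCoeff w := by
    rw [coeff_X_pow_mul' w N N, if_pos le_rfl, Nat.sub_self, coeff_zero_eq_constantCoeff]
  rwa [this] at hc

theorem eq_zero_of_forall_dvd {e : PowerSeries k} (h : ∀ r : ℕ, X ^ r ∣ e) : e = 0 := by
  ext m
  have := (X_pow_dvd_iff.mp (h (m + 1))) m (Nat.lt_succ_self m)
  simpa using this

end aux

section claimA

variable {k : Type u} [Field k] {u : PowerSeries k} (p : ℕ) [Fact p.Prime] [CharP k p]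
  (hu1 : constantCoeff u = 1) (n : ℕ)
  (hn0 : (n : k) ≠ 0) (hun : u ^ n * (1 + X ^ n) = 1) (hu : IsUnit u) (a : ℤ)

theorem coeff_ne_zero_of_isXU {φ : PowerSeries k} {N : ℕ} (h : IsXU φ N) : coeff N φ ≠ 0 := by
  obtain ⟨w, hw, rfl⟩ := h
  rw [coeff_X_pow_mul' w N N, if_pos le_rfl, Nat.sub_self, coeff_zero_eq_constantCoeff]
  exact (isUnit_iff' w).mp hw

/-- the approximating sequence -/
noncomputable def fseq (h : PowerSeries k) : ℕ → PowerSeries k
  | 0 => 0
  | (r + 1) => fseq h r +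
      C (coeff (n + r) (h - Lw hu a (fseq h r)) / coeff (n + r) (Lw hu a (X ^ r))) * X ^ r

include hu1 hn0 hun in
theorem fseq_dvd (hLp : Lw hu a ^ p = 0) (h : PowerSeries k) (hd : X ^ n ∣ h)
    (hker : (Lw hu a ^ (p - 1)) h = 0) :
    ∀ r : ℕ, X ^ (n + r) ∣ h - Lw hu a (fseq n hu a h r) := by
  have hp : 0 < p := (Fact.out : p.Prime).pos
  intro r
  induction r with
  | zero => simpa [fseq] using hd
  | succ r ih =>
    set e := h - Lw hu a (fseq n hu a h r) with he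
    have hkere : (Lw hu a ^ (p - 1)) e = 0 := by
      rw [he, map_sub, hker, zero_sub, neg_eq_zero, ← Module.End.mul_apply, ← pow_succ,
        Nat.sub_add_cancel hp, hLp]
      rfl
    have hLX : X ^ (n + r) ∣ Lw hu a (X ^ r) := by
      have := dvd_Lw_of_dvd hu1 n hn0 hun hu a r (X ^ r) dvd_rfl
      rwa [add_comm] at this
    set κ := coeff (n + r) (Lw hu a (X ^ r)) with hκ
    set c := coeff (n + r) e / κ with hc
    have hstep : h - Lw hu a (fseq n hu a h (r + 1)) = e - c • Lw hu a (X ^ r) := by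
      rw [fseq, ← smul_eq_C_mul, map_add, map_smul, he]
      ring
    rw [hstep, ← add_assoc]
    apply dvd_succ_of_coeff_eq_zero
    · refine dvd_sub ih ?_
      rw [smul_eq_C_mul]
      exact Dvd.dvd.mul_left hLX _
    · rw [map_sub, coeff_smul, ← hκ]
      by_cases hκ0 : κ = 0
      · have hce : coeff (n + r) e = 0 := by
          by_contra hne
          have hxu := isXU_of_dvd_of_coeff_ne_zero ih hne
          have hF := F1 p hu1 n hn0 hun hu a (n + r) e hxu hkere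
          have hne2 : (((a + (r : ℤ)) : ℤ) : k) ≠ 0 := by
            have e2 : (a + ((n + r : ℕ) : ℤ) - n) = a + r := by push_cast; ring
            rwa [e2] at hF
          have h3 : IsXU (Lw hu a (X ^ r)) (r + n) := by
            have h4 : Lw hu a (X ^ r) = X ^ r * Lw hu (a + r) 1 := by
              rw [← Lw_X_pow_mul, mul_one]
            rw [h4]
            exact (isXU_X_pow r).mul (isXU_Lw hu1 n hn0 hun hu _ hne2 isUnit_one)
          have := coeff_ne_zero_of_isXU (h3.congr (add_comm r n))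
          exact this hκ0
        rw [hc, hce, hκ0]; simp
      · rw [hc, smul_eq_mul, div_mul_cancel₀ _ hκ0, sub_self]

/-- the limit -/
noncomputable def flim (h : PowerSeries k) : PowerSeries k :=
  mk fun l => coeff l (fseq n hu a h (l + 1))

theorem coeff_fseq_stab (h : PowerSeries k) (m : ℕ) :
    ∀ r : ℕ, m + 1 ≤ r → coeff m (fseq n hu a h r) = coeff m (fseq n hu a h (m + 1)) := by
  intro r hr
  induction r, hr using Nat.le_induction with
  | base => rfl
  | succ r hr ih =>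
    rw [fseq, map_add, ih, coeff_C_mul, coeff_X_pow, if_neg (by omega), mul_zero, add_zero]

theorem dvd_flim_sub (h : PowerSeries k) (r : ℕ) :
    X ^ r ∣ flim n hu a h - fseq n hu a h r := by
  rw [X_pow_dvd_iff]
  intro m hm
  rw [map_sub, flim, coeff_mk, coeff_fseq_stab n hu a h m r hm, sub_self]

include hu1 hn0 hun in
theorem claimA (hLp : Lw hu a ^ p = 0) (h : PowerSeries k) (hd : X ^ n ∣ h)
    (hker : (Lw hu a ^ (p - 1)) h = 0) : ∃ f : PowerSeries k, Lw hu a f = h := by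
  refine ⟨flim n hu a h, ?_⟩
  have h0 : h - Lw hu a (flim n hu a h) = 0 := by
    apply eq_zero_of_forall_dvd
    intro r
    have e : h - Lw hu a (flim n hu a h) =
        (h - Lw hu a (fseq n hu a h r)) - Lw hu a (flim n hu a h - fseq n hu a h r) := by
      rw [map_sub]; ring
    rw [e]
    apply dvd_sub
    · exact (pow_dvd_pow X (Nat.le_add_left r n)).trans
        (fseq_dvd p hu1 n hn0 hun hu a hLp h hd hker r)
    · exact (pow_dvd_pow X (Nat.le_add_right r n)).trans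
        (dvd_Lw_of_dvd hu1 n hn0 hun hu a r _ (dvd_flim_sub n hu a h r))
  exact (sub_eq_zero.mp h0).symm

end claimA

section span

variable {k : Type u} [Field k] {u : PowerSeries k} (p : ℕ) [Fact p.Prime] [CharP k p]
  (hu1 : constantCoeff u = 1) (n : ℕ)
  (hn0 : (n : k) ≠ 0) (hun : u ^ n * (1 + X ^ n) = 1) (hu : IsUnit u) (a : ℤ)
  (hT : Tw hu a ^ p = 1)
  (c : ℕ → PowerSeries k)
  (hc : ∀ m : ℕ, 1 ≤ m → m ≤ n → X ^ m * c m = Uz hu (a - m) - 1)

/-- the index set -/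
def Mset : Finset ℕ := (Finset.Icc 1 n).filter (fun m : ℕ => ¬ (p : ℤ) ∣ a - (m : ℤ))

theorem Lw_one (b : ℤ) : Lw hu b 1 = Uz hu b - 1 := by
  rw [Lw_apply, map_one, mul_one]

include hT in
theorem Lw_pow_p : Lw hu a ^ p = 0 := sub_one_pow_p p (Tw hu a) hT

include hu1 hn0 hun hT hc in
theorem c_ker (m : ℕ) (hm1 : 1 ≤ m) (hmn : m ≤ n) : (Lw hu a ^ (p - 1)) (c m) = 0 := by
  have hp : 0 < p := (Fact.out : p.Prime).pos
  have hTb : Tw hu (a - m) ^ p = 1 := Tw_pow_p_of p hu1 n hn0 hun hu a (a - m) hT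
  have hLb : Lw hu (a - m) ^ p = 0 := sub_one_pow_p p (Tw hu (a - m)) hTb
  have h1 : X ^ m * (Lw hu a ^ (p - 1)) (c m) = 0 := by
    have h2 := Lw_pow_X_pow_mul hu (a - m) m (p - 1) (c m)
    rw [show a - (m : ℤ) + m = a by ring] at h2
    rw [← h2, hc m hm1 hmn, ← Lw_one, ← Module.End.mul_apply, ← pow_succ, Nat.sub_add_cancel hp,
      hLb]
    rfl
  rcases mul_eq_zero.mp h1 with h | h
  · exact absurd h (pow_ne_zero m X_ne_zero)
  · exact h

include hu1 hn0 hun hc in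
theorem c_isXU (m : ℕ) (hm1 : 1 ≤ m) (hmn : m ≤ n) (hpm : ((a - m : ℤ) : k) ≠ 0) :
    IsXU (c m) (n - m) := by
  have h1 : IsXU (Lw hu (a - m) 1) n := isXU_Lw hu1 n hn0 hun hu _ hpm isUnit_one
  obtain ⟨w, hw, he⟩ := h1
  refine ⟨w, hw, ?_⟩
  apply mul_left_cancel₀ (pow_ne_zero m (X_ne_zero (R := k)))
  rw [hc m hm1 hmn, ← Lw_one, he, ← mul_assoc, ← pow_add, Nat.add_sub_cancel' hmn]

include hT in
theorem range_ker (f : PowerSeries k) : (Lw hu a ^ (p - 1)) (Lw hu a f) = 0 := by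
  have hp : 0 < p := (Fact.out : p.Prime).pos
  rw [← Module.End.mul_apply, ← pow_succ, Nat.sub_add_cancel hp, Lw_pow_p p hu a hT]
  rfl

/-- span of the `c m` plus the range of `T - 1`. -/
noncomputable def Sspan : Submodule k (PowerSeries k) :=
  Submodule.span k (c '' (Mset p n a : Set ℕ)) ⊔ LinearMap.range (Lw hu a)

include hu1 hn0 hun hT hc in
theorem span_aux : ∀ d : ℕ, d ≤ n → ∀ h : PowerSeries k, X ^ (n - d) ∣ h →
    (Lw hu a ^ (p - 1)) h = 0 → h ∈ Sspan p n hu a c := by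
  intro d
  induction d with
  | zero =>
    intro _ h hd hker
    obtain ⟨f, hf⟩ := claimA p hu1 n hn0 hun hu a (Lw_pow_p p hu a hT) h (by simpa using hd) hker
    exact Submodule.mem_sup_right ⟨f, hf⟩
  | succ d ih =>
    intro hdn h hd hker
    set j := n - (d + 1) with hj
    by_cases hcoef : coeff j h = 0
    · have := dvd_succ_of_coeff_eq_zero hd hcoef
      rw [show j + 1 = n - d by omega] at this
      exact ih (by omega) h this hker
    · have hxu := isXU_of_dvd_of_coeff_ne_zero hd hcoef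
      have hF := F1 p hu1 n hn0 hun hu a j h hxu hker
      have hcast : (a + (j : ℤ) - n) = a - ((d + 1 : ℕ) : ℤ) := by
        rw [hj, Nat.cast_sub hdn]; ring
      rw [hcast] at hF
      have hmM : (d + 1) ∈ Mset p n a := by
        rw [Mset, Finset.mem_filter, Finset.mem_Icc]
        refine ⟨⟨by omega, hdn⟩, ?_⟩
        intro hdvd
        exact hF ((CharP.intCast_eq_zero_iff k p _).mpr hdvd)
      have hcx := c_isXU hu1 n hn0 hun hu a c hc (d + 1) (by omega) hdn hF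
      have hγ := coeff_ne_zero_of_isXU hcx
      rw [← hj] at hγ
      have hcd : X ^ j ∣ c (d + 1) := by
        obtain ⟨w, -, hw⟩ := hcx
        exact ⟨w, hw⟩
      set t := coeff j h / coeff j (c (d + 1)) with ht
      have h1 : X ^ (j + 1) ∣ h - t • c (d + 1) := by
        apply dvd_succ_of_coeff_eq_zero
        · refine dvd_sub hd ?_
          rw [smul_eq_C_mul]
          exact Dvd.dvd.mul_left hcd _
        · rw [map_sub, coeff_smul, ht, smul_eq_mul, div_mul_cancel₀ _ hγ, sub_self]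
      rw [show j + 1 = n - d by omega] at h1
      have hk2 : (Lw hu a ^ (p - 1)) (h - t • c (d + 1)) = 0 := by
        rw [map_sub, map_smul, hker, c_ker p hu1 n hn0 hun hu a hT c hc (d + 1) (by omega) hdn,
          smul_zero, sub_zero]
      have h2 := ih (by omega) _ h1 hk2
      have h3 : c (d + 1) ∈ Sspan p n hu a c :=
        Submodule.mem_sup_left (Submodule.subset_span ⟨d + 1, hmM, rfl⟩)
      have h4 : h = (h - t • c (d + 1)) + t • c (d + 1) := by ring
      rw [h4]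
      exact Submodule.add_mem _ h2 (Submodule.smul_mem _ _ h3)

include hu1 hn0 hun hT hc in
theorem ker_le_Sspan (h : PowerSeries k) (hker : (Lw hu a ^ (p - 1)) h = 0) :
    h ∈ Sspan p n hu a c :=
  span_aux p hu1 n hn0 hun hu a hT c hc n le_rfl h (by simp) hker

end span

section final

variable {k : Type u} [Field k] [IsAlgClosed k] {u : PowerSeries k} (p : ℕ) [Fact p.Prime]
  [CharP k p]
  (hu1 : constantCoeff u = 1) (n : ℕ) (hn : 0 < n) (hpn : ¬ p ∣ n)
  (hun : u ^ n * (1 + X ^ n) = 1) (hu : IsUnit u) (a : ℤ)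
  (hT : Tw hu a ^ p = 1)
  (c : ℕ → PowerSeries k)
  (hc : ∀ m : ℕ, 1 ≤ m → m ≤ n → X ^ m * c m = Uz hu (a - m) - 1)
  {H : Type u} [AddCommGroup H] [Module k H]
  (V : Submodule k (PowerSeries k)) (hV : ∀ x, x ∈ V ↔ (Lw hu a ^ (p - 1)) x = 0)
  (q : V →ₗ[k] H) (hqs : Function.Surjective q)
  (hq0 : ∀ x : V, q x = 0 ↔ x.1 ∈ LinearMap.range (Lw hu a))

include hpn in
theorem n_ne_zero : (n : k) ≠ 0 := by
  intro h0
  exact hpn ((CharP.cast_eq_zero_iff k p n).mp h0)

theorem mem_Mset {m : ℕ} (hm : m ∈ Mset p n a) : 1 ≤ m ∧ m ≤ n :=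
  Finset.mem_Icc.mp (Finset.mem_filter.mp hm).1

include hu1 hpn hun hT hc hV in
theorem c_mem_V (m : ℕ) (hm1 : 1 ≤ m) (hmn : m ≤ n) : c m ∈ V :=
  (hV _).mpr (c_ker p hu1 n (n_ne_zero p n hpn) hun hu a hT c hc m hm1 hmn)

/-- the family of classes -/
noncomputable def vfam : Mset p n a → H := fun m =>
  q ⟨c m.1, c_mem_V p hu1 n hpn hun hu a hT c hc V hV m.1 (mem_Mset p n a m.2).1
    (mem_Mset p n a m.2).2⟩

include hn hq0 in
theorem vfam_li : LinearIndependent k (vfam p hu1 n hpn hun hu a hT c hc V hV q) := by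
  classical
  rw [Fintype.linearIndependent_iff]
  intro gg hgg i
  have h1 : q (∑ i : Mset p n a, gg i • (⟨c i.1, c_mem_V p hu1 n hpn hun hu a hT c hc V hV i.1
      (mem_Mset p n a i.2).1 (mem_Mset p n a i.2).2⟩ : V)) = 0 := by
    rw [map_sum, ← hgg]
    refine Finset.sum_congr rfl fun i _ => ?_
    rw [map_smul]
    rfl
  rw [hq0] at h1
  obtain ⟨f, hf⟩ := h1
  rw [Submodule.coe_sum] at hf
  set coef : ℕ → k := fun m => if hm : m ∈ Mset p n a then gg ⟨m, hm⟩ else 0 with hcoef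
  have h2 : ∑ i : Mset p n a, gg i • c i.1 = ∑ m ∈ Mset p n a, coef m • c m := by
    rw [← Finset.sum_coe_sort (Mset p n a) (fun m => coef m • c m)]
    refine Finset.sum_congr rfl fun i _ => ?_
    rw [hcoef]
    simp only [dif_pos i.2]
  have h3 : Uz hu a * subst (X * u) f - f = ∑ m ∈ Mset p n a, coef m • c m := by
    rw [← h2, ← sig_apply, ← Lw_apply, hf]
    rfl
  have h4 := Groth.Agent.S13864.result p n hn hpn u hu1 hun hu a c (fun m h1 h2 => hc m h1 h2)
    coef f h3 i.1 i.2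
  rw [hcoef] at h4
  simpa only [dif_pos i.2] using h4

include hqs hq0 in
theorem vfam_span :
    Submodule.span k (Set.range (vfam p hu1 n hpn hun hu a hT c hc V hV q)) = ⊤ := by
  rw [eq_top_iff]
  rintro y -
  obtain ⟨x, rfl⟩ := hqs y
  have hx := ker_le_Sspan p hu1 n (n_ne_zero p n hpn) hun hu a hT c hc x.1 ((hV _).mp x.2)
  obtain ⟨y, hy, z, hz, hyz⟩ := Submodule.mem_sup.mp hx
  set P : Submodule k V :=
    (Submodule.span k (Set.range (vfam p hu1 n hpn hun hu a hT c hc V hV q))).comap q with hP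
  have hle : Submodule.span k (c '' (Mset p n a : Set ℕ)) ≤ P.map V.subtype := by
    rw [Submodule.span_le]
    rintro _ ⟨m, hm, rfl⟩
    refine ⟨⟨c m, c_mem_V p hu1 n hpn hun hu a hT c hc V hV m (mem_Mset p n a hm).1
      (mem_Mset p n a hm).2⟩, ?_, rfl⟩
    exact Submodule.mem_comap.mpr (Submodule.subset_span ⟨⟨m, hm⟩, rfl⟩)
  obtain ⟨y', hy', hyy⟩ := hle hy
  obtain ⟨f, hf⟩ := hz
  have hzV : z ∈ V := by
    rw [hV, ← hf]
    exact range_ker p hu a hT f
  have hqz : q ⟨z, hzV⟩ = 0 := (hq0 _).mpr ⟨f, hf⟩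
  have hx2 : x = y' + ⟨z, hzV⟩ := by
    apply Subtype.ext
    rw [Submodule.coe_add, ← hyz]
    congr 1
    exact hyy.symm
  rw [hx2, map_add, hqz, add_zero]
  exact hy'

include hu1 hn hpn hun hT hc hV hqs hq0 in
theorem finrank_H : Module.Finite k H ∧ Module.finrank k H = (Mset p n a).card := by
  have hli := vfam_li p hu1 n hn hpn hun hu a hT c hc V hV q hq0
  have hsp := vfam_span p hu1 n hpn hun hu a hT c hc V hV q hqs hq0
  let b : Module.Basis (Mset p n a) k H := Module.Basis.mk hli (le_of_eq hsp.symm)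
  refine ⟨Module.Finite.of_basis b, ?_⟩
  rw [Module.finrank_eq_card_basis b, Fintype.card_coe]

end final

section count

theorem sub_one_ediv (x p : ℤ) (hp : 0 < p) :
    (x - 1) / p = x / p - (if p ∣ x then 1 else 0) := by
  by_cases hd : p ∣ x
  · rw [if_pos hd]
    obtain ⟨q, rfl⟩ := hd
    rw [Int.mul_ediv_cancel_left _ hp.ne']
    have : (p * q - 1) / p = q - 1 ∧ (p * q - 1) % p = p - 1 := by
      rw [Int.ediv_emod_unique hp]
      refine ⟨by ring, by omega, by omega⟩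
    exact this.1
  · rw [if_neg hd, sub_zero]
    have hr : x % p ≠ 0 := fun h => hd (Int.dvd_of_emod_eq_zero h)
    have hr0 := Int.emod_nonneg x hp.ne'
    have hr1 := Int.emod_lt_of_pos x hp
    have : (x - 1) / p = x / p ∧ (x - 1) % p = x % p - 1 := by
      rw [Int.ediv_emod_unique hp]
      refine ⟨?_, by omega, by omega⟩
      have := Int.emod_add_mul_ediv x p
      linarith
    exact this.1

theorem card_Mset (p : ℕ) (hp : 0 < p) (n : ℕ) (a : ℤ) :
    ((Mset p n a).card : ℤ) = n - (a - 1) / (p : ℤ) + (a - 1 - n) / (p : ℤ) := by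
  induction n with
  | zero => simp [Mset]
  | succ n ih =>
    have h1 : Mset p (n + 1) a =
        if ¬ (p : ℤ) ∣ a - ((n + 1 : ℕ) : ℤ) then insert (n + 1) (Mset p n a) else Mset p n a := by
      rw [Mset, ← Finset.insert_Icc_right_eq_Icc_add_one (by omega), Finset.filter_insert]
      rfl
    have hnot : (n + 1) ∉ Mset p n a := by
      rw [Mset, Finset.mem_filter, Finset.mem_Icc]
      omega
    have h2 := sub_one_ediv (a - 1 - n) p (by exact_mod_cast hp)
    have e1 : (a - 1 - ((n + 1 : ℕ) : ℤ)) = a - 1 - n - 1 := by push_cast; ring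
    have e2 : a - ((n + 1 : ℕ) : ℤ) = a - 1 - n := by push_cast; ring
    rw [h1, e1, h2, e2]
    by_cases hd : (p : ℤ) ∣ a - 1 - n
    · rw [if_neg (not_not.mpr hd), if_pos hd, ih]
      push_cast; ring
    · rw [if_pos hd, if_neg hd, Finset.card_insert_of_notMem hnot]
      push_cast
      rw [ih]; ring

end count

section assemble

variable {k : Type u} [Field k] [IsAlgClosed k] (p : ℕ) [Fact p.Prime] [CharP k p]
  (n : ℕ) (hn : 0 < n) (hpn : ¬ p ∣ n)
  (u : PowerSeries k) (hu1 : constantCoeff u = 1)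
  (hun : u ^ n * (1 + X ^ n) = 1) (hu : IsUnit u) (a : ℤ)
  {G : Type u} [Group G] [Finite G] (g : G) (hG : Nat.card G = p)
  (hg : ∀ x : G, x ∈ Subgroup.zpowers g)
  (ρ : Representation k G (PowerSeries k))
  (hρ : ∀ h : PowerSeries k, ρ g h = Uz hu a * subst (X * u) h)

include hρ in
theorem rho_eq_Tw : ρ g = Tw hu a := by
  apply LinearMap.ext
  intro h
  rw [hρ, Tw_apply, sig_apply]

include hG hg in
theorem orderOf_g : orderOf g = p := by
  rw [← hG]
  exact orderOf_eq_card_of_forall_mem_zpowers hg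

include hG hg hρ in
theorem Tw_pow_p : Tw hu a ^ p = 1 := by
  rw [← rho_eq_Tw u hu a g ρ hρ]
  exact CycH1.rho_pow_p ρ g p (orderOf_g p g hG hg)

include hu1 hpn hun in
theorem exists_c : ∃ c : ℕ → PowerSeries k,
    ∀ m : ℕ, 1 ≤ m → m ≤ n → X ^ m * c m = Uz hu (a - m) - 1 := by
  have hd : ∀ m : ℕ, ∃ w : PowerSeries k, m ≤ n → X ^ m * w = Uz hu (a - m) - 1 := by
    intro m
    by_cases hm : m ≤ n
    · obtain ⟨w, hw⟩ := (pow_dvd_pow X hm).trans
        (dvd_Uz_sub_one hu1 n (n_ne_zero p n hpn) hun hu (a - m))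
      exact ⟨w, fun _ => hw.symm⟩
    · exact ⟨0, fun h => absurd h hm⟩
  choose c hc using hd
  exact ⟨c, fun m _ hmn => hc m hmn⟩

include hρ in
theorem mem_Vn_iff (x : PowerSeries k) :
    x ∈ CycH1.Vn ρ g p ↔ (Lw hu a ^ (p - 1)) x = 0 := by
  show CycH1.psum (ρ g) p x = 0 ↔ _
  rw [psum_eq_pow p (ρ g), rho_eq_Tw u hu a g ρ hρ]
  rfl

include hn hpn hu1 hun hG hg hρ in
theorem main61 :
    Module.Finite k (groupCohomology.H1 (Rep.of ρ)) ∧
      (Module.finrank k (groupCohomology.H1 (Rep.of ρ)) : ℤ) =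
        n - (a - 1) / (p : ℤ) + (a - 1 - n) / (p : ℤ) := by
  have hp : 0 < p := (Fact.out : p.Prime).pos
  have hord := orderOf_g p g hG hg
  have hT := Tw_pow_p p u hu a g hG hg ρ hρ
  obtain ⟨c, hc⟩ := exists_c p n hpn u hu1 hun hu a
  have hq0 : ∀ x : CycH1.Vn ρ g p, CycH1.q ρ g p hp hord hg x = 0 ↔
      x.1 ∈ LinearMap.range (Lw hu a) := by
    intro x
    rw [CycH1.q_eq_zero_iff, rho_eq_Tw u hu a g ρ hρ]
    rfl
  obtain ⟨h1, h2⟩ := finrank_H p hu1 n hn hpn hun hu a hT c hc (CycH1.Vn ρ g p)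
    (mem_Vn_iff p u hu a g ρ hρ) (CycH1.q ρ g p hp hord hg)
    (CycH1.q_surjective ρ g p hp hord hg) hq0
  refine ⟨h1, ?_⟩
  rw [h2]
  exact card_Mset p hp n a

end assemble

section deriv

variable {k : Type u} [Field k] {u : PowerSeries k}

theorem mul_deriv_pow (v : PowerSeries k) (m : ℕ) :
    v * derivative k (v ^ m) = (m : PowerSeries k) * v ^ m * derivative k v := by
  induction m with
  | zero => simp
  | succ m ih =>
    rw [pow_succ, Derivation.leibniz, smul_eq_mul, smul_eq_mul]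
    push_cast
    linear_combination v * ih

theorem natCast_ne_zero' (n : ℕ) (hn0 : (n : k) ≠ 0) : (n : PowerSeries k) ≠ 0 := by
  rw [← map_natCast (C (R := k))]
  intro h
  apply hn0
  have := congrArg (constantCoeff (R := k)) h
  simpa using this

theorem X_mul_deriv_u (n : ℕ) (hn0 : (n : k) ≠ 0) (hun : u ^ n * (1 + X ^ n) = 1) :
    X * derivative k u = -(u ^ (n + 1) * X ^ n) := by
  have h := congrArg (derivative k) hun
  rw [Derivation.leibniz, smul_eq_mul, smul_eq_mul, map_add, Derivation.map_one_eq_zero,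
    zero_add] at h
  have h1 := mul_deriv_pow u n
  have h2 := mul_deriv_pow (X : PowerSeries k) n
  rw [derivative_X, mul_one] at h2
  have h3 : (n : PowerSeries k) * (X * derivative k u + u ^ (n + 1) * X ^ n) = 0 := by
    linear_combination (u * X) * h - (u ^ n * u) * h2 - (X * (1 + X ^ n)) * h1
      - ((n : PowerSeries k) * X * derivative k u) * hun
  rcases mul_eq_zero.mp h3 with h4 | h4
  · exact absurd h4 (natCast_ne_zero' n hn0)
  · exact eq_neg_of_add_eq_zero_left h4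

/-- the derivative of `c⁰_m`. -/
theorem deriv_c0 (n : ℕ) (hn0 : (n : k) ≠ 0) (hun : u ^ n * (1 + X ^ n) = 1) (hu : IsUnit u)
    (m : ℕ) (hmn : m ≤ n) (c0 : PowerSeries k) (hc0 : X ^ m * c0 = Uz hu (0 - m) - 1) :
    X ^ (m + 1) * derivative k c0 = -((m : PowerSeries k) * (u ^ (n - m) - 1)) := by
  set w := Uz hu (0 - m) with hw
  have hwu : w * u ^ m = 1 := by
    rw [hw, Uz_mul_pow, Uz]
    simp
  have hK := X_mul_deriv_u n hn0 hun
  have hX := mul_deriv_pow (X : PowerSeries k) m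
  rw [derivative_X, mul_one] at hX
  have hU := mul_deriv_pow u m
  have e1 := congrArg (derivative k) hc0
  rw [Derivation.leibniz, smul_eq_mul, smul_eq_mul, map_sub, Derivation.map_one_eq_zero,
    sub_zero] at e1
  have e2 := congrArg (derivative k) hwu
  rw [Derivation.leibniz, smul_eq_mul, smul_eq_mul, Derivation.map_one_eq_zero] at e2
  have hpow : u ^ (n + 1) = u ^ (m + 1) * u ^ (n - m) := by
    rw [← pow_add]; congr 1; omega
  have hne : u ^ (m + 1) ≠ 0 := pow_ne_zero _ hu.ne_zero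
  apply mul_left_cancel₀ hne
  have hun' : u ^ (n + 1) * X ^ n = u - u ^ (n + 1) := by
    linear_combination u * hun
  -- X * D w * u^(m+1) = m * u^(n+1) * X^n
  have e3 : X * derivative k w * u ^ (m + 1) = (m : PowerSeries k) * (u ^ (n + 1) * X ^ n) := by
    linear_combination (u * X) * e2 - (w * X) * hU - ((m : PowerSeries k) * derivative k u * X) * hwu
      - (m : PowerSeries k) * hK
  linear_combination (u ^ (m + 1) * X) * e1 + e3
    - (u ^ (m + 1) * c0) * hX - ((m : PowerSeries k) * u ^ (m + 1)) * hc0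
    + (m : PowerSeries k) * hun' - ((m : PowerSeries k) * u) * hwu - (m : PowerSeries k) * hpow

end deriv

section dcomp

variable {k : Type u} [Field k] {u : PowerSeries k} (n : ℕ) (hn0 : (n : k) ≠ 0)
  (hun : u ^ n * (1 + X ^ n) = 1) (hu : IsUnit u)
  (c0 c1 : ℕ → PowerSeries k)
  (hc0 : ∀ m : ℕ, 1 ≤ m → m ≤ n → X ^ m * c0 m = Uz hu (0 - m) - 1)
  (hc1 : ∀ m : ℕ, 1 ≤ m → m ≤ n → X ^ m * c1 m = Uz hu (((n + 1 : ℕ) : ℤ) - m) - 1)

include hn0 hun hc0 in
theorem deriv_c0_n (hn : 1 ≤ n) : derivative k (c0 n) = 0 := by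
  have h := deriv_c0 n hn0 hun hu n le_rfl (c0 n) (hc0 n hn le_rfl)
  rw [Nat.sub_self, pow_zero, sub_self, mul_zero, neg_zero] at h
  rcases mul_eq_zero.mp h with h1 | h1
  · exact absurd h1 (pow_ne_zero _ X_ne_zero)
  · exact h1

include hn0 hun hc0 hc1 in
theorem deriv_c0_lt (m : ℕ) (hm1 : 1 ≤ m) (hmn : m < n) :
    derivative k (c0 m) = (-(m : k)) • c1 (m + 1) := by
  have h := deriv_c0 n hn0 hun hu m hmn.le (c0 m) (hc0 m hm1 hmn.le)
  have h1 := hc1 (m + 1) (by omega) (by omega)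
  have e : (((n + 1 : ℕ) : ℤ) - ((m + 1 : ℕ) : ℤ)) = ((n - m : ℕ) : ℤ) := by
    rw [Nat.cast_sub hmn.le]; push_cast; ring
  rw [e, Uz, val_zpow_natCast] at h1
  apply mul_left_cancel₀ (pow_ne_zero (m + 1) (X_ne_zero (R := k)))
  rw [h, ← h1, smul_eq_C_mul, map_neg, map_natCast]
  ring

end dcomp

section assemble2

variable {k : Type u} [Field k] [IsAlgClosed k] (p : ℕ) [Fact p.Prime] [CharP k p]
  (n : ℕ) (hn : 0 < n) (hpn : ¬ p ∣ n)
  (u : PowerSeries k) (hu1 : constantCoeff u = 1)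
  (hun : u ^ n * (1 + X ^ n) = 1)
  {G : Type u} [Group G] [Finite G] (g : G) (hG : Nat.card G = p)
  (hg : ∀ x : G, x ∈ Subgroup.zpowers g)
  (ρ₀ ρ₁ : Representation k G (PowerSeries k))
  (hρ₀ : ∀ h : PowerSeries k, ρ₀ g h = subst (X * u) h)
  (hρ₁ : ∀ h : PowerSeries k, ρ₁ g h = u ^ (n + 1) * subst (X * u) h)
  (φ : Rep.of ρ₀ ⟶ Rep.of ρ₁) (hφ : ∀ h : PowerSeries k, φ.hom h = derivative k h)

/-- the index set for the image -/
def Mimg : Finset ℕ := (Mset p (n - 1) (n : ℤ)).filter (fun s : ℕ => ¬ (p : ℤ) ∣ (s : ℤ))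

theorem mem_Mimg {s : ℕ} (hs : s ∈ Mimg p n) :
    1 ≤ s ∧ s ≤ n - 1 ∧ ¬ (p : ℤ) ∣ (n : ℤ) - s ∧ ¬ (p : ℤ) ∣ (s : ℤ) := by
  rw [Mimg, Finset.mem_filter, Mset, Finset.mem_filter, Finset.mem_Icc] at hs
  exact ⟨hs.1.1.1, hs.1.1.2, hs.1.2, hs.2⟩

include hn in
theorem succ_mem_Mset {s : ℕ} (hs : s ∈ Mimg p n) : s + 1 ∈ Mset p n ((n + 1 : ℕ) : ℤ) := by
  obtain ⟨h1, h2, h3, -⟩ := mem_Mimg p n hs
  rw [Mset, Finset.mem_filter, Finset.mem_Icc]
  refine ⟨⟨by omega, by omega⟩, ?_⟩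
  have e : (((n + 1 : ℕ) : ℤ) - ((s + 1 : ℕ) : ℤ)) = (n : ℤ) - s := by push_cast; ring
  rw [e]
  exact h3

include hn hpn hu1 hun hG hg hρ₀ hρ₁ hφ in
theorem main62 :
    Module.Finite k (LinearMap.range ((groupCohomology.functor k G 1).map φ).hom) ∧
      Module.finrank k (LinearMap.range ((groupCohomology.functor k G 1).map φ).hom) =
        (Mimg p n).card := by
  classical
  have hp : 0 < p := (Fact.out : p.Prime).pos
  have hn0 : (n : k) ≠ 0 := n_ne_zero p n hpn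
  have hu : IsUnit u := isUnit_u hu1
  have hord := orderOf_g p g hG hg
  set a₁ : ℤ := ((n + 1 : ℕ) : ℤ) with ha₁
  have hρ₀' : ∀ h : PowerSeries k, ρ₀ g h = Uz hu 0 * subst (X * u) h := by
    intro h
    rw [hρ₀, Uz, zpow_zero, Units.val_one, one_mul]
  have hρ₁' : ∀ h : PowerSeries k, ρ₁ g h = Uz hu a₁ * subst (X * u) h := by
    intro h
    rw [hρ₁, Uz, ha₁, val_zpow_natCast]
  have hT₀ := Tw_pow_p p u hu 0 g hG hg ρ₀ hρ₀'
  have hT₁ := Tw_pow_p p u hu a₁ g hG hg ρ₁ hρ₁'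
  obtain ⟨c0, hc0⟩ := exists_c p n hpn u hu1 hun hu 0
  obtain ⟨c1, hc1⟩ := exists_c p n hpn u hu1 hun hu a₁
  have hV₀ := mem_Vn_iff p u hu 0 g ρ₀ hρ₀'
  have hV₁ := mem_Vn_iff p u hu a₁ g ρ₁ hρ₁'
  have hq0₀ : ∀ x : CycH1.Vn ρ₀ g p, CycH1.q ρ₀ g p hp hord hg x = 0 ↔
      x.1 ∈ LinearMap.range (Lw hu 0) := by
    intro x
    rw [CycH1.q_eq_zero_iff, rho_eq_Tw u hu 0 g ρ₀ hρ₀']
    rfl
  have hq0₁ : ∀ x : CycH1.Vn ρ₁ g p, CycH1.q ρ₁ g p hp hord hg x = 0 ↔
      x.1 ∈ LinearMap.range (Lw hu a₁) := by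
    intro x
    rw [CycH1.q_eq_zero_iff, rho_eq_Tw u hu a₁ g ρ₁ hρ₁']
    rfl
  set q₀ := CycH1.q ρ₀ g p hp hord hg with hq₀
  set q₁ := CycH1.q ρ₁ g p hp hord hg with hq₁
  have hqs₀ : Function.Surjective q₀ := CycH1.q_surjective ρ₀ g p hp hord hg
  have hqs₁ : Function.Surjective q₁ := CycH1.q_surjective ρ₁ g p hp hord hg
  -- the family in H¹(A₁)
  have hli := vfam_li p hu1 n hn hpn hun hu a₁ hT₁ c1 hc1 (CycH1.Vn ρ₁ g p) hV₁ q₁ hq0₁
  obtain ⟨hfin₁, -⟩ := finrank_H p hu1 n hn hpn hun hu a₁ hT₁ c1 hc1 (CycH1.Vn ρ₁ g p) hV₁ q₁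
    hqs₁ hq0₁
  let ι : Mimg p n → Mset p n a₁ := fun s => ⟨s.1 + 1, succ_mem_Mset p n hn s.2⟩
  have hι : Function.Injective ι := by
    intro s t hst
    have := congrArg Subtype.val hst
    apply Subtype.ext
    simpa [ι] using this
  set b : Mimg p n → groupCohomology.H1 (Rep.of ρ₁) :=
    (vfam p hu1 n hpn hun hu a₁ hT₁ c1 hc1 (CycH1.Vn ρ₁ g p) hV₁ q₁) ∘ ι with hb
  have hbli : LinearIndependent k b := hli.comp ι hι
  have c1V : ∀ m : ℕ, 1 ≤ m → m ≤ n → c1 m ∈ CycH1.Vn ρ₁ g p := fun m h1 h2 =>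
    c_mem_V p hu1 n hpn hun hu a₁ hT₁ c1 hc1 (CycH1.Vn ρ₁ g p) hV₁ m h1 h2
  have c0V : ∀ m : ℕ, 1 ≤ m → m ≤ n → c0 m ∈ CycH1.Vn ρ₀ g p := fun m h1 h2 =>
    c_mem_V p hu1 n hpn hun hu 0 hT₀ c0 hc0 (CycH1.Vn ρ₀ g p) hV₀ m h1 h2
  have hb_apply : ∀ s : Mimg p n, b s = q₁ ⟨c1 (s.1 + 1), c1V (s.1 + 1) (by omega)
      (by have := mem_Mimg p n s.2; omega)⟩ := fun s => rfl
  -- equivariance
  have hD : ∀ f : PowerSeries k, derivative k (Lw hu 0 f) = Lw hu a₁ (derivative k f) := by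
    intro f
    have h1 := Rep.hom_comm_apply φ g f
    rw [hφ, hφ] at h1
    have h2 : derivative k (ρ₀ g f) = ρ₁ g (derivative k f) := h1
    rw [rho_eq_Tw u hu 0 g ρ₀ hρ₀', rho_eq_Tw u hu a₁ g ρ₁ hρ₁'] at h2
    show derivative k (Tw hu 0 f - f) = Tw hu a₁ (derivative k f) - derivative k f
    rw [map_sub, h2]
  -- the main equality
  let F : groupCohomology.H1 (Rep.of ρ₀) →ₗ[k] groupCohomology.H1 (Rep.of ρ₁) :=
    ((groupCohomology.functor k G 1).map φ).hom
  have hmq : ∀ x : CycH1.Vn ρ₀ g p, F (q₀ x) =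
      q₁ ⟨φ.hom x.1, CycH1.hom_mem_Vn ρ₀ ρ₁ g p φ x⟩ :=
    fun x => CycH1.map_q ρ₀ ρ₁ g p hp hord hg φ x
  show Module.Finite k (LinearMap.range F) ∧ Module.finrank k (LinearMap.range F) = _
  have hmain : LinearMap.range F = Submodule.span k (Set.range b) := by
    apply le_antisymm
    · rintro y ⟨z, rfl⟩
      obtain ⟨x, rfl⟩ := hqs₀ z
      rw [hmq]
      have hx := ker_le_Sspan p hu1 n hn0 hun hu 0 hT₀ c0 hc0 x.1 ((hV₀ _).mp x.2)
      set P₁ : Submodule k (PowerSeries k) := Submodule.map (CycH1.Vn ρ₁ g p).subtype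
        ((Submodule.span k (Set.range b)).comap q₁) with hP₁
      have hrange : ∀ f : PowerSeries k, Lw hu a₁ f ∈ P₁ := by
        intro f
        have hmem : Lw hu a₁ f ∈ CycH1.Vn ρ₁ g p := (hV₁ _).mpr (range_ker p hu a₁ hT₁ f)
        refine ⟨⟨_, hmem⟩, ?_, rfl⟩
        apply Submodule.mem_comap.mpr
        rw [(hq0₁ _).mpr ⟨f, rfl⟩]
        exact Submodule.zero_mem _
      have hle : Sspan p n hu 0 c0 ≤ P₁.comap (derivative k : PowerSeries k →ₗ[k] PowerSeries k) := by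
        apply sup_le
        · rw [Submodule.span_le]
          rintro _ ⟨m, hm, rfl⟩
          obtain ⟨hm1, hmn⟩ := mem_Mset p n 0 hm
          have hpm : ¬ (p : ℤ) ∣ (m : ℤ) := by
            have := (Finset.mem_filter.mp hm).2
            rwa [zero_sub, dvd_neg] at this
          show derivative k (c0 m) ∈ P₁
          rcases Nat.lt_or_ge m n with hlt | hge
          · rw [deriv_c0_lt n hn0 hun hu c0 c1 hc0 hc1 m hm1 hlt]
            apply Submodule.smul_mem
            by_cases hd : (p : ℤ) ∣ (n : ℤ) - m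
            · have hd' : (p : ℤ) ∣ a₁ - ((m + 1 : ℕ) : ℤ) := by
                have e : a₁ - ((m + 1 : ℕ) : ℤ) = (n : ℤ) - m := by rw [ha₁]; push_cast; ring
                rw [e]; exact hd
              obtain ⟨h, hh⟩ := Groth.Agent.S13863.result p n hn hpn u hu1 hun hu a₁ (m + 1)
                (by omega) (by omega) hd' (c1 (m + 1)) (hc1 (m + 1) (by omega) (by omega))
              have : c1 (m + 1) = Lw hu a₁ h := by
                rw [Lw_apply, sig_apply]; exact hh.symm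
              rw [this]
              exact hrange h
            · have hmI : m ∈ Mimg p n := by
                rw [Mimg, Finset.mem_filter, Mset, Finset.mem_filter, Finset.mem_Icc]
                exact ⟨⟨⟨hm1, by omega⟩, hd⟩, hpm⟩
              refine ⟨⟨_, c1V (m + 1) (by omega) (by omega)⟩, ?_, rfl⟩
              apply Submodule.mem_comap.mpr
              exact Submodule.subset_span ⟨⟨m, hmI⟩, rfl⟩
          · have hmn' : m = n := le_antisymm hmn hge
            subst hmn'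
            rw [deriv_c0_n m hn0 hun hu c0 hc0 hm1]
            exact Submodule.zero_mem _
        · rintro _ ⟨f, rfl⟩
          show derivative k (Lw hu 0 f) ∈ P₁
          rw [hD]
          exact hrange _
      have hx2 := hle hx
      obtain ⟨⟨w, hw⟩, hmem, heq⟩ := hx2
      have heq' : w = φ.hom x.1 := by
        rw [hφ]; exact heq
      subst heq'
      exact hmem
    · rw [Submodule.span_le]
      rintro _ ⟨s, rfl⟩
      obtain ⟨hs1, hs2, hs3, hs4⟩ := mem_Mimg p n s.2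
      have hsk : (s.1 : k) ≠ 0 := by
        intro h0
        apply hs4
        exact Int.natCast_dvd_natCast.mpr ((CharP.cast_eq_zero_iff k p s.1).mp h0)
      have hxV : (-(1 / (s.1 : k))) • c0 s.1 ∈ CycH1.Vn ρ₀ g p :=
        Submodule.smul_mem _ _ (c0V s.1 hs1 (by omega))
      refine ⟨q₀ ⟨_, hxV⟩, ?_⟩
      rw [hmq, hb_apply]
      congr 1
      apply Subtype.ext
      show φ.hom ((-(1 / (s.1 : k))) • c0 s.1) = c1 (s.1 + 1)
      rw [hφ, Derivation.map_smul, deriv_c0_lt n hn0 hun hu c0 c1 hc0 hc1 s.1 hs1 (by omega), smul_smul]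
      have : -(1 / (s.1 : k)) * -(s.1 : k) = 1 := by field_simp
      rw [this, one_smul]
  rw [hmain]
  refine ⟨inferInstance, ?_⟩
  rw [finrank_span_eq_card hbli, Fintype.card_coe]

end assemble2

section count2

theorem card_Mimg (p : ℕ) (hp : p.Prime) (n : ℕ) (hn : 0 < n) (hpn : ¬ p ∣ n) :
    ((Mimg p n).card : ℤ) = ((n + 1) * (p - 1) : ℤ) / p - 1 - (n - 1 : ℤ) / p := by
  classical
  have hp0 : (0 : ℤ) < p := by exact_mod_cast hp.pos
  have hpn' : ¬ (p : ℤ) ∣ (n : ℤ) := fun h => hpn (Int.natCast_dvd_natCast.mp h)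
  set S := Finset.Icc 1 (n - 1) with hS
  have h1 := Finset.card_filter_add_card_filter_not (s := Mset p (n - 1) (n : ℤ))
    (fun s : ℕ => ¬ (p : ℤ) ∣ (s : ℤ))
  have h2 := Finset.card_filter_add_card_filter_not (s := S)
    (fun s : ℕ => ¬ (p : ℤ) ∣ 0 - (s : ℤ))
  have h3 : (Mset p (n - 1) (n : ℤ)).filter (fun s : ℕ => ¬ ¬ (p : ℤ) ∣ (s : ℤ)) =
      S.filter (fun s : ℕ => ¬ ¬ (p : ℤ) ∣ 0 - (s : ℤ)) := by
    ext s
    simp only [Mset, Finset.mem_filter, not_not, zero_sub, dvd_neg]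
    constructor
    · rintro ⟨⟨hs, -⟩, hd⟩
      exact ⟨hs, hd⟩
    · rintro ⟨hs, hd⟩
      refine ⟨⟨hs, ?_⟩, hd⟩
      intro hd2
      apply hpn'
      have := dvd_add hd2 hd
      simpa using this
  have hX1 := card_Mset p hp.pos (n - 1) (n : ℤ)
  have hY0 := card_Mset p hp.pos (n - 1) (0 : ℤ)
  have hScard : S.card = n - 1 := by rw [hS]; simp
  have hcast : ((n - 1 : ℕ) : ℤ) = (n : ℤ) - 1 := by
    rw [Nat.cast_sub hn]; simp
  have e1 : (0 - 1 : ℤ) / p = -1 := by
    have := sub_one_ediv 0 p hp0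
    simpa using this
  have e2 : (-(n : ℤ) - 1) / p = (-(n : ℤ)) / p := by
    have := sub_one_ediv (-(n : ℤ)) p hp0
    rw [if_neg (by rwa [dvd_neg]), sub_zero] at this
    exact this
  have e3 : ((n + 1) * (p - 1) : ℤ) / p = (-(n : ℤ) - 1) / p + (n + 1) := by
    have : ((n + 1) * (p - 1) : ℤ) = (-(n : ℤ) - 1) + (n + 1) * p := by ring
    rw [this, Int.add_mul_ediv_right _ _ hp0.ne']
  have hMimg : (Mimg p n).card + (S.filter (fun s : ℕ => ¬ ¬ (p : ℤ) ∣ 0 - (s : ℤ))).card =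
      (Mset p (n - 1) (n : ℤ)).card := by
    rw [← h3]
    exact h1
  have hY0' : (Mset p (n - 1) (0 : ℤ)).card +
      (S.filter (fun s : ℕ => ¬ ¬ (p : ℤ) ∣ 0 - (s : ℤ))).card = n - 1 := by
    rw [hScard] at h2
    exact h2
  have hMz : ((Mimg p n).card : ℤ) + ((S.filter (fun s : ℕ => ¬ ¬ (p : ℤ) ∣ 0 - (s : ℤ))).card : ℤ) =
      ((Mset p (n - 1) (n : ℤ)).card : ℤ) := by exact_mod_cast hMimg
  have hYz : ((Mset p (n - 1) (0 : ℤ)).card : ℤ) +
      ((S.filter (fun s : ℕ => ¬ ¬ (p : ℤ) ∣ 0 - (s : ℤ))).card : ℤ) = (n : ℤ) - 1 := by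
    rw [← hcast]; exact_mod_cast hY0'
  rw [hcast] at hX1 hY0
  have e4 : ((n : ℤ) - 1 - ((n : ℤ) - 1)) / (p : ℤ) = 0 := by rw [sub_self]; simp
  have e5 : (0 - 1 - ((n : ℤ) - 1)) = -(n : ℤ) := by ring
  rw [e4] at hX1
  rw [e5, e1] at hY0
  rw [e3, e2]
  linarith

end count2

end Helper71.ASH1
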