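import Mathlib

namespace Groth.Agent.Lib.Helper71.AddChar

open Finset

section Lucas

variable (p : ℕ) [hp : Fact p.Prime]

theorem choose_add_mul_modEq (m : ℕ) : ∀ (x x' y y' : ℕ), x < p ^ m → x' < p ^ m →
    (x + p ^ m * y).choose (x' + p ^ m * y') ≡ x.choose x' * y.choose y' [MOD p] := by
  induction m with
  | zero =>
    intro x x' y y' hx hx'
    simp only [pow_zero, Nat.lt_one_iff] at hx hx'
    subst hx hx'
    simp [Nat.ModEq.refl]
  | succ m ih =>
    intro x x' y y' hx hx'
    have hp0 : 0 < p := hp.out.pos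
    have e1 : (x + p ^ (m + 1) * y) % p = x % p := by
      rw [pow_succ', mul_assoc, Nat.add_mul_mod_self_left]
    have e2 : (x + p ^ (m + 1) * y) / p = x / p + p ^ m * y := by
      rw [pow_succ', mul_assoc, Nat.add_mul_div_left _ _ hp0]
    have e1' : (x' + p ^ (m + 1) * y') % p = x' % p := by
      rw [pow_succ', mul_assoc, Nat.add_mul_mod_self_left]
    have e2' : (x' + p ^ (m + 1) * y') / p = x' / p + p ^ m * y' := by
      rw [pow_succ', mul_assoc, Nat.add_mul_div_left _ _ hp0]
    have hxd : x / p < p ^ m := by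
      apply Nat.div_lt_of_lt_mul
      rwa [pow_succ'] at hx
    have hxd' : x' / p < p ^ m := by
      apply Nat.div_lt_of_lt_mul
      rwa [pow_succ'] at hx'
    have h1 := Choose.choose_modEq_choose_mod_mul_choose_div_nat (p := p)
      (n := x + p ^ (m + 1) * y) (k := x' + p ^ (m + 1) * y')
    rw [e1, e2, e1', e2'] at h1
    have h2 := ih (x / p) (x' / p) y y' hxd hxd'
    have h3 := Choose.choose_modEq_choose_mod_mul_choose_div_nat (p := p) (n := x) (k := x')
    calc (x + p ^ (m + 1) * y).choose (x' + p ^ (m + 1) * y')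
        ≡ (x % p).choose (x' % p) * ((x / p + p ^ m * y).choose (x' / p + p ^ m * y')) [MOD p] := h1
      _ ≡ (x % p).choose (x' % p) * ((x / p).choose (x' / p) * y.choose y') [MOD p] :=
          Nat.ModEq.mul_left _ h2
      _ = ((x % p).choose (x' % p) * (x / p).choose (x' / p)) * y.choose y' := by ring
      _ ≡ x.choose x' * y.choose y' [MOD p] := Nat.ModEq.mul_right _ h3.symm

end Lucas

theorem sum_range_mul_eq {M : Type*} [AddCommMonoid M] (a b : ℕ) (g : ℕ → M) :
    ∑ i ∈ range (a * b), g i = ∑ j ∈ range b, ∑ i ∈ range a, g (i + j * a) := by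
  induction b with
  | zero => simp
  | succ b ih =>
    rw [Nat.mul_succ, Finset.sum_range_add, ih, Finset.sum_range_succ]
    congr 1
    apply Finset.sum_congr rfl
    intro i _
    rw [add_comm, mul_comm]

variable (p : ℕ) [hp : Fact p.Prime] {A : Type*} [CommRing A] [CharP A p]

/-- truncated exponential factor `exp_p(a X^(p^m))`. -/
noncomputable def E (a : A) (m : ℕ) : Polynomial A :=
  ∑ j ∈ Finset.range p,
    Polynomial.C (Ring.inverse (j.factorial : A) * a ^ j) * Polynomial.X ^ (j * p ^ m)

omit [CharP A p] hp in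
theorem E_def (a : A) (m : ℕ) : E p a m = ∑ j ∈ Finset.range p,
    Polynomial.C (Ring.inverse (j.factorial : A) * a ^ j) * Polynomial.X ^ (j * p ^ m) := rfl

theorem isUnit_fact {j : ℕ} (hj : j < p) : IsUnit (j.factorial : A) :=
  (IsUnit.natCast_factorial_iff_of_charP p).mpr hj

section Forward

variable (c : ℕ → A) (n : ℕ) (h0 : c 0 = 1)
  (hrel : ∀ i j, i < p ^ n → j < p ^ n → ((i + j).choose i : A) * c (i + j) = c i * c j)
include h0 hrel

theorem fact_mul_c (m : ℕ) (hm : m < n) :
    ∀ j, j < p → (j.factorial : A) * c (j * p ^ m) = c (p ^ m) ^ j := by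
  intro j
  induction j with
  | zero => intro _; simp [h0]
  | succ j ih =>
    intro hj
    have hj' : j < p := by omega
    have hpm : p ^ m < p ^ n := Nat.pow_lt_pow_right hp.out.one_lt hm
    have hpos : 0 < p ^ m := pos_of_ne_zero (pow_ne_zero _ hp.out.ne_zero)
    have hjm : j * p ^ m < p ^ n := by
      calc j * p ^ m < p * p ^ m := Nat.mul_lt_mul_of_pos_right hj' hpos
        _ = p ^ (m + 1) := (pow_succ' p m).symm
        _ ≤ p ^ n := Nat.pow_le_pow_right hp.out.pos hm
    have h := hrel (j * p ^ m) (p ^ m) hjm hpm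
    have hch : ((j * p ^ m + p ^ m).choose (j * p ^ m) : A) = ((j + 1 : ℕ) : A) := by
      apply CharP.natCast_eq_natCast' A p
      have e : j * p ^ m + p ^ m = p ^ m * (j + 1) := by ring
      rw [e, mul_comm j]
      have := Choose.choose_pow_mul_pow_mul_modEq_choose_nat (p := p) (k := m) (a := j + 1) (b := j)
      simpa [Nat.choose_succ_self_right] using this
    have e : (j + 1) * p ^ m = j * p ^ m + p ^ m := by ring
    rw [pow_succ, ← ih hj', mul_assoc, ← h, hch, e, Nat.factorial_succ]
    push_cast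
    ring

theorem c_pow_p (m : ℕ) (hm : m < n) : c (p ^ m) ^ p = 0 := by
  have hp1 : p - 1 < p := Nat.sub_lt hp.out.pos one_pos
  have hpm : p ^ m < p ^ n := Nat.pow_lt_pow_right hp.out.one_lt hm
  have hpos : 0 < p ^ m := pos_of_ne_zero (pow_ne_zero _ hp.out.ne_zero)
  have hjm : (p - 1) * p ^ m < p ^ n := by
    calc (p - 1) * p ^ m < p * p ^ m := Nat.mul_lt_mul_of_pos_right hp1 hpos
      _ = p ^ (m + 1) := (pow_succ' p m).symm
      _ ≤ p ^ n := Nat.pow_le_pow_right hp.out.pos hm
  have h1 := fact_mul_c p c n h0 hrel m hm (p - 1) hp1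
  have h := hrel ((p - 1) * p ^ m) (p ^ m) hjm hpm
  have hch : (((p - 1) * p ^ m + p ^ m).choose ((p - 1) * p ^ m) : A) = 0 := by
    have e : (p - 1) * p ^ m + p ^ m = p ^ m * p := by
      have : p - 1 + 1 = p := Nat.sub_add_cancel hp.out.pos
      calc (p - 1) * p ^ m + p ^ m = (p - 1 + 1) * p ^ m := by ring
        _ = p ^ m * p := by rw [this, mul_comm]
    rw [e, mul_comm (p - 1)]
    have := Choose.choose_pow_mul_pow_mul_modEq_choose_nat (p := p) (k := m) (a := p) (b := p - 1)
    rw [← Nat.cast_zero, CharP.natCast_eq_natCast A p]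
    refine this.trans ?_
    have e2 : p.choose (p - 1) = p := by
      rw [Nat.choose_symm hp.out.one_le, Nat.choose_one_right]
    rw [e2]
    exact (Nat.modEq_zero_iff_dvd.mpr dvd_rfl)
  rw [← pow_sub_one_mul hp.out.ne_zero, ← h1, mul_assoc, ← h, hch]
  simp

theorem c_split (m : ℕ) (hm : m < n) (i' : ℕ) (hi : i' < p ^ m) (j : ℕ) (hj : j < p) :
    c (i' + j * p ^ m) = c i' * (Ring.inverse (j.factorial : A) * c (p ^ m) ^ j) := by
  have hpm : p ^ m < p ^ n := Nat.pow_lt_pow_right hp.out.one_lt hm
  have hpos : 0 < p ^ m := pos_of_ne_zero (pow_ne_zero _ hp.out.ne_zero)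
  have hjm : j * p ^ m < p ^ n := by
    calc j * p ^ m < p * p ^ m := Nat.mul_lt_mul_of_pos_right hj hpos
      _ = p ^ (m + 1) := (pow_succ' p m).symm
      _ ≤ p ^ n := Nat.pow_le_pow_right hp.out.pos hm
  have h := hrel i' (j * p ^ m) (hi.trans hpm) hjm
  have hch : ((i' + j * p ^ m).choose i' : A) = 1 := by
    have := choose_add_mul_modEq p m i' i' j 0 hi hi
    rw [← Nat.cast_one, CharP.natCast_eq_natCast A p]
    simpa [mul_comm] using this
  rw [hch, one_mul] at h
  rw [h, ← fact_mul_c p c n h0 hrel m hm j hj, ← mul_assoc (Ring.inverse _),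
    Ring.inverse_mul_cancel _ (isUnit_fact p hj), one_mul]

theorem F_succ (m : ℕ) (hm : m < n) :
    ∑ i ∈ range (p ^ (m + 1)), Polynomial.C (c i) * Polynomial.X ^ i =
      (∑ i ∈ range (p ^ m), Polynomial.C (c i) * Polynomial.X ^ i) * E p (c (p ^ m)) m := by
  rw [pow_succ, sum_range_mul_eq, E_def, Finset.sum_mul_sum, Finset.sum_comm]
  apply Finset.sum_congr rfl
  intro i hi
  apply Finset.sum_congr rfl
  intro j hj
  rw [c_split p c n h0 hrel m hm i (Finset.mem_range.mp hi) j (Finset.mem_range.mp hj), map_mul,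
    pow_add]
  ring

theorem F_eq_prod : ∀ m, m ≤ n →
    ∑ i ∈ range (p ^ m), Polynomial.C (c i) * Polynomial.X ^ i =
      ∏ k ∈ range m, E p (c (p ^ k)) k := by
  intro m
  induction m with
  | zero => intro _; simp [h0]
  | succ m ih =>
    intro hm
    rw [F_succ p c n h0 hrel m (by omega), ih (by omega), Finset.prod_range_succ]

end Forward


section Conv

variable {S : Type*} [CommRing S] [CharP S p]

/-- truncated exponential `e(w) = Σ_{j<p} w^j / j!`. -/
noncomputable def ex (w : S) : S := ∑ j ∈ range p, Ring.inverse (j.factorial : S) * w ^ j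

theorem inv_fact_mul_choose {i j : ℕ} (h : i + j < p) :
    Ring.inverse ((i + j).factorial : S) * ((i + j).choose i : S) =
      Ring.inverse (i.factorial : S) * Ring.inverse (j.factorial : S) := by
  have hU := isUnit_fact p (A := S) h
  have hV := isUnit_fact p (A := S) (j := i) (by omega)
  have hW := isUnit_fact p (A := S) (j := j) (by omega)
  have e : ((i + j).factorial : S) = ((i + j).choose i : S) * (i.factorial : S) * (j.factorial : S) := by
    rw [← Nat.add_choose_mul_factorial_mul_factorial i j, Nat.choose_symm_add (a := i) (b := j)]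
    push_cast
    ring
  calc Ring.inverse ((i + j).factorial : S) * ((i + j).choose i : S)
      = Ring.inverse ((i + j).factorial : S) * (((i + j).choose i : S) * (i.factorial : S) *
          (j.factorial : S)) * (Ring.inverse (i.factorial : S) * Ring.inverse (j.factorial : S)) := by
        have h1 := Ring.mul_inverse_cancel _ hV
        have h2 := Ring.mul_inverse_cancel _ hW
        calc Ring.inverse ((i + j).factorial : S) * ((i + j).choose i : S)
            = Ring.inverse ((i + j).factorial : S) * ((i + j).choose i : S) *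
              (((i.factorial : S) * Ring.inverse (i.factorial : S)) *
                ((j.factorial : S) * Ring.inverse (j.factorial : S))) := by
              rw [h1, h2]; ring
          _ = _ := by ring
    _ = Ring.inverse (i.factorial : S) * Ring.inverse (j.factorial : S) := by
        rw [← e, Ring.inverse_mul_cancel _ hU, one_mul]

theorem ex_add (α u v : S) (hα : α ^ p = 0) :
    ex p (α * (u + v)) = ex p (α * u) * ex p (α * v) := by
  unfold ex
  rw [Finset.sum_mul_sum]
  have hL : ∀ k ∈ range p, Ring.inverse (k.factorial : S) * (α * (u + v)) ^ k =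
      ∑ i ∈ range (k + 1), (Ring.inverse (i.factorial : S) * (α * u) ^ i) *
        (Ring.inverse ((k - i).factorial : S) * (α * v) ^ (k - i)) := by
    intro k hk
    rw [mul_add, add_pow, Finset.mul_sum]
    apply Finset.sum_congr rfl
    intro i hi
    have hik : i + (k - i) = k := by have := Finset.mem_range.mp hi; omega
    have h1 := inv_fact_mul_choose p (S := S) (i := i) (j := k - i)
      (by rw [hik]; exact Finset.mem_range.mp hk)
    rw [hik] at h1
    calc Ring.inverse (k.factorial : S) * ((α * u) ^ i * (α * v) ^ (k - i) * (k.choose i : S))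
        = (Ring.inverse (k.factorial : S) * (k.choose i : S)) *
            ((α * u) ^ i * (α * v) ^ (k - i)) := by ring
      _ = _ := by rw [h1]; ring
  rw [Finset.sum_congr rfl hL]
  rw [Finset.sum_comm' (s' := fun i => Finset.Ico i p) (t' := range p)]
  · apply Finset.sum_congr rfl
    intro i hi
    rw [Finset.sum_Ico_eq_sum_range]
    simp only [Nat.add_sub_cancel_left]
    apply Finset.sum_subset (Finset.range_subset_range.mpr (Nat.sub_le p i))
    intro j hj hj'
    have hij : p ≤ i + j := by
      have := Finset.mem_range.mp hj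
      simp only [Finset.mem_range, not_lt] at hj'
      omega
    have : (α * u) ^ i * (α * v) ^ j = 0 := by
      rw [mul_pow, mul_pow]
      calc α ^ i * u ^ i * (α ^ j * v ^ j) = α ^ (i + j) * (u ^ i * v ^ j) := by ring
        _ = 0 := by rw [pow_eq_zero_of_le hij hα, zero_mul]
    calc Ring.inverse (i.factorial : S) * (α * u) ^ i * (Ring.inverse (j.factorial : S) * (α * v) ^ j)
        = Ring.inverse (i.factorial : S) * Ring.inverse (j.factorial : S) *
            ((α * u) ^ i * (α * v) ^ j) := by ring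
      _ = 0 := by rw [this, mul_zero]
  · intro k i
    simp only [Finset.mem_range, Finset.mem_Ico]
    omega

end Conv

section Poly

omit hp [CharP A p] in
theorem map_ring_inverse {S : Type*} [CommRing S] (φ : A →+* S) {x : A} (hx : IsUnit x) :
    φ (Ring.inverse x) = Ring.inverse (φ x) := by
  obtain ⟨u, rfl⟩ := hx
  rw [Ring.inverse_unit]
  have : φ (u : A) = ((Units.map (φ : A →* S) u : Sˣ) : S) := rfl
  rw [this, Ring.inverse_unit]
  rfl

theorem aeval_E {S : Type*} [CommRing S] [Algebra A S] (a : A) (m : ℕ) (z : S) :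
    Polynomial.aeval z (E p a m) = ex p (algebraMap A S a * z ^ (p ^ m)) := by
  unfold ex
  rw [E_def, map_sum]
  apply Finset.sum_congr rfl
  intro j hj
  rw [map_mul, Polynomial.aeval_C, map_pow, Polynomial.aeval_X, map_mul,
    map_ring_inverse (algebraMap A S) (isUnit_fact p (Finset.mem_range.mp hj)), map_natCast,
    map_pow, mul_pow, ← pow_mul, mul_comm (p ^ m) j]
  ring

theorem E_char (a : A) (ha : a ^ p = 0) (m : ℕ) :
    Polynomial.aeval (MvPolynomial.X 0 + MvPolynomial.X 1 : MvPolynomial (Fin 2) A) (E p a m) =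
      Polynomial.aeval (MvPolynomial.X 0 : MvPolynomial (Fin 2) A) (E p a m) *
        Polynomial.aeval (MvPolynomial.X 1 : MvPolynomial (Fin 2) A) (E p a m) := by
  rw [aeval_E, aeval_E, aeval_E, add_pow_char_pow, ex_add]
  rw [← map_pow, ha, map_zero]

theorem prod_E_char (a : ℕ → A) (ha : ∀ n, a n ^ p = 0) (N : ℕ) :
    Polynomial.aeval (MvPolynomial.X 0 + MvPolynomial.X 1 : MvPolynomial (Fin 2) A)
        (∏ n ∈ range N, E p (a n) n) =
      Polynomial.aeval (MvPolynomial.X 0 : MvPolynomial (Fin 2) A) (∏ n ∈ range N, E p (a n) n) *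
        Polynomial.aeval (MvPolynomial.X 1 : MvPolynomial (Fin 2) A)
          (∏ n ∈ range N, E p (a n) n) := by
  simp only [map_prod, E_char p _ (ha _), Finset.prod_mul_distrib]

omit [CharP A p] in
theorem eval_zero_E (a : A) (m : ℕ) : (E p a m).eval 0 = 1 := by
  rw [E_def, Polynomial.eval_finsetSum, Finset.sum_eq_single 0]
  · simp
  · intro j _ hj0
    have : j * p ^ m ≠ 0 := Nat.mul_ne_zero hj0 (pow_ne_zero _ hp.out.ne_zero)
    simp [this]
  · intro h
    exact absurd (Finset.mem_range.mpr hp.out.pos) h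

omit [CharP A p] in
theorem eval_zero_prod_E (a : ℕ → A) (N : ℕ) : (∏ n ∈ range N, E p (a n) n).eval 0 = 1 := by
  rw [Polynomial.eval_prod]
  exact Finset.prod_eq_one (fun n _ => eval_zero_E p (a n) n)

end Poly

section Coeff

omit hp [CharP A p]

theorem coe_aeval (f : Polynomial A) (z : MvPolynomial (Fin 2) A) :
    ((Polynomial.aeval z f : MvPolynomial (Fin 2) A) : MvPowerSeries (Fin 2) A) =
      Polynomial.aeval (z : MvPowerSeries (Fin 2) A) f := by
  have := Polynomial.aeval_algHom_apply (MvPolynomial.coeToMvPowerSeries.algHom (σ := Fin 2) A)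
    z f
  exact this.symm

theorem coeff_aeval_add (f : Polynomial A) (e : Fin 2 →₀ ℕ) :
    MvPolynomial.coeff e
      (Polynomial.aeval (MvPolynomial.X 0 + MvPolynomial.X 1 : MvPolynomial (Fin 2) A) f) =
      ((e 0 + e 1).choose (e 0) : A) * f.coeff (e 0 + e 1) := by
  rw [← MvPolynomial.coeff_coe, coe_aeval, MvPolynomial.coe_add, MvPolynomial.coe_X,
    MvPolynomial.coe_X,
    ← PowerSeries.subst_coe ((PowerSeries.HasSubst.X 0).add (PowerSeries.HasSubst.X 1)),
    PowerSeries.coeff_subst_X_zero_add_X_one, Polynomial.coeff_coe]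

theorem coeff_aeval_mul (f : Polynomial A) (e : Fin 2 →₀ ℕ) :
    MvPolynomial.coeff e
      (Polynomial.aeval (MvPolynomial.X 0 : MvPolynomial (Fin 2) A) f *
        Polynomial.aeval (MvPolynomial.X 1 : MvPolynomial (Fin 2) A) f) =
      f.coeff (e 0) * f.coeff (e 1) := by
  rw [← MvPolynomial.coeff_coe, MvPolynomial.coe_mul, coe_aeval, coe_aeval, MvPolynomial.coe_X,
    MvPolynomial.coe_X,
    ← PowerSeries.subst_coe (PowerSeries.HasSubst.X 0),
    ← PowerSeries.subst_coe (PowerSeries.HasSubst.X 1),
    PowerSeries.coeff_subst_X_zero_subst_mul_X_one, Polynomial.coeff_coe, Polynomial.coeff_coe]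

/-- pair exponent. -/
noncomputable def pe (i j : ℕ) : Fin 2 →₀ ℕ := Finsupp.single 0 i + Finsupp.single 1 j

theorem pe_zero (i j : ℕ) : pe i j 0 = i := by simp [pe]

theorem pe_one (i j : ℕ) : pe i j 1 = j := by simp [pe]

theorem poly_rel_of_char (f : Polynomial A)
    (h : Polynomial.aeval (MvPolynomial.X 0 + MvPolynomial.X 1 : MvPolynomial (Fin 2) A) f =
      Polynomial.aeval (MvPolynomial.X 0 : MvPolynomial (Fin 2) A) f *
        Polynomial.aeval (MvPolynomial.X 1 : MvPolynomial (Fin 2) A) f) (i j : ℕ) :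
    ((i + j).choose i : A) * f.coeff (i + j) = f.coeff i * f.coeff j := by
  have := congrArg (MvPolynomial.coeff (pe i j)) h
  rwa [coeff_aeval_add, coeff_aeval_mul, pe_zero, pe_one] at this

theorem ps_char_iff_rel (χ : PowerSeries A) :
    PowerSeries.subst (MvPowerSeries.X 0 + MvPowerSeries.X 1 : MvPowerSeries (Fin 2) A) χ =
        PowerSeries.subst (MvPowerSeries.X 0 : MvPowerSeries (Fin 2) A) χ *
          PowerSeries.subst (MvPowerSeries.X 1 : MvPowerSeries (Fin 2) A) χ ↔
      ∀ i j : ℕ, ((i + j).choose i : A) * PowerSeries.coeff (i + j) χ =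
        PowerSeries.coeff i χ * PowerSeries.coeff j χ := by
  constructor
  · intro h i j
    have := congrArg (MvPowerSeries.coeff (pe i j)) h
    rwa [PowerSeries.coeff_subst_X_zero_add_X_one, PowerSeries.coeff_subst_X_zero_subst_mul_X_one,
      pe_zero, pe_one] at this
  · intro h
    ext e
    rw [PowerSeries.coeff_subst_X_zero_add_X_one, PowerSeries.coeff_subst_X_zero_subst_mul_X_one]
    exact h (e 0) (e 1)

end Coeff

end Groth.Agent.Lib.Helper71.AddChar
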