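import Mathlib
import Groth.Prelude.Def_DCoh2
import Groth.Prelude.Def_FlatMod2
import Groth.Agent.Lib.Helper2.KerSec
set_option autoImplicit false
universe u
open CategoryTheory CategoryTheory.Limits AlgebraicGeometry
attribute [local instance] HasDerivedCategory.standard

namespace Groth.Agent.Lib.Helper71.AffKTB3

/-- TB3: pushforward along an isomorphism preserves quasi-coherence. -/
theorem isQCoh_pushforward_of_isIso {X Y : Scheme.{u}} (f : X ⟶ Y) [IsIso f] (M : X.Modules)
    (h : Coh.IsQCoh M) : Coh.IsQCoh ((Scheme.Modules.pushforward f).obj M) := by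
  haveI : M.IsQuasicoherent := h
  exact Groth.Agent.Lib.Helper2.KerSec.isQuasicoherent_pushforward_of_qcqs f M

end Groth.Agent.Lib.Helper71.AffKTB3
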