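import Mathlib
import Groth.Prelude.Def_DCoh2
import Groth.Prelude.Def_FlatMod2
import Groth.Agent.Lib.Helper2.FinLocFreeAff
import Groth.Agent.Lib.Helper2.RankSections
set_option autoImplicit false
set_option linter.style.haveILetI false
universe u
open CategoryTheory CategoryTheory.Limits AlgebraicGeometry
attribute [local instance] HasDerivedCategory.standard

namespace Groth.Agent.Lib.Helper71.AffKTB4

open Groth.Agent.Lib.Helper2.FinLocFreeAff

/-- TB4 -/
theorem projective_Γ_pushforward_isoSpec {X : Scheme.{u}} [IsAffine X] (M : X.Modules)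
    (h : FlatMod.IsFinLocFree M) :
    Projective (moduleSpecΓFunctor.obj ((Scheme.Modules.pushforward X.isoSpec.hom).obj M)) := by
  haveI : M.IsQuasicoherent :=
    Groth.Agent.Lib.Helper2.RankSections.isQuasicoherent_of_isFinLocFree M h
  have hp : Module.Projective Γ(X, ⊤) Γ(M, ⊤) :=
    projective_sections_of_isFinLocFree M h (isAffineOpen_top X)
  set N := (Scheme.Modules.pushforward X.isoSpec.hom).obj M with hN
  -- linear equivalence over `Γ(X, ⊤)`
  let e : moduleSpecΓFunctor.obj N ≃ₗ[Γ(X, ⊤)] Γ(M, ⊤) :=
    { toFun := fun s => s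
      invFun := fun s => s
      left_inv := fun _ => rfl
      right_inv := fun _ => rfl
      map_add' := fun _ _ => rfl
      map_smul' := fun r s => by
        change (specΓEquiv N) (r • s) = _
        rw [(specΓEquiv N).map_smulₛₗ]
        have key : ∀ (t : Γ(Spec Γ(X, ⊤), ⊤)) (n : Γ(N, ⊤)),
            t • n = ((X.isoSpec.hom.appTop).hom t • (show Γ(M, ⊤) from n)) := fun _ _ => rfl
        rw [key]
        have h2 : (X.isoSpec.hom.appTop).hom ((Scheme.ΓSpecIso Γ(X, ⊤)).inv.hom r) = r := by
          rw [Scheme.isoSpec_hom, Scheme.toSpecΓ_appTop]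
          exact congr($((Scheme.ΓSpecIso Γ(X, ⊤)).inv_hom_id) r)
        rw [h2]
        rfl }
  have hpN : Module.Projective Γ(X, ⊤) (moduleSpecΓFunctor.obj N) := Module.Projective.of_equiv e.symm
  exact (IsProjective.iff_projective (P := moduleSpecΓFunctor.obj N)).mp hpN

end Groth.Agent.Lib.Helper71.AffKTB4
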