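import Mathlib

set_option autoImplicit false

namespace Groth.Agent.Lib.Helper71

open IsLocalRing TensorProduct Module

section

variable {A : Type*} [CommRing A] [IsLocalRing A] [IsArtinianRing A]
variable {M : Type*} [AddCommGroup M] [Module A M]

theorem maximalIdeal_pow_eq_bot : ∃ n : ℕ, maximalIdeal A ^ n = ⊥ := by
  have := IsArtinianRing.isNilpotent_jacobson_bot (R := A)
  rw [IsLocalRing.jacobson_eq_maximalIdeal ⊥ bot_ne_top] at this
  exact this

theorem eq_top_of_sup_smul_top (N : Submodule A M)
    (h : N ⊔ maximalIdeal A • (⊤ : Submodule A M) = ⊤) : N = ⊤ := by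
  obtain ⟨n, hn⟩ := maximalIdeal_pow_eq_bot (A := A)
  have key : ∀ k : ℕ, N ⊔ (maximalIdeal A ^ k) • (⊤ : Submodule A M) = ⊤ := by
    intro k
    induction k with
    | zero => simp
    | succ k ih =>
      rw [eq_top_iff]
      calc (⊤ : Submodule A M) = N ⊔ maximalIdeal A • (⊤ : Submodule A M) := h.symm
        _ = N ⊔ maximalIdeal A • (N ⊔ (maximalIdeal A ^ k) • (⊤ : Submodule A M)) := by rw [ih]
        _ = N ⊔ (maximalIdeal A • N ⊔
              maximalIdeal A • ((maximalIdeal A ^ k) • (⊤ : Submodule A M))) := by
            rw [Submodule.smul_sup]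
        _ ≤ N ⊔ (maximalIdeal A ^ (k + 1)) • (⊤ : Submodule A M) := by
            rw [← Submodule.mul_smul, ← pow_succ']
            exact sup_le le_sup_left
              (sup_le (le_trans Submodule.smul_le_right le_sup_left) le_sup_right)
  have := key n
  rw [hn, Submodule.bot_smul, sup_bot_eq] at this
  exact this

theorem eq_top_of_map_tensorProduct_mk_eq_top (N : Submodule A M)
    (h : N.map (TensorProduct.mk A (ResidueField A) M 1) = ⊤) : N = ⊤ := by
  apply eq_top_of_sup_smul_top
  rw [eq_top_iff]
  intro x _
  have hx : TensorProduct.mk A (ResidueField A) M 1 x ∈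
      N.map (TensorProduct.mk A (ResidueField A) M 1) := by rw [h]; trivial
  obtain ⟨n, hn, hnx⟩ := hx
  have hker : x - n ∈ LinearMap.ker (TensorProduct.mk A (A ⧸ maximalIdeal A) M 1) := by
    rw [LinearMap.mem_ker, map_sub]
    exact sub_eq_zero.mpr hnx.symm
  rw [LinearMap.ker_tensorProductMk] at hker
  have : x = n + (x - n) := by abel
  rw [this]
  exact Submodule.add_mem_sup hn hker

theorem subsingleton_of_subsingleton_tensor
    (h : Subsingleton (ResidueField A ⊗[A] M)) : Subsingleton M := by
  have : (⊥ : Submodule A M) = ⊤ := by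
    apply eq_top_of_map_tensorProduct_mk_eq_top
    rw [eq_top_iff]
    intro x _
    rw [Subsingleton.elim x 0]
    exact Submodule.zero_mem _
  rw [← Submodule.subsingleton_iff A, ← subsingleton_iff_bot_eq_top]
  exact this

theorem surjective_of_lTensor_residueField_surjective
    {L : Type*} [AddCommGroup L] [Module A L] (h : M →ₗ[A] L)
    (hs : Function.Surjective (h.lTensor (ResidueField A))) : Function.Surjective h := by
  rw [← LinearMap.range_eq_top]
  apply eq_top_of_map_tensorProduct_mk_eq_top
  suffices key : ∀ z, h.lTensor (ResidueField A) z ∈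
      Submodule.map (TensorProduct.mk A (ResidueField A) L 1) (LinearMap.range h) by
    rw [eq_top_iff]
    intro y _
    obtain ⟨z, rfl⟩ := hs y
    exact key z
  intro z
  induction z using TensorProduct.induction_on with
  | zero => simp
  | tmul a m =>
    obtain ⟨a, rfl⟩ := Ideal.Quotient.mk_surjective a
    refine ⟨a • h m, ⟨a • m, by simp⟩, ?_⟩
    simp only [LinearMap.lTensor_tmul, TensorProduct.mk_apply]
    rw [TensorProduct.tmul_smul, TensorProduct.smul_tmul']
    congr 1
    change a • (1 : A ⧸ maximalIdeal A) = _
    rw [Algebra.smul_def, mul_one]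
    rfl
  | add x y hx hy =>
    rw [map_add]
    exact Submodule.add_mem _ hx hy

theorem span_eq_top_of_tmul_eq_basis {ι : Type*}
    (f : ι → M) (b : Basis ι (ResidueField A) (ResidueField A ⊗[A] M))
    (hb : ∀ i, (1 : ResidueField A) ⊗ₜ[A] f i = b i) : Submodule.span A (Set.range f) = ⊤ := by
  apply eq_top_of_map_tensorProduct_mk_eq_top
  rw [Submodule.map_span, ← Submodule.restrictScalars_span A (ResidueField A)
    Ideal.Quotient.mk_surjective, Submodule.restrictScalars_eq_top_iff,
    ← b.span_eq, ← Set.range_comp]
  simp only [Function.comp_def, mk_apply, hb, Basis.span_eq]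

omit [IsArtinianRing A] in
theorem lTensor_ker_subtype_injective {F : Type*} [AddCommGroup F] [Module A F]
    (π : F →ₗ[A] M) (hπsurj : Function.Surjective π)
    (H : Function.Injective ((maximalIdeal A).subtype.rTensor M)) :
    Function.Injective ((LinearMap.ker π).subtype.lTensor (ResidueField A)) := by
  have hexact : Function.Exact (LinearMap.ker π).subtype π := LinearMap.exact_subtype_ker_map π
  have h3 : Function.Injective ((LinearMap.ker π).subtype.lTensor A) :=
    (Module.Flat.lTensor_preserves_injective_linearMap (LinearMap.ker π).subtype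
        (LinearMap.ker π).injective_subtype)
  exact lTensor_injective_of_exact_of_exact_of_rTensor_injective
      (f₁ := (maximalIdeal A).subtype) (f₂ := (maximalIdeal A).mkQ)
      (g₁ := (LinearMap.ker π).subtype) (g₂ := π)
      (LinearMap.exact_subtype_mkQ (maximalIdeal A)) (Submodule.mkQ_surjective _)
      hexact hπsurj H h3

theorem free_of_rTensor_injective
    (H : Function.Injective ((maximalIdeal A).subtype.rTensor M)) : Module.Free A M := by
  classical
  let w := Free.chooseBasis (ResidueField A) (ResidueField A ⊗[A] M)
  obtain ⟨v, eq⟩ := (TensorProduct.mk_surjective A M (ResidueField A)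
    Ideal.Quotient.mk_surjective).comp_left w
  have hv : ∀ i, (1 : ResidueField A) ⊗ₜ[A] v i = w i := fun i => congr_fun eq i
  let π : (Free.ChooseBasisIndex (ResidueField A) (ResidueField A ⊗[A] M) →₀ A) →ₗ[A] M :=
    Finsupp.linearCombination A v
  have hπsurj : Function.Surjective π := by
    rw [← LinearMap.range_eq_top, Finsupp.range_linearCombination]
    exact span_eq_top_of_tmul_eq_basis v w hv
  have hexact : Function.Exact (LinearMap.ker π).subtype π := LinearMap.exact_subtype_ker_map π
  have hinj : Function.Injective ((LinearMap.ker π).subtype.lTensor (ResidueField A)) :=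
    lTensor_ker_subtype_injective π hπsurj H
  have hπk : Function.Injective (π.lTensor (ResidueField A)) := by
    let bF := Algebra.TensorProduct.basis (ResidueField A)
      (Finsupp.basisSingleOne (R := A)
        (ι := Free.ChooseBasisIndex (ResidueField A) (ResidueField A ⊗[A] M)))
    have h1 : π.baseChange (ResidueField A) = (bF.equiv w (Equiv.refl _)).toLinearMap := by
      apply bF.ext
      intro i
      rw [LinearEquiv.coe_coe, Basis.equiv_apply, Equiv.refl_apply, ← hv i]
      simp [bF, π]
    rw [← LinearMap.baseChange_eq_ltensor, h1]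
    exact (bF.equiv w (Equiv.refl _)).injective
  have hsub : Subsingleton (ResidueField A ⊗[A] (LinearMap.ker π)) := by
    refine (subsingleton_iff_forall_eq 0).mpr fun y => hinj (hπk ?_)
    rw [map_zero, map_zero, ← LinearMap.comp_apply, ← LinearMap.lTensor_comp,
      hexact.linearMap_comp_eq_zero, LinearMap.lTensor_zero, LinearMap.zero_apply]
  have hker : Subsingleton (LinearMap.ker π) := subsingleton_of_subsingleton_tensor hsub
  have hπinj : Function.Injective π := by
    rw [← LinearMap.ker_eq_bot, ← Submodule.subsingleton_iff_eq_bot]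
    exact hker
  exact Module.Free.of_equiv (LinearEquiv.ofBijective π ⟨hπinj, hπsurj⟩)

theorem free_of_flat [Module.Flat A M] : Module.Free A M :=
  free_of_rTensor_injective
    (Module.Flat.rTensor_preserves_injective_linearMap _ Subtype.val_injective)

end

end Groth.Agent.Lib.Helper71
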