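import Groth.Agent.S18041

universe u

set_option linter.unusedSectionVars false

namespace Helper71.CBP3

open Groth.Agent.S18041Aux MvPolynomial

variable {k : Type u} [Field k] [Infinite k]

local notation "M4" => (Fin 4 → k)
local notation "P3" => Projectivization k (Fin 4 → k)

theorem finrank_M4 : Module.finrank k (Fin 4 → k) = 4 := by simp

/-- every subspace of dimension `≤ 3` lies in a plane -/
theorem exists_plane_ge (U : Submodule k (Fin 4 → k)) (hU : Module.finrank k U ≤ 3) :
    ∃ W : Submodule k (Fin 4 → k), Module.finrank k W = 3 ∧ U ≤ W := by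
  have hlt : U < ⊤ := by
    rw [lt_top_iff_ne_top]
    intro h
    rw [h, finrank_top, finrank_M4] at hU
    omega
  obtain ⟨f, hf0, hf⟩ := Submodule.exists_le_ker_of_lt_top U hlt
  refine ⟨LinearMap.ker f, ?_, hf⟩
  have h1 := LinearMap.finrank_range_add_finrank_ker f
  rw [finrank_M4] at h1
  have h2 : Module.finrank k (LinearMap.range f) = 1 := by
    have hsurj : Function.Surjective f := by
      intro c
      obtain ⟨v, hv⟩ : ∃ v, f v ≠ 0 := by
        by_contra hcon
        push Not at hcon
        exact hf0 (LinearMap.ext hcon)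
      refine ⟨(c / f v) • v, ?_⟩
      rw [map_smul, smul_eq_mul, div_mul_cancel₀ _ hv]
    rw [LinearMap.range_eq_top.mpr hsurj, finrank_top]
    simp
  omega

theorem finrank_point (z : Projectivization k (Fin 4 → k)) : Module.finrank k z.submodule = 1 :=
  Projectivization.finrank_submodule z

/-- a line and a point outside span a plane -/
theorem finrank_sup_point (L : Submodule k (Fin 4 → k)) (hL : Module.finrank k L = 2)
    (b : Projectivization k (Fin 4 → k)) (hb : ¬ b.submodule ≤ L) :
    Module.finrank k ↥(L ⊔ b.submodule) = 3 := by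
  have h1 : Module.finrank k ↥(L ⊔ b.submodule) ≤ 3 := by
    have := Submodule.finrank_add_le_finrank_add_finrank L b.submodule
    rw [hL, finrank_point] at this
    exact this
  have h2 : L < L ⊔ b.submodule := by
    rw [lt_iff_le_and_ne]
    refine ⟨le_sup_left, fun h => hb ?_⟩
    rw [h]; exact le_sup_right
  have h3 := Submodule.finrank_lt_finrank_of_lt h2
  omega

/-- planes through a line are determined by any point outside the line -/
theorem sup_point_eq (L : Submodule k (Fin 4 → k)) (hL : Module.finrank k L = 2)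
    (b z : Projectivization k (Fin 4 → k)) (hb : ¬ b.submodule ≤ L) (hz : ¬ z.submodule ≤ L)
    (hzb : z.submodule ≤ L ⊔ b.submodule) : L ⊔ z.submodule = L ⊔ b.submodule := by
  apply Submodule.eq_of_le_of_finrank_eq (sup_le le_sup_left hzb)
  rw [finrank_sup_point L hL b hb, finrank_sup_point L hL z hz]

/-- two distinct points determine a line -/
theorem line_unique (x y : Projectivization k (Fin 4 → k)) (hxy : x ≠ y)
    (M M' : Submodule k (Fin 4 → k)) (hM : Module.finrank k M = 2) (hM' : Module.finrank k M' = 2)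
    (hx : x.submodule ≤ M) (hy : y.submodule ≤ M) (hx' : x.submodule ≤ M')
    (hy' : y.submodule ≤ M') : M = M' := by
  have hU : Module.finrank k ↥(x.submodule ⊔ y.submodule) = 2 := by
    have h1 : Module.finrank k ↥(x.submodule ⊔ y.submodule) ≤ 2 := by
      have := Submodule.finrank_add_le_finrank_add_finrank x.submodule y.submodule
      rw [finrank_point, finrank_point] at this
      exact this
    have h2 : x.submodule < x.submodule ⊔ y.submodule := by
      rw [lt_iff_le_and_ne]
      refine ⟨le_sup_left, fun h => hxy ?_⟩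
      have hle : y.submodule ≤ x.submodule := by rw [h]; exact le_sup_right
      have heq : y.submodule = x.submodule :=
        Submodule.eq_of_le_of_finrank_eq hle (by rw [finrank_point, finrank_point])
      exact (Projectivization.submodule_injective heq).symm
    have h3 := Submodule.finrank_lt_finrank_of_lt h2
    rw [finrank_point] at h3
    omega
  have e1 : x.submodule ⊔ y.submodule = M :=
    Submodule.eq_of_le_of_finrank_eq (sup_le hx hy) (by rw [hU, hM])
  have e2 : x.submodule ⊔ y.submodule = M' :=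
    Submodule.eq_of_le_of_finrank_eq (sup_le hx' hy') (by rw [hU, hM'])
  rw [← e1, e2]

/-- two lines that meet lie in a plane -/
theorem exists_plane_of_inf_ne_bot (L L' : Submodule k (Fin 4 → k)) (hL : Module.finrank k L = 2)
    (hL' : Module.finrank k L' = 2) (h : L ⊓ L' ≠ ⊥) :
    ∃ W : Submodule k (Fin 4 → k), Module.finrank k W = 3 ∧ L ≤ W ∧ L' ≤ W := by
  have h1 := Submodule.finrank_sup_add_finrank_inf_eq L L'
  rw [hL, hL'] at h1
  have h2 : 0 < Module.finrank k ↥(L ⊓ L') := by
    rw [Module.finrank_pos_iff_exists_ne_zero]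
    obtain ⟨v, hv, hv0⟩ := Submodule.exists_mem_ne_zero_of_ne_bot h
    exact ⟨⟨v, hv⟩, fun h0 => hv0 (congrArg Subtype.val h0)⟩
  obtain ⟨W, hW, hle⟩ := exists_plane_ge (L ⊔ L') (by omega)
  exact ⟨W, hW, le_sup_left.trans hle, le_sup_right.trans hle⟩

/-- a plane through a line and a point -/
theorem exists_plane_line_point (L : Submodule k (Fin 4 → k)) (hL : Module.finrank k L = 2)
    (a : Projectivization k (Fin 4 → k)) :
    ∃ W : Submodule k (Fin 4 → k), Module.finrank k W = 3 ∧ L ≤ W ∧ a.submodule ≤ W := by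
  have := Submodule.finrank_add_le_finrank_add_finrank L a.submodule
  rw [hL, finrank_point] at this
  obtain ⟨W, hW, hle⟩ := exists_plane_ge (L ⊔ a.submodule) this
  exact ⟨W, hW, le_sup_left.trans hle, le_sup_right.trans hle⟩

/-- a plane through three points -/
theorem exists_plane_three (a b c : Projectivization k (Fin 4 → k)) :
    ∃ W : Submodule k (Fin 4 → k), Module.finrank k W = 3 ∧ a.submodule ≤ W ∧ b.submodule ≤ W ∧
      c.submodule ≤ W := by
  have h1 := Submodule.finrank_add_le_finrank_add_finrank (a.submodule ⊔ b.submodule) c.submodule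
  have h2 := Submodule.finrank_add_le_finrank_add_finrank a.submodule b.submodule
  rw [finrank_point] at h1
  rw [finrank_point, finrank_point] at h2
  obtain ⟨W, hW, hle⟩ := exists_plane_ge (a.submodule ⊔ b.submodule ⊔ c.submodule) (by omega)
  exact ⟨W, hW, (le_sup_left.trans le_sup_left).trans hle, (le_sup_right.trans le_sup_left).trans hle,
    le_sup_right.trans hle⟩

/-- coplanarity -/
def Coplanar (Z : Finset (Projectivization k (Fin 4 → k))) : Prop :=
  ∃ W : Submodule k (Fin 4 → k), Module.finrank k ↥W = 3 ∧ ∀ z ∈ Z, z.submodule ≤ W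

/-- the two-skew-lines configuration -/
def TwoLines (Z : Finset (Projectivization k (Fin 4 → k))) (n : ℕ) : Prop :=
  ∃ W₁ W₂ : Submodule k (Fin 4 → k), Module.finrank k ↥W₁ = 2 ∧ Module.finrank k ↥W₂ = 2 ∧
    W₁ ⊓ W₂ = ⊥ ∧ (∀ z ∈ Z, z.submodule ≤ W₁ ∨ z.submodule ≤ W₂) ∧
    n + 1 ≤ Set.ncard {z : Projectivization k (Fin 4 → k) | z ∈ Z ∧ z.submodule ≤ W₁} ∧
    n + 1 ≤ Set.ncard {z : Projectivization k (Fin 4 → k) | z ∈ Z ∧ z.submodule ≤ W₂} ∧
    2 * n + 3 ≤ Z.card

theorem ncard_eq (Z : Finset (Projectivization k (Fin 4 → k)))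
    (P : Projectivization k (Fin 4 → k) → Prop) [DecidablePred P] :
    Set.ncard {z : Projectivization k (Fin 4 → k) | z ∈ Z ∧ P z} = (Z.filter P).card := by
  rw [← Set.ncard_coe_finset]
  congr 1
  ext z
  simp

open Classical in
theorem caseA (N : ℕ) (hN : 2 ≤ N) (Z : Finset (Projectivization k (Fin 4 → k)))
    (hCB : CB Z N) (hcard : Z.card ≤ 3 * N + 1) (hnc : ¬ Coplanar Z)
    (L' : Submodule k (Fin 4 → k)) (hL' : Module.finrank k ↥L' = 2)
    (hA : N + 1 ≤ (Z.filter (fun z => z.submodule ≤ L')).card) : TwoLines Z N := by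
  classical
  obtain ⟨n, rfl⟩ : ∃ n, N = n + 1 := ⟨N - 1, by omega⟩
  set A := Z.filter (fun z => z.submodule ≤ L') with hAdef
  set B := Z.filter (fun z => ¬ z.submodule ≤ L') with hBdef
  have hAB : A.card + B.card = Z.card :=
    Finset.card_filter_add_card_filter_not (s := Z) (fun z => z.submodule ≤ L')
  have hBcard : B.card ≤ 2 * n + 2 := by omega
  have memB : ∀ z, z ∈ B ↔ z ∈ Z ∧ ¬ z.submodule ≤ L' := fun z => Finset.mem_filter
  let W : Projectivization k (Fin 4 → k) → Submodule k (Fin 4 → k) := fun b => L' ⊔ b.submodule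
  let R : Projectivization k (Fin 4 → k) → Finset (Projectivization k (Fin 4 → k)) :=
    fun b => Z.filter (fun z => ¬ z.submodule ≤ W b)
  have memR : ∀ b z, z ∈ R b ↔ z ∈ Z ∧ ¬ z.submodule ≤ W b := fun b z => Finset.mem_filter
  have hWplane : ∀ b ∈ B, Module.finrank k ↥(W b) = 3 := fun b hb =>
    finrank_sup_point L' hL' b ((memB b).mp hb).2
  have hRsub : ∀ b, R b ⊆ B.erase b := by
    intro b z hz
    obtain ⟨hzZ, hzW⟩ := (memR b z).mp hz
    rw [Finset.mem_erase]
    refine ⟨?_, (memB z).mpr ⟨hzZ, fun h => hzW (h.trans le_sup_left)⟩⟩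
    rintro rfl
    exact hzW le_sup_right
  have hRCB : ∀ b, CB (R b) n := fun b => CB_residual Z n hCB (W b)
  have hRne : ∀ b ∈ B, (R b).Nonempty := by
    intro b hb
    by_contra hemp
    rw [Finset.not_nonempty_iff_eq_empty] at hemp
    apply hnc
    refine ⟨W b, hWplane b hb, fun z hz => ?_⟩
    by_contra hzW
    have : z ∈ R b := (memR b z).mpr ⟨hz, hzW⟩
    rw [hemp] at this
    exact absurd this (Finset.notMem_empty z)
  have hRge : ∀ b ∈ B, n + 2 ≤ (R b).card := fun b hb => card_ge (R b) (hRne b hb) n (hRCB b)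
  have hRle : ∀ b ∈ B, (R b).card + 1 ≤ B.card := by
    intro b hb
    have := Finset.card_le_card (hRsub b)
    rw [Finset.card_erase_of_mem hb] at this
    have hpos : 0 < B.card := Finset.card_pos.mpr ⟨b, hb⟩
    omega
  have hRcol : ∀ b ∈ B, Collinear (R b) := fun b hb =>
    collinear_of_CB n (R b) (hRne b hb) (hRCB b) (by have := hRle b hb; omega)
  -- symmetry
  have hsame : ∀ b ∈ B, ∀ z ∈ B, z ∉ R b → W z = W b := by
    intro b hb z hz hzR
    have hzW : z.submodule ≤ W b := by
      by_contra h
      exact hzR ((memR b z).mpr ⟨((memB z).mp hz).1, h⟩)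
    exact sup_point_eq L' hL' b z ((memB b).mp hb).2 ((memB z).mp hz).2 hzW
  have hsymm : ∀ b ∈ B, ∀ z ∈ B, z ∈ R b → b ∈ R z := by
    intro b hb z hz hzR
    by_contra hbR
    have h1 := hsame z hz b hb hbR
    have : z.submodule ≤ W b := by rw [h1]; exact le_sup_right
    exact ((memR b z).mp hzR).2 this
  have key : ∀ b ∈ B, ∀ b' ∈ B, b' ∈ R b → ∀ z ∈ B, z ∈ R b ∨ z ∈ R b' := by
    intro b hb b' hb' hb'R z hz
    by_contra hcon
    push Not at hcon
    have h1 := hsame b hb z hz hcon.1
    have h2 := hsame b' hb' z hz hcon.2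
    have : b'.submodule ≤ W b := by rw [← h1, h2]; exact le_sup_right
    exact ((memR b b').mp hb'R).2 this
  -- B nonempty
  have hBne : B.Nonempty := by
    by_contra hemp
    rw [Finset.not_nonempty_iff_eq_empty] at hemp
    apply hnc
    obtain ⟨Wp, hWp, hle⟩ := exists_plane_ge L' (by omega)
    refine ⟨Wp, hWp, fun z hz => ?_⟩
    by_contra hzW
    have : z ∈ B := (memB z).mpr ⟨hz, fun h => hzW (h.trans hle)⟩
    rw [hemp] at this
    exact absurd this (Finset.notMem_empty z)
  obtain ⟨b1, hb1⟩ := hBne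
  obtain ⟨M1, hM1, hM1R⟩ := hRcol b1 hb1
  obtain ⟨b2, hb2R⟩ := hRne b1 hb1
  have hb2 : b2 ∈ B := Finset.mem_of_mem_erase (hRsub b1 hb2R)
  have hb12 : b2 ≠ b1 := Finset.ne_of_mem_erase (hRsub b1 hb2R)
  obtain ⟨M2, hM2, hM2R⟩ := hRcol b2 hb2
  have hb1R2 : b1 ∈ R b2 := hsymm b1 hb1 b2 hb2 hb2R
  -- b3
  have hex3 : ∃ b3, b3 ∈ R b1 ∧ b3 ∈ R b2 := by
    by_contra hcon
    push Not at hcon
    have hdisj : Disjoint (R b1) (R b2) := by
      rw [Finset.disjoint_left]
      exact hcon
    have hsub : R b1 ∪ R b2 ⊆ B := by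
      intro z hz
      rcases Finset.mem_union.mp hz with h | h
      · exact Finset.mem_of_mem_erase (hRsub b1 h)
      · exact Finset.mem_of_mem_erase (hRsub b2 h)
    have hc := Finset.card_le_card hsub
    rw [Finset.card_union_of_disjoint hdisj] at hc
    have h1 := hRge b1 hb1
    have h2 := hRge b2 hb2
    omega
  obtain ⟨b3, hb3R1, hb3R2⟩ := hex3
  have hb3 : b3 ∈ B := Finset.mem_of_mem_erase (hRsub b1 hb3R1)
  have hb31 : b3 ≠ b1 := Finset.ne_of_mem_erase (hRsub b1 hb3R1)
  have hb32 : b3 ≠ b2 := Finset.ne_of_mem_erase (hRsub b2 hb3R2)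
  obtain ⟨M3, hM3, hM3R⟩ := hRcol b3 hb3
  have hb1R3 : b1 ∈ R b3 := hsymm b1 hb1 b3 hb3 hb3R1
  have hb2R3 : b2 ∈ R b3 := hsymm b2 hb2 b3 hb3 hb3R2
  have two : ∀ z ∈ B, (z ∈ R b1 ∧ z ∈ R b2) ∨ (z ∈ R b1 ∧ z ∈ R b3) ∨ (z ∈ R b2 ∧ z ∈ R b3) := by
    intro z hz
    have k12 := key b1 hb1 b2 hb2 hb2R z hz
    have k13 := key b1 hb1 b3 hb3 hb3R1 z hz
    have k23 := key b2 hb2 b3 hb3 hb3R2 z hz
    tauto
  have hBM1 : ∀ z ∈ B, z.submodule ≤ M1 := by
    by_cases h1 : b1.submodule ≤ M1
    · have e2 : M2 = M1 := line_unique b1 b3 hb31.symm M2 M1 hM2 hM1 (hM2R b1 hb1R2)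
        (hM2R b3 hb3R2) h1 (hM1R b3 hb3R1)
      have e3 : M3 = M1 := line_unique b1 b2 hb12.symm M3 M1 hM3 hM1 (hM3R b1 hb1R3)
        (hM3R b2 hb2R3) h1 (hM1R b2 hb2R)
      intro z hz
      rcases two z hz with h | h | h
      · exact hM1R z h.1
      · exact hM1R z h.1
      · rw [← e2]; exact hM2R z h.1
    · exfalso
      have hsub : B ⊆ {b1, b2, b3} := by
        intro z hz
        rw [Finset.mem_insert, Finset.mem_insert, Finset.mem_singleton]
        rcases two z hz with h | h | h
        · right; right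
          by_contra hne
          have e := line_unique z b3 hne M1 M2 hM1 hM2 (hM1R z h.1) (hM1R b3 hb3R1)
            (hM2R z h.2) (hM2R b3 hb3R2)
          exact h1 (e ▸ hM2R b1 hb1R2)
        · right; left
          by_contra hne
          have e := line_unique z b2 hne M1 M3 hM1 hM3 (hM1R z h.1) (hM1R b2 hb2R)
            (hM3R z h.2) (hM3R b2 hb2R3)
          exact h1 (e ▸ hM3R b1 hb1R3)
        · left
          by_contra hne
          have e := line_unique z b1 hne M2 M3 hM2 hM3 (hM2R z h.1) (hM2R b1 hb1R2)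
            (hM3R z h.2) (hM3R b1 hb1R3)
          have e' := line_unique b2 b3 hb32.symm M2 M1 hM2 hM1 (e ▸ hM3R b2 hb2R3)
            (hM2R b3 hb3R2) (hM1R b2 hb2R) (hM1R b3 hb3R1)
          exact h1 (e' ▸ hM2R b1 hb1R2)
      have hc := Finset.card_le_card hsub
      have h3 : ({b1, b2, b3} : Finset (Projectivization k (Fin 4 → k))).card ≤ 3 :=
        Finset.card_le_three
      have h4 := hRge b1 hb1
      have h5 := hRle b1 hb1
      omega
  -- skew
  have hskew : L' ⊓ M1 = ⊥ := by
    by_contra hne
    obtain ⟨Wp, hWp, hle1, hle2⟩ := exists_plane_of_inf_ne_bot L' M1 hL' hM1 hne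
    apply hnc
    refine ⟨Wp, hWp, fun z hz => ?_⟩
    by_cases hzL : z.submodule ≤ L'
    · exact hzL.trans hle1
    · exact (hBM1 z ((memB z).mpr ⟨hz, hzL⟩)).trans hle2
  have hBge : n + 3 ≤ B.card := by
    have h4 := hRge b1 hb1
    have h5 := hRle b1 hb1
    omega
  refine ⟨L', M1, hL', hM1, hskew, ?_, ?_, ?_, ?_⟩
  · intro z hz
    by_cases hzL : z.submodule ≤ L'
    · exact Or.inl hzL
    · exact Or.inr (hBM1 z ((memB z).mpr ⟨hz, hzL⟩))
  · rw [ncard_eq]
    exact hA
  · rw [ncard_eq]
    have hsub : B ⊆ Z.filter (fun z => z.submodule ≤ M1) := by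
      intro z hz
      exact Finset.mem_filter.mpr ⟨((memB z).mp hz).1, hBM1 z hz⟩
    have := Finset.card_le_card hsub
    omega
  · omega

theorem point_not_le_bot (w : Projectivization k (Fin 4 → k)) : ¬ w.submodule ≤ ⊥ := by
  intro h
  have h1 : w.submodule = ⊥ := le_bot_iff.mp h
  have h2 := finrank_point w
  rw [h1, finrank_bot] at h2
  omega

open Classical in
theorem exists_max_plane (Z : Finset (Projectivization k (Fin 4 → k))) :
    ∃ H : Submodule k (Fin 4 → k), Module.finrank k ↥H = 3 ∧
      ∀ W : Submodule k (Fin 4 → k), Module.finrank k ↥W = 3 →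
        (Z.filter (fun z => z.submodule ≤ W)).card ≤ (Z.filter (fun z => z.submodule ≤ H)).card := by
  let P : ℕ → Prop := fun m => ∃ W : Submodule k (Fin 4 → k), Module.finrank k ↥W = 3 ∧
    (Z.filter (fun z => z.submodule ≤ W)).card = m
  obtain ⟨W0, hW0, -⟩ := exists_plane_ge (⊥ : Submodule k (Fin 4 → k)) (by simp)
  have hP0 : P (Z.filter (fun z => z.submodule ≤ W0)).card := ⟨W0, hW0, rfl⟩
  have hspec : P (Nat.findGreatest P Z.card) :=
    Nat.findGreatest_spec (Finset.card_filter_le _ _) hP0
  obtain ⟨H, hH, hHc⟩ := hspec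
  refine ⟨H, hH, fun W hW => ?_⟩
  rw [hHc]
  exact Nat.le_findGreatest (Finset.card_filter_le _ _) ⟨W, hW, rfl⟩

theorem main : ∀ n : ℕ, 1 ≤ n → ∀ Z : Finset (Projectivization k (Fin 4 → k)),
    CB Z n → Z.card ≤ 3 * n + 1 → Coplanar Z ∨ TwoLines Z n := by
  classical
  intro n hn
  induction n, hn using Nat.le_induction with
  | base =>
    intro Z hCB hcard
    left
    by_cases hZ : Z.Nonempty
    · have h3 := card_ge Z hZ 1 hCB
      obtain ⟨a, ha, b, hb, c, hc, hab, hac, hbc⟩ := Finset.two_lt_card.mp (by omega : 2 < Z.card)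
      obtain ⟨H, hH, haH, hbH, hcH⟩ := exists_plane_three a b c
      refine ⟨H, hH, ?_⟩
      by_contra hcon
      push Not at hcon
      obtain ⟨z0, hz0, hz0H⟩ := hcon
      set Z' := Z.filter (fun z => ¬ z.submodule ≤ H) with hZ'
      have hZ'ne : Z'.Nonempty := ⟨z0, Finset.mem_filter.mpr ⟨hz0, hz0H⟩⟩
      have hCB' : CB Z' 0 := CB_residual Z 0 hCB H
      have h2 := card_ge Z' hZ'ne 0 hCB'
      have hsplit : (Z.filter (fun z => z.submodule ≤ H)).card + Z'.card = Z.card :=
        Finset.card_filter_add_card_filter_not (s := Z) (fun z => z.submodule ≤ H)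
      have hsub : ({a, b, c} : Finset _) ⊆ Z.filter (fun z => z.submodule ≤ H) := by
        intro y hy
        rw [Finset.mem_insert, Finset.mem_insert, Finset.mem_singleton] at hy
        rcases hy with rfl | rfl | rfl
        · exact Finset.mem_filter.mpr ⟨ha, haH⟩
        · exact Finset.mem_filter.mpr ⟨hb, hbH⟩
        · exact Finset.mem_filter.mpr ⟨hc, hcH⟩
      have hc3 := Finset.card_le_card hsub
      rw [Finset.card_eq_three.mpr ⟨a, b, c, hab, hac, hbc, rfl⟩] at hc3
      omega
    · rw [Finset.not_nonempty_iff_eq_empty] at hZ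
      obtain ⟨W0, hW0, -⟩ := exists_plane_ge (⊥ : Submodule k (Fin 4 → k)) (by simp)
      exact ⟨W0, hW0, fun z hz => by rw [hZ] at hz; exact absurd hz (Finset.notMem_empty z)⟩
  | succ n hn ih =>
    intro Z hCB hcard
    by_cases hcop : Coplanar Z
    · exact Or.inl hcop
    right
    have hZne : Z.Nonempty := by
      by_contra hemp
      rw [Finset.not_nonempty_iff_eq_empty] at hemp
      apply hcop
      obtain ⟨W0, hW0, -⟩ := exists_plane_ge (⊥ : Submodule k (Fin 4 → k)) (by simp)
      exact ⟨W0, hW0, fun z hz => by rw [hemp] at hz; exact absurd hz (Finset.notMem_empty z)⟩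
    have hZge := card_ge Z hZne (n + 1) hCB
    obtain ⟨H, hH, hmax⟩ := exists_max_plane Z
    set h := (Z.filter (fun z => z.submodule ≤ H)).card with hh
    have hh3 : 3 ≤ h := by
      obtain ⟨a, ha, b, hb, c, hc, hab, hac, hbc⟩ := Finset.two_lt_card.mp (by omega : 2 < Z.card)
      obtain ⟨W, hW, haW, hbW, hcW⟩ := exists_plane_three a b c
      have hsub : ({a, b, c} : Finset _) ⊆ Z.filter (fun z => z.submodule ≤ W) := by
        intro y hy
        rw [Finset.mem_insert, Finset.mem_insert, Finset.mem_singleton] at hy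
        rcases hy with rfl | rfl | rfl
        · exact Finset.mem_filter.mpr ⟨ha, haW⟩
        · exact Finset.mem_filter.mpr ⟨hb, hbW⟩
        · exact Finset.mem_filter.mpr ⟨hc, hcW⟩
      have hc3 := Finset.card_le_card hsub
      rw [Finset.card_eq_three.mpr ⟨a, b, c, hab, hac, hbc, rfl⟩] at hc3
      exact hc3.trans (hmax W hW)
    set Z' := Z.filter (fun z => ¬ z.submodule ≤ H) with hZ'
    have memZ' : ∀ z, z ∈ Z' ↔ z ∈ Z ∧ ¬ z.submodule ≤ H := fun z => Finset.mem_filter
    have hZ'ne : Z'.Nonempty := by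
      by_contra hemp
      rw [Finset.not_nonempty_iff_eq_empty] at hemp
      apply hcop
      refine ⟨H, hH, fun z hz => ?_⟩
      by_contra hzH
      have : z ∈ Z' := (memZ' z).mpr ⟨hz, hzH⟩
      rw [hemp] at this
      exact absurd this (Finset.notMem_empty z)
    have hCB' : CB Z' n := CB_residual Z n hCB H
    have hZ'ge := card_ge Z' hZ'ne n hCB'
    have hsplit : h + Z'.card = Z.card :=
      Finset.card_filter_add_card_filter_not (s := Z) (fun z => z.submodule ≤ H)
    by_cases hA : Z'.card ≤ 2 * n + 1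
    · -- case A
      obtain ⟨L', hL', hL'Z⟩ := collinear_of_CB n Z' hZ'ne hCB' hA
      have hsub : Z' ⊆ Z.filter (fun z => z.submodule ≤ L') := by
        intro z hz
        exact Finset.mem_filter.mpr ⟨((memZ' z).mp hz).1, hL'Z z hz⟩
      have hcA := Finset.card_le_card hsub
      exact caseA (n + 1) (by omega) Z hCB hcard hcop L' hL' (by omega)
    · -- case B
      exfalso
      push Not at hA
      have hhle : h ≤ n + 2 := by omega
      rcases ih Z' hCB' (by omega) with hc' | ht'
      · obtain ⟨H2, hH2, hH2Z⟩ := hc'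
        have hsub : Z' ⊆ Z.filter (fun z => z.submodule ≤ H2) := by
          intro z hz
          exact Finset.mem_filter.mpr ⟨((memZ' z).mp hz).1, hH2Z z hz⟩
        have hc2 := Finset.card_le_card hsub
        have := hmax H2 hH2
        omega
      · obtain ⟨L1, L2, hL1, hL2, hskew, hcov, hc1, hc2, -⟩ := ht'
        rw [ncard_eq] at hc1 hc2
        -- a point w of Z' on L2
        have hne2 : (Z'.filter (fun z => z.submodule ≤ L2)).Nonempty := by
          rw [← Finset.card_pos]; omega
        obtain ⟨w, hw⟩ := hne2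
        obtain ⟨hwZ', hwL2⟩ := Finset.mem_filter.mp hw
        have hwL1 : ¬ w.submodule ≤ L1 := by
          intro hwL1
          have : w.submodule ≤ L1 ⊓ L2 := le_inf hwL1 hwL2
          rw [hskew] at this
          exact point_not_le_bot w this
        obtain ⟨P0, hP0, hL1P0, hwP0⟩ := exists_plane_line_point L1 hL1 w
        have hcP0 : n + 2 ≤ (Z.filter (fun z => z.submodule ≤ P0)).card := by
          have hsub : insert w (Z'.filter (fun z => z.submodule ≤ L1)) ⊆
              Z.filter (fun z => z.submodule ≤ P0) := by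
            intro y hy
            rcases Finset.mem_insert.mp hy with rfl | hy
            · exact Finset.mem_filter.mpr ⟨((memZ' y).mp hwZ').1, hwP0⟩
            · obtain ⟨hy1, hy2⟩ := Finset.mem_filter.mp hy
              exact Finset.mem_filter.mpr ⟨((memZ' y).mp hy1).1, hy2.trans hL1P0⟩
          have hnot : w ∉ Z'.filter (fun z => z.submodule ≤ L1) := fun hmem =>
            hwL1 (Finset.mem_filter.mp hmem).2
          have := Finset.card_le_card hsub
          rw [Finset.card_insert_of_notMem hnot] at this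
          omega
        have hhge : n + 2 ≤ h := hcP0.trans (hmax P0 hP0)
        have hheq : h = n + 2 := by omega
        -- two distinct points of Z on H
        obtain ⟨a, ha, b, hb, hab⟩ := Finset.one_lt_card.mp (by omega :
          1 < (Z.filter (fun z => z.submodule ≤ H)).card)
        obtain ⟨haZ, haH⟩ := Finset.mem_filter.mp ha
        obtain ⟨hbZ, hbH⟩ := Finset.mem_filter.mp hb
        obtain ⟨P1, hP1, hL1P1, haP1⟩ := exists_plane_line_point L1 hL1 a
        obtain ⟨P2, hP2, hL2P2, hbP2⟩ := exists_plane_line_point L2 hL2 b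
        obtain ⟨m, rfl⟩ : ∃ m, n = m + 1 := ⟨n - 1, by omega⟩
        set Z1 := Z.filter (fun z => ¬ z.submodule ≤ P1) with hZ1
        set R := Z1.filter (fun z => ¬ z.submodule ≤ P2) with hR
        have hCB1 : CB Z1 (m + 1) := CB_residual Z (m + 1) hCB P1
        have hCBR : CB R m := CB_residual Z1 m hCB1 P2
        have memR : ∀ z, z ∈ R ↔ z ∈ Z ∧ ¬ z.submodule ≤ P1 ∧ ¬ z.submodule ≤ P2 := by
          intro z
          rw [hR, Finset.mem_filter, hZ1, Finset.mem_filter]
          tauto
        -- lower bound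
        have hlow : Z.card ≤ R.card + (Z.filter (fun z => z.submodule ≤ P1)).card +
            (Z.filter (fun z => z.submodule ≤ P2)).card := by
          have hsub : Z ⊆ (R ∪ Z.filter (fun z => z.submodule ≤ P1)) ∪
              Z.filter (fun z => z.submodule ≤ P2) := by
            intro z hz
            by_cases h1 : z.submodule ≤ P1
            · exact Finset.mem_union_left _ (Finset.mem_union_right _
                (Finset.mem_filter.mpr ⟨hz, h1⟩))
            · by_cases h2 : z.submodule ≤ P2
              · exact Finset.mem_union_right _ (Finset.mem_filter.mpr ⟨hz, h2⟩)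
              · exact Finset.mem_union_left _ (Finset.mem_union_left _
                  ((memR z).mpr ⟨hz, h1, h2⟩))
          have h1 := Finset.card_le_card hsub
          have h2 := Finset.card_union_le (R ∪ Z.filter (fun z => z.submodule ≤ P1))
            (Z.filter (fun z => z.submodule ≤ P2))
          have h3 := Finset.card_union_le R (Z.filter (fun z => z.submodule ≤ P1))
          omega
        have hm1 := hmax P1 hP1
        have hm2 := hmax P2 hP2
        -- upper bound
        have haZ' : a ∉ Z' := fun hmem => ((memZ' a).mp hmem).2 haH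
        have hbZ' : b ∉ Z' := fun hmem => ((memZ' b).mp hmem).2 hbH
        set T := insert a (insert b Z') with hT
        have hTcard : T.card = Z'.card + 2 := by
          rw [hT, Finset.card_insert_of_notMem, Finset.card_insert_of_notMem hbZ']
          rw [Finset.mem_insert]
          push Not
          exact ⟨hab, haZ'⟩
        have hdisj : Disjoint R T := by
          rw [Finset.disjoint_left]
          intro z hzR hzT
          obtain ⟨-, hz1, hz2⟩ := (memR z).mp hzR
          rw [hT, Finset.mem_insert, Finset.mem_insert] at hzT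
          rcases hzT with rfl | rfl | hzZ'
          · exact hz1 haP1
          · exact hz2 hbP2
          · rcases hcov z hzZ' with h1 | h2
            · exact hz1 (h1.trans hL1P1)
            · exact hz2 (h2.trans hL2P2)
        have hsubRT : R ∪ T ⊆ Z := by
          intro z hz
          rcases Finset.mem_union.mp hz with hzR | hzT
          · exact ((memR z).mp hzR).1
          · rw [hT, Finset.mem_insert, Finset.mem_insert] at hzT
            rcases hzT with rfl | rfl | hzZ'
            · exact haZ
            · exact hbZ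
            · exact ((memZ' z).mp hzZ').1
        have hup := Finset.card_le_card hsubRT
        rw [Finset.card_union_of_disjoint hdisj, hTcard] at hup
        have hRne : R.Nonempty := by
          rw [← Finset.card_pos]; omega
        have hRge := card_ge R hRne m hCBR
        omega

end Helper71.CBP3
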