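import Mathlib
import Groth.Prelude.Def_QuadGrp

set_option autoImplicit false
universe u

namespace Helper71.Cl3

open CliffordAlgebra Matrix
open scoped Pointwise

variable (k : Type u) [Field k]

local notation "Q3" => QuadGrp.splitForm k 3
local notation "Cl" => CliffordAlgebra (QuadGrp.splitForm k 3)

theorem splitForm3_apply (v : Fin 3 → k) : Q3 v = v 1 * v 2 + v 0 * v 0 := by
  unfold QuadGrp.splitForm
  simp [QuadraticMap.linMulLin, QuadraticMap.sq]

/-- the linear map underlying the 2×2 representation -/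
def repLin : (Fin 3 → k) →ₗ[k] Matrix (Fin 2) (Fin 2) k where
  toFun v := !![v 0, v 1; v 2, -v 0]
  map_add' v w := by
    ext i j; fin_cases i <;> fin_cases j <;> simp [add_comm]
  map_smul' c v := by
    ext i j; fin_cases i <;> fin_cases j <;> simp

theorem repLin_sq (v : Fin 3 → k) :
    repLin k v * repLin k v = algebraMap k (Matrix (Fin 2) (Fin 2) k) (Q3 v) := by
  rw [splitForm3_apply]
  ext i j
  fin_cases i <;> fin_cases j <;>
    simp [repLin, Matrix.mul_apply, Fin.sum_univ_two, Matrix.algebraMap_matrix_apply] <;> ring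

/-- the 2×2 representation of the Clifford algebra -/
noncomputable def rep : Cl →ₐ[k] Matrix (Fin 2) (Fin 2) k :=
  CliffordAlgebra.lift Q3 ⟨repLin k, repLin_sq k⟩

theorem rep_ι (v : Fin 3 → k) : rep k (ι Q3 v) = !![v 0, v 1; v 2, -v 0] := by
  unfold rep
  rw [CliffordAlgebra.lift_ι_apply]
  rfl

/-- basis vectors -/
noncomputable def e0 : Cl := ι Q3 (Pi.single 0 1)
noncomputable def e1 : Cl := ι Q3 (Pi.single 1 1)
noncomputable def e2 : Cl := ι Q3 (Pi.single 2 1)

theorem ι_eq (v : Fin 3 → k) : ι Q3 v = v 0 • e0 k + v 1 • e1 k + v 2 • e2 k := by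
  unfold e0 e1 e2
  rw [← map_smul, ← map_smul, ← map_smul, ← map_add, ← map_add]
  congr 1
  ext i; fin_cases i <;> simp

theorem e0_sq : e0 k * e0 k = 1 := by
  unfold e0; rw [ι_sq_scalar, splitForm3_apply]; simp

theorem e1_sq : e1 k * e1 k = 0 := by
  unfold e1; rw [ι_sq_scalar, splitForm3_apply]; simp

theorem e2_sq : e2 k * e2 k = 0 := by
  unfold e2; rw [ι_sq_scalar, splitForm3_apply]; simp

theorem polar3 (v w : Fin 3 → k) :
    QuadraticMap.polar Q3 v w = v 1 * w 2 + w 1 * v 2 + 2 * v 0 * w 0 := by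
  unfold QuadraticMap.polar
  rw [splitForm3_apply, splitForm3_apply, splitForm3_apply]
  simp only [Pi.add_apply]
  ring

theorem e10 : e1 k * e0 k = - (e0 k * e1 k) := by
  have h := ι_mul_ι_add_swap (Q := Q3) (Pi.single 1 1) (Pi.single 0 1)
  rw [polar3] at h
  simp at h
  exact eq_neg_of_add_eq_zero_left h

theorem e20 : e2 k * e0 k = - (e0 k * e2 k) := by
  have h := ι_mul_ι_add_swap (Q := Q3) (Pi.single 2 1) (Pi.single 0 1)
  rw [polar3] at h
  simp at h
  exact eq_neg_of_add_eq_zero_left h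

theorem e21 : e2 k * e1 k = 1 - e1 k * e2 k := by
  have h := ι_mul_ι_add_swap (Q := Q3) (Pi.single 2 1) (Pi.single 1 1)
  rw [polar3] at h
  simp at h
  exact eq_sub_of_add_eq h

--BEGIN2
theorem e0_sq' (x : Cl) : e0 k * (e0 k * x) = x := by rw [← mul_assoc, e0_sq, one_mul]
theorem e1_sq' (x : Cl) : e1 k * (e1 k * x) = 0 := by rw [← mul_assoc, e1_sq, zero_mul]
theorem e2_sq' (x : Cl) : e2 k * (e2 k * x) = 0 := by rw [← mul_assoc, e2_sq, zero_mul]
theorem e10' (x : Cl) : e1 k * (e0 k * x) = - (e0 k * (e1 k * x)) := by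
  rw [← mul_assoc, e10, neg_mul, mul_assoc]
theorem e20' (x : Cl) : e2 k * (e0 k * x) = - (e0 k * (e2 k * x)) := by
  rw [← mul_assoc, e20, neg_mul, mul_assoc]
theorem e21' (x : Cl) : e2 k * (e1 k * x) = x - e1 k * (e2 k * x) := by
  rw [← mul_assoc, e21, sub_mul, one_mul, mul_assoc]

/-- even span -/
noncomputable def W0 : Submodule k Cl :=
  Submodule.span k {1, e0 k * e1 k, e0 k * e2 k, e1 k * e2 k}

/-- odd span -/
noncomputable def W1 : Submodule k Cl :=
  Submodule.span k {e0 k, e1 k, e2 k, e0 k * (e1 k * e2 k)}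

theorem one_mem_W0 : (1 : Cl) ∈ W0 k := Submodule.subset_span (by simp)
theorem e01_mem_W0 : e0 k * e1 k ∈ W0 k := Submodule.subset_span (by simp)
theorem e02_mem_W0 : e0 k * e2 k ∈ W0 k := Submodule.subset_span (by simp)
theorem e12_mem_W0 : e1 k * e2 k ∈ W0 k := Submodule.subset_span (by simp)
theorem e0_mem_W1 : e0 k ∈ W1 k := Submodule.subset_span (by simp)
theorem e1_mem_W1 : e1 k ∈ W1 k := Submodule.subset_span (by simp)
theorem e2_mem_W1 : e2 k ∈ W1 k := Submodule.subset_span (by simp)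
theorem e012_mem_W1 : e0 k * (e1 k * e2 k) ∈ W1 k := Submodule.subset_span (by simp)

macro "cl_norm" : tactic => `(tactic|
  simp only [mul_assoc, e0_sq, e1_sq, e2_sq, e10, e20, e21, e0_sq', e1_sq', e2_sq', e10', e20', e21',
    neg_mul, mul_neg, sub_mul, mul_sub, mul_one, one_mul, mul_zero, zero_mul, neg_neg, neg_zero,
    sub_zero, zero_sub])

macro "cl_mem" : tactic => `(tactic|
  repeat (first
    | with_reducible exact Submodule.zero_mem _
    | with_reducible exact one_mem_W0 _ | with_reducible exact e01_mem_W0 _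
    | with_reducible exact e02_mem_W0 _ | with_reducible exact e12_mem_W0 _
    | with_reducible exact e0_mem_W1 _ | with_reducible exact e1_mem_W1 _
    | with_reducible exact e2_mem_W1 _ | with_reducible exact e012_mem_W1 _
    | with_reducible apply Submodule.neg_mem
    | with_reducible apply Submodule.sub_mem
    | with_reducible apply Submodule.add_mem))

theorem gen_mul_W0 (g : Cl) (hg : g = e0 k ∨ g = e1 k ∨ g = e2 k) (x : Cl) (hx : x ∈ W0 k) :
    g * x ∈ W1 k := by
  unfold W0 at hx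
  refine Submodule.span_induction ?_ ?_ ?_ ?_ hx
  · intro y hy
    simp only [Set.mem_insert_iff, Set.mem_singleton_iff] at hy
    rcases hg with rfl | rfl | rfl <;> rcases hy with rfl | rfl | rfl | rfl <;> (try cl_norm) <;> cl_mem
  · rw [mul_zero]; exact Submodule.zero_mem _
  · intro a b _ _ ha hb; rw [mul_add]; exact Submodule.add_mem _ ha hb
  · intro c a _ ha; rw [mul_smul_comm]; exact Submodule.smul_mem _ c ha

theorem gen_mul_W1 (g : Cl) (hg : g = e0 k ∨ g = e1 k ∨ g = e2 k) (x : Cl) (hx : x ∈ W1 k) :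
    g * x ∈ W0 k := by
  unfold W1 at hx
  refine Submodule.span_induction ?_ ?_ ?_ ?_ hx
  · intro y hy
    simp only [Set.mem_insert_iff, Set.mem_singleton_iff] at hy
    rcases hg with rfl | rfl | rfl <;> rcases hy with rfl | rfl | rfl | rfl <;> (try cl_norm) <;> cl_mem
  · rw [mul_zero]; exact Submodule.zero_mem _
  · intro a b _ _ ha hb; rw [mul_add]; exact Submodule.add_mem _ ha hb
  · intro c a _ ha; rw [mul_smul_comm]; exact Submodule.smul_mem _ c ha
--END2

--BEGIN3
theorem ι_mul_W0 (v : Fin 3 → k) (x : Cl) (hx : x ∈ W0 k) : ι Q3 v * x ∈ W1 k := by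
  rw [ι_eq, add_mul, add_mul, smul_mul_assoc, smul_mul_assoc, smul_mul_assoc]
  exact Submodule.add_mem _ (Submodule.add_mem _
    (Submodule.smul_mem _ _ (gen_mul_W0 k _ (Or.inl rfl) x hx))
    (Submodule.smul_mem _ _ (gen_mul_W0 k _ (Or.inr (Or.inl rfl)) x hx)))
    (Submodule.smul_mem _ _ (gen_mul_W0 k _ (Or.inr (Or.inr rfl)) x hx))

theorem ι_mul_W1 (v : Fin 3 → k) (x : Cl) (hx : x ∈ W1 k) : ι Q3 v * x ∈ W0 k := by
  rw [ι_eq, add_mul, add_mul, smul_mul_assoc, smul_mul_assoc, smul_mul_assoc]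
  exact Submodule.add_mem _ (Submodule.add_mem _
    (Submodule.smul_mem _ _ (gen_mul_W1 k _ (Or.inl rfl) x hx))
    (Submodule.smul_mem _ _ (gen_mul_W1 k _ (Or.inr (Or.inl rfl)) x hx)))
    (Submodule.smul_mem _ _ (gen_mul_W1 k _ (Or.inr (Or.inr rfl)) x hx))

theorem ι_mem_W1 (v : Fin 3 → k) : ι Q3 v ∈ W1 k := by
  rw [ι_eq]
  exact Submodule.add_mem _ (Submodule.add_mem _
    (Submodule.smul_mem _ _ (e0_mem_W1 k)) (Submodule.smul_mem _ _ (e1_mem_W1 k)))
    (Submodule.smul_mem _ _ (e2_mem_W1 k))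

theorem even_le_W0 : evenOdd Q3 0 ≤ W0 k := by
  intro x hx
  refine CliffordAlgebra.even_induction (Q := Q3) (motive := fun x _ => x ∈ W0 k) ?_ ?_ ?_ x hx
  · intro r
    rw [Algebra.algebraMap_eq_smul_one]; exact Submodule.smul_mem _ _ (one_mem_W0 k)
  · intro x y _ _ ihx ihy; exact Submodule.add_mem _ ihx ihy
  · intro m₁ m₂ x _ ih
    rw [mul_assoc]; exact ι_mul_W1 k _ _ (ι_mul_W0 k _ _ ih)

theorem odd_le_W1 : evenOdd Q3 1 ≤ W1 k := by
  intro x hx
  refine CliffordAlgebra.odd_induction (Q := Q3) (P := fun x _ => x ∈ W1 k) ?_ ?_ ?_ x hx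
  · intro v; exact ι_mem_W1 k v
  · intro x y _ _ ihx ihy; exact Submodule.add_mem _ ihx ihy
  · intro m₁ m₂ x _ ih
    rw [mul_assoc]; exact ι_mul_W0 k _ _ (ι_mul_W1 k _ _ ih)

theorem W0_coords (x : Cl) (hx : x ∈ W0 k) : ∃ a b c d : k,
    x = a • 1 + b • (e0 k * e1 k) + c • (e0 k * e2 k) + d • (e1 k * e2 k) := by
  unfold W0 at hx
  rw [Submodule.mem_span_insert] at hx
  obtain ⟨a, y, hy, rfl⟩ := hx
  rw [Submodule.mem_span_insert] at hy
  obtain ⟨b, z, hz, rfl⟩ := hy
  rw [Submodule.mem_span_insert] at hz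
  obtain ⟨c, w, hw, rfl⟩ := hz
  rw [Submodule.mem_span_singleton] at hw
  obtain ⟨d, rfl⟩ := hw
  exact ⟨a, b, c, d, by abel⟩

theorem W1_coords (x : Cl) (hx : x ∈ W1 k) : ∃ a b c d : k,
    x = a • e0 k + b • e1 k + c • e2 k + d • (e0 k * (e1 k * e2 k)) := by
  unfold W1 at hx
  rw [Submodule.mem_span_insert] at hx
  obtain ⟨a, y, hy, rfl⟩ := hx
  rw [Submodule.mem_span_insert] at hy
  obtain ⟨b, z, hz, rfl⟩ := hy
  rw [Submodule.mem_span_insert] at hz
  obtain ⟨c, w, hw, rfl⟩ := hz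
  rw [Submodule.mem_span_singleton] at hw
  obtain ⟨d, rfl⟩ := hw
  exact ⟨a, b, c, d, by abel⟩

theorem rep_e0 : rep k (e0 k) = !![1, 0; 0, -1] := by
  unfold e0; rw [rep_ι]; simp
theorem rep_e1 : rep k (e1 k) = !![0, 1; 0, 0] := by
  unfold e1; rw [rep_ι]; simp
theorem rep_e2 : rep k (e2 k) = !![0, 0; 1, 0] := by
  unfold e2; rw [rep_ι]; simp

theorem rep_W0 (a b c d : k) :
    rep k (a • 1 + b • (e0 k * e1 k) + c • (e0 k * e2 k) + d • (e1 k * e2 k))
      = !![a + d, b; -c, a] := by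
  simp only [map_add, map_smul, map_mul, map_one, rep_e0, rep_e1, rep_e2]
  ext i j
  fin_cases i <;> fin_cases j <;> simp

theorem rep_W1 (a b c d : k) :
    rep k (a • e0 k + b • e1 k + c • e2 k + d • (e0 k * (e1 k * e2 k)))
      = !![a + d, b; c, -a] := by
  simp only [map_add, map_smul, map_mul, map_one, rep_e0, rep_e1, rep_e2]
  ext i j
  fin_cases i <;> fin_cases j <;> simp
--END3

--BEGIN4
theorem rep_inj_W0 (x y : Cl) (hx : x ∈ W0 k) (hy : y ∈ W0 k) (h : rep k x = rep k y) : x = y := by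
  obtain ⟨a, b, c, d, rfl⟩ := W0_coords k x hx
  obtain ⟨a', b', c', d', rfl⟩ := W0_coords k y hy
  rw [rep_W0, rep_W0] at h
  have h00 := congrFun (congrFun h 0) 0
  have h01 := congrFun (congrFun h 0) 1
  have h10 := congrFun (congrFun h 1) 0
  have h11 := congrFun (congrFun h 1) 1
  simp at h00 h01 h10 h11
  subst h11 h01 h10
  have : d = d' := by linear_combination h00
  subst this
  rfl

theorem rev_e0 : reverse (e0 k) = e0 k := by unfold e0; exact reverse_ι _
theorem rev_e1 : reverse (e1 k) = e1 k := by unfold e1; exact reverse_ι _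
theorem rev_e2 : reverse (e2 k) = e2 k := by unfold e2; exact reverse_ι _

theorem rev_W0 (a b c d : k) :
    reverse (a • 1 + b • (e0 k * e1 k) + c • (e0 k * e2 k) + d • (e1 k * e2 k))
      = (a + d) • (1 : Cl) + (-b) • (e0 k * e1 k) + (-c) • (e0 k * e2 k)
        + (-d) • (e1 k * e2 k) := by
  simp only [map_add, map_smul, reverse.map_mul, reverse.map_one, rev_e0, rev_e1, rev_e2,
    e10, e20, e21]
  simp only [smul_neg, smul_sub, add_smul, neg_smul]
  abel

theorem even_mul_reverse (y : Cl) (hy : y ∈ evenOdd Q3 0) :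
    y * reverse y = algebraMap k Cl (Matrix.det (rep k y)) := by
  have hr : reverse y ∈ evenOdd Q3 0 := (CliffordAlgebra.reverse_mem_evenOdd_iff (Q := Q3)).2 hy
  have hm : y * reverse y ∈ evenOdd Q3 0 := by
    have := SetLike.mul_mem_graded hy hr
    rwa [zero_add] at this
  apply rep_inj_W0 k _ _ (even_le_W0 k hm)
  · rw [Algebra.algebraMap_eq_smul_one]; exact Submodule.smul_mem _ _ (one_mem_W0 k)
  · obtain ⟨a, b, c, d, rfl⟩ := W0_coords k y (even_le_W0 k hy)
    rw [map_mul, rev_W0, rep_W0, rep_W0, AlgHom.commutes]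
    ext i j
    fin_cases i <;> fin_cases j <;>
      simp [Matrix.mul_apply, Fin.sum_univ_two, Matrix.det_fin_two, Matrix.algebraMap_matrix_apply] <;>
      ring

theorem odd_rev_fixed (w : Cl) (hw : w ∈ evenOdd Q3 1) (hr : reverse w = w) :
    w ∈ LinearMap.range (ι Q3) := by
  obtain ⟨a, b, c, d, rfl⟩ := W1_coords k w (odd_le_W1 k hw)
  have h := congrArg (rep k) hr
  simp only [map_add, map_smul, reverse.map_mul, rev_e0, rev_e1, rev_e2, map_mul,
    rep_e0, rep_e1, rep_e2] at h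
  have h00 := congrFun (congrFun h 0) 0
  simp at h00
  subst h00
  refine ⟨![a, b, c], ?_⟩
  rw [ι_eq]
  simp
--END4

--BEGIN5
theorem conj_mem (u : Clˣ) (hu : (u : Cl) ∈ evenOdd Q3 0) (m : Fin 3 → k) :
    (u : Cl) * ι Q3 m * ((u⁻¹ : Clˣ) : Cl) ∈ LinearMap.range (ι Q3) := by
  set y : Cl := (u : Cl) with hy
  set N : k := Matrix.det (rep k y) with hN
  have hyr : y * reverse y = algebraMap k Cl N := even_mul_reverse k y hu
  have hN0 : N ≠ 0 := by
    have h1 : IsUnit (rep k y) := (u.isUnit).map (rep k)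
    have h2 := (Matrix.isUnit_iff_isUnit_det _).mp h1
    exact h2.ne_zero
  have hinv : ((u⁻¹ : Clˣ) : Cl) = N⁻¹ • reverse y := by
    apply Units.inv_eq_of_mul_eq_one_right
    rw [mul_smul_comm, ← hy, hyr, Algebra.algebraMap_eq_smul_one, smul_smul, inv_mul_cancel₀ hN0,
      one_smul]
  rw [hinv, mul_smul_comm]
  refine Submodule.smul_mem _ _ ?_
  have hr : reverse y ∈ evenOdd Q3 0 := (CliffordAlgebra.reverse_mem_evenOdd_iff (Q := Q3)).2 hu
  apply odd_rev_fixed
  · have h1 := SetLike.mul_mem_graded hu (ι_mem_evenOdd_one Q3 m)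
    have h2 := SetLike.mul_mem_graded h1 hr
    simpa using h2
  · rw [reverse.map_mul, reverse.map_mul, reverse_reverse, reverse_ι, mul_assoc]

theorem conj_le (u : Clˣ) (hu : (u : Cl) ∈ evenOdd Q3 0) :
    ConjAct.toConjAct u • LinearMap.range (ι Q3) ≤ LinearMap.range (ι Q3) := by
  rw [Submodule.pointwise_smul_def, Submodule.map_le_iff_le_comap]
  rintro _ ⟨m, rfl⟩
  change ConjAct.toConjAct u • ι Q3 m ∈ LinearMap.range (ι Q3)
  rw [ConjAct.units_smul_def, ConjAct.ofConjAct_toConjAct]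
  exact conj_mem k u hu m

theorem main : QuadGrp.evenUnits Q3 ≤ QuadGrp.GPin' Q3 := by
  intro u hu
  rw [QuadGrp.mem_GPin']
  apply le_antisymm
  · exact conj_le k u ((QuadGrp.mem_evenUnits _ _).mp hu)
  · have hu' : u⁻¹ ∈ QuadGrp.evenUnits Q3 := inv_mem hu
    have := smul_mono_right (ConjAct.toConjAct u)
      (conj_le k u⁻¹ ((QuadGrp.mem_evenUnits _ _).mp hu'))
    refine Eq.trans_le ?_ this
    simp only [map_inv, smul_inv_smul]
--END5

end Helper71.Cl3
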