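import Mathlib

/-!
# Homomorphisms out of the relation module of a fractional ideal (helper71 seat library)

Abstract setting for monomial curve rings: `A ⊆ PS` a subalgebra with `τ • PS ⊆ A` for a regular
element `τ`, `M ⊆ PS` an `A`-module generated by `1` and elements `u s`, all of whose relations have
coefficients in `τ • PS`.  We describe `Hom_A(K, M)` for the relation module `K`.
-/

set_option autoImplicit false
set_option linter.unusedSectionVars false
set_option linter.style.haveILetI false
universe u

open scoped BigOperators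

namespace Helper71.Conductor

section

variable {k : Type u} [CommRing k] {PS : Type u} [CommRing PS] [Algebra k PS] (A : Subalgebra k PS)
  (τ : PS) {S : Type} [Fintype S] [DecidableEq S] (u : S → PS)
  {M : Type u} [AddCommGroup M] [Module ↥A M] (j : M →ₗ[↥A] PS) (m : Option S → M)

/-- The data of the situation: `τ` is regular, `τ • PS ⊆ A`, `M` embeds in `PS` with generators `1`
and `u s`, and all relations among the generators have coefficients in `τ • PS`. -/
structure Data : Prop where
  reg : ∀ x y : PS, τ * x = τ * y → x = y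
  mem : ∀ g : PS, τ * g ∈ A
  inj : Function.Injective j
  m0 : j (m none) = 1
  ms : ∀ s, j (m (some s)) = u s
  span : ∀ x : M, ∃ a : Option S → ↥A, ∑ l, a l • m l = x
  rel : ∀ a : Option S → ↥A, ∑ l, a l • m l = 0 → ∀ l, ∃ b : PS, (a l : PS) = τ * b

/-- The free cover. -/
noncomputable def cover : (Option S → ↥A) →ₗ[↥A] M := Fintype.linearCombination ↥A m

theorem cover_apply (a : Option S → ↥A) : cover A m a = ∑ l, a l • m l := by
  simp [cover, Fintype.linearCombination_apply]

variable {A τ u j m}

theorem Data.cover_surjective (D : Data A τ u j m) : Function.Surjective (cover A m) := by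
  intro x
  obtain ⟨a, ha⟩ := D.span x
  exact ⟨a, by rw [cover_apply, ha]⟩

theorem j_smul (a : ↥A) (x : M) : j (a • x) = (a : PS) * j x := by
  rw [map_smul]
  rfl

theorem j_cover (a : Option S → ↥A) (D : Data A τ u j m) :
    j (cover A m a) = (a none : PS) + ∑ s, (a (some s) : PS) * u s := by
  rw [cover_apply, map_sum, Fintype.sum_option, j_smul, D.m0, mul_one]
  congr 1
  exact Finset.sum_congr rfl fun s _ => by rw [j_smul, D.ms]

/-- The element `τ g` of `A`. -/
def tg (D : Data A τ u j m) (g : PS) : ↥A := ⟨τ * g, D.mem g⟩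

/-- The basic relations `κ_s(b)`: coordinate `s` equal to `τ b`, coordinate `0` equal to
`-τ u_s b`. -/
noncomputable def kap (D : Data A τ u j m) (s : S) (b : PS) : Option S → ↥A :=
  fun l => if l = some s then tg D b else if l = none then - tg D (u s * b) else 0

theorem kap_some (D : Data A τ u j m) (s s' : S) (b : PS) :
    (kap D s b (some s') : PS) = if s' = s then τ * b else 0 := by
  unfold kap
  by_cases h : s' = s
  · subst h; simp [tg]
  · have : (some s' : Option S) ≠ some s := fun h' => h (Option.some.inj h')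
    simp [this, h]

theorem kap_none (D : Data A τ u j m) (s : S) (b : PS) :
    (kap D s b none : PS) = - (τ * (u s * b)) := by
  unfold kap
  simp [tg]

theorem kap_mem (D : Data A τ u j m) (s : S) (b : PS) : cover A m (kap D s b) = 0 := by
  apply D.inj
  rw [j_cover _ D, map_zero, kap_none, Finset.sum_eq_single s]
  · rw [kap_some, if_pos rfl]; ring
  · intro s' _ hs'
    rw [kap_some, if_neg hs', zero_mul]
  · intro h; exact absurd (Finset.mem_univ s) h

end

section

variable {k : Type u} [CommRing k] {PS : Type u} [CommRing PS] [Algebra k PS] (A : Subalgebra k PS)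
  {S : Type} [Fintype S] [DecidableEq S]
  {M : Type u} [AddCommGroup M] [Module ↥A M] (m : Option S → M)

/-- The relation module. -/
noncomputable abbrev Rel : Submodule ↥A (Option S → ↥A) :=
  LinearMap.ker (cover A m)

end

section

variable {k : Type u} [CommRing k] {PS : Type u} [CommRing PS] [Algebra k PS] {A : Subalgebra k PS}
  {τ : PS} {S : Type} [Fintype S] [DecidableEq S] {u : S → PS}
  {M : Type u} [AddCommGroup M] [Module ↥A M] {j : M →ₗ[↥A] PS} {m : Option S → M}

/-- `κ_s(b)` as an element of the relation module. -/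
noncomputable def kapK (D : Data A τ u j m) (s : S) (b : PS) : ↥(Rel A m) :=
  ⟨kap D s b, kap_mem D s b⟩

theorem kapK_add (D : Data A τ u j m) (s : S) (b b' : PS) :
    kapK D s (b + b') = kapK D s b + kapK D s b' := by
  apply Subtype.ext
  funext l
  apply Subtype.ext
  rcases l with _ | s'
  · change (kap D s (b + b') none : PS) = (kap D s b none : PS) + (kap D s b' none : PS)
    rw [kap_none, kap_none, kap_none]; ring
  · change (kap D s (b + b') (some s') : PS) =
      (kap D s b (some s') : PS) + (kap D s b' (some s') : PS)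
    rw [kap_some, kap_some, kap_some]
    split_ifs <;> ring

theorem kapK_smul (D : Data A τ u j m) (s : S) (a : ↥A) (b : PS) :
    kapK D s ((a : PS) * b) = a • kapK D s b := by
  apply Subtype.ext
  funext l
  apply Subtype.ext
  rcases l with _ | s'
  · change (kap D s ((a : PS) * b) none : PS) = (a : PS) * (kap D s b none : PS)
    rw [kap_none, kap_none]; ring
  · change (kap D s ((a : PS) * b) (some s') : PS) = (a : PS) * (kap D s b (some s') : PS)
    rw [kap_some, kap_some]
    split_ifs <;> ring

/-- Every relation is a sum of basic relations. -/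
theorem rel_decomp (D : Data A τ u j m) (a : ↥(Rel A m)) :
    ∃ b : S → PS, (∀ s, ((a : Option S → ↥A) (some s) : PS) = τ * b s) ∧
      a = ∑ s, kapK D s (b s) := by
  have ha : cover A m (a : Option S → ↥A) = 0 := a.2
  have hrel := D.rel (a : Option S → ↥A) (by rw [← cover_apply]; exact ha)
  choose b hb using fun s => hrel (some s)
  refine ⟨b, hb, ?_⟩
  have h0 : ((a : Option S → ↥A) none : PS) = - ∑ s, τ * b s * u s := by
    have := congrArg j ha
    rw [j_cover _ D, map_zero] at this
    rw [eq_neg_iff_add_eq_zero, ← this]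
    congr 1
    exact Finset.sum_congr rfl fun s _ => by rw [hb]
  apply Subtype.ext
  rw [Submodule.coe_sum]
  funext l
  apply Subtype.ext
  rw [Finset.sum_apply]
  rcases l with _ | s'
  · rw [h0]
    have : ((∑ s, (kapK D s (b s) : Option S → ↥A) none : ↥A) : PS) =
        ∑ s, ((kapK D s (b s) : Option S → ↥A) none : PS) := by
      simp
    rw [this, ← Finset.sum_neg_distrib]
    refine Finset.sum_congr rfl fun s _ => ?_
    change _ = (kap D s (b s) none : PS)
    rw [kap_none]; ring
  · have : ((∑ s, (kapK D s (b s) : Option S → ↥A) (some s') : ↥A) : PS) =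
        ∑ s, ((kapK D s (b s) : Option S → ↥A) (some s') : PS) := by
      simp
    rw [this, hb, Finset.sum_eq_single s']
    · change _ = (kap D s' (b s') (some s') : PS)
      rw [kap_some, if_pos rfl]
    · intro s _ hs
      change (kap D s (b s) (some s') : PS) = 0
      rw [kap_some, if_neg (Ne.symm hs)]
    · intro h; exact absurd (Finset.mem_univ s') h

/-- The invariant `Θ(φ)_s = j(φ(κ_s(1)))`. -/
noncomputable def theta (D : Data A τ u j m) (φ : ↥(Rel A m) →ₗ[↥A] M) (s : S) : PS :=
  j (φ (kapK D s 1))

theorem j_phi_kapK (D : Data A τ u j m) (φ : ↥(Rel A m) →ₗ[↥A] M) (s : S) (g : PS) :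
    j (φ (kapK D s g)) = g * theta D φ s := by
  apply D.reg
  have h1 : kapK D s (τ * g) = tg D g • kapK D s 1 := by
    have := kapK_smul D s (tg D g) 1
    rw [← this]
    congr 1
    change τ * g = τ * g * 1
    ring
  have h2 : kapK D s (τ * g) = tg D 1 • kapK D s g := by
    have := kapK_smul D s (tg D 1) g
    rw [← this]
    congr 1
    change τ * g = τ * 1 * g
    ring
  have e1 : j (φ (kapK D s (τ * g))) = τ * g * theta D φ s := by
    rw [h1, map_smul, j_smul]; rfl
  have e2 : j (φ (kapK D s (τ * g))) = τ * j (φ (kapK D s g)) := by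
    rw [h2, map_smul, j_smul]
    change τ * 1 * _ = _
    ring
  rw [← e2, e1]; ring

theorem j_phi (D : Data A τ u j m) (φ : ↥(Rel A m) →ₗ[↥A] M) (a : ↥(Rel A m)) (b : S → PS)
    (hb : ∀ s, ((a : Option S → ↥A) (some s) : PS) = τ * b s) :
    j (φ a) = ∑ s, b s * theta D φ s := by
  obtain ⟨b', hb', ha⟩ := rel_decomp D a
  have hbb : b' = b := by
    funext s
    exact D.reg _ _ ((hb' s).symm.trans (hb s))
  subst hbb
  conv_lhs => rw [ha]
  rw [map_sum, map_sum]
  exact Finset.sum_congr rfl fun s _ => j_phi_kapK D φ s _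

theorem theta_injective (D : Data A τ u j m) (φ ψ : ↥(Rel A m) →ₗ[↥A] M)
    (h : theta D φ = theta D ψ) : φ = ψ := by
  ext a
  obtain ⟨b, hb, -⟩ := rel_decomp D a
  apply D.inj
  rw [j_phi D φ a b hb, j_phi D ψ a b hb, h]

theorem theta_mem (D : Data A τ u j m) (φ : ↥(Rel A m) →ₗ[↥A] M) (s : S) (g : PS) :
    ∃ x : M, j x = g * theta D φ s :=
  ⟨_, j_phi_kapK D φ s g⟩

theorem theta_add (D : Data A τ u j m) (φ ψ : ↥(Rel A m) →ₗ[↥A] M) :
    theta D (φ + ψ) = theta D φ + theta D ψ := by
  funext s
  simp [theta]

theorem theta_smul (D : Data A τ u j m) (a : ↥A) (φ : ↥(Rel A m) →ₗ[↥A] M) (s : S) :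
    theta D (a • φ) s = (a : PS) * theta D φ s := by
  simp only [theta, LinearMap.smul_apply]
  rw [j_smul]

end

section

variable {k : Type u} [CommRing k] {PS : Type u} [CommRing PS] [Algebra k PS] (A : Subalgebra k PS)
  {S : Type} [Fintype S] [DecidableEq S]
  {M : Type u} [AddCommGroup M] [Module ↥A M] (m : Option S → M)

/-- `a ↦ Σ_s a_s h_s` on the relation module. -/
noncomputable def lam (h : S → PS) :
    ↥(Rel A m) →ₗ[↥A] PS where
  toFun a := ∑ s, ((a : Option S → ↥A) (some s) : PS) * h s
  map_add' a b := by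
    rw [← Finset.sum_add_distrib]
    refine Finset.sum_congr rfl fun s _ => ?_
    change (((a : Option S → ↥A) (some s) + (b : Option S → ↥A) (some s) : ↥A) : PS) * h s = _
    rw [Subalgebra.coe_add, add_mul]
  map_smul' c a := by
    rw [RingHom.id_apply]
    change _ = (c : PS) * _
    rw [Finset.mul_sum]
    refine Finset.sum_congr rfl fun s _ => ?_
    change ((c * (a : Option S → ↥A) (some s) : ↥A) : PS) * h s = _
    rw [Subalgebra.coe_mul, mul_assoc]

end

section

variable {k : Type u} [CommRing k] {PS : Type u} [CommRing PS] [Algebra k PS] {A : Subalgebra k PS}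
  {τ : PS} {S : Type} [Fintype S] [DecidableEq S] {u : S → PS}
  {M : Type u} [AddCommGroup M] [Module ↥A M] {j : M →ₗ[↥A] PS} {m : Option S → M}

/-- `x ↦ τ * j x` as an `A`-linear map. -/
noncomputable def tauJ (j : M →ₗ[↥A] PS) (τ : PS) : M →ₗ[↥A] PS where
  toFun x := τ * j x
  map_add' x y := by rw [map_add, mul_add]
  map_smul' a x := by
    rw [j_smul, RingHom.id_apply]
    change _ = (a : PS) * (τ * j x)
    ring

theorem tauJ_injective (D : Data A τ u j m) : Function.Injective (tauJ j τ) := by
  intro x y h
  exact D.inj (D.reg _ _ h)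

/-- Every family `h` with `h s • PS ⊆ j(M)` is `Θ(φ)` for some `φ`. -/
theorem exists_theta_eq (D : Data A τ u j m) (h : S → PS)
    (hh : ∀ s g, ∃ x : M, j x = g * h s) :
    ∃ φ : ↥(Rel A m) →ₗ[↥A] M, theta D φ = h := by
  have hrange : ∀ a : ↥(Rel A m), lam A m h a ∈ LinearMap.range (tauJ j τ) := by
    intro a
    obtain ⟨b, hb, -⟩ := rel_decomp D a
    choose x hx using fun s => hh s (b s)
    refine ⟨∑ s, x s, ?_⟩
    change τ * j (∑ s, x s) = ∑ s, ((a : Option S → ↥A) (some s) : PS) * h s
    rw [map_sum, Finset.mul_sum]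
    refine Finset.sum_congr rfl fun s _ => ?_
    rw [hx, hb, mul_assoc]
  let e := LinearEquiv.ofInjective (tauJ j τ) (tauJ_injective D)
  let φ : ↥(Rel A m) →ₗ[↥A] M := e.symm.toLinearMap ∘ₗ (lam A m h).codRestrict _ hrange
  have hφ : ∀ a, τ * j (φ a) = lam A m h a := by
    intro a
    have h1 : (e (φ a) : PS) = lam A m h a := by
      change (e (e.symm _) : PS) = _
      rw [LinearEquiv.apply_symm_apply]
      rfl
    exact h1
  refine ⟨φ, ?_⟩
  funext s
  apply D.reg
  change τ * j (φ (kapK D s 1)) = _
  rw [hφ]
  change ∑ s', (kap D s 1 (some s') : PS) * h s' = _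
  rw [Finset.sum_eq_single s]
  · rw [kap_some, if_pos rfl, mul_one]
  · intro s' _ hs'
    rw [kap_some, if_neg hs', zero_mul]
  · intro h'; exact absurd (Finset.mem_univ s) h'

/-- `Θ` of the restriction of a map defined on the free cover. -/
theorem theta_restrict (D : Data A τ u j m) (ψ : (Option S → ↥A) →ₗ[↥A] M) (s : S) :
    theta D (ψ ∘ₗ (Rel A m).subtype) s =
      τ * (j (ψ (Pi.single (some s) 1)) - u s * j (ψ (Pi.single none 1))) := by
  change j (ψ (kap D s 1)) = _
  have h1 : kap D s 1 = ∑ l, kap D s 1 l • (Pi.single l (1 : ↥A) : Option S → ↥A) := by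
    funext l'
    rw [Finset.sum_apply, Finset.sum_eq_single l']
    · simp
    · intro l _ hl
      simp [hl.symm]
    · intro h'; exact absurd (Finset.mem_univ l') h'
  rw [h1, map_sum, map_sum, Fintype.sum_option]
  simp only [map_smul, Subalgebra.smul_def, smul_eq_mul]
  rw [Finset.sum_eq_single s]
  · rw [kap_none, kap_some, if_pos rfl]; ring
  · intro s' _ hs'
    rw [kap_some, if_neg hs', zero_mul]
  · intro h'; exact absurd (Finset.mem_univ s) h'

/-- Characterization of the maps extending to the free cover. -/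
theorem mem_range_lcomp_iff (D : Data A τ u j m) (φ : ↥(Rel A m) →ₗ[↥A] M) :
    φ ∈ LinearMap.range (LinearMap.lcomp ↥A M (Rel A m).subtype) ↔
      ∃ f : Option S → M, ∀ s, theta D φ s = τ * (j (f (some s)) - u s * j (f none)) := by
  constructor
  · rintro ⟨ψ, rfl⟩
    exact ⟨fun l => ψ (Pi.single l 1), fun s => theta_restrict D ψ s⟩
  · rintro ⟨f, hf⟩
    refine ⟨Fintype.linearCombination ↥A f, ?_⟩
    apply theta_injective D
    funext s
    change theta D ((Fintype.linearCombination ↥A f) ∘ₗ (Rel A m).subtype) s = _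
    rw [theta_restrict, hf]
    simp [Fintype.linearCombination_apply_single]

end

section Length

/-- Length of a quotient computed through an augmentation-semilinear surjection onto a vector
space. -/
theorem length_quotient_eq_finrank {R : Type u} [CommRing R] {k : Type u} [Field k] (ε : R →+* k)
    (hε : Function.Surjective ε) {V : Type u} [AddCommGroup V] [Module R V] (P : Submodule R V)
    {E : Type u} [AddCommGroup E] [Module k E] [Module.Finite k E]
    (Ξ : V →+ E) (hΞ : ∀ (r : R) (v : V), Ξ (r • v) = ε r • Ξ v) (hsurj : Function.Surjective Ξ)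
    (hker : ∀ v, Ξ v = 0 ↔ v ∈ P) :
    Module.length R (V ⧸ P) = (Module.finrank k E : ℕ∞) := by
  letI : Module R E := Module.compHom E ε
  letI : Algebra R k := ε.toAlgebra
  haveI : IsScalarTower R k E := ⟨fun r c e => by
    change (ε r * c) • e = ε r • (c • e)
    rw [mul_smul]⟩
  let Ξ' : V →ₗ[R] E := { toFun := Ξ, map_add' := map_add Ξ, map_smul' := hΞ }
  have hk : LinearMap.ker Ξ' = P := by
    ext v
    rw [LinearMap.mem_ker]
    exact hker v
  have e : (V ⧸ P) ≃ₗ[R] E :=
    (Submodule.quotEquivOfEq _ _ hk.symm) ≪≫ₗ Ξ'.quotKerEquivOfSurjective hsurj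
  rw [e.length_eq, Module.length_eq_of_surjective (S := R) (R := k) (M := E) hε,
    Module.length_eq_finrank]

end Length

end Helper71.Conductor
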