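import Mathlib

set_option linter.style.haveILetI false
set_option linter.unusedSimpArgs false

noncomputable section

namespace Helper71.Cot

universe u v

/-- evaluation of a power series at nilpotent elements of an `R`-algebra, via discrete topologies. -/
theorem exists_eval {R : Type u} [CommRing R] {T : Type v} [CommRing T] [Algebra R T]
    {σ : Type*} [Finite σ] (a : σ → T) (ha : ∀ s, IsNilpotent (a s)) :
    ∃ Φ : MvPowerSeries σ R →ₐ[R] T, ∀ s, Φ (MvPowerSeries.X s) = a s := by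
  letI : UniformSpace R := ⊥
  letI : UniformSpace T := ⊥
  haveI : DiscreteTopology R := ⟨rfl⟩
  haveI : DiscreteTopology T := ⟨rfl⟩
  have hev : MvPowerSeries.HasEval a := by
    refine ⟨fun s => ?_, ?_⟩
    · obtain ⟨n, hn⟩ := ha s
      unfold IsTopologicallyNilpotent
      rw [nhds_discrete]
      refine Filter.tendsto_pure.mpr ?_
      filter_upwards [Filter.eventually_ge_atTop n] with m hm
      exact pow_eq_zero_of_le hm hn
    · rw [Filter.cofinite_eq_bot]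
      exact Filter.tendsto_bot
  haveI : IsUniformAddGroup R := inferInstance
  haveI : IsUniformAddGroup T := inferInstance
  haveI : CompleteSpace T := inferInstance
  haveI : IsLinearTopology T T := inferInstance
  haveI : ContinuousSMul R T := ⟨continuous_of_discreteTopology⟩
  refine ⟨MvPowerSeries.aeval hev, fun s => ?_⟩
  rw [MvPowerSeries.coe_aeval]
  exact MvPowerSeries.eval₂_X _ _ s


/-- abstract computation of powers of `(ϖ, x, y)` given the two relations. -/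
theorem pow_span_eq {Q : Type*} [CommRing Q] (ϖ x y e a c : Q) (w : ℕ)
    (hϖ : ϖ = e * (y ^ 2 + a * (x * y) - x ^ 3)) (hx : x ^ 2 = c * ϖ ^ (w + 1) * y) (j : ℕ) :
    Ideal.span {ϖ, x, y} ^ (j + 1) = Ideal.span {y ^ (j + 1), x * y ^ j} := by
  induction j with
  | zero =>
    simp only [zero_add, pow_one, pow_zero, mul_one]
    apply le_antisymm
    · rw [Ideal.span_le]
      rintro z (rfl | rfl | rfl)
      · rw [SetLike.mem_coe, Ideal.mem_span_pair]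
        exact ⟨e * (y + a * x), -e * x ^ 2, by rw [hϖ]; ring⟩
      · exact Ideal.subset_span (by simp)
      · exact Ideal.subset_span (by simp)
    · rw [Ideal.span_le]
      rintro z (rfl | rfl)
      · exact Ideal.subset_span (by simp)
      · exact Ideal.subset_span (by simp)
  | succ j ih =>
    rw [pow_succ, ih]
    apply le_antisymm
    · rw [Ideal.span_mul_span', Ideal.span_le]
      rintro z ⟨s, hs, t, ht, rfl⟩
      rw [SetLike.mem_coe, Ideal.mem_span_pair]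
      rcases hs with rfl | rfl <;> rcases ht with ht | ht | ht <;> obtain rfl := ht.symm
      · exact ⟨e * y, e * a * y - e * x ^ 2, by rw [hϖ]; ring⟩
      · exact ⟨0, 1, by ring⟩
      · exact ⟨1, 0, by ring⟩
      · refine ⟨0, e * y + e * a * x - e * c * ϖ ^ (w + 1) * x, ?_⟩
        linear_combination (-(x * y ^ j)) * hϖ + (e * x ^ 2 * y ^ j) * hx
      · refine ⟨c * ϖ ^ w * e * y, c * ϖ ^ w * (e * a * y - e * x ^ 2), ?_⟩
        linear_combination (-(y ^ j)) * hx - (c * ϖ ^ w * y ^ (j + 1)) * hϖ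
      · exact ⟨0, 1, by ring⟩
    · rw [Ideal.span_le]
      rintro z (rfl | rfl)
      · have : y ^ (j + 1 + 1) = y ^ (j + 1) * y := by ring
        rw [this]
        exact Ideal.mul_mem_mul (Ideal.subset_span (by simp)) (Ideal.subset_span (by simp))
      · have : x * y ^ (j + 1) = (x * y ^ j) * y := by ring
        rw [this]
        exact Ideal.mul_mem_mul (Ideal.subset_span (by simp)) (Ideal.subset_span (by simp))

/-- the test ring `R[ω, ε]/(ω² - a₆, ε²)`. -/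
abbrev T1 (R : Type u) [CommRing R] (a₆ : R) : Type u :=
  QuadraticAlgebra (QuadraticAlgebra R a₆ 0) 0 0

/-- `ω`. -/
def om {R : Type u} [CommRing R] (a₆ : R) : T1 R a₆ := ⟨⟨0, 1⟩, 0⟩

/-- `ε`. -/
def ep {R : Type u} [CommRing R] (a₆ : R) : T1 R a₆ := ⟨0, 1⟩

/-- the coordinate ideal. -/
def KK {R : Type u} [CommRing R] (a₆ p : R) (n : ℕ) (hp : p ∣ a₆) : Ideal (T1 R a₆) where
  carrier := {t | p ^ (n + 1) ∣ t.re.re ∧ p ^ n ∣ t.re.im ∧ p ^ n ∣ t.im.re ∧ p ^ n ∣ t.im.im}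
  zero_mem' := by simp
  add_mem' := by
    rintro s t ⟨h1, h2, h3, h4⟩ ⟨k1, k2, k3, k4⟩
    refine ⟨?_, ?_, ?_, ?_⟩
    · simpa using dvd_add h1 k1
    · simpa using dvd_add h2 k2
    · simpa using dvd_add h3 k3
    · simpa using dvd_add h4 k4
  smul_mem' := by
    rintro c t ⟨h1, h2, h3, h4⟩
    obtain ⟨q, rfl⟩ := hp
    have h1' : p ^ n ∣ t.re.re := (pow_dvd_pow p (Nat.le_succ n)).trans h1
    have hS : ∀ t : T1 R (p * q), ∀ c : T1 R (p * q),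
        (c • t).re.re = c.re.re * t.re.re + p * q * c.re.im * t.re.im ∧
        (c • t).re.im = c.re.re * t.re.im + c.re.im * t.re.re ∧
        (c • t).im.re = c.re.re * t.im.re + p * q * c.re.im * t.im.im +
          (c.im.re * t.re.re + p * q * c.im.im * t.re.im) ∧
        (c • t).im.im = c.re.re * t.im.im + c.re.im * t.im.re +
          (c.im.re * t.re.im + c.im.im * t.re.re) := by
      intro t c
      simp only [smul_eq_mul, QuadraticAlgebra.re_mul, QuadraticAlgebra.im_mul, zero_mul,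
        add_zero, mul_zero, QuadraticAlgebra.re_add, QuadraticAlgebra.im_add, and_self]
    obtain ⟨e1, e2, e3, e4⟩ := hS t c
    have hm2 : ∀ z w : R, p ^ n ∣ z → p ^ n ∣ p * q * w * z := fun z w hz => Dvd.dvd.mul_left hz _
    have hm3 : ∀ z w : R, p ^ n ∣ z → p ^ (n + 1) ∣ p * q * w * z := by
      rintro z w ⟨z', rfl⟩
      exact ⟨q * w * z', by ring⟩
    refine ⟨?_, ?_, ?_, ?_⟩
    · rw [e1]
      exact dvd_add (Dvd.dvd.mul_left h1 _) (hm3 _ _ h2)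
    · rw [e2]
      exact dvd_add (Dvd.dvd.mul_left h2 _) (Dvd.dvd.mul_left h1' _)
    · rw [e3]
      exact dvd_add (dvd_add (Dvd.dvd.mul_left h3 _) (hm2 _ _ h4))
        (dvd_add (Dvd.dvd.mul_left h1' _) (hm2 _ _ h2))
    · rw [e4]
      exact dvd_add (dvd_add (Dvd.dvd.mul_left h4 _) (Dvd.dvd.mul_left h3 _))
        (dvd_add (Dvd.dvd.mul_left h2 _) (Dvd.dvd.mul_left h1' _))

theorem mem_KK {R : Type u} [CommRing R] (a₆ p : R) (n : ℕ) (hp : p ∣ a₆) (t : T1 R a₆) :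
    t ∈ KK a₆ p n hp ↔
      p ^ (n + 1) ∣ t.re.re ∧ p ^ n ∣ t.re.im ∧ p ^ n ∣ t.im.re ∧ p ^ n ∣ t.im.im := Iff.rfl

section coords
variable {R : Type u} [CommRing R] (a₆ : R)

theorem ep_sq : ep a₆ ^ 2 = 0 := by
  rw [pow_two]
  ext <;> simp [ep]

theorem om_sq : om a₆ ^ 2 = algebraMap R (T1 R a₆) a₆ := by
  rw [pow_two]
  ext <;> simp [om, Algebra.algebraMap_eq_smul_one, QuadraticAlgebra.re_one, QuadraticAlgebra.im_one]

theorem om_pow_even (k : ℕ) : om a₆ ^ (2 * k) = algebraMap R (T1 R a₆) (a₆ ^ k) := by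
  rw [pow_mul, om_sq, map_pow]

theorem om_pow_odd (k : ℕ) : om a₆ ^ (2 * k + 1) = (a₆ ^ k) • om a₆ := by
  rw [pow_succ, om_pow_even, Algebra.smul_def]

theorem ep_mul_om : ep a₆ * om a₆ = ⟨0, ⟨0, 1⟩⟩ := by
  ext <;> simp [ep, om]

theorem coords_smul (r : R) (t : T1 R a₆) :
    (r • t).re.re = r * t.re.re ∧ (r • t).re.im = r * t.re.im ∧
    (r • t).im.re = r * t.im.re ∧ (r • t).im.im = r * t.im.im := by
  simp

theorem coords_algebraMap (r : R) :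
    (algebraMap R (T1 R a₆) r).re.re = r ∧ (algebraMap R (T1 R a₆) r).re.im = 0 ∧
    (algebraMap R (T1 R a₆) r).im.re = 0 ∧ (algebraMap R (T1 R a₆) r).im.im = 0 := by
  rw [Algebra.algebraMap_eq_smul_one]
  simp [QuadraticAlgebra.re_one, QuadraticAlgebra.im_one]

end coords

/-- the two relations in any `R`-algebra receiving `R[[x,y]]/I`. -/
theorem rels {R : Type u} [CommRing R] {B : Type v} [CommRing B] [Algebra R B]
    (ϖ a₁ a₆ : R) (v : ℕ) (u₁ u₆ u3 : Rˣ) (hu3 : (u3 : R) = 3)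
    (ha₁ : a₁ = u₁ * ϖ ^ v) (ha₆ : a₆ = u₆ * ϖ)
    (x y : MvPowerSeries (Fin 2) R) (I : Ideal (MvPowerSeries (Fin 2) R))
    (hI : I = Ideal.span {y ^ 2 + a₁ • (x * y) - x ^ 3 - algebraMap R (MvPowerSeries (Fin 2) R) a₆,
      2 * y + a₁ • x, 3 * x ^ 2 - a₁ • y})
    (ψ : MvPowerSeries (Fin 2) R →ₐ[R] B) (hψ : ∀ z ∈ I, ψ z = 0) :
    algebraMap R B ϖ = algebraMap R B ↑u₆⁻¹ *
      ((ψ y) ^ 2 + algebraMap R B a₁ * (ψ x * ψ y) - (ψ x) ^ 3) ∧
    (ψ x) ^ 2 = algebraMap R B (↑u3⁻¹ * ↑u₁) * (algebraMap R B ϖ) ^ v * ψ y := by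
  have hf := hψ _ (hI ▸ Ideal.subset_span (Set.mem_insert _ _))
  have hfx := hψ (3 * x ^ 2 - a₁ • y) (hI ▸ Ideal.subset_span (by simp))
  simp only [map_sub, map_add, map_pow, map_mul, map_smul, AlgHom.commutes, map_ofNat,
    Algebra.smul_def] at hf hfx
  have hu : algebraMap R B ↑u₆⁻¹ * algebraMap R B ↑u₆ = 1 := by
    rw [← map_mul, Units.inv_mul, map_one]
  have h3 : algebraMap R B ↑u3⁻¹ * 3 = 1 := by
    have : (3 : B) = algebraMap R B ↑u3 := by rw [hu3, map_ofNat]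
    rw [this, ← map_mul, Units.inv_mul, map_one]
  have e6 : algebraMap R B a₆ = algebraMap R B ↑u₆ * algebraMap R B ϖ := by
    rw [ha₆, map_mul]
  have e1 : algebraMap R B a₁ = algebraMap R B ↑u₁ * algebraMap R B ϖ ^ v := by
    rw [ha₁, map_mul, map_pow]
  constructor
  · rw [e6] at hf
    linear_combination (-(algebraMap R B ϖ)) * hu - (algebraMap R B ↑u₆⁻¹) * hf
  · rw [e1] at hfx
    rw [map_mul]
    linear_combination (-(ψ x) ^ 2) * h3 + (algebraMap R B ↑u3⁻¹) * hfx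

theorem part1 {R : Type u} [CommRing R]
    (ϖ a₁ a₆ : R) (w : ℕ) (u₁ u₆ u3 : Rˣ) (hu3 : (u3 : R) = 3)
    (ha₁ : a₁ = u₁ * ϖ ^ (w + 1)) (ha₆ : a₆ = u₆ * ϖ)
    (x y : MvPowerSeries (Fin 2) R) (I M : Ideal (MvPowerSeries (Fin 2) R))
    (hI : I = Ideal.span {y ^ 2 + a₁ • (x * y) - x ^ 3 - algebraMap R (MvPowerSeries (Fin 2) R) a₆,
      2 * y + a₁ • x, 3 * x ^ 2 - a₁ • y})
    (hM : M = Ideal.span {algebraMap R (MvPowerSeries (Fin 2) R) ϖ, x, y}) (j : ℕ) :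
    M ^ (j + 1) ⊔ I = Ideal.span {y ^ (j + 1), x * y ^ j} ⊔ I := by
  obtain ⟨ψ, hψ⟩ : ∃ ψ : MvPowerSeries (Fin 2) R →ₐ[R] (MvPowerSeries (Fin 2) R ⧸ I),
      ψ = Ideal.Quotient.mkₐ R I := ⟨_, rfl⟩
  have hsurj : Function.Surjective ψ := hψ ▸ Ideal.Quotient.mkₐ_surjective R I
  have hker : ∀ z ∈ I, ψ z = 0 := fun z hz => by
    rw [hψ, Ideal.Quotient.mkₐ_eq_mk]; exact Ideal.Quotient.eq_zero_iff_mem.mpr hz
  obtain ⟨r1, r2⟩ := rels ϖ a₁ a₆ (w + 1) u₁ u₆ u3 hu3 ha₁ ha₆ x y I hI ψ hker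
  have key := pow_span_eq _ _ _ _ _ _ w r1 r2 j
  have hmapM : Ideal.map ψ M = Ideal.span {algebraMap R _ ϖ, ψ x, ψ y} := by
    rw [hM, Ideal.map_span]
    congr 1
    simp [Set.image_insert_eq, AlgHom.commutes]
  have h1 : Ideal.map ψ (M ^ (j + 1)) =
      Ideal.map ψ (Ideal.span {y ^ (j + 1), x * y ^ j}) := by
    rw [Ideal.map_pow, hmapM, Ideal.map_span, key]
    congr 1
    simp [Set.image_insert_eq]
  have h2 : ∀ K : Ideal (MvPowerSeries (Fin 2) R), K ⊔ I = Ideal.comap ψ (Ideal.map ψ K) := by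
    intro K
    rw [Ideal.comap_map_of_surjective ψ hsurj]
    congr 1
    rw [hψ]
    exact (Ideal.Quotient.mkₐ_ker R I).symm
  rw [h2, h2 (Ideal.span _), h1]

section mems
variable {R : Type u} [CommRing R] (a₆ p : R) (n : ℕ) (hp : p ∣ a₆)
include hp

theorem mem_f (a₁ : R) (h : p ^ n ∣ a₁) :
    om a₆ ^ 2 + a₁ • (ep a₆ * om a₆) - ep a₆ ^ 3 - algebraMap R (T1 R a₆) a₆ ∈ KK a₆ p n hp := by
  have e : om a₆ ^ 2 + a₁ • (ep a₆ * om a₆) - ep a₆ ^ 3 - algebraMap R (T1 R a₆) a₆ =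
      a₁ • (⟨0, ⟨0, 1⟩⟩ : T1 R a₆) := by
    rw [om_sq, ep_mul_om, pow_succ, ep_sq]
    simp
  rw [e, mem_KK]
  simpa using h

theorem mem_fy (a₁ : R) (h : p ^ n ∣ a₁) (h2 : p ^ n ∣ (2 : R)) :
    2 * om a₆ + a₁ • ep a₆ ∈ KK a₆ p n hp := by
  rw [mem_KK]
  simp [om, ep, h, h2, QuadraticAlgebra.re_ofNat, QuadraticAlgebra.im_ofNat,
    QuadraticAlgebra.re_one, QuadraticAlgebra.im_one]

theorem mem_fx (a₁ : R) (h : p ^ n ∣ a₁) :
    3 * ep a₆ ^ 2 - a₁ • om a₆ ∈ KK a₆ p n hp := by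
  rw [ep_sq, mem_KK]
  simp [om, h]

theorem mem_om_pow : om a₆ ^ (2 * n + 1) ∈ KK a₆ p n hp := by
  rw [om_pow_odd, mem_KK]
  simp [om, pow_dvd_pow_of_dvd hp n]

theorem mem_ep_om_pow : ep a₆ * om a₆ ^ (2 * n) ∈ KK a₆ p n hp := by
  rw [om_pow_even, mul_comm, ← Algebra.smul_def, mem_KK]
  simp [ep, pow_dvd_pow_of_dvd hp n, QuadraticAlgebra.re_one, QuadraticAlgebra.im_one]

theorem coords_final (a b : R) (k : ℕ)
    (h : a • om a₆ ^ (2 * (k + 1)) + b • (ep a₆ * om a₆ ^ (2 * k + 1)) ∈ KK a₆ p n hp) :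
    p ^ (n + 1) ∣ a * a₆ ^ (k + 1) ∧ p ^ n ∣ b * a₆ ^ k := by
  rw [om_pow_even, om_pow_odd, mul_smul_comm, ep_mul_om, mem_KK] at h
  obtain ⟨h1, -, -, h4⟩ := h
  have e1 : ∀ r c : R, (a • algebraMap R (T1 R a₆) r + b • c • (⟨0, ⟨0, 1⟩⟩ : T1 R a₆)).re.re
      = a * r := by
    intro r c
    obtain ⟨c1, -, -, -⟩ := coords_algebraMap a₆ r
    simp only [QuadraticAlgebra.re_add, QuadraticAlgebra.re_smul, smul_eq_mul, c1,
      QuadraticAlgebra.re_zero, mul_zero, add_zero]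
  have e4 : ∀ r c : R, (a • algebraMap R (T1 R a₆) r + b • c • (⟨0, ⟨0, 1⟩⟩ : T1 R a₆)).im.im
      = b * c := by
    intro r c
    obtain ⟨-, -, -, c4⟩ := coords_algebraMap a₆ r
    simp only [QuadraticAlgebra.im_add, QuadraticAlgebra.im_smul, smul_eq_mul, c4,
      mul_zero, zero_add, mul_one]
  rw [e1] at h1
  rw [e4] at h4
  exact ⟨h1, h4⟩

end mems

theorem part2 {R : Type u} [CommRing R]
    (ϖ a₁ a₆ : R) (w : ℕ) (u₁ u₆ u3 : Rˣ) (hu3 : (u3 : R) = 3)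
    (ha₁ : a₁ = u₁ * ϖ ^ (w + 1)) (ha₆ : a₆ = u₆ * ϖ) (h2 : ϖ ^ (w + 1) ∣ (2 : R))
    (x y : MvPowerSeries (Fin 2) R) (hx : x = MvPowerSeries.X 0) (hy : y = MvPowerSeries.X 1)
    (I M : Ideal (MvPowerSeries (Fin 2) R))
    (hI : I = Ideal.span {y ^ 2 + a₁ • (x * y) - x ^ 3 - algebraMap R (MvPowerSeries (Fin 2) R) a₆,
      2 * y + a₁ • x, 3 * x ^ 2 - a₁ • y})
    (hM : M = Ideal.span {algebraMap R (MvPowerSeries (Fin 2) R) ϖ, x, y}) (a b : R)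
    (hab : a • y ^ (2 * (w + 1)) + b • (x * y ^ (2 * w + 1)) ∈ M ^ (2 * (w + 1) + 1) ⊔ I) :
    ϖ ^ (w + 1 + 1) ∣ a * a₆ ^ (w + 1) ∧ ϖ ^ (w + 1) ∣ b * a₆ ^ w := by
  have hp : ϖ ∣ a₆ := ⟨u₆, by rw [ha₆]; ring⟩
  have hpa : ϖ ^ (w + 1) ∣ a₁ := ⟨u₁, by rw [ha₁]; ring⟩
  obtain ⟨π, hπ⟩ : ∃ π : T1 R a₆ →ₐ[R] (T1 R a₆ ⧸ KK a₆ ϖ (w + 1) hp),
      π = Ideal.Quotient.mkₐ R (KK a₆ ϖ (w + 1) hp) := ⟨_, rfl⟩
  have hπ0 : ∀ t, t ∈ KK a₆ ϖ (w + 1) hp → π t = 0 := fun t ht => by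
    rw [hπ, Ideal.Quotient.mkₐ_eq_mk]; exact Ideal.Quotient.eq_zero_iff_mem.mpr ht
  have hπ1 : ∀ t, π t = 0 → t ∈ KK a₆ ϖ (w + 1) hp := fun t ht => by
    rw [hπ, Ideal.Quotient.mkₐ_eq_mk] at ht; exact Ideal.Quotient.eq_zero_iff_mem.mp ht
  have hεnil : IsNilpotent (π (ep a₆)) := ⟨2, by rw [← map_pow, ep_sq, map_zero]⟩
  have hωpow : π (om a₆) ^ (2 * (w + 1) + 1) = 0 := by
    rw [← map_pow]; exact hπ0 _ (mem_om_pow a₆ ϖ (w + 1) hp)
  have hωnil : IsNilpotent (π (om a₆)) := ⟨_, hωpow⟩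
  obtain ⟨Φ, hΦ⟩ := exists_eval (R := R) ![π (ep a₆), π (om a₆)] (by
    intro s; fin_cases s
    · exact hεnil
    · exact hωnil)
  have hΦx : Φ x = π (ep a₆) := by rw [hx, hΦ 0]; rfl
  have hΦy : Φ y = π (om a₆) := by rw [hy, hΦ 1]; rfl
  have hΦI : ∀ z ∈ I, Φ z = 0 := by
    have : I ≤ RingHom.ker Φ := by
      rw [hI, Ideal.span_le]
      rintro z (rfl | rfl | rfl)
      · rw [SetLike.mem_coe, RingHom.mem_ker]
        have := hπ0 _ (mem_f a₆ ϖ (w + 1) hp a₁ hpa)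
        simpa only [map_sub, map_add, map_pow, map_mul, map_smul, AlgHom.commutes, hΦx, hΦy]
          using this
      · rw [SetLike.mem_coe, RingHom.mem_ker]
        have := hπ0 _ (mem_fy a₆ ϖ (w + 1) hp a₁ hpa h2)
        simpa only [map_sub, map_add, map_pow, map_mul, map_smul, AlgHom.commutes, hΦx, hΦy,
          map_ofNat] using this
      · rw [SetLike.mem_coe, RingHom.mem_ker]
        have := hπ0 _ (mem_fx a₆ ϖ (w + 1) hp a₁ hpa)
        simpa only [map_sub, map_add, map_pow, map_mul, map_smul, AlgHom.commutes, hΦx, hΦy,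
          map_ofNat] using this
    exact fun z hz => this hz
  obtain ⟨r1, r2⟩ := rels ϖ a₁ a₆ (w + 1) u₁ u₆ u3 hu3 ha₁ ha₆ x y I hI Φ hΦI
  have key := pow_span_eq _ _ _ _ _ _ w r1 r2 (2 * (w + 1))
  have hmapM : Ideal.map Φ M = Ideal.span {algebraMap R _ ϖ, Φ x, Φ y} := by
    rw [hM, Ideal.map_span]
    congr 1
    simp [Set.image_insert_eq, AlgHom.commutes]
  have hbot : Ideal.map Φ (M ^ (2 * (w + 1) + 1)) = ⊥ := by
    rw [Ideal.map_pow, hmapM, key, hΦy, hωpow, hΦx, ← map_pow, ← map_mul,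
      hπ0 _ (mem_ep_om_pow a₆ ϖ (w + 1) hp)]
    simp
  have hΦM : ∀ z ∈ M ^ (2 * (w + 1) + 1), Φ z = 0 := by
    intro z hz
    have := Ideal.mem_map_of_mem Φ hz
    rw [hbot] at this
    exact this
  obtain ⟨m, hm, i, hi, hsum⟩ := Submodule.mem_sup.mp hab
  have h0 : Φ (a • y ^ (2 * (w + 1)) + b • (x * y ^ (2 * w + 1))) = 0 := by
    rw [← hsum, map_add, hΦM m hm, hΦI i hi, add_zero]
  have h1 : π (a • om a₆ ^ (2 * (w + 1)) + b • (ep a₆ * om a₆ ^ (2 * w + 1))) = 0 := by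
    simpa only [map_sub, map_add, map_pow, map_mul, map_smul, AlgHom.commutes, hΦx, hΦy] using h0
  exact coords_final a₆ ϖ (w + 1) hp a b w (hπ1 _ h1)

theorem main (R : Type u) [CommRing R] [IsDomain R] [IsDiscreteValuationRing R]
    (ϖ a₁ a₆ : R) (hϖ : Irreducible ϖ) (v : ℕ) (hv : 1 ≤ v) (u₁ u₆ : Rˣ)
    (ha₁ : a₁ = u₁ * ϖ ^ v) (ha₆ : a₆ = u₆ * ϖ)
    (h2 : (2 : R) ∈ IsLocalRing.maximalIdeal R ^ v)
    (x y : MvPowerSeries (Fin 2) R) (hx : x = MvPowerSeries.X 0) (hy : y = MvPowerSeries.X 1)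
    (I M : Ideal (MvPowerSeries (Fin 2) R))
    (hI : I = Ideal.span {y ^ 2 + a₁ • (x * y) - x ^ 3 - algebraMap R (MvPowerSeries (Fin 2) R) a₆,
      2 * y + a₁ • x, 3 * x ^ 2 - a₁ • y})
    (hM : M = Ideal.span {algebraMap R (MvPowerSeries (Fin 2) R) ϖ, x, y}) :
    M ^ (2 * v) ⊔ I = Ideal.span {y ^ (2 * v), x * y ^ (2 * v - 1)} ⊔ I ∧
      ∀ a b : R, a • y ^ (2 * v) + b • (x * y ^ (2 * v - 1)) ∈ M ^ (2 * v + 1) ⊔ I →
        a ∈ IsLocalRing.maximalIdeal R ∧ b ∈ IsLocalRing.maximalIdeal R := by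
  obtain ⟨w, rfl⟩ : ∃ w, v = w + 1 := ⟨v - 1, by omega⟩
  have hmax : IsLocalRing.maximalIdeal R = Ideal.span {ϖ} := hϖ.maximalIdeal_eq
  have hϖ0 : ϖ ≠ 0 := hϖ.ne_zero
  have h2' : ϖ ^ (w + 1) ∣ (2 : R) := by
    rw [hmax, Ideal.span_singleton_pow, Ideal.mem_span_singleton] at h2
    exact h2
  have h2m : (2 : R) ∈ IsLocalRing.maximalIdeal R := by
    rw [hmax, Ideal.mem_span_singleton]
    exact (dvd_pow_self ϖ (Nat.succ_ne_zero w)).trans h2'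
  have h3 : IsUnit (3 : R) := by
    rw [← IsLocalRing.notMem_maximalIdeal]
    intro h3m
    have h1 : (1 : R) ∈ IsLocalRing.maximalIdeal R := by
      have := Ideal.sub_mem _ h3m h2m
      norm_num at this
    exact (IsLocalRing.maximalIdeal.isMaximal R).ne_top ((Ideal.eq_top_iff_one _).mpr h1)
  obtain ⟨u3, hu3⟩ := h3
  have e1 : 2 * (w + 1) - 1 = 2 * w + 1 := by omega
  have e2 : 2 * (w + 1) = 2 * w + 1 + 1 := by omega
  refine ⟨?_, fun a b hab => ?_⟩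
  · rw [e1, e2]
    exact part1 ϖ a₁ a₆ w u₁ u₆ u3 hu3 ha₁ ha₆ x y I M hI hM (2 * w + 1)
  · rw [e1] at hab
    obtain ⟨k1, k2⟩ := part2 ϖ a₁ a₆ w u₁ u₆ u3 hu3 ha₁ ha₆ h2' x y hx hy I M hI hM a b hab
    rw [hmax, Ideal.mem_span_singleton, Ideal.mem_span_singleton]
    constructor
    · have e : a * a₆ ^ (w + 1) = ϖ ^ (w + 1) * (a * ↑(u₆ ^ (w + 1))) := by
        rw [ha₆, mul_pow, Units.val_pow_eq_pow_val]; ring
      rw [e, pow_succ, mul_dvd_mul_iff_left (pow_ne_zero _ hϖ0)] at k1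
      exact (Units.dvd_mul_right).mp k1
    · have e : b * a₆ ^ w = ϖ ^ w * (b * ↑(u₆ ^ w)) := by
        rw [ha₆, mul_pow, Units.val_pow_eq_pow_val]; ring
      rw [e, pow_succ, mul_dvd_mul_iff_left (pow_ne_zero _ hϖ0)] at k2
      exact (Units.dvd_mul_right).mp k2

end Helper71.Cot
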