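import Mathlib
import Groth.Prelude.Def_PolLaw
import Groth.Prelude.Def_PolLaw2

set_option autoImplicit false
universe u
open scoped TensorProduct
open PolLaw

namespace Helper71.DetProj

variable {A B : Type u} [CommRing A] [CommRing B] [Algebra A B]

theorem rid_rTensor {S S' : Type u} [CommSemiring S] [Algebra A S] [CommSemiring S']
    [Algebra A S'] (φ : S →ₐ[A] S') (z : S ⊗[A] A) :
    TensorProduct.rid A S' (φ.toLinearMap.rTensor A z) = φ (TensorProduct.rid A S z) := by
  induction z using TensorProduct.induction_on with
  | zero => simp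
  | tmul s a => simp
  | add a b ha hb => simp [ha, hb]

/-- Two polynomial laws `B → A` agreeing on all local ring test algebras are equal. -/
theorem eq_of_local {N N' : B →ₚₗ[A] A}
    (h : ∀ (S : Type u) [CommRing S] [IsLocalRing S] [Algebra A S] (x : S ⊗[A] B),
      N.toFun' S x = N'.toFun' S x) : N = N' := by
  apply PolynomialLaw.ext
  funext S _ _ x
  let _ : CommRing S := (algebraMap A S).commSemiringToCommRing
  apply (TensorProduct.rid A S).injective
  rw [← sub_eq_zero]
  apply eq_zero_of_localization
  intro J hJ
  rw [map_sub, sub_eq_zero]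
  let ψ : S →ₐ[A] Localization.AtPrime J := IsScalarTower.toAlgHom A S _
  have h1 := h (Localization.AtPrime J) (ψ.toLinearMap.rTensor B x)
  rw [← PolynomialLaw.isCompat_apply', ← PolynomialLaw.isCompat_apply'] at h1
  have h2 := congrArg (TensorProduct.rid A _) h1
  rw [rid_rTensor, rid_rTensor] at h2
  exact h2


section Prod

variable {A B : Type u} [CommRing A] [CommRing B] [Algebra A B]
variable (M : Type u) [AddCommGroup M] [Module A M] [Module B M] [IsScalarTower A B M]
variable (M' : Type u) [AddCommGroup M'] [Module A M']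

/-- The product ring `B × A` acting componentwise on `M × M'`. -/
@[reducible] def prodModule : Module (B × A) (M × M') where
  smul c z := (c.1 • z.1, c.2 • z.2)
  one_smul z := Prod.ext (one_smul B z.1) (one_smul A z.2)
  mul_smul c c' z := Prod.ext (mul_smul c.1 c'.1 z.1) (mul_smul c.2 c'.2 z.2)
  smul_zero c := Prod.ext (smul_zero c.1) (smul_zero c.2)
  smul_add c z z' := Prod.ext (smul_add c.1 z.1 z'.1) (smul_add c.2 z.2 z'.2)
  add_smul c c' z := Prod.ext (add_smul c.1 c'.1 z.1) (add_smul c.2 c'.2 z.2)
  zero_smul z := Prod.ext (zero_smul B z.1) (zero_smul A z.2)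

attribute [local instance] prodModule

omit [Algebra A B] [Module A M] [IsScalarTower A B M] in
theorem prod_smul_def (c : B × A) (z : M × M') : c • z = (c.1 • z.1, c.2 • z.2) := rfl

theorem prodTower : IsScalarTower A (B × A) (M × M') where
  smul_assoc a c z := by
    ext
    · simp [prod_smul_def]
    · simp [prod_smul_def, mul_smul]

end Prod


section Inc

variable {A B : Type u} [CommRing A] [CommRing B] [Algebra A B]

/-- `x ↦ (x, 1)` on the level of `S ⊗ B → S ⊗ (B × A)`. -/
noncomputable def inc (S : Type u) [CommSemiring S] [Algebra A S] (x : S ⊗[A] B) : S ⊗[A] (B × A) :=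
  (LinearMap.inl A B A).lTensor S x + (1 : S) ⊗ₜ[A] ((0, 1) : B × A)

variable (S : Type u) [CommSemiring S] [Algebra A S]

theorem inl_mul (x y : S ⊗[A] B) :
    (LinearMap.inl A B A).lTensor S (x * y) =
      (LinearMap.inl A B A).lTensor S x * (LinearMap.inl A B A).lTensor S y := by
  induction x using TensorProduct.induction_on with
  | zero => simp
  | tmul s b =>
    induction y using TensorProduct.induction_on with
    | zero => simp
    | tmul t c => simp [Algebra.TensorProduct.tmul_mul_tmul]
    | add y y' hy hy' => simp only [mul_add, map_add, hy, hy']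
  | add x x' hx hx' => simp only [add_mul, map_add, hx, hx']

theorem tmul_zero_pair (s : S) : s ⊗ₜ[A] ((0, 0) : B × A) = 0 := by
  rw [show ((0, 0) : B × A) = 0 from rfl, TensorProduct.tmul_zero]

theorem inl_mul_c (x : S ⊗[A] B) :
    (LinearMap.inl A B A).lTensor S x * ((1 : S) ⊗ₜ[A] ((0, 1) : B × A)) = 0 := by
  induction x using TensorProduct.induction_on with
  | zero => simp
  | tmul s b => simp [Algebra.TensorProduct.tmul_mul_tmul, tmul_zero_pair]
  | add x x' hx hx' => simp only [add_mul, map_add, hx, hx', add_zero]

theorem inc_one : inc S (1 : S ⊗[A] B) = 1 := by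
  unfold inc
  rw [Algebra.TensorProduct.one_def, LinearMap.lTensor_tmul, ← TensorProduct.tmul_add]
  simp [Algebra.TensorProduct.one_def, show ((1, 1) : B × A) = 1 from rfl]

theorem inc_mul (x y : S ⊗[A] B) : inc S (x * y) = inc S x * inc S y := by
  unfold inc
  rw [add_mul, mul_add, mul_add, inl_mul, inl_mul_c,
    mul_comm ((1 : S) ⊗ₜ[A] ((0, 1) : B × A)) ((LinearMap.inl A B A).lTensor S y),
    inl_mul_c, Algebra.TensorProduct.tmul_mul_tmul]
  simp

theorem inc_compat {S S' : Type u} [CommSemiring S] [Algebra A S] [CommSemiring S'] [Algebra A S']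
    (φ : S →ₐ[A] S') (x : S ⊗[A] B) :
    φ.toLinearMap.rTensor (B × A) (inc S x) = inc S' (φ.toLinearMap.rTensor B x) := by
  unfold inc
  rw [map_add, LinearMap.rTensor_tmul, AlgHom.toLinearMap_apply, map_one,
    ← LinearMap.comp_apply, LinearMap.rTensor_comp_lTensor, ← LinearMap.lTensor_comp_rTensor,
    LinearMap.comp_apply]

end Inc


section Law

variable {A B : Type u} [CommRing A] [CommRing B] [Algebra A B]
variable (M : Type u) [AddCommGroup M] [Module A M] [Module B M] [IsScalarTower A B M]
variable (M' : Type u) [AddCommGroup M'] [Module A M']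

attribute [local instance] prodModule prodTower

section Eval

variable (S : Type u) [CommRing S] [Algebra A S]

theorem actEnd_inl (x : S ⊗[A] B) (z : S ⊗[A] (M × M')) :
    TensorProduct.prodRight A S S M M' (actEnd (M × M') S ((LinearMap.inl A B A).lTensor S x) z) =
      (actEnd M S x (TensorProduct.prodRight A S S M M' z).1, 0) := by
  induction x using TensorProduct.induction_on with
  | zero => simp; rfl
  | tmul s b =>
    induction z using TensorProduct.induction_on with
    | zero => simp; rfl
    | tmul t mm =>
      rw [LinearMap.lTensor_tmul, LinearMap.inl_apply, actEnd_tmul_tmul, TensorProduct.prodRight_tmul,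
        TensorProduct.prodRight_tmul, actEnd_tmul_tmul, prod_smul_def]
      simp
    | add z z' hz hz' => simp only [map_add, hz, hz', Prod.fst_add, Prod.mk_add_mk, add_zero]
  | add x x' hx hx' =>
    simp only [map_add, LinearMap.add_apply, hx, hx', Prod.mk_add_mk, add_zero]

theorem actEnd_c (z : S ⊗[A] (M × M')) :
    TensorProduct.prodRight A S S M M' (actEnd (M × M') S ((1 : S) ⊗ₜ[A] ((0, 1) : B × A)) z) =
      (0, (TensorProduct.prodRight A S S M M' z).2) := by
  induction z using TensorProduct.induction_on with
  | zero => simp; rfl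
  | tmul t mm =>
    rw [actEnd_tmul_tmul, TensorProduct.prodRight_tmul, TensorProduct.prodRight_tmul, prod_smul_def]
    simp
  | add z z' hz hz' => simp only [map_add, hz, hz', Prod.snd_add, Prod.mk_add_mk, add_zero]

theorem actEnd_inc (x : S ⊗[A] B) (z : S ⊗[A] (M × M')) :
    TensorProduct.prodRight A S S M M' (actEnd (M × M') S (inc S x) z) =
      (LinearMap.prodMap (actEnd M S x) LinearMap.id) (TensorProduct.prodRight A S S M M' z) := by
  unfold inc
  rw [map_add, LinearMap.add_apply, map_add, actEnd_inl, actEnd_c]
  simp

theorem detAct_inc [Module.Finite A M] [Module.Projective A M] [Module.Finite A M']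
    [Module.Projective A M'] [IsLocalRing S] (x : S ⊗[A] B) :
    detAct (M × M') S (inc S x) = detAct M S x := by
  have : Module.Free S (S ⊗[A] M) := Module.free_of_flat_of_isLocalRing
  have : Module.Free S (S ⊗[A] M') := Module.free_of_flat_of_isLocalRing
  unfold detAct
  have h : actEnd (M × M') S (inc S x) =
      (TensorProduct.prodRight A S S M M').symm.toLinearMap ∘ₗ
        (LinearMap.prodMap (actEnd M S x) LinearMap.id) ∘ₗ
        (TensorProduct.prodRight A S S M M').symm.symm.toLinearMap := by
    apply LinearMap.ext
    intro z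
    apply (TensorProduct.prodRight A S S M M').injective
    rw [actEnd_inc]
    simp
  rw [h, LinearMap.det_conj, LinearMap.det_prodMap, LinearMap.det_id, mul_one]

end Eval

variable [Module.Free A (M × M')] [Module.Finite A (M × M')]

/-- The determinant law of `B` acting on the projective module `M`, computed on `M × M'` free. -/
noncomputable def projLaw : B →ₚₗ[A] A where
  toFun' S _ _ x := detFun A (B × A) (M × M') S (inc S x)
  isCompat' φ := by
    funext x
    simp only [Function.comp_apply]
    rw [detFun_compat, inc_compat]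

theorem projLaw_isMult : IsMult (projLaw (A := A) (B := B) M M') := fun S _ _ =>
  ⟨by
    show detFun A (B × A) (M × M') S (inc S 1) = 1
    rw [inc_one, detFun_one],
   fun x y => by
    show detFun A (B × A) (M × M') S (inc S (x * y)) = _
    rw [inc_mul, detFun_mul]
    rfl⟩

theorem projLaw_local [Module.Finite A M] [Module.Projective A M] [Module.Finite A M']
    [Module.Projective A M'] (S : Type u) [CommRing S] [IsLocalRing S] [Algebra A S] (x : S ⊗[A] B) :
    (projLaw (A := A) (B := B) M M').toFun' S x = detAct M S x ⊗ₜ[A] (1 : A) := by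
  show detFun A (B × A) (M × M') S (inc S x) = _
  rw [detFun_eq_detAct, detAct_inc]

end Law

theorem exists_compl (A M : Type u) [CommRing A] [AddCommGroup M] [Module A M]
    [Module.Finite A M] [Module.Projective A M] :
    ∃ (M' : Type u) (_ : AddCommGroup M') (_ : Module A M'), Module.Finite A M' ∧
      Module.Projective A M' ∧ Module.Free A (M × M') := by
  obtain ⟨n, f, g, hf, hg, hfg⟩ := Module.Finite.exists_comp_eq_id_of_projective A M
  have hfg' : ∀ m, f (g m) = m := fun m => by simpa using LinearMap.congr_fun hfg m
  let q : (Fin n → A) →ₗ[A] LinearMap.ker f :=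
    LinearMap.codRestrict (LinearMap.ker f) (LinearMap.id - g ∘ₗ f) (fun v => by simp [hfg'])
  have hq : ∀ k : LinearMap.ker f, q k = k := by
    intro k
    apply Subtype.ext
    have : f k = 0 := k.2
    simp [q, this]
  let e : (M × LinearMap.ker f) ≃ₗ[A] (Fin n → A) :=
    LinearEquiv.ofLinearMap (g.coprod (LinearMap.ker f).subtype) (f.prod q)
      (by
        apply LinearMap.ext
        intro v
        simp [q])
      (by
        apply LinearMap.ext
        rintro ⟨m, k⟩
        have hk : f k = 0 := k.2
        apply Prod.ext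
        · simp [hfg', hk]
        · apply Subtype.ext
          simp [q, hfg', hk])
  refine ⟨LinearMap.ker f, inferInstance, inferInstance, ?_, ?_, Module.Free.of_equiv e.symm⟩
  · exact Module.Finite.of_surjective q (fun k => ⟨k, hq k⟩)
  · exact Module.Projective.of_split (LinearMap.ker f).subtype q (LinearMap.ext fun k => hq k)

section Main

variable {A B : Type u} [CommRing A] [CommRing B] [Algebra A B]

theorem arid_rTensor {S S' : Type u} [CommSemiring S] [Algebra A S] [CommSemiring S']
    [Algebra A S'] (φ : S →ₐ[A] S') (z : S ⊗[A] A) :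
    Algebra.TensorProduct.rid A S' S' (φ.toLinearMap.rTensor A z) =
      φ (Algebra.TensorProduct.rid A S S z) := by
  induction z using TensorProduct.induction_on with
  | zero => simp
  | tmul s a => simp
  | add a b ha hb => simp [ha, hb]

theorem rTensor_smul {S S' : Type u} [CommSemiring S] [Algebra A S] [CommSemiring S']
    [Algebra A S'] (φ : S →ₐ[A] S') (s : S) (x : S ⊗[A] B) :
    φ.toLinearMap.rTensor B (s • x) = φ s • φ.toLinearMap.rTensor B x := by
  induction x using TensorProduct.induction_on with
  | zero => simp
  | tmul t b => simp [TensorProduct.smul_tmul']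
  | add a b ha hb => simp only [smul_add, map_add, ha, hb]

/-- Homogeneity of a law `B → A` can be tested on local ring test algebras. -/
theorem isHomog_of_local {N : B →ₚₗ[A] A} (d : ℕ)
    (h : ∀ (S : Type u) [CommRing S] [IsLocalRing S] [Algebra A S] (s : S) (x : S ⊗[A] B),
      N.toFun' S (s • x) = s ^ d • N.toFun' S x) : IsHomog N d := by
  intro S _ _ s x
  let _ : CommRing S := (algebraMap A S).commSemiringToCommRing
  apply (Algebra.TensorProduct.rid A S S).injective
  rw [← sub_eq_zero]
  apply eq_zero_of_localization
  intro J hJ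
  rw [map_sub, sub_eq_zero]
  let ψ : S →ₐ[A] Localization.AtPrime J := IsScalarTower.toAlgHom A S _
  have h1 := h (Localization.AtPrime J) (ψ s) (ψ.toLinearMap.rTensor B x)
  rw [← rTensor_smul, ← PolynomialLaw.isCompat_apply', ← PolynomialLaw.isCompat_apply'] at h1
  have h2 := congrArg (Algebra.TensorProduct.rid A (Localization.AtPrime J) (Localization.AtPrime J)) h1
  rw [arid_rTensor, map_smul, arid_rTensor, smul_eq_mul, ← map_pow, ← map_mul] at h2
  rw [map_smul, smul_eq_mul]
  exact h2

variable (M : Type u) [AddCommGroup M] [Module A M] [Module B M] [IsScalarTower A B M]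

theorem finrank_of_rankAtStalk [Module.Finite A M] [Module.Projective A M] (d : ℕ)
    (hd : ∀ p : PrimeSpectrum A, Module.rankAtStalk M p = d)
    (S : Type u) [CommRing S] [IsLocalRing S] [Algebra A S] :
    Module.finrank S (S ⊗[A] M) = d := by
  have : Module.Free S (S ⊗[A] M) := Module.free_of_flat_of_isLocalRing
  have h1 := congrFun (Module.rankAtStalk_eq_finrank_of_free (R := S) (M := S ⊗[A] M))
    (IsLocalRing.closedPoint S)
  rw [Module.rankAtStalk_baseChange, hd] at h1
  exact h1.symm

theorem detAct_smul_local [Module.Finite A M] [Module.Projective A M] (d : ℕ)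
    (hd : ∀ p : PrimeSpectrum A, Module.rankAtStalk M p = d)
    (S : Type u) [CommRing S] [IsLocalRing S] [Algebra A S] (s : S) (x : S ⊗[A] B) :
    detAct M S (s • x) = s ^ d * detAct M S x := by
  have : Module.Free S (S ⊗[A] M) := Module.free_of_flat_of_isLocalRing
  unfold detAct
  rw [map_smul, LinearMap.det_smul, finrank_of_rankAtStalk M d hd S]

theorem main19867 [Module.Finite A M] [Module.Projective A M] :
    ∃! N : B →ₚₗ[A] A, PolLaw.IsMult N ∧
      ∀ (S : Type u) [CommRing S] [IsLocalRing S] [Algebra A S] (x : S ⊗[A] B),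
        N.toFun' S x = PolLaw.detAct M S x ⊗ₜ[A] (1 : A) := by
  obtain ⟨M', _, _, _, _, _⟩ := exists_compl A M
  refine ⟨projLaw M M', ⟨projLaw_isMult M M', fun S _ _ _ x => projLaw_local M M' S x⟩, ?_⟩
  rintro N' ⟨_, hN'⟩
  exact eq_of_local (fun S _ _ _ x => by rw [hN' S x, projLaw_local M M' S x])

theorem main13876 [Module.Finite A M] [Module.Projective A M] (d : ℕ)
    (hd : ∀ p : PrimeSpectrum A, Module.rankAtStalk M p = d) :
    ∃! N : PolLaw.MulLaw A B A d,
      ∀ (S : Type u) [CommRing S] [IsLocalRing S] [Algebra A S] (x : S ⊗[A] B),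
        N.law.toFun' S x = PolLaw.detAct M S x ⊗ₜ[A] (1 : A) := by
  obtain ⟨M', _, _, _, _, _⟩ := exists_compl A M
  have hh : IsHomog (projLaw (A := A) (B := B) M M') d := by
    apply isHomog_of_local
    intro S _ _ _ s x
    rw [projLaw_local M M' S, projLaw_local M M' S, detAct_smul_local M d hd S,
      TensorProduct.smul_tmul', smul_eq_mul]
  refine ⟨⟨projLaw M M', hh, projLaw_isMult M M'⟩, fun S _ _ _ x => projLaw_local M M' S x, ?_⟩
  intro N' hN'
  apply PolLaw.MulLaw.ext
  exact eq_of_local (fun S _ _ _ x => by rw [hN' S x]; exact (projLaw_local M M' S x).symm)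

end Main

end Helper71.DetProj
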