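import Groth.Agent.Lib.Helper83.Dk0
set_option autoImplicit false

open CliffordAlgebra Groth.Agent.Lib.Helper83.Cl2 Groth.Agent.Lib.Helper83.Cl5
  Groth.Agent.Lib.Helper83.Cl6 Groth.Agent.Lib.Helper83.Dk Groth.Agent.Lib.Helper75.OrthSplit

universe u v
variable {R : Type u} [CommRing R]

namespace Groth.Agent.Lib.Helper71.Dickson6

/-- `ζ` commutes with products of two vectors. -/
theorem zeta_comm_ι_mul_ι {N : Type v} [AddCommGroup N] [Module R N] (q : QuadraticForm R N)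
    (ζ : CliffordAlgebra q) (hζ : Zeta q ζ) (u w : N) :
    ι q u * ι q w * ζ = ζ * (ι q u * ι q w) := by
  have h1 := hζ.2.1 u
  have h2 := hζ.2.1 w
  calc ι q u * ι q w * ζ = ι q u * (ι q w * ζ) := by rw [mul_assoc]
    _ = ι q u * ((1 - ζ) * ι q w) := by rw [h2]
    _ = (ι q u - ι q u * ζ) * ι q w := by rw [← mul_assoc, mul_sub, mul_one]
    _ = (ι q u - (1 - ζ) * ι q u) * ι q w := by rw [h1]
    _ = ζ * (ι q u * ι q w) := by
        simp only [sub_mul, one_mul, sub_sub_cancel, mul_assoc]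

/-- DK6: an even element commuting with all even elements is `α + β ζ`. -/
theorem center_even_structure {M : Type v} [AddCommGroup M] [Module R M] [Module.Free R M]
    [Module.Finite R M] (Q : QuadraticForm R M)
    (hQ : Function.Surjective (QuadraticMap.polarBilin Q))
    (ζ : CliffordAlgebra Q) (hζ : Zeta Q ζ) (v₀ : M) (hv₀ : IsUnit (Q v₀))
    (x : CliffordAlgebra Q) (hx : x ∈ evenOdd Q 0) (hc : ∀ y ∈ evenOdd Q 0, y * x = x * y) :
    ∃ α β : R, x = algebraMap R _ α + β • ζ := by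
  obtain ⟨a, ha⟩ := hv₀
  obtain ⟨s, hs⟩ : ∃ s, s = ι Q v₀ := ⟨_, rfl⟩
  obtain ⟨t, ht⟩ : ∃ t : CliffordAlgebra Q, t = ((a⁻¹ : Rˣ) : R) • s := ⟨_, rfl⟩
  have hss : s * s = algebraMap R _ (a : R) := by rw [ha, hs]; exact ι_sq_scalar Q v₀
  have hst : s * t = 1 := by
    rw [ht, mul_smul_comm, hss, Algebra.smul_def, ← map_mul, Units.inv_mul, map_one]
  have hts : t * s = 1 := by
    rw [ht, smul_mul_assoc, hss, Algebra.smul_def, ← map_mul, Units.inv_mul, map_one]
  have hs1 : s ∈ evenOdd Q 1 := by rw [hs]; exact ι_mem_evenOdd_one Q v₀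
  have ht1 : t ∈ evenOdd Q 1 := by rw [ht]; exact Submodule.smul_mem _ _ hs1
  have h11 : ∀ p q : CliffordAlgebra Q, p ∈ evenOdd Q 1 → q ∈ evenOdd Q 1 → p * q ∈ evenOdd Q 0 := by
    intro p q hp hq
    have := SetLike.mul_mem_graded hp hq
    rwa [show (1 : ZMod 2) + 1 = 0 from rfl] at this
  have h01 : ∀ p q : CliffordAlgebra Q, p ∈ evenOdd Q 0 → q ∈ evenOdd Q 1 → p * q ∈ evenOdd Q 1 := by
    intro p q hp hq
    have := SetLike.mul_mem_graded hp hq
    rwa [zero_add] at this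
  have h10 : ∀ p q : CliffordAlgebra Q, p ∈ evenOdd Q 1 → q ∈ evenOdd Q 0 → p * q ∈ evenOdd Q 1 := by
    intro p q hp hq
    have := SetLike.mul_mem_graded hp hq
    rwa [add_zero] at this
  -- x' = s x t
  obtain ⟨x', hx'⟩ : ∃ x', x' = s * x * t := ⟨_, rfl⟩
  have hx'e : x' ∈ evenOdd Q 0 := by rw [hx']; exact h11 _ _ (h10 _ _ hs1 hx) ht1
  have hx'c : ∀ y ∈ evenOdd Q 0, y * x' = x' * y := by
    intro y hy
    have hye : t * y * s ∈ evenOdd Q 0 := h11 _ _ (h10 _ _ ht1 hy) hs1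
    have h := hc _ hye
    calc y * x' = (s * t) * y * (s * x * t) := by rw [hst, one_mul, hx']
      _ = s * ((t * y * s) * x) * t := by simp only [mul_assoc]
      _ = s * (x * (t * y * s)) * t := by rw [h]
      _ = s * x * t * y * (s * t) := by simp only [mul_assoc]
      _ = x' * y := by rw [hst, mul_one, hx']
  have hat : algebraMap R (CliffordAlgebra Q) (a : R) * t = s := by
    rw [ht, ← Algebra.smul_def, smul_smul, Units.mul_inv, one_smul]
  have hsx' : s * x' = x * s := by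
    calc s * x' = (s * s) * x * t := by rw [hx']; simp only [mul_assoc]
      _ = x * (algebraMap R (CliffordAlgebra Q) (a : R) * t) := by
          rw [hss, Algebra.commutes, mul_assoc]
      _ = x * s := by rw [hat]
  have hx's : x' * s = s * x := by rw [hx', mul_assoc, hts, mul_one]
  -- d = x - x'
  obtain ⟨d, hd⟩ : ∃ d, d = x - x' := ⟨_, rfl⟩
  have hde : d ∈ evenOdd Q 0 := by rw [hd]; exact Submodule.sub_mem _ hx hx'e
  have hdc : ∀ y ∈ evenOdd Q 0, y * d = d * y := by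
    intro y hy; rw [hd, mul_sub, sub_mul, hc y hy, hx'c y hy]
  have hsd : s * d = -(d * s) := by
    rw [hd, mul_sub, sub_mul, hsx', hx's, neg_sub]
  have hvt : ∀ v, ι Q v * t ∈ evenOdd Q 0 := fun v => h11 _ _ (ι_mem_evenOdd_one Q v) ht1
  have hvts : ∀ v, ι Q v = ι Q v * t * s := by intro v; rw [mul_assoc, hts, mul_one]
  have hda : ∀ v, ι Q v * d = -(d * ι Q v) := by
    intro v
    calc ι Q v * d = ι Q v * t * (s * d) := by rw [← mul_assoc, ← hvts v]
      _ = -(ι Q v * t * d * s) := by rw [hsd, mul_neg]; simp only [mul_assoc]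
      _ = -(d * (ι Q v * t) * s) := by rw [hdc _ (hvt v)]
      _ = -(d * ι Q v) := by rw [mul_assoc, ← hvts v]
  obtain ⟨hze, hza, r, hr⟩ := zeta_z Q hζ
  obtain ⟨κ, hκ⟩ := eq_smul_of_even_anticomm Q hQ _ hze hza r hr d hde hda
  -- y = x + κ ζ
  have hsζ : s * ζ = (1 - ζ) * s := by rw [hs]; exact hζ.2.1 v₀
  obtain ⟨y, hy⟩ : ∃ y, y = x + κ • ζ := ⟨_, rfl⟩
  have hye : y ∈ evenOdd Q 0 := by
    rw [hy]; exact Submodule.add_mem _ hx (Submodule.smul_mem _ _ hζ.1)
  have hsy : s * y = y * s := by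
    have hx'eq : x' = x - κ • (1 - (ζ + ζ)) := by rw [← hκ, hd]; abel
    have h1 : s * x = x' * s := hx's.symm
    rw [hy, mul_add, add_mul, mul_smul_comm, smul_mul_assoc, hsζ, h1, hx'eq]
    simp only [sub_mul, one_mul, smul_sub, add_mul, smul_add, smul_mul_assoc]
    abel
  have hζvt : ∀ v, ι Q v * t * ζ = ζ * (ι Q v * t) := by
    intro v
    rw [ht, hs, mul_smul_comm, smul_mul_assoc, mul_smul_comm, zeta_comm_ι_mul_ι Q ζ hζ]
  have hyvt : ∀ v, ι Q v * t * y = y * (ι Q v * t) := by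
    intro v
    rw [hy, mul_add, add_mul, hc _ (hvt v), mul_smul_comm, smul_mul_assoc, hζvt v]
  have hyc : ∀ v, ι Q v * y = y * ι Q v := by
    intro v
    calc ι Q v * y = ι Q v * t * (s * y) := by rw [← mul_assoc, ← hvts v]
      _ = ι Q v * t * y * s := by rw [hsy]; simp only [mul_assoc]
      _ = y * (ι Q v * t) * s := by rw [hyvt v]
      _ = y * ι Q v := by rw [mul_assoc, ← hvts v]
  obtain ⟨α, hα⟩ := even_comm_scalar Q hQ y hye hyc
  refine ⟨α, -κ, ?_⟩
  rw [← hα, hy, neg_smul]; abel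

end Groth.Agent.Lib.Helper71.Dickson6
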