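import Mathlib

/-!
# `Ext¹` of modules from a projective cover (helper71 seat library)

For an exact sequence `0 → K → F → M → 0` of `R`-modules with `F` projective,
`Ext¹_R(M, N) ≃ₗ[R] Hom_R(K, N) ⧸ (restrictions of maps F → N)`.
-/

set_option autoImplicit false
universe u

open CategoryTheory Abelian

namespace Helper71.ExtOne

section

variable {R : Type u} [CommRing R] {K F M N : Type u}
  [AddCommGroup K] [Module R K] [AddCommGroup F] [Module R F] [AddCommGroup M] [Module R M]
  [AddCommGroup N] [Module R N]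

/-- The short complex in `ModuleCat` attached to a pair of composable linear maps with zero
composite. -/
noncomputable abbrev sc (ι : K →ₗ[R] F) (π : F →ₗ[R] M) (hex : Function.Exact ι π) :
    ShortComplex (ModuleCat.{u} R) :=
  ShortComplex.mk (ModuleCat.ofHom ι) (ModuleCat.ofHom π) (by
    ext x
    exact hex.apply_apply_eq_zero x)

theorem sc_shortExact (ι : K →ₗ[R] F) (π : F →ₗ[R] M) (hι : Function.Injective ι)
    (hπ : Function.Surjective π) (hex : Function.Exact ι π) : (sc ι π hex).ShortExact := by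
  have h1 : (sc ι π hex).Exact := by
    rw [ShortComplex.ShortExact.moduleCat_exact_iff_function_exact]
    exact hex
  have : Mono (sc ι π hex).f := (ModuleCat.mono_iff_injective _).mpr hι
  have : Epi (sc ι π hex).g := (ModuleCat.epi_iff_surjective _).mpr hπ
  exact ShortComplex.ShortExact.mk h1

/-- The connecting map `Hom(K, N) → Ext¹(M, N)` as a linear map. -/
noncomputable def delta (ι : K →ₗ[R] F) (π : F →ₗ[R] M) (hι : Function.Injective ι)
    (hπ : Function.Surjective π) (hex : Function.Exact ι π) :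
    (K →ₗ[R] N) →ₗ[R] Ext (ModuleCat.of R M) (ModuleCat.of R N) 1 where
  toFun f := (sc_shortExact ι π hι hπ hex).extClass.comp
    (Ext.mk₀ (ModuleCat.ofHom f : ModuleCat.of R K ⟶ ModuleCat.of R N)) (add_zero 1)
  map_add' f g := by
    rw [ModuleCat.ofHom_add, Ext.mk₀_add, Ext.comp_add]
  map_smul' r f := by
    have : (ModuleCat.ofHom (r • f) : ModuleCat.of R K ⟶ ModuleCat.of R N) =
        r • ModuleCat.ofHom f := rfl
    rw [this, Ext.mk₀_smul, Ext.comp_smul]
    rfl

theorem delta_surjective [Module.Projective R F] (ι : K →ₗ[R] F) (π : F →ₗ[R] M)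
    (hι : Function.Injective ι) (hπ : Function.Surjective π) (hex : Function.Exact ι π) :
    Function.Surjective (delta (N := N) ι π hι hπ hex) := by
  intro x
  have hS := sc_shortExact ι π hι hπ hex
  have : Projective (sc ι π hex).X₂ := by
    change Projective (ModuleCat.of R F)
    infer_instance
  obtain ⟨x₁, hx₁⟩ := Ext.contravariant_sequence_exact₃ hS (ModuleCat.of R N) x
    (Ext.eq_zero_of_projective _) (add_zero 1)
  obtain ⟨f, rfl⟩ := (Ext.mk₀_bijective _ _).2 x₁
  refine ⟨f.hom, ?_⟩
  exact hx₁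

theorem delta_ker [Module.Projective R F] (ι : K →ₗ[R] F) (π : F →ₗ[R] M)
    (hι : Function.Injective ι) (hπ : Function.Surjective π) (hex : Function.Exact ι π) :
    LinearMap.ker (delta (N := N) ι π hι hπ hex) = LinearMap.range (LinearMap.lcomp R N ι) := by
  have hS := sc_shortExact ι π hι hπ hex
  ext f
  rw [LinearMap.mem_ker, LinearMap.mem_range]
  constructor
  · intro hf
    obtain ⟨x₂, hx₂⟩ := Ext.contravariant_sequence_exact₁ hS (ModuleCat.of R N)
      (Ext.mk₀ (ModuleCat.ofHom f : ModuleCat.of R K ⟶ ModuleCat.of R N)) (add_zero 1) hf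
    obtain ⟨g, rfl⟩ := (Ext.mk₀_bijective _ _).2 x₂
    rw [Ext.mk₀_comp_mk₀] at hx₂
    have h2 := (Ext.mk₀_bijective _ _).1 hx₂
    refine ⟨g.hom, ?_⟩
    have h3 := congrArg ModuleCat.Hom.hom h2
    exact h3
  · rintro ⟨g, rfl⟩
    change (sc_shortExact ι π hι hπ hex).extClass.comp (Ext.mk₀ (ModuleCat.ofHom (g ∘ₗ ι)))
      (add_zero 1) = 0
    have : (ModuleCat.ofHom (g ∘ₗ ι) : ModuleCat.of R K ⟶ ModuleCat.of R N) =
        (sc ι π hex).f ≫ ModuleCat.ofHom g := rfl
    rw [this, ← Ext.mk₀_comp_mk₀]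
    exact ShortComplex.ShortExact.extClass_comp_assoc _ _

/-- `Ext¹(M, N)` as a quotient of `Hom(K, N)`. -/
noncomputable def extOneEquiv [Module.Projective R F] (ι : K →ₗ[R] F) (π : F →ₗ[R] M)
    (hι : Function.Injective ι) (hπ : Function.Surjective π) (hex : Function.Exact ι π) :
    ((K →ₗ[R] N) ⧸ LinearMap.range (LinearMap.lcomp R N ι)) ≃ₗ[R]
      Ext (ModuleCat.of R M) (ModuleCat.of R N) 1 :=
  (Submodule.quotEquivOfEq _ _ (delta_ker (N := N) ι π hι hπ hex).symm) ≪≫ₗ
    (delta (N := N) ι π hι hπ hex).quotKerEquivOfSurjective (delta_surjective ι π hι hπ hex)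

theorem length_ext_one [Module.Projective R F] (ι : K →ₗ[R] F) (π : F →ₗ[R] M)
    (hι : Function.Injective ι) (hπ : Function.Surjective π) (hex : Function.Exact ι π) :
    Module.length R (Ext (ModuleCat.of R M) (ModuleCat.of R N) 1) =
      Module.length R ((K →ₗ[R] N) ⧸ LinearMap.range (LinearMap.lcomp R N ι)) :=
  (extOneEquiv (N := N) ι π hι hπ hex).length_eq.symm

end

end Helper71.ExtOne
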