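import Mathlib
set_option autoImplicit false
universe u v w
open CategoryTheory CategoryTheory.Limits Abelian

namespace Groth.Agent.Lib.Helper71.ExtSplitZero

/-- [C] the extension class of a short exact sequence admitting a section vanishes. -/
theorem extClass_eq_zero_of_section {C : Type u} [Category.{v} C] [Abelian C] [HasExt.{w} C]
    {S : ShortComplex C} (hS : S.ShortExact) (s : S.X₃ ⟶ S.X₂) (hs : s ≫ S.g = 𝟙 S.X₃) :
    hS.extClass = 0 := by
  have h1 : hS.extClass = (Ext.mk₀ (s ≫ S.g)).comp hS.extClass (zero_add 1) := by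
    rw [hs, Ext.mk₀_id_comp]
  rw [h1, ← Ext.mk₀_comp_mk₀, Ext.comp_assoc_of_second_deg_zero, hS.comp_extClass, Ext.comp_zero]

end Groth.Agent.Lib.Helper71.ExtSplitZero
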