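import Mathlib

/-!
# Fibre ranks of finite modules (helper71)

`fd X p = dim_{κ(p)} κ(p) ⊗ X`; upper semicontinuity (`isOpen_fd_le`), constructibility of level sets
over Noetherian rings (`isConstructible_fd_eq`), and rank-nullity on fibres
(`finrank_range_baseChange_add`).
-/

open TensorProduct

namespace Helper71.FibreRank

universe u v

variable {A : Type u} [CommRing A]

/-- fibre dimension of a module at a prime -/
noncomputable def fd (X : Type v) [AddCommGroup X] [Module A X] (p : PrimeSpectrum A) : ℕ :=
  Module.finrank p.asIdeal.ResidueField (p.asIdeal.ResidueField ⊗[A] X)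

variable {X : Type v} [AddCommGroup X] [Module A X]

theorem fd_le_of_surjective (p : PrimeSpectrum A) {k : ℕ} (G : (Fin k → A) →ₗ[A] X)
    (hG : Function.Surjective (G.baseChange p.asIdeal.ResidueField)) : fd X p ≤ k := by
  unfold fd
  have : Nontrivial A := p.nontrivial
  have h1 := LinearMap.finrank_le_finrank_of_surjective hG
  have h2 : Module.finrank p.asIdeal.ResidueField (p.asIdeal.ResidueField ⊗[A] (Fin k → A)) = k := by
    rw [Module.finrank_baseChange]; simp
  omega

theorem baseChange_surjective_of_surjective (p : PrimeSpectrum A) {Y : Type*} [AddCommGroup Y]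
    [Module A Y] (G : Y →ₗ[A] X) (hG : Function.Surjective G) :
    Function.Surjective (G.baseChange p.asIdeal.ResidueField) := by
  have := LinearMap.lTensor_surjective p.asIdeal.ResidueField hG
  exact this

theorem fd_le_card (p : PrimeSpectrum A) {k : ℕ} (x : Fin k → X)
    (hx : Submodule.span A (Set.range x) = ⊤) : fd X p ≤ k := by
  apply fd_le_of_surjective p (Fintype.linearCombination A x)
  apply baseChange_surjective_of_surjective
  rw [← LinearMap.range_eq_top, Fintype.range_linearCombination, hx]


theorem baseChange_surjective_iff (p : PrimeSpectrum A) {Y : Type*} [AddCommGroup Y]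
    [Module A Y] (G : Y →ₗ[A] X) :
    Function.Surjective (G.baseChange p.asIdeal.ResidueField) ↔
      Subsingleton (p.asIdeal.ResidueField ⊗[A] (X ⧸ LinearMap.range G)) := by
  have hex := lTensor_exact p.asIdeal.ResidueField (LinearMap.exact_map_mkQ_range G)
    (Submodule.mkQ_surjective _)
  have hsurj := LinearMap.lTensor_surjective p.asIdeal.ResidueField
    (Submodule.mkQ_surjective (LinearMap.range G))
  constructor
  · intro h
    refine ⟨fun a b => ?_⟩
    obtain ⟨a', rfl⟩ := hsurj a
    obtain ⟨b', rfl⟩ := hsurj b
    obtain ⟨a'', rfl⟩ := h a'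
    obtain ⟨b'', rfl⟩ := h b'
    have h1 := (hex (G.baseChange p.asIdeal.ResidueField a'')).2 ⟨a'', rfl⟩
    have h2 := (hex (G.baseChange p.asIdeal.ResidueField b'')).2 ⟨b'', rfl⟩
    rw [h1, h2]
  · intro h y
    have := (hex y).1 (Subsingleton.elim _ _)
    exact this


theorem span_one_tmul_eq_top (p : PrimeSpectrum A) :
    Submodule.span p.asIdeal.ResidueField
      (Set.range (fun x : X => (1 : p.asIdeal.ResidueField) ⊗ₜ[A] x)) = ⊤ := by
  rw [eq_top_iff]
  rintro y -
  induction y using TensorProduct.induction_on with
  | zero => exact zero_mem _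
  | tmul c x =>
    have : c ⊗ₜ[A] x = c • ((1 : p.asIdeal.ResidueField) ⊗ₜ[A] x) := by
      rw [TensorProduct.smul_tmul', smul_eq_mul, mul_one]
    rw [this]
    exact Submodule.smul_mem _ _ (Submodule.subset_span ⟨x, rfl⟩)
  | add a b ha hb => exact add_mem ha hb

theorem isOpen_fd_le [Module.Finite A X] (d : ℕ) :
    IsOpen {p : PrimeSpectrum A | fd X p ≤ d} := by
  rw [isOpen_iff_mem_nhds]
  intro p hp
  obtain ⟨f, hf, hspan, -⟩ := Submodule.exists_fun_fin_finrank_span_eq p.asIdeal.ResidueField
    (Set.range (fun x : X => (1 : p.asIdeal.ResidueField) ⊗ₜ[A] x))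
  have he : Module.finrank p.asIdeal.ResidueField
      (Submodule.span p.asIdeal.ResidueField
        (Set.range (fun x : X => (1 : p.asIdeal.ResidueField) ⊗ₜ[A] x))) = fd X p := by
    rw [span_one_tmul_eq_top p, finrank_top]; rfl
  replace hspan := hspan.trans (span_one_tmul_eq_top p)
  choose x hx using hf
  generalize Module.finrank p.asIdeal.ResidueField
      (Submodule.span p.asIdeal.ResidueField
        (Set.range (fun x : X => (1 : p.asIdeal.ResidueField) ⊗ₜ[A] x))) = e at *
  have hC : p ∉ Module.support A (X ⧸ LinearMap.range (Fintype.linearCombination A x)) := by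
    rw [Module.mem_support_iff_nontrivial_residueField_tensorProduct,
      not_nontrivial_iff_subsingleton, ← baseChange_surjective_iff]
    rw [← LinearMap.range_eq_top, eq_top_iff, ← hspan, Submodule.span_le]
    rintro _ ⟨i, rfl⟩
    refine ⟨(1 : p.asIdeal.ResidueField) ⊗ₜ[A] (Pi.single i 1), ?_⟩
    rw [LinearMap.baseChange_tmul, ← hx i]
    simp
  have hclosed : IsClosed (Module.support A
      (X ⧸ LinearMap.range (Fintype.linearCombination A x))) := by
    rw [Module.support_eq_zeroLocus]; exact PrimeSpectrum.isClosed_zeroLocus _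
  refine Filter.mem_of_superset (hclosed.isOpen_compl.mem_nhds hC) ?_
  intro p' hp'
  have hp'' : p' ∉ Module.support A (X ⧸ LinearMap.range (Fintype.linearCombination A x)) := hp'
  rw [Module.mem_support_iff_nontrivial_residueField_tensorProduct,
      not_nontrivial_iff_subsingleton, ← baseChange_surjective_iff] at hp''
  have := fd_le_of_surjective p' _ hp''
  have hp2 : fd X p ≤ d := hp
  show fd X p' ≤ d
  omega


theorem isConstructible_fd_le [IsNoetherianRing A] [Module.Finite A X] (d : ℕ) :
    Topology.IsConstructible {p : PrimeSpectrum A | fd X p ≤ d} :=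
  (TopologicalSpace.NoetherianSpace.isCompact _).isConstructible (isOpen_fd_le d)

theorem isConstructible_fd_eq [IsNoetherianRing A] [Module.Finite A X] (b : ℕ) :
    Topology.IsConstructible {p : PrimeSpectrum A | fd X p = b} := by
  cases b with
  | zero =>
    convert isConstructible_fd_le (A := A) (X := X) 0 using 1
    ext p; simp
  | succ b =>
    have : {p : PrimeSpectrum A | fd X p = b + 1} =
        {p | fd X p ≤ b + 1} \ {p | fd X p ≤ b} := by
      ext p; simp only [Set.mem_ofPred_eq, Set.mem_sdiff]; omega
    rw [this]; exact (isConstructible_fd_le _).sdiff (isConstructible_fd_le _)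

theorem finrank_range_baseChange_add (p : PrimeSpectrum A) {Y : Type*} [AddCommGroup Y]
    [Module A Y] [Module.Finite A X] (G : Y →ₗ[A] X) :
    Module.finrank p.asIdeal.ResidueField
        (LinearMap.range (G.baseChange p.asIdeal.ResidueField)) +
      fd (X ⧸ LinearMap.range G) p = fd X p := by
  have hex := lTensor_exact p.asIdeal.ResidueField (LinearMap.exact_map_mkQ_range G)
    (Submodule.mkQ_surjective _)
  have hsurj : Function.Surjective
      ((Submodule.mkQ (LinearMap.range G)).baseChange p.asIdeal.ResidueField) :=
    LinearMap.lTensor_surjective p.asIdeal.ResidueField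
      (Submodule.mkQ_surjective (LinearMap.range G))
  have hker : LinearMap.ker ((Submodule.mkQ (LinearMap.range G)).baseChange p.asIdeal.ResidueField)
      = LinearMap.range (G.baseChange p.asIdeal.ResidueField) := by
    ext y
    rw [LinearMap.mem_ker, LinearMap.mem_range]
    exact hex y
  have h1 := LinearMap.finrank_range_add_finrank_ker
    ((Submodule.mkQ (LinearMap.range G)).baseChange p.asIdeal.ResidueField)
  rw [LinearMap.range_eq_top.2 hsurj, finrank_top, hker] at h1
  unfold fd
  omega

end Helper71.FibreRank
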