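import Mathlib
import Groth.Prelude.Def_Red2
import Groth.Agent.Lib.Lead.GaTorsor
import Groth.Agent.Lib.Lead.GmTorsor

/-!
# Fixed points of `G_a` / `G_m` actions on proper schemes: core (helper71)
-/

set_option autoImplicit false
universe u
open CategoryTheory CategoryTheory.Limits MonoidalCategory CartesianMonoidalCategory MonObj
  AlgebraicGeometry Polynomial
open Groth.Agent.Lib.Lead.GaTorsor (ov ovMap smul comp_smul mul_smul ovMap_comp pt fn fn_pt
  fn_injective fn_mul fn_comp)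
open Groth.Agent.Lib.Lead.GmTorsor (ptm fnm fnm_ptm fnm_injective fnm_mul fnm_comp fnm_mul_inv)

namespace Groth.Agent.Lib.Helper71.FixPt

section Abstract

variable {S : Scheme.{u}} {G X : Over S} [GrpObj G] (a : AlgGrp.Action G X)

/-- Two families `W ⟶ X` agreeing on a dominant `V ⟶ W` agree (`W` reduced, `X` separated). -/
theorem smul_eq_of_dominant [IsSeparated X.hom] {C W V : Over S} [IsReduced W.left] (iV : V ⟶ W)
    [IsDominant iV.left] (c : C ⟶ X) (pg : W ⟶ G) (ps mu : W ⟶ C)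
    (hV : smul a (iV ≫ pg) (iV ≫ ps ≫ c) = iV ≫ mu ≫ c) : smul a pg (ps ≫ c) = mu ≫ c := by
  apply Over.OverMorphism.ext
  refine ext_of_isDominant_of_isSeparated X.hom ?_ iV.left ?_
  · rw [Over.w, Over.w]
  · have h := (comp_smul a iV pg (ps ≫ c)).trans hV
    exact congrArg CommaMorphism.left h

theorem fixed_of_section {C W : Over S} (c : C ⟶ X) (o : 𝟙_ (Over S) ⟶ C) (pg : W ⟶ G)
    (ps mu : W ⟶ C) (hW : smul a pg (ps ≫ c) = mu ≫ c) {T : Over S} (g : T ⟶ G) (z : T ⟶ W)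
    (h1 : z ≫ pg = g) (h2 : z ≫ ps = toUnit T ≫ o) (h3 : z ≫ mu = toUnit T ≫ o) :
    smul a g (toUnit T ≫ o ≫ c) = toUnit T ≫ o ≫ c := by
  have h : z ≫ smul a pg (ps ≫ c) = z ≫ mu ≫ c := congrArg (fun t => z ≫ t) hW
  rw [comp_smul, h1, ← Category.assoc z ps c, h2, ← Category.assoc z mu c, h3, Category.assoc]
    at h
  exact h

end Abstract

section Calc

variable (k : Type u) [Field k]

/-- `Spec B` over `Spec k`. -/
noncomputable abbrev ovk (B : Type u) [CommRing B] [Algebra k B] :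
    Over (Spec (CommRingCat.of k)) := ov (CommRingCat.of k) (𝟙 _) B

variable {k}
variable {B C : Type u} [CommRing B] [CommRing C] [Algebra k B] [Algebra k C]

/-- `B`-point of the affine line `Spec k[X]`. -/
noncomputable def cpt (b : B) : ovk k B ⟶ ovk k k[X] :=
  ovMap (CommRingCat.of k) (𝟙 _) (Polynomial.aeval b)

theorem ovMap_cpt (φ : B →ₐ[k] C) (b : B) :
    ovMap (CommRingCat.of k) (𝟙 _) φ ≫ cpt b = cpt (φ b) := by
  unfold cpt
  rw [← ovMap_comp]
  congr 1
  apply Polynomial.algHom_ext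
  simp

/-- the origin of the affine line -/
noncomputable def origin : 𝟙_ (Over (Spec (CommRingCat.of k))) ⟶ ovk k k[X] :=
  Over.homMk (Spec.map (CommRingCat.ofHom (Polynomial.aeval (0 : k) : k[X] →ₐ[k] k).toRingHom)) (by
    change Spec.map _ ≫ Spec.map _ ≫ 𝟙 _ = 𝟙 _
    rw [Category.comp_id, ← Spec.map_comp, ← Spec.map_id]
    congr 1
    ext r
    simp)

theorem toUnit_origin : toUnit (ovk k B) ≫ origin = cpt (0 : B) := by
  apply Over.OverMorphism.ext
  change (Spec.map _ ≫ 𝟙 _) ≫ Spec.map _ = Spec.map _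
  rw [Category.comp_id, ← Spec.map_comp]
  congr 1
  apply CommRingCat.hom_ext
  apply Polynomial.ringHom_ext
  · intro r
    change algebraMap k B ((Polynomial.aeval (0 : k)) (Polynomial.C r)) =
      (Polynomial.aeval (0 : B)) (Polynomial.C r)
    simp
  · change algebraMap k B ((Polynomial.aeval (0 : k)) Polynomial.X) =
      (Polynomial.aeval (0 : B)) Polynomial.X
    simp

theorem ovMap_pt (φ : B →ₐ[k] C) (b : B) :
    ovMap (CommRingCat.of k) (𝟙 _) φ ≫ pt (CommRingCat.of k) (𝟙 _) b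
      = pt (CommRingCat.of k) (𝟙 _) (φ b) := by
  apply fn_injective
  rw [fn_comp, fn_pt, fn_pt]

theorem pt_mul (b b' : B) :
    pt (CommRingCat.of k) (𝟙 _) b * pt (CommRingCat.of k) (𝟙 _) b'
      = pt (CommRingCat.of k) (𝟙 _) (b + b') := by
  apply fn_injective
  rw [fn_mul, fn_pt, fn_pt, fn_pt]

theorem eq_pt (g : ovk k B ⟶ Red.Ga (Spec (CommRingCat.of k))) :
    g = pt (CommRingCat.of k) (𝟙 _) (fn (CommRingCat.of k) (𝟙 _) g) := by
  apply fn_injective
  rw [fn_pt]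

theorem ovMap_ptm (φ : B →ₐ[k] C) (b : Bˣ) :
    ovMap (CommRingCat.of k) (𝟙 _) φ ≫ ptm (CommRingCat.of k) (𝟙 _) b
      = ptm (CommRingCat.of k) (𝟙 _) (Units.map (φ : B →* C) b) := by
  apply fnm_injective
  rw [fnm_comp, fnm_ptm, fnm_ptm]
  rfl

theorem ptm_mul (b b' : Bˣ) :
    ptm (CommRingCat.of k) (𝟙 _) b * ptm (CommRingCat.of k) (𝟙 _) b'
      = ptm (CommRingCat.of k) (𝟙 _) (b * b') := by
  apply fnm_injective
  rw [fnm_mul, fnm_ptm, fnm_ptm, fnm_ptm]
  rfl

theorem exists_eq_ptm (g : ovk k B ⟶ Red.Gm (Spec (CommRingCat.of k))) :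
    ∃ b : Bˣ, g = ptm (CommRingCat.of k) (𝟙 _) b := by
  refine ⟨Units.mkOfMulEqOne _ _ (fnm_mul_inv (CommRingCat.of k) (𝟙 _) g), ?_⟩
  apply fnm_injective
  rw [fnm_ptm]
  rfl

end Calc

end Groth.Agent.Lib.Helper71.FixPt
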