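import Groth.Agent.Lib.Helper71.FixPtW

/-!
# The `G_a` and `G_m` cases (helper71)
-/

set_option autoImplicit false
universe u
open CategoryTheory CategoryTheory.Limits MonoidalCategory CartesianMonoidalCategory MonObj
  AlgebraicGeometry Polynomial
open Groth.Agent.Lib.Lead.GaTorsor (ov ovMap smul comp_smul mul_smul ovMap_comp pt fn fn_pt
  fn_injective fn_mul fn_comp)
open Groth.Agent.Lib.Lead.GmTorsor (ptm fnm fnm_ptm fnm_injective fnm_mul fnm_comp fnm_mul_inv)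

namespace Groth.Agent.Lib.Helper71.FixPt

section Ga

variable (k : Type u) [Field k]

/-- `1 + g s` -/
noncomputable def fa : PP k := 1 + MvPolynomial.X 0 * MvPolynomial.X 1

theorem fa_ne_zero : fa k ≠ 0 := by
  intro h
  have := congrArg (MvPolynomial.eval (0 : Fin 2 → k)) h
  simp [fa] at this

instance : IsDomain (Wr (fa k)) := isDomain_Wr _ (fa_ne_zero k)

/-- `s / (1 + g s)` -/
noncomputable def muW : Wr (fa k) := sW (fa k) * invf (fa k)

variable {k}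
variable {Y : Over (Spec (CommRingCat.of k))} [IsProper Y.hom]
  (a : AlgGrp.Action (Red.Ga (Spec (CommRingCat.of k))) Y)
  (x₀ : 𝟙_ (Over (Spec (CommRingCat.of k))) ⟶ Y) (c : ovk k k[X] ⟶ Y)
  (hc : ovMap (CommRingCat.of k) (𝟙 _) (toLL k) ≫ c =
      smul a (pt (CommRingCat.of k) (𝟙 _) (invX k)) (toUnit _ ≫ x₀))

include hc in
theorem hW_Ga : smul a (pt (CommRingCat.of k) (𝟙 _) (gW (fa k))) (cpt (sW (fa k)) ≫ c)
    = cpt (muW k) ≫ c := by
  refine smul_eq_of_dominant a (ovMap (CommRingCat.of k) (𝟙 _) (iK (fa k))) c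
    (pt (CommRingCat.of k) (𝟙 _) (gW (fa k))) (cpt (sW (fa k))) (cpt (muW k)) ?_
  rw [ovMap_pt, ← Category.assoc, ovMap_cpt, ← Category.assoc, ovMap_cpt]
  have hs : iK (fa k) (sW (fa k)) ≠ 0 :=
    (map_ne_zero_iff _ (iK_injective (fa k))).mpr (sW_ne_zero (fa k) (fa_ne_zero k))
  have hf1 : iK (fa k) (algebraMap _ _ (fa k)) * iK (fa k) (invf (fa k)) = 1 := by
    rw [← map_mul, f_mul_invf, map_one]
  have hfK : iK (fa k) (algebraMap _ _ (fa k))
      = 1 + iK (fa k) (gW (fa k)) * iK (fa k) (sW (fa k)) := by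
    have h0 : algebraMap (PP k) (Wr (fa k)) (fa k) = 1 + gW (fa k) * sW (fa k) := by
      unfold gW sW
      rw [← map_mul, ← map_one (algebraMap (PP k) (Wr (fa k))), ← map_add]
      rfl
    rw [h0, map_add, map_mul, map_one]
  have hfne : (1 + iK (fa k) (gW (fa k)) * iK (fa k) (sW (fa k))) ≠ 0 := by
    rw [← hfK]; exact left_ne_zero_of_mul_eq_one hf1
  have hmu : iK (fa k) (muW k) = iK (fa k) (sW (fa k)) *
      (1 + iK (fa k) (gW (fa k)) * iK (fa k) (sW (fa k)))⁻¹ := by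
    unfold muW
    rw [map_mul]
    congr 1
    rw [← hfK]
    exact eq_inv_of_mul_eq_one_right hf1
  have hmune : iK (fa k) (muW k) ≠ 0 := by
    rw [hmu]; exact mul_ne_zero hs (inv_ne_zero hfne)
  have e1 := cpt_comp_Ga a x₀ c hc (Units.mk0 _ hs)
  have e2 := cpt_comp_Ga a x₀ c hc (Units.mk0 _ hmune)
  rw [Units.val_mk0] at e1 e2
  rw [e1, e2, ← Groth.Agent.Lib.Lead.GaTorsor.mul_smul, pt_mul]
  congr 2
  rw [Units.val_inv_eq_inv_val, Units.val_inv_eq_inv_val, Units.val_mk0, Units.val_mk0, hmu]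
  field_simp
  ring

include hc in
theorem fixed_affine_Ga {B : Type u} [CommRing B] [Algebra k B]
    (g : ovk k B ⟶ Red.Ga (Spec (CommRingCat.of k))) :
    smul a g (toUnit _ ≫ origin ≫ c) = toUnit _ ≫ origin ≫ c := by
  have hv : IsUnit (MvPolynomial.aeval ![fn (CommRingCat.of k) (𝟙 _) g, 0] (fa k)) := by
    simp [fa]
  refine fixed_of_section a c origin (pt (CommRingCat.of k) (𝟙 _) (gW (fa k)))
    (cpt (sW (fa k))) (cpt (muW k)) (hW_Ga a x₀ c hc) g
    (ovMap (CommRingCat.of k) (𝟙 _) (zlift (fa k) ![fn (CommRingCat.of k) (𝟙 _) g, 0] hv))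
    ?_ ?_ ?_
  · rw [ovMap_pt, zlift_gW]
    exact (eq_pt g).symm
  · rw [ovMap_cpt, zlift_sW, toUnit_origin]
    rfl
  · rw [ovMap_cpt, toUnit_origin]
    congr 1
    unfold muW
    rw [map_mul, zlift_sW]
    simp

end Ga

section Gm

variable (k : Type u) [Field k]

/-- `g` -/
noncomputable def fm : PP k := MvPolynomial.X 0

theorem fm_ne_zero : fm k ≠ 0 := MvPolynomial.X_ne_zero 0

instance : IsDomain (Wr (fm k)) := isDomain_Wr _ (fm_ne_zero k)

/-- `g` as a unit of `k[g,g⁻¹,s]` -/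
noncomputable def gWu : (Wr (fm k))ˣ :=
  Units.mkOfMulEqOne (gW (fm k)) (invf (fm k)) (f_mul_invf (fm k))

variable {k}
variable {Y : Over (Spec (CommRingCat.of k))} [IsProper Y.hom]
  (a : AlgGrp.Action (Red.Gm (Spec (CommRingCat.of k))) Y)
  (x₀ : 𝟙_ (Over (Spec (CommRingCat.of k))) ⟶ Y) (c : ovk k k[X] ⟶ Y)
  (hc : ovMap (CommRingCat.of k) (𝟙 _) (toLL k) ≫ c =
      smul a (ptm (CommRingCat.of k) (𝟙 _) (unitX k)) (toUnit _ ≫ x₀))

include hc in
theorem hW_Gm : smul a (ptm (CommRingCat.of k) (𝟙 _) (gWu k)) (cpt (sW (fm k)) ≫ c)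
    = cpt (gW (fm k) * sW (fm k)) ≫ c := by
  refine smul_eq_of_dominant a (ovMap (CommRingCat.of k) (𝟙 _) (iK (fm k))) c
    (ptm (CommRingCat.of k) (𝟙 _) (gWu k)) (cpt (sW (fm k))) (cpt (gW (fm k) * sW (fm k))) ?_
  rw [ovMap_ptm, ← Category.assoc, ovMap_cpt, ← Category.assoc, ovMap_cpt]
  have hs : iK (fm k) (sW (fm k)) ≠ 0 :=
    (map_ne_zero_iff _ (iK_injective (fm k))).mpr (sW_ne_zero (fm k) (fm_ne_zero k))
  have e1 := cpt_comp_Gm a x₀ c hc (Units.mk0 _ hs)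
  rw [Units.val_mk0] at e1
  have hmu : iK (fm k) (gW (fm k) * sW (fm k)) =
      ((Units.map ((iK (fm k) : Wr (fm k) →ₐ[k] KK (fm k)) : Wr (fm k) →* KK (fm k)) (gWu k)
        * Units.mk0 _ hs : (KK (fm k))ˣ) : KK (fm k)) := by
    rw [Units.val_mul, Units.val_mk0, map_mul]
    rfl
  rw [e1, hmu, cpt_comp_Gm a x₀ c hc, ← Groth.Agent.Lib.Lead.GaTorsor.mul_smul, ptm_mul]

include hc in
theorem fixed_affine_Gm {B : Type u} [CommRing B] [Algebra k B]
    (g : ovk k B ⟶ Red.Gm (Spec (CommRingCat.of k))) :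
    smul a g (toUnit _ ≫ origin ≫ c) = toUnit _ ≫ origin ≫ c := by
  obtain ⟨b, rfl⟩ := exists_eq_ptm g
  have hv : IsUnit (MvPolynomial.aeval ![(b : B), 0] (fm k)) := by
    simp [fm]
  refine fixed_of_section a c origin (ptm (CommRingCat.of k) (𝟙 _) (gWu k))
    (cpt (sW (fm k))) (cpt (gW (fm k) * sW (fm k))) (hW_Gm a x₀ c hc) _
    (ovMap (CommRingCat.of k) (𝟙 _) (zlift (fm k) ![(b : B), 0] hv))
    ?_ ?_ ?_
  · rw [ovMap_ptm]
    congr 1
    apply Units.ext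
    exact zlift_gW (fm k) _ hv
  · rw [ovMap_cpt, zlift_sW, toUnit_origin]
    rfl
  · rw [ovMap_cpt, toUnit_origin]
    congr 1
    rw [map_mul, zlift_sW]
    simp

end Gm

end Groth.Agent.Lib.Helper71.FixPt
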