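import Groth.Agent.Lib.Helper71.FixPtCore

/-!
# Fixed points of `G_a` / `G_m` actions on proper schemes: the two instantiations (helper71)
-/

set_option autoImplicit false
universe u
open CategoryTheory CategoryTheory.Limits MonoidalCategory CartesianMonoidalCategory MonObj
  AlgebraicGeometry Polynomial
open Groth.Agent.Lib.Lead.GaTorsor (ov ovMap smul comp_smul mul_smul ovMap_comp pt fn fn_pt
  fn_injective fn_mul fn_comp)
open Groth.Agent.Lib.Lead.GmTorsor (ptm fnm fnm_ptm fnm_injective fnm_mul fnm_comp fnm_mul_inv)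

namespace Groth.Agent.Lib.Helper71.FixPt

theorem comp_toUnit_comp {S : Scheme.{u}} {T T' Z : Over S} (q : T' ⟶ T)
    (x : 𝟙_ (Over S) ⟶ Z) : q ≫ toUnit T ≫ x = toUnit T' ≫ x := by
  rw [← Category.assoc]
  congr 1
  exact toUnit_unique _ _

section Loc

variable (k : Type u) [Field k]

/-- `k[X, X⁻¹]` -/
abbrev LL : Type u := Localization.Away (X : k[X])

/-- `k[X] → k[X, X⁻¹]` -/
noncomputable abbrev toLL : k[X] →ₐ[k] LL k := IsScalarTower.toAlgHom k k[X] (LL k)

/-- `X⁻¹` -/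
noncomputable def invX : LL k := IsLocalization.Away.invSelf (X : k[X])

theorem X_mul_invX : algebraMap k[X] (LL k) X * invX k = 1 :=
  IsLocalization.Away.mul_invSelf _

/-- `X` as a unit -/
noncomputable def unitX : (LL k)ˣ := Units.mkOfMulEqOne _ _ (X_mul_invX k)

variable {k}
variable {B : Type u} [CommRing B] [Algebra k B]

/-- the `B`-point of `Spec k[X, X⁻¹]` given by a unit -/
noncomputable def liftL (b : Bˣ) : LL k →ₐ[k] B :=
  IsLocalization.liftAlgHom (M := Submonoid.powers (X : k[X])) (f := Polynomial.aeval (b : B)) (by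
    rintro ⟨_, n, rfl⟩
    rw [map_pow, Polynomial.aeval_X]
    exact b.isUnit.pow n)

theorem liftL_X (b : Bˣ) : liftL b (algebraMap k[X] (LL k) X) = b := by
  unfold liftL
  rw [IsLocalization.liftAlgHom_apply, IsLocalization.lift_eq]
  simp

theorem liftL_comp (b : Bˣ) : (liftL b).comp (toLL k) = Polynomial.aeval (b : B) := by
  apply Polynomial.algHom_ext
  rw [AlgHom.comp_apply, Polynomial.aeval_X]
  exact liftL_X b

theorem liftL_invX (b : Bˣ) : liftL b (invX k) = ((b⁻¹ : Bˣ) : B) := by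
  have h := congrArg (liftL b) (X_mul_invX k)
  rw [map_mul, liftL_X, map_one] at h
  exact (Units.eq_inv_of_mul_eq_one_left h)

theorem map_unitX (b : Bˣ) : Units.map ((liftL b : LL k →ₐ[k] B) : LL k →* B) (unitX k) = b := by
  apply Units.ext
  exact liftL_X b

theorem cpt_unit (b : Bˣ) :
    cpt (b : B) = ovMap (CommRingCat.of k) (𝟙 _) (liftL b) ≫
      ovMap (CommRingCat.of k) (𝟙 _) (toLL k) := by
  unfold cpt
  rw [← ovMap_comp, liftL_comp]

end Loc

section Orbit

variable {k : Type u} [Field k] {Y : Over (Spec (CommRingCat.of k))}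

theorem cpt_comp_Ga (a : AlgGrp.Action (Red.Ga (Spec (CommRingCat.of k))) Y)
    (x₀ : 𝟙_ (Over (Spec (CommRingCat.of k))) ⟶ Y) (c : ovk k k[X] ⟶ Y)
    (hc : ovMap (CommRingCat.of k) (𝟙 _) (toLL k) ≫ c =
      smul a (pt (CommRingCat.of k) (𝟙 _) (invX k)) (toUnit _ ≫ x₀))
    {B : Type u} [CommRing B] [Algebra k B] (b : Bˣ) :
    cpt (b : B) ≫ c = smul a (pt (CommRingCat.of k) (𝟙 _) ((b⁻¹ : Bˣ) : B)) (toUnit _ ≫ x₀) := by
  rw [cpt_unit, Category.assoc, hc, comp_smul, ovMap_pt, liftL_invX, comp_toUnit_comp]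

theorem cpt_comp_Gm (a : AlgGrp.Action (Red.Gm (Spec (CommRingCat.of k))) Y)
    (x₀ : 𝟙_ (Over (Spec (CommRingCat.of k))) ⟶ Y) (c : ovk k k[X] ⟶ Y)
    (hc : ovMap (CommRingCat.of k) (𝟙 _) (toLL k) ≫ c =
      smul a (ptm (CommRingCat.of k) (𝟙 _) (unitX k)) (toUnit _ ≫ x₀))
    {B : Type u} [CommRing B] [Algebra k B] (b : Bˣ) :
    cpt (b : B) ≫ c = smul a (ptm (CommRingCat.of k) (𝟙 _) b) (toUnit _ ≫ x₀) := by
  rw [cpt_unit, Category.assoc, hc, comp_smul, ovMap_ptm, map_unitX, comp_toUnit_comp]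

end Orbit

end Groth.Agent.Lib.Helper71.FixPt
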