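import Groth.Agent.Lib.Helper71.FixPtMain

/-!
# The auxiliary family `W = Spec k[g,s][1/f]` (helper71)
-/

set_option autoImplicit false
universe u
open CategoryTheory CategoryTheory.Limits MonoidalCategory CartesianMonoidalCategory MonObj
  AlgebraicGeometry
open Groth.Agent.Lib.Lead.GaTorsor (ov ovMap smul comp_smul mul_smul ovMap_comp pt fn fn_pt
  fn_injective fn_mul fn_comp)
open Groth.Agent.Lib.Lead.GmTorsor (ptm fnm fnm_ptm fnm_injective fnm_mul fnm_comp fnm_mul_inv)

namespace Groth.Agent.Lib.Helper71.FixPt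

section W

variable (k : Type u) [Field k]

/-- `k[g,s]` -/
abbrev PP : Type u := MvPolynomial (Fin 2) k

variable {k} (f : PP k)

/-- `k[g,s][1/f]` -/
abbrev Wr : Type u := Localization.Away f

theorem isDomain_Wr (hf : f ≠ 0) : IsDomain (Wr f) :=
  IsLocalization.isDomain_localization (powers_le_nonZeroDivisors_of_noZeroDivisors hf)

theorem algebraMap_Wr_injective (hf : f ≠ 0) : Function.Injective (algebraMap (PP k) (Wr f)) :=
  IsLocalization.injective _ (powers_le_nonZeroDivisors_of_noZeroDivisors hf)

/-- `g` in `W` -/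
noncomputable def gW : Wr f := algebraMap (PP k) (Wr f) (MvPolynomial.X 0)

/-- `s` in `W` -/
noncomputable def sW : Wr f := algebraMap (PP k) (Wr f) (MvPolynomial.X 1)

/-- `1/f` in `W` -/
noncomputable def invf : Wr f := IsLocalization.Away.invSelf f

theorem f_mul_invf : algebraMap (PP k) (Wr f) f * invf f = 1 :=
  IsLocalization.Away.mul_invSelf _

theorem sW_ne_zero (hf : f ≠ 0) : sW f ≠ 0 := by
  intro h
  have := algebraMap_Wr_injective f hf (h.trans (map_zero _).symm)
  exact MvPolynomial.X_ne_zero 1 this

variable {B : Type u} [CommRing B] [Algebra k B]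

/-- the `B`-point `(g,s) = v` of `W` -/
noncomputable def zlift (v : Fin 2 → B) (hv : IsUnit (MvPolynomial.aeval v f)) : Wr f →ₐ[k] B :=
  IsLocalization.liftAlgHom (M := Submonoid.powers f) (f := MvPolynomial.aeval v) (by
    rintro ⟨_, n, rfl⟩
    rw [map_pow]
    exact hv.pow n)

theorem zlift_algebraMap (v : Fin 2 → B) (hv : IsUnit (MvPolynomial.aeval v f)) (p : PP k) :
    zlift f v hv (algebraMap (PP k) (Wr f) p) = MvPolynomial.aeval v p := by
  unfold zlift
  rw [IsLocalization.liftAlgHom_apply, IsLocalization.lift_eq]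
  rfl

theorem zlift_gW (v : Fin 2 → B) (hv : IsUnit (MvPolynomial.aeval v f)) :
    zlift f v hv (gW f) = v 0 := by
  unfold gW
  rw [zlift_algebraMap, MvPolynomial.aeval_X]

theorem zlift_sW (v : Fin 2 → B) (hv : IsUnit (MvPolynomial.aeval v f)) :
    zlift f v hv (sW f) = v 1 := by
  unfold sW
  rw [zlift_algebraMap, MvPolynomial.aeval_X]

end W

section K

variable {k : Type u} [Field k] (f : PP k) [IsDomain (Wr f)]

/-- the fraction field of `W` -/
abbrev KK : Type u := FractionRing (Wr f)

/-- `W → K` -/
noncomputable abbrev iK : Wr f →ₐ[k] KK f := IsScalarTower.toAlgHom k (Wr f) (KK f)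

theorem iK_injective : Function.Injective (iK f) :=
  IsFractionRing.injective (Wr f) (KK f)

instance isReduced_ovk_Wr : AlgebraicGeometry.IsReduced (ovk k (Wr f)).left := by
  change AlgebraicGeometry.IsReduced (Spec (CommRingCat.of (Wr f)))
  infer_instance

instance isDominant_iK :
    IsDominant (ovMap (CommRingCat.of k) (𝟙 _) (iK f)).left := by
  constructor
  have h : DenseRange (PrimeSpectrum.comap (iK f).toRingHom) := by
    rw [PrimeSpectrum.denseRange_comap_iff_ker_le_nilRadical]
    have : RingHom.ker (iK f).toRingHom = ⊥ := (RingHom.injective_iff_ker_eq_bot _).mp (iK_injective f)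
    rw [this]
    exact bot_le
  exact h

end K

end Groth.Agent.Lib.Helper71.FixPt
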