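import Mathlib

set_option autoImplicit false
universe u

namespace Helper71.FrobCover

open MvPolynomial Matrix

section PartA

variable {R : Type u} [CommRing R] (p : ℕ) [hp : Fact p.Prime] [CharP R p]
variable {σ : Type} [Fintype σ] [DecidableEq σ]

/-- the relations `x_i ^ p = ∑ g_ij x_j` -/
noncomputable def rel (g : Matrix σ σ R) (i : σ) : MvPolynomial σ R :=
  X i ^ p - ∑ j, C (g i j) * X j

/-- the algebra `R[x]/(x_i^p - ∑ g_ij x_j)` -/
abbrev Cg (g : Matrix σ σ R) : Type u := MvPolynomial σ R ⧸ Ideal.span (Set.range (rel p g))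

theorem pderiv_rel (g : Matrix σ σ R) (i j : σ) : pderiv i (rel p g j) = - C (g j i) := by
  have hp0 : ((p : ℕ) : MvPolynomial σ R) = 0 := CharP.cast_eq_zero _ p
  unfold rel
  rw [map_sub, Derivation.leibniz_pow, map_sum]
  have h1 : ∀ k : σ, pderiv i (C (g j k) * X k : MvPolynomial σ R) = if k = i then C (g j k) else 0 := by
    intro k
    rw [Derivation.leibniz, pderiv_C, pderiv_X]
    by_cases hk : k = i
    · subst hk
      simp
    · rw [if_neg hk, Pi.single_eq_of_ne hk]
      simp
  rw [Finset.sum_congr rfl (fun k _ => h1 k), Finset.sum_ite_eq' Finset.univ i]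
  rw [← Nat.cast_smul_eq_nsmul (MvPolynomial σ R) p, hp0, zero_smul, if_pos (Finset.mem_univ i), zero_sub]

theorem etale (g : Matrix σ σ R) (hg : IsUnit g.det) : Algebra.Etale R (Cg p g) := by
  obtain ⟨P, hPdef⟩ : ∃ P : Algebra.PreSubmersivePresentation R (Cg p g) σ σ,
      P = Algebra.PreSubmersivePresentation.naive (v := rel p g) (a := id) Function.injective_id :=
    ⟨_, rfl⟩
  have hJ : P.jacobiMatrix = -((g.map (C : R →+* MvPolynomial σ R))ᵀ) := by
    ext i j
    rw [hPdef, Algebra.PreSubmersivePresentation.jacobiMatrix_naive, id, pderiv_rel]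
    simp
  have hunit : IsUnit P.jacobian := by
    rw [P.jacobian_eq_jacobiMatrix_det, hJ, Matrix.det_neg, Matrix.det_transpose]
    apply IsUnit.map
    apply IsUnit.mul
    · exact (isUnit_one.neg).pow _
    · rw [← RingHom.mapMatrix_apply, ← RingHom.map_det]
      exact hg.map _
  have h0 : Algebra.IsStandardSmoothOfRelativeDimension 0 R (Cg p g) :=
    Algebra.SubmersivePresentation.isStandardSmoothOfRelativeDimension
      (⟨P, hunit⟩ : Algebra.SubmersivePresentation R (Cg p g) σ σ)
      (by simp [Algebra.Presentation.dimension])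
  infer_instance

omit [CharP R p] [DecidableEq σ] in
theorem finite (g : Matrix σ σ R) : Module.Finite R (Cg p g) := by
  classical
  have hp2 : 2 ≤ p := hp.out.two_le
  obtain ⟨π, hπ⟩ : ∃ π : MvPolynomial σ R →ₐ[R] Cg p g,
      π = Ideal.Quotient.mkₐ R (Ideal.span (Set.range (rel p g))) := ⟨_, rfl⟩
  have hπsurj : Function.Surjective π := by
    rw [hπ]
    exact Ideal.Quotient.mkₐ_surjective R _
  have hπrel : ∀ i, π (rel p g i) = 0 := by
    intro i
    rw [hπ, Ideal.Quotient.mkₐ_eq_mk, Ideal.Quotient.eq_zero_iff_mem]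
    exact Ideal.subset_span ⟨i, rfl⟩
  obtain ⟨gen, hgen⟩ : ∃ gen : (σ → Fin p) → Cg p g,
      gen = fun e => π (monomial (Finsupp.equivFunOnFinite.symm (fun i => ((e i : Fin p) : ℕ))) 1) :=
    ⟨_, rfl⟩
  have key : ∀ d : ℕ, ∀ e : σ →₀ ℕ, e.degree = d →
      π (monomial e 1) ∈ Submodule.span R (Set.range gen) := by
    intro d
    induction d using Nat.strong_induction_on with
    | _ d ih =>
      intro e hed
      by_cases h : ∀ i, e i < p
      · apply Submodule.subset_span
        refine ⟨fun i => ⟨e i, h i⟩, ?_⟩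
        rw [hgen]
        have h4 : (Finsupp.equivFunOnFinite.symm fun i : σ => ((⟨e i, h i⟩ : Fin p) : ℕ)) = e := by
          ext i
          rfl
        change π (monomial (Finsupp.equivFunOnFinite.symm fun i : σ => ((⟨e i, h i⟩ : Fin p) : ℕ)) 1) = _
        rw [h4]
      · push Not at h
        obtain ⟨i₀, hi₀⟩ := h
        obtain ⟨e₀, he₀⟩ : ∃ e₀ : σ →₀ ℕ, e₀ = e - Finsupp.single i₀ p := ⟨_, rfl⟩
        have he : e = e₀ + Finsupp.single i₀ p := by
          ext i
          rw [he₀, Finsupp.add_apply, Finsupp.tsub_apply, Finsupp.single_apply]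
          by_cases hi : i₀ = i
          · subst hi
            rw [if_pos rfl]
            omega
          · rw [if_neg hi]
            omega
        have hdeg : e₀.degree + p = d := by
          rw [← hed, he, map_add, Finsupp.degree_single]
        have h1 : (monomial e 1 : MvPolynomial σ R) =
            monomial e₀ 1 * rel p g i₀ + ∑ j, g i₀ j • monomial (e₀ + Finsupp.single j 1) 1 := by
          have h2 : ∀ j, (g i₀ j • monomial (e₀ + Finsupp.single j 1) 1 : MvPolynomial σ R) =
              monomial e₀ 1 * (C (g i₀ j) * X j) := by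
            intro j
            rw [monomial_add_single, pow_one, smul_eq_C_mul]
            ring
          rw [Finset.sum_congr rfl (fun j _ => h2 j), ← Finset.mul_sum, ← mul_add]
          unfold rel
          rw [sub_add_cancel, he, monomial_add_single]
        rw [h1, map_add, map_mul, hπrel, mul_zero, zero_add, map_sum]
        apply Submodule.sum_mem
        intro j _
        rw [map_smul]
        apply Submodule.smul_mem
        apply ih (e₀.degree + 1) (by omega)
        rw [map_add, Finsupp.degree_single]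
  have htop : (⊤ : Submodule R (Cg p g)) ≤ Submodule.span R (Set.range gen) := by
    intro z _
    obtain ⟨f, rfl⟩ := hπsurj z
    rw [← f.support_sum_monomial_coeff, map_sum]
    apply Submodule.sum_mem
    intro e _
    have h3 : (monomial e (coeff e f) : MvPolynomial σ R) = coeff e f • monomial e 1 := by
      rw [smul_monomial, smul_eq_mul, mul_one]
    rw [h3, map_smul]
    exact Submodule.smul_mem _ _ (key _ e rfl)
  exact ⟨⟨(Set.finite_range gen).toFinset, by
    rw [Set.Finite.coe_toFinset]
    exact top_le_iff.mp htop⟩⟩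

omit hp [CharP R p] [DecidableEq σ] in
theorem lift_aux {B : Type*} [CommRing B] [Algebra R B] (g : Matrix σ σ R) (y : σ → B)
    (hy : ∀ i, y i ^ p = ∑ j, algebraMap R B (g i j) * y j) :
    ∀ a ∈ Ideal.span (Set.range (rel p g)), aeval y a = 0 := by
  have h : Ideal.span (Set.range (rel p g)) ≤ RingHom.ker (aeval y : MvPolynomial σ R →ₐ[R] B) := by
    rw [Ideal.span_le]
    rintro _ ⟨i, rfl⟩
    rw [SetLike.mem_coe, RingHom.mem_ker]
    unfold rel
    rw [map_sub, map_pow, aeval_X, map_sum, hy, sub_eq_zero]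
    apply Finset.sum_congr rfl
    intro j _
    rw [map_mul, aeval_C, aeval_X]
  exact fun a ha => h ha

/-- the algebra map out of `Cg` determined by a solution of the system -/
noncomputable def lift {B : Type*} [CommRing B] [Algebra R B] (g : Matrix σ σ R) (y : σ → B)
    (hy : ∀ i, y i ^ p = ∑ j, algebraMap R B (g i j) * y j) : Cg p g →ₐ[R] B :=
  Ideal.Quotient.liftₐ _ (aeval y) (lift_aux p g y hy)

omit hp [CharP R p] [DecidableEq σ] in
theorem lift_mk_X {B : Type*} [CommRing B] [Algebra R B] (g : Matrix σ σ R) (y : σ → B)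
    (hy : ∀ i, y i ^ p = ∑ j, algebraMap R B (g i j) * y j) (i : σ) :
    lift p g y hy (Ideal.Quotient.mk _ (X i)) = y i := by
  unfold lift
  exact (Ideal.Quotient.liftₐ_apply _ _ _ _).trans (aeval_X y i)

end PartA

section PartB

open TensorProduct

variable (p : ℕ) [hp : Fact p.Prime]

theorem add_pow_of_cast_eq_zero {B : Type*} [CommRing B] (h0 : (p : B) = 0) (x y : B) :
    (x + y) ^ p = x ^ p + y ^ p := by
  obtain ⟨r, hr⟩ := exists_add_pow_prime_eq hp.out x y
  rw [hr, h0]
  ring

theorem sum_pow_of_cast_eq_zero {B : Type*} [CommRing B] (h0 : (p : B) = 0) {ι : Type*}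
    (s : Finset ι) (f : ι → B) : (∑ i ∈ s, f i) ^ p = ∑ i ∈ s, f i ^ p := by
  classical
  induction s using Finset.induction_on with
  | empty => simp [zero_pow hp.out.ne_zero]
  | insert a s ha ih =>
    rw [Finset.sum_insert ha, Finset.sum_insert ha, add_pow_of_cast_eq_zero p h0, ih]

/-- field case: a finite étale algebra over a field of characteristic `p` is spanned by `p`-th
powers -/
theorem span_pow_eq_top_field (K : Type u) [Field K] (h0 : (p : K) = 0) (T : Type u) [CommRing T]
    [Algebra K T] [Algebra.Etale K T] :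
    Submodule.span K (Set.range fun t : T => t ^ p) = ⊤ := by
  classical
  obtain ⟨I, hI, L, hLf, hLa, e, hL⟩ := (Algebra.Etale.iff_exists_algEquiv_prod (K := K) (A := T)).mp
    inferInstance
  have : Fintype I := Fintype.ofFinite I
  have hchar : CharP K p := (CharP.charP_iff_prime_eq_zero hp.out).mpr h0
  have hexp : ExpChar K p := ExpChar.prime hp.out
  rw [eq_top_iff]
  intro z _
  -- work in the product
  have hprod : ∀ w : (∀ i, L i), w ∈ Submodule.span K (Set.range fun t : (∀ i, L i) => t ^ p) := by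
    intro w
    rw [← Finset.univ_sum_single w]
    apply Submodule.sum_mem
    intro i _
    have := (hL i).2
    have hsp : Submodule.span K (Set.range fun x : L i => x ^ p ^ 1) = ⊤ :=
      Field.span_map_pow_expChar_pow_eq_top_of_isSeparable (F := K) (E := L i) p 1
        (v := fun x : L i => x) (by
          rw [eq_top_iff]
          intro x _
          exact Submodule.subset_span ⟨x, rfl⟩)
    have hwi : w i ∈ Submodule.span K (Set.range fun x : L i => x ^ p ^ 1) := by
      rw [hsp]
      trivial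
    have hmap := Submodule.apply_mem_span_image_of_mem_span (LinearMap.single K L i) hwi
    refine Submodule.span_mono ?_ hmap
    rintro _ ⟨_, ⟨x, rfl⟩, rfl⟩
    refine ⟨Pi.single i x, ?_⟩
    rw [pow_one]
    ext j
    by_cases hj : j = i
    · subst hj
      simp
    · simp [Pi.single_eq_of_ne hj, zero_pow hp.out.ne_zero]
  have h1 := hprod (e z)
  have h2 := Submodule.apply_mem_span_image_of_mem_span e.symm.toLinearMap h1
  rw [AlgEquiv.toLinearMap_apply, AlgEquiv.symm_apply_apply] at h2
  refine Submodule.span_mono ?_ h2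
  rintro _ ⟨_, ⟨w, rfl⟩, rfl⟩
  exact ⟨e.symm w, by simp⟩

/-- Nakayama-type: a submodule `N` of a finite module with `N + mB = B` for all maximal `m` is
everything. -/
theorem eq_top_of_forall_maximal {A : Type*} [CommRing A] {B : Type*} [AddCommGroup B] [Module A B]
    [Module.Finite A B] (N : Submodule A B)
    (h : ∀ m : Ideal A, m.IsMaximal → N ⊔ m • (⊤ : Submodule A B) = ⊤) : N = ⊤ := by
  by_contra hN
  obtain ⟨J, hJ⟩ : ∃ J : Ideal A, J = Module.annihilator A (B ⧸ N) := ⟨_, rfl⟩
  have hJne : J ≠ ⊤ := by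
    intro hJt
    apply hN
    rw [eq_top_iff]
    intro b _
    have h1 : (1 : A) ∈ Module.annihilator A (B ⧸ N) := by
      rw [← hJ, hJt]
      trivial
    have h2 := Module.mem_annihilator.mp h1 (Submodule.Quotient.mk b)
    rw [one_smul, Submodule.Quotient.mk_eq_zero] at h2
    exact h2
  obtain ⟨m, hm, hJm⟩ := Ideal.exists_le_maximal J hJne
  have h3 : (⊤ : Submodule A (B ⧸ N)) ≤ m • (⊤ : Submodule A (B ⧸ N)) := by
    have h4 := congrArg (Submodule.map N.mkQ) (h m hm)
    rw [Submodule.map_sup, Submodule.map_smul'', Submodule.map_top, Submodule.range_mkQ,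
      Submodule.mkQ_map_self, bot_sup_eq] at h4
    rw [h4]
  obtain ⟨r, hr1, hr2⟩ := Submodule.exists_sub_one_mem_and_smul_eq_zero_of_fg_of_le_smul m
    (⊤ : Submodule A (B ⧸ N)) Module.Finite.fg_top h3
  have hrJ : r ∈ J := by
    rw [hJ, Module.mem_annihilator]
    intro q
    exact hr2 q trivial
  have h5 : (1 : A) ∈ m := by
    have : (1 : A) = r - (r - 1) := by ring
    rw [this]
    exact m.sub_mem (hJm hrJ) hr1
  exact hm.ne_top ((Ideal.eq_top_iff_one m).mpr h5)

/-- a finite étale algebra over a ring of characteristic `p` is spanned by `p`-th powers -/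
theorem span_pow_eq_top (A : Type u) [CommRing A] (h0 : (p : A) = 0) (B : Type u) [CommRing B]
    [Algebra A B] [Module.Finite A B] [Algebra.Etale A B] :
    Submodule.span A (Set.range fun b : B => b ^ p) = ⊤ := by
  apply eq_top_of_forall_maximal
  intro m hm
  obtain ⟨N, hN⟩ : ∃ N : Submodule A B, N = Submodule.span A (Set.range fun b : B => b ^ p) :=
    ⟨_, rfl⟩
  rw [← hN]
  letI : Field (A ⧸ m) := Ideal.Quotient.field m
  have hfield := span_pow_eq_top_field p (A ⧸ m) (by rw [← map_natCast (Ideal.Quotient.mk m) p, h0, map_zero])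
    ((A ⧸ m) ⊗[A] B)
  have hsurj : Function.Surjective (TensorProduct.mk A (A ⧸ m) B 1) :=
    TensorProduct.mk_surjective A B (A ⧸ m) Ideal.Quotient.mk_surjective
  have hlift : ∀ t ∈ Submodule.span (A ⧸ m) (Set.range fun t : (A ⧸ m) ⊗[A] B => t ^ p),
      ∃ n ∈ N, (1 : A ⧸ m) ⊗ₜ[A] n = t := by
    intro t ht
    induction ht using Submodule.span_induction with
    | mem t ht =>
      obtain ⟨t', rfl⟩ := ht
      obtain ⟨b', rfl⟩ := hsurj t'
      refine ⟨b' ^ p, ?_, ?_⟩
      · rw [hN]
        exact Submodule.subset_span ⟨b', rfl⟩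
      · change _ = ((1 : A ⧸ m) ⊗ₜ[A] b') ^ p
        rw [Algebra.TensorProduct.tmul_pow, one_pow]
    | zero => exact ⟨0, N.zero_mem, by rw [tmul_zero]⟩
    | add x y _ _ hx hy =>
      obtain ⟨n₁, hn₁, rfl⟩ := hx
      obtain ⟨n₂, hn₂, rfl⟩ := hy
      exact ⟨n₁ + n₂, N.add_mem hn₁ hn₂, by rw [tmul_add]⟩
    | smul c x _ hx =>
      obtain ⟨n, hn, rfl⟩ := hx
      obtain ⟨a, rfl⟩ := Ideal.Quotient.mk_surjective c
      refine ⟨a • n, N.smul_mem a hn, ?_⟩
      rw [TensorProduct.smul_tmul', smul_eq_mul, mul_one, tmul_smul, TensorProduct.smul_tmul']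
      congr 1
      rw [Algebra.smul_def, mul_one]
      rfl
  rw [eq_top_iff]
  intro b _
  obtain ⟨n, hn, hnb⟩ := hlift ((1 : A ⧸ m) ⊗ₜ[A] b) (by rw [hfield]; trivial)
  have h1 : (1 : A ⧸ m) ⊗ₜ[A] (b - n) = 0 := by
    rw [tmul_sub, hnb, sub_self]
  have h2 := congrArg (quotTensorEquivQuotSMul B m) h1
  rw [quotTensorEquivQuotSMul_mk_one_tmul, map_zero, Submodule.Quotient.mk_eq_zero] at h2
  have h3 : b = n + (b - n) := by ring
  rw [h3]
  exact Submodule.add_mem_sup hn h2

end PartB

section PartC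

open TensorProduct MvPolynomial Matrix

theorem block_inverse {R : Type*} [CommRing R] {n : ℕ} (a c : Matrix (Fin n) (Fin n) R) :
    fromBlocks c (-1) (1 - a * c) a * fromBlocks a 1 (c * a - 1) c = 1 := by
  rw [fromBlocks_multiply, ← fromBlocks_one]
  congr 1
  · noncomm_ring
  · noncomm_ring
  · noncomm_ring
  · noncomm_ring

theorem main (p : ℕ) [hp : Fact p.Prime] (R A B : Type u)
    [CommRing R] [CommRing A] [CommRing B] [CharP R p] [Algebra R A]
    (hRA : Function.Surjective (algebraMap R A)) [Algebra A B] [Module.Finite A B]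
    [Algebra.Etale A B] :
    ∃ (C : Type u) (_ : CommRing C) (_ : Algebra R C), Module.Finite R C ∧ Algebra.Etale R C ∧
      ∃ ψ : A ⊗[R] C →ₐ[A] B, Function.Surjective ψ := by
  classical
  have h0A : (p : A) = 0 := by
    rw [← map_natCast (algebraMap R A) p, CharP.cast_eq_zero, map_zero]
  have h0B : (p : B) = 0 := by
    rw [← map_natCast (algebraMap A B) p, h0A, map_zero]
  obtain ⟨n, b, hb⟩ := Module.Finite.exists_fin (R := A) (M := B)
  have hmemb : ∀ x : B, ∃ a : Fin n → A, ∑ j, a j • b j = x := by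
    intro x
    apply (Submodule.mem_span_range_iff_exists_fun A).mp
    rw [hb]
    trivial
  -- the p-th powers of the generators also span
  have hbp : Submodule.span A (Set.range fun j => b j ^ p) = ⊤ := by
    rw [eq_top_iff, ← span_pow_eq_top p A h0A B, Submodule.span_le]
    rintro _ ⟨x, rfl⟩
    obtain ⟨a, ha⟩ := hmemb x
    change x ^ p ∈ _
    rw [← ha, sum_pow_of_cast_eq_zero p h0B]
    apply Submodule.sum_mem
    intro j _
    rw [smul_pow]
    exact Submodule.smul_mem _ _ (Submodule.subset_span ⟨j, rfl⟩)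
  have ha : ∀ i, ∃ a : Fin n → A, ∑ j, a j • b j ^ p = b i := by
    intro i
    apply (Submodule.mem_span_range_iff_exists_fun A).mp
    rw [hbp]
    trivial
  choose a ha using ha
  choose c hc using fun i => hmemb (b i ^ p)
  choose lft hlft using hRA
  obtain ⟨a', ha'⟩ : ∃ a' : Matrix (Fin n) (Fin n) R, a' = fun i j => lft (a i j) := ⟨_, rfl⟩
  obtain ⟨c', hc'⟩ : ∃ c' : Matrix (Fin n) (Fin n) R, c' = fun i j => lft (c i j) := ⟨_, rfl⟩
  obtain ⟨g, hg⟩ : ∃ g : Matrix (Fin n ⊕ Fin n) (Fin n ⊕ Fin n) R,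
      g = fromBlocks c' (-1) (1 - a' * c') a' := ⟨_, rfl⟩
  have hgunit : IsUnit g.det := by
    rw [hg]
    exact Matrix.isUnit_det_of_right_inverse (block_inverse a' c')
  letI : Algebra R B := ((algebraMap A B).comp (algebraMap R A)).toAlgebra
  haveI : IsScalarTower R A B := IsScalarTower.of_algebraMap_eq (fun _ => rfl)
  have hφa : ∀ i j (x : B), algebraMap R B (a' i j) * x = a i j • x := by
    intro i j x
    rw [ha', IsScalarTower.algebraMap_apply R A B, hlft, Algebra.smul_def]
  have hφc : ∀ i j (x : B), algebraMap R B (c' i j) * x = c i j • x := by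
    intro i j x
    rw [hc', IsScalarTower.algebraMap_apply R A B, hlft, Algebra.smul_def]
  obtain ⟨y, hy⟩ : ∃ y : Fin n ⊕ Fin n → B, y = Sum.elim b 0 := ⟨_, rfl⟩
  have hyl : ∀ j, y (Sum.inl j) = b j := by
    intro j
    rw [hy, Sum.elim_inl]
  have hyr : ∀ j, y (Sum.inr j) = 0 := by
    intro j
    rw [hy, Sum.elim_inr, Pi.zero_apply]
  have hysys : ∀ s, y s ^ p = ∑ t, algebraMap R B (g s t) * y t := by
    intro s
    rw [Fintype.sum_sum_type]
    have hzero : ∀ (s : Fin n ⊕ Fin n), ∑ t : Fin n, algebraMap R B (g s (Sum.inr t)) * y (Sum.inr t) = 0 := by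
      intro s
      apply Finset.sum_eq_zero
      intro t _
      rw [hyr, mul_zero]
    rw [hzero, add_zero]
    rcases s with i | i
    · rw [hyl, ← hc i]
      apply Finset.sum_congr rfl
      intro j _
      rw [hyl, hg, fromBlocks_apply₁₁, hφc]
    · rw [hyr, zero_pow hp.out.ne_zero]
      have h1 : ∀ j : Fin n, algebraMap R B (g (Sum.inr i) (Sum.inl j)) * y (Sum.inl j) =
          (if i = j then b j else 0) - ∑ k, a i k • (c k j • b j) := by
        intro j
        rw [hyl, hg, fromBlocks_apply₂₁, Matrix.sub_apply, Matrix.one_apply, Matrix.mul_apply,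
          map_sub, map_sum, sub_mul, Finset.sum_mul]
        congr 1
        · by_cases hij : i = j
          · rw [if_pos hij, if_pos hij, map_one, one_mul]
          · rw [if_neg hij, if_neg hij, map_zero, zero_mul]
        · apply Finset.sum_congr rfl
          intro k _
          rw [map_mul, mul_assoc, hφc, hφa]
      rw [Finset.sum_congr rfl (fun j _ => h1 j), Finset.sum_sub_distrib, Finset.sum_ite_eq Finset.univ i,
        if_pos (Finset.mem_univ i), Finset.sum_comm]
      have h2 : ∀ k : Fin n, ∑ j, a i k • (c k j • b j) = a i k • b k ^ p := by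
        intro k
        rw [← Finset.smul_sum, hc]
      rw [Finset.sum_congr rfl (fun k _ => h2 k), ha, sub_self]
  obtain ⟨ψ₀, hψ₀⟩ : ∃ ψ₀ : Cg p g →ₐ[R] B, ψ₀ = lift p g y hysys := ⟨_, rfl⟩
  obtain ⟨ψ, hψ⟩ : ∃ ψ : A ⊗[R] Cg p g →ₐ[A] B,
      ψ = Algebra.TensorProduct.lift (Algebra.ofId A B) ψ₀ (fun _ _ => Commute.all _ _) := ⟨_, rfl⟩
  refine ⟨Cg p g, inferInstance, inferInstance, finite p g, etale p g hgunit, ψ, ?_⟩
  intro z
  obtain ⟨α, hα⟩ := hmemb z
  refine ⟨∑ j, α j ⊗ₜ[R] (Ideal.Quotient.mk _ (X (Sum.inl j))), ?_⟩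
  rw [map_sum, ← hα]
  apply Finset.sum_congr rfl
  intro j _
  rw [hψ, Algebra.TensorProduct.lift_tmul, hψ₀, lift_mk_X, hyl, Algebra.ofId_apply,
    Algebra.smul_def]

end PartC

end Helper71.FrobCover
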