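import Mathlib
import Groth.Prelude.Def_GrLC
import Groth.Prelude.Def_CAlg

/-!
# Graded rings over a field in degree 0 (ℤ-graded, nonnegative) — helper71

`irr 𝒜` the irrelevant ideal; it is maximal (`irr_isMaximal`), contains every proper homogeneous ideal
(`le_irr_of_isHomogeneous`); CM + dim ≥ 1 ⇒ `(0 : irr) = 0` (`eq_zero_of_mul_irr_eq_zero`); McCoy trick
(`polyOf_mem_nonZeroDivisors`), finite-dimensionality of pieces (`finite_comp`), and `main`:
Hilbert function of a CM standard graded ring of positive dimension is nondecreasing.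
-/

open DirectSum Polynomial nonZeroDivisors

namespace Helper71.GrCM
universe u

section
variable {R : Type u} [CommRing R] (𝒜 : ℤ → AddSubgroup R) [GradedRing 𝒜]

/-- the irrelevant ideal -/
def irr : Ideal R := Ideal.span (⋃ n ∈ Set.Ioi (0 : ℤ), (𝒜 n : Set R))

variable {𝒜}

theorem mem_irr_of_mem {n : ℤ} (hn : 0 < n) {y : R} (hy : y ∈ 𝒜 n) : y ∈ irr 𝒜 :=
  Ideal.subset_span (Set.mem_biUnion (Set.mem_Ioi.2 hn) hy)

variable (hpos : ∀ n : ℤ, n < 0 → 𝒜 n = ⊥)
include hpos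

theorem decompose_neg (a : R) {n : ℤ} (hn : n < 0) : (decompose 𝒜 a n : R) = 0 := by
  have h : ∀ y : R, y ∈ 𝒜 n → y = 0 := by
    intro y hy
    rw [hpos n hn] at hy
    exact (AddSubgroup.mem_bot).1 hy
  exact h _ (decompose 𝒜 a n).2

theorem proj0_mul_eq_zero_of_mem_irr {z : R} (hz : z ∈ irr 𝒜) :
    ∀ a : R, (decompose 𝒜 (a * z) 0 : R) = 0 := by
  unfold irr at hz
  induction hz using Submodule.span_induction with
  | mem y hy =>
    intro a
    obtain ⟨n, hn, hy⟩ := Set.mem_iUnion₂.1 hy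
    have h := coe_decompose_mul_add_of_right_mem 𝒜 (a := a) (i := -n) hy
    rw [neg_add_cancel] at h
    rw [h, decompose_neg hpos a (by simpa using hn), zero_mul]
  | zero => intro a; simp
  | add x y _ _ hx hy =>
    intro a
    rw [mul_add, decompose_add, DirectSum.add_apply, AddSubgroup.coe_add, hx a, hy a, add_zero]
  | smul b x _ hx =>
    intro a
    rw [smul_eq_mul, ← mul_assoc]
    exact hx (a * b)

theorem proj0_eq_zero_of_mem_irr {z : R} (hz : z ∈ irr 𝒜) : (decompose 𝒜 z 0 : R) = 0 := by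
  have := proj0_mul_eq_zero_of_mem_irr hpos hz 1
  rwa [one_mul] at this

theorem one_notMem_irr [Nontrivial R] : (1 : R) ∉ irr 𝒜 := by
  intro h
  have := proj0_eq_zero_of_mem_irr hpos h
  rw [decompose_of_mem_same 𝒜 (SetLike.GradedOne.one_mem)] at this
  exact one_ne_zero this

theorem decompose_mem_irr (z : R) {i : ℤ} (hi : i ≠ 0) : (decompose 𝒜 z i : R) ∈ irr 𝒜 := by
  rcases lt_or_gt_of_ne hi with h | h
  · rw [decompose_neg hpos z h]; exact zero_mem _
  · exact mem_irr_of_mem h (decompose 𝒜 z i).2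

theorem sub_proj0_mem_irr (z : R) : z - (decompose 𝒜 z 0 : R) ∈ irr 𝒜 := by
  classical
  rw [← Ideal.Quotient.eq]
  conv_lhs => rw [← sum_support_decompose 𝒜 z]
  rw [map_sum]
  apply Finset.sum_eq_single
  · intro i _ hi
    exact Ideal.Quotient.eq_zero_iff_mem.2 (decompose_mem_irr hpos z hi)
  · intro h
    rw [DFinsupp.notMem_support_iff] at h
    rw [h]; simp

end

section
variable {R : Type u} [CommRing R] {𝒜 : ℤ → AddSubgroup R} [GradedRing 𝒜]
variable (hpos : ∀ n : ℤ, n < 0 → 𝒜 n = ⊥) (h0 : IsField (GrLC.deg0 𝒜))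
include h0

theorem exists_mul_eq_one_of_mem_zero {x : R} (hx : x ∈ 𝒜 0) (hne : x ≠ 0) : ∃ y : R, x * y = 1 := by
  have hne' : (⟨x, hx⟩ : GrLC.deg0 𝒜) ≠ 0 := by
    intro h; exact hne (congrArg Subtype.val h)
  obtain ⟨b, hb⟩ := h0.mul_inv_cancel hne'
  exact ⟨b.1, congrArg Subtype.val hb⟩

theorem nontrivial_of_deg0 : Nontrivial R := by
  obtain ⟨a, b, hab⟩ := h0.exists_pair_ne
  exact ⟨⟨a.1, b.1, fun h => hab (Subtype.ext h)⟩⟩

include hpos

theorem irr_isMaximal : (irr 𝒜).IsMaximal := by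
  have := nontrivial_of_deg0 h0
  rw [Ideal.isMaximal_iff]
  refine ⟨one_notMem_irr hpos, ?_⟩
  intro J x hJ hx hxJ
  have h1 := sub_proj0_mem_irr hpos x
  have h2 : (decompose 𝒜 x 0 : R) ∈ J := by
    have := J.sub_mem hxJ (hJ h1)
    simpa using this
  have h3 : (decompose 𝒜 x 0 : R) ≠ 0 := by
    intro h
    rw [h, sub_zero] at h1
    exact hx h1
  obtain ⟨y, hy⟩ := exists_mul_eq_one_of_mem_zero h0 (decompose 𝒜 x 0).2 h3
  rw [← hy]
  exact J.mul_mem_right _ h2

theorem le_irr_of_isHomogeneous {I : Ideal R} (hI : I.IsHomogeneous 𝒜) (hne : I ≠ ⊤) :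
    I ≤ irr 𝒜 := by
  intro z hz
  have h1 := sub_proj0_mem_irr hpos z
  have h2 : (decompose 𝒜 z 0 : R) ∈ I := hI 0 hz
  have h3 : (decompose 𝒜 z 0 : R) = 0 := by
    by_contra h
    obtain ⟨y, hy⟩ := exists_mul_eq_one_of_mem_zero h0 (decompose 𝒜 z 0).2 h
    apply hne
    rw [Ideal.eq_top_iff_one, ← hy]
    exact I.mul_mem_right _ h2
  rwa [h3, sub_zero] at h1

theorem eq_irr_of_isPrime_of_minimal (hmin : irr 𝒜 ∈ minimalPrimes R) (P : Ideal R)
    (hP : P.IsPrime) : P = irr 𝒜 := by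
  have hcore : (P.homogeneousCore 𝒜).toIdeal.IsPrime := hP.homogeneousCore
  have h1 : (P.homogeneousCore 𝒜).toIdeal ≤ irr 𝒜 :=
    le_irr_of_isHomogeneous hpos h0 (P.homogeneousCore 𝒜).isHomogeneous hcore.ne_top
  have h2 : irr 𝒜 ≤ (P.homogeneousCore 𝒜).toIdeal := hmin.2 ⟨hcore, bot_le⟩ h1
  have h3 : irr 𝒜 ≤ P := h2.trans (Ideal.toIdeal_homogeneousCore_le 𝒜 P)
  exact ((irr_isMaximal hpos h0).eq_of_le hP.ne_top h3).symm

theorem not_minimal_of_dim (h1 : 1 ≤ ringKrullDim R) : irr 𝒜 ∉ minimalPrimes R := by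
  intro hmin
  have : Ring.KrullDimLE 0 R := by
    rw [Ring.krullDimLE_zero_iff]
    intro P hP
    rw [eq_irr_of_isPrime_of_minimal hpos h0 hmin P hP]
    exact irr_isMaximal hpos h0
  have h2 : ringKrullDim R ≤ 0 := Ring.krullDimLE_iff.1 this
  have := h1.trans h2
  norm_num at this

end

section Depth

/-- depth zero when the maximal ideal kills a nonzero element -/
theorem depth_eq_zero_of_ann {L : Type u} [CommRing L] [IsLocalRing L] (b : L) (hb : b ≠ 0)
    (hkill : ∀ r ∈ IsLocalRing.maximalIdeal L, r * b = 0) : LocCoh.depth L L = 0 := by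
  unfold LocCoh.depth LocCoh.idealDepth
  have hne : ¬ (IsLocalRing.maximalIdeal L • (⊤ : Submodule L L) = ⊤) := by
    rw [smul_eq_mul, Ideal.mul_top]
    exact Ideal.IsPrime.ne_top'
  rw [if_neg hne]
  apply le_antisymm _ (by simp)
  apply iSup_le
  intro rs
  apply iSup_le
  rintro ⟨hreg, hmem⟩
  cases rs with
  | nil => simp
  | cons r rs =>
    exfalso
    rw [RingTheory.Sequence.isWeaklyRegular_cons_iff] at hreg
    have hr := hmem r (List.mem_cons_self)
    have h1 := hkill r hr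
    have h2 : r • b = r • (0 : L) := by rw [smul_zero, smul_eq_mul, h1]
    exact hb (hreg.1 h2)

end Depth

section
variable {R : Type u} [CommRing R] {𝒜 : ℤ → AddSubgroup R} [GradedRing 𝒜]
variable (hpos : ∀ n : ℤ, n < 0 → 𝒜 n = ⊥) (h0 : IsField (GrLC.deg0 𝒜))
include hpos h0

theorem eq_zero_of_mul_irr_eq_zero [LocCoh.IsCohenMacaulayRing R] (h1 : 1 ≤ ringKrullDim R)
    (a : R) (ha : ∀ μ ∈ irr 𝒜, μ * a = 0) : a = 0 := by
  by_contra hne
  haveI hmax : (irr 𝒜).IsMaximal := irr_isMaximal hpos h0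
  haveI hprime : (irr 𝒜).IsPrime := hmax.isPrime
  have hCM := LocCoh.IsCohenMacaulayRing.isCohenMacaulayLocalRing_localization (irr 𝒜)
  have hb : algebraMap R (Localization.AtPrime (irr 𝒜)) a ≠ 0 := by
    intro h
    rw [IsLocalization.map_eq_zero_iff (irr 𝒜).primeCompl] at h
    obtain ⟨⟨s, hs⟩, hsa⟩ := h
    have hs' : s ∉ irr 𝒜 := hs
    obtain ⟨y, i, hi, hyi⟩ := hmax.exists_inv hs'
    apply hne
    have : a = (y * s + i) * a := by rw [hyi, one_mul]
    rw [this, add_mul, mul_assoc, ha i hi, add_zero]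
    have hsa' : s * a = 0 := hsa
    rw [hsa', mul_zero]
  have hkill : ∀ r ∈ IsLocalRing.maximalIdeal (Localization.AtPrime (irr 𝒜)),
      r * algebraMap R (Localization.AtPrime (irr 𝒜)) a = 0 := by
    intro r hr
    obtain ⟨μ, s, rfl⟩ := IsLocalization.exists_mk'_eq (irr 𝒜).primeCompl r
    rw [IsLocalization.AtPrime.mk'_mem_maximal_iff (Localization.AtPrime (irr 𝒜)) (irr 𝒜)] at hr
    rw [← IsLocalization.mk'_one (M := (irr 𝒜).primeCompl) (Localization.AtPrime (irr 𝒜)) a,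
      ← IsLocalization.mk'_mul, ha μ hr, IsLocalization.mk'_zero]
  have hdepth := depth_eq_zero_of_ann _ hb hkill
  have hdim := hCM.supportDim_eq_depth
  rw [hdepth, Module.supportDim_self_eq_ringKrullDim,
    IsLocalization.AtPrime.ringKrullDim_eq_height (irr 𝒜)] at hdim
  have hht : (irr 𝒜).height = 0 := by exact_mod_cast hdim
  rw [Ideal.height_eq_zero_iff] at hht
  exact not_minimal_of_dim hpos h0 h1 hht

end
theorem ntrick {k V W : Type*} [Field k] [AddCommGroup V] [Module k V] [AddCommGroup W]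
    [Module k W] [Module.Finite k V] [Module.Finite k W] (r : ℕ)
    (h : ∀ N : ℕ, ∃ f : (Fin N → V) →ₗ[k] (Fin (N + r) → W), Function.Injective f) :
    Module.finrank k V ≤ Module.finrank k W := by
  by_contra hlt
  push Not at hlt
  obtain ⟨f, hf⟩ := h (r * Module.finrank k W + 1)
  have h1 := LinearMap.finrank_le_finrank_of_injective hf
  rw [Module.finrank_pi_fintype, Module.finrank_pi_fintype] at h1
  simp only [Finset.sum_const, Finset.card_univ, Fintype.card_fin, smul_eq_mul] at h1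
  have h2 : (r * Module.finrank k W + 1) * (Module.finrank k W + 1) ≤
      (r * Module.finrank k W + 1) * Module.finrank k V := Nat.mul_le_mul_left _ hlt
  have h3 : (r * Module.finrank k W + 1) * (Module.finrank k W + 1) =
      (r * Module.finrank k W + 1 + r) * Module.finrank k W + 1 := by ring
  omega

section Poly
variable {R : Type u} [CommRing R]

/-- the polynomial with given coefficients -/
noncomputable def polyOf {N : ℕ} (a : Fin N → R) : R[X] := ∑ j : Fin N, C (a j) * X ^ (j : ℕ)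

theorem coeff_polyOf {N : ℕ} (a : Fin N → R) (j : Fin N) : (polyOf a).coeff j = a j := by
  unfold polyOf
  rw [finsetSum_coeff]
  simp only [coeff_C_mul, coeff_X_pow]
  rw [Finset.sum_eq_single j]
  · simp
  · intro b _ hb
    rw [if_neg, mul_zero]
    intro h; exact hb (Fin.ext h.symm)
  · simp

theorem coeff_polyOf_of_le {N : ℕ} (a : Fin N → R) {u : ℕ} (hu : N ≤ u) :
    (polyOf a).coeff u = 0 := by
  apply coeff_eq_zero_of_degree_lt
  exact (degree_sum_fin_lt a).trans_le (by exact_mod_cast hu)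

theorem coeff_polyOf_mem {N : ℕ} (a : Fin N → R) (S : AddSubgroup R) (ha : ∀ j, a j ∈ S) (u : ℕ) :
    (polyOf a).coeff u ∈ S := by
  by_cases hu : u < N
  · have := coeff_polyOf a ⟨u, hu⟩
    simp only at this
    rw [this]; exact ha _
  · rw [coeff_polyOf_of_le a (not_lt.1 hu)]; exact zero_mem _

theorem polyOf_eq_zero {N : ℕ} (a : Fin N → R) (h : polyOf a = 0) : a = 0 := by
  funext j
  rw [← coeff_polyOf a j, h]; simp

theorem coeff_mul_polyOf_of_le {N r : ℕ} (a : Fin N → R) (x : Fin r → R) {l : ℕ}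
    (hl : N + r ≤ l) : (polyOf a * polyOf x).coeff l = 0 := by
  rw [coeff_mul]
  apply Finset.sum_eq_zero
  rintro ⟨u, v⟩ huv
  have huv' : u + v = l := Finset.HasAntidiagonal.mem_antidiagonal.1 huv
  simp only
  by_cases hu : N ≤ u
  · rw [coeff_polyOf_of_le a hu, zero_mul]
  · rw [coeff_polyOf_of_le x (by omega), mul_zero]

theorem polyOf_add {N : ℕ} (a b : Fin N → R) : polyOf (a + b) = polyOf a + polyOf b := by
  unfold polyOf
  rw [← Finset.sum_add_distrib]
  apply Finset.sum_congr rfl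
  intro j _
  simp [add_mul]

theorem polyOf_smul {N : ℕ} (c : R) (a : Fin N → R) : polyOf (c • a) = C c * polyOf a := by
  unfold polyOf
  rw [Finset.mul_sum]
  apply Finset.sum_congr rfl
  intro j _
  simp [mul_assoc]

/-- McCoy: the generic linear form is a nonzerodivisor -/
theorem polyOf_mem_nonZeroDivisors {r : ℕ} (x : Fin r → R)
    (h : ∀ a : R, (∀ i, a * x i = 0) → a = 0) : polyOf x ∈ R[X]⁰ := by
  rw [Polynomial.mem_nonZeroDivisors_iff]
  intro a ha
  apply h
  intro i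
  have := congrArg (fun p => p.coeff i) ha
  simpa [coeff_polyOf] using this

end Poly


section Main
variable {R : Type u} [CommRing R] {𝒜 : ℤ → AddSubgroup R} [GradedRing 𝒜]

theorem mem_comp_iff {n : ℤ} {y : R} : y ∈ GrLC.comp 𝒜 𝒜 n ↔ y ∈ 𝒜 n := Iff.rfl

theorem coeff_mul_mem (n : ℤ) {N r : ℕ} (a : Fin N → R) (ha : ∀ j, a j ∈ 𝒜 n)
    (x : Fin r → R) (hx : ∀ i, x i ∈ 𝒜 1) (l : ℕ) :
    (polyOf a * polyOf x).coeff l ∈ 𝒜 (n + 1) := by
  rw [coeff_mul]
  apply sum_mem
  rintro ⟨u, v⟩ _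
  exact SetLike.mul_mem_graded (coeff_polyOf_mem a _ ha u) (coeff_polyOf_mem x _ hx v)

/-- multiplication by the generic linear form, on coefficients -/
noncomputable def coeffMap (n : ℤ) {r : ℕ} (N : ℕ) (x : Fin r → R) (hx : ∀ i, x i ∈ 𝒜 1) :
    (Fin N → GrLC.comp 𝒜 𝒜 n) →ₗ[GrLC.deg0 𝒜] (Fin (N + r) → GrLC.comp 𝒜 𝒜 (n + 1)) where
  toFun a := fun l => ⟨(polyOf (fun j => (a j : R)) * polyOf x).coeff l,
    coeff_mul_mem n _ (fun j => (a j).2) x hx l⟩
  map_add' a b := by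
    funext l
    apply Subtype.ext
    have : (fun j => (((a + b) j : GrLC.comp 𝒜 𝒜 n) : R)) =
        (fun j => (a j : R)) + (fun j => (b j : R)) := by
      funext j; simp
    show (polyOf (fun j => (((a + b) j : GrLC.comp 𝒜 𝒜 n) : R)) * polyOf x).coeff l =
      (polyOf (fun j => (a j : R)) * polyOf x).coeff l +
        (polyOf (fun j => (b j : R)) * polyOf x).coeff l
    rw [this, polyOf_add, add_mul, coeff_add]
  map_smul' c a := by
    funext l
    apply Subtype.ext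
    have : (fun j => (((c • a) j : GrLC.comp 𝒜 𝒜 n) : R)) =
        (c : R) • (fun j => (a j : R)) := by
      funext j; simp [Subring.smul_def]
    show (polyOf (fun j => (((c • a) j : GrLC.comp 𝒜 𝒜 n) : R)) * polyOf x).coeff l =
      (c : R) * (polyOf (fun j => (a j : R)) * polyOf x).coeff l
    rw [this, polyOf_smul, mul_assoc, coeff_C_mul]

theorem coeffMap_injective (n : ℤ) {r : ℕ} (N : ℕ) (x : Fin r → R) (hx : ∀ i, x i ∈ 𝒜 1)
    (hreg : polyOf x ∈ R[X]⁰) : Function.Injective (coeffMap (𝒜 := 𝒜) n N x hx) := by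
  rw [injective_iff_map_eq_zero]
  intro a ha
  have h1 : polyOf (fun j => (a j : R)) * polyOf x = 0 := by
    ext l
    rw [coeff_zero]
    by_cases hl : l < N + r
    · have := congrArg (fun f => ((f ⟨l, hl⟩ : GrLC.comp 𝒜 𝒜 (n + 1)) : R)) ha
      exact this
    · exact coeff_mul_polyOf_of_le _ _ (not_lt.1 hl)
  have h2 := (mul_right_mem_nonZeroDivisors_eq_zero_iff hreg).1 h1
  have h3 := polyOf_eq_zero _ h2
  funext j
  apply Subtype.ext
  exact congrFun h3 j

end Main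

section Fin
variable {R : Type u} [CommRing R] {𝒜 : ℤ → AddSubgroup R} [GradedRing 𝒜]

/-- the map `a ↦ Σ a i * x i` between pieces -/
noncomputable def sumMap (n : ℤ) {r : ℕ} (x : Fin r → R) (hx : ∀ i, x i ∈ 𝒜 1) :
    (Fin r → GrLC.comp 𝒜 𝒜 n) →ₗ[GrLC.deg0 𝒜] GrLC.comp 𝒜 𝒜 (n + 1) where
  toFun a := ⟨∑ i, (a i : R) * x i, by
    show ∑ i, (a i : R) * x i ∈ 𝒜 (n + 1)
    exact sum_mem fun i _ => SetLike.mul_mem_graded (show (a i : R) ∈ 𝒜 n from (a i).2) (hx i)⟩
  map_add' a b := by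
    apply Subtype.ext
    show ∑ i, (((a + b) i : GrLC.comp 𝒜 𝒜 n) : R) * x i =
      ∑ i, (a i : R) * x i + ∑ i, (b i : R) * x i
    rw [← Finset.sum_add_distrib]
    apply Finset.sum_congr rfl
    intro i _
    simp [add_mul]
  map_smul' c a := by
    apply Subtype.ext
    show ∑ i, (((c • a) i : GrLC.comp 𝒜 𝒜 n) : R) * x i = (c : R) * ∑ i, (a i : R) * x i
    rw [Finset.mul_sum]
    apply Finset.sum_congr rfl
    intro i _
    simp [Subring.smul_def, mul_assoc]

theorem sumMap_surjective (n : ℤ) (hn : 0 ≤ n) {r : ℕ} (x : Fin r → R) (hx : ∀ i, x i ∈ 𝒜 1)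
    (hspan : irr 𝒜 = Ideal.span (Set.range x)) :
    Function.Surjective (sumMap (𝒜 := 𝒜) n x hx) := by
  rintro ⟨y, hy⟩
  have hy' : y ∈ 𝒜 (n + 1) := hy
  have h1 : y ∈ Ideal.span (Set.range x) := by
    rw [← hspan]; exact mem_irr_of_mem (by omega) hy'
  obtain ⟨c, hc⟩ := (Ideal.mem_span_range_iff_exists_fun).1 h1
  refine ⟨fun i => ⟨(decompose 𝒜 (c i) n : R), (decompose 𝒜 (c i) n).2⟩, ?_⟩
  apply Subtype.ext
  show ∑ i, (decompose 𝒜 (c i) n : R) * x i = y
  have h2 : (decompose 𝒜 y (n + 1) : R) = y := decompose_of_mem_same 𝒜 hy'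
  rw [← h2, ← hc, decompose_sum, DFinsupp.finsetSum_apply, AddSubgroup.val_finsetSum]
  apply Finset.sum_congr rfl
  intro i _
  exact (coe_decompose_mul_add_of_right_mem 𝒜 (hx i)).symm

variable (hpos : ∀ n : ℤ, n < 0 → 𝒜 n = ⊥)
include hpos

theorem finite_comp {r : ℕ} (x : Fin r → R) (hx : ∀ i, x i ∈ 𝒜 1)
    (hspan : irr 𝒜 = Ideal.span (Set.range x)) (n : ℤ) :
    Module.Finite (GrLC.deg0 𝒜) (GrLC.comp 𝒜 𝒜 n) := by
  rcases lt_or_ge n 0 with hn | hn
  · haveI : Subsingleton (GrLC.comp 𝒜 𝒜 n) := by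
      refine ⟨fun a b => Subtype.ext ?_⟩
      have ha : (a : R) ∈ 𝒜 n := a.2
      have hb : (b : R) ∈ 𝒜 n := b.2
      rw [hpos n hn] at ha hb
      rw [(AddSubgroup.mem_bot).1 ha, (AddSubgroup.mem_bot).1 hb]
    infer_instance
  · obtain ⟨m, rfl⟩ := Int.eq_ofNat_of_zero_le hn
    clear hn
    induction m with
    | zero =>
      refine Module.Finite.of_surjective
        (LinearMap.toSpanSingleton (GrLC.deg0 𝒜) (GrLC.comp 𝒜 𝒜 ((0 : ℕ) : ℤ))
          ⟨1, (SetLike.GradedOne.one_mem : (1 : R) ∈ 𝒜 0)⟩) ?_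
      rintro ⟨y, hy⟩
      refine ⟨⟨y, hy⟩, ?_⟩
      apply Subtype.ext
      simp [Subring.smul_def]
    | succ m ih =>
      haveI := ih
      have hs := sumMap_surjective (𝒜 := 𝒜) (m : ℤ) (by omega) x hx hspan
      have := Module.Finite.of_surjective _ hs
      rw [Nat.cast_succ]
      exact this

end Fin

theorem main (R : Type u) [CommRing R] [LocCoh.IsCohenMacaulayRing R] (𝒜 : ℤ → AddSubgroup R)
    [GradedRing 𝒜] (hpos : ∀ n : ℤ, n < 0 → 𝒜 n = ⊥) (h0 : IsField (GrLC.deg0 𝒜))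
    (hstd : Ideal.span (⋃ n ∈ Set.Ioi (0 : ℤ), (𝒜 n : Set R)) =
      Ideal.span ((𝒜 1 : AddSubgroup R) : Set R))
    (h1 : 1 ≤ ringKrullDim R) (n : ℤ) :
    Module.finrank (GrLC.deg0 𝒜) (GrLC.comp 𝒜 𝒜 n) ≤
      Module.finrank (GrLC.deg0 𝒜) (GrLC.comp 𝒜 𝒜 (n + 1)) := by
  classical
  have hfg : (Ideal.span ((𝒜 1 : AddSubgroup R) : Set R)).FG := IsNoetherian.noetherian _
  obtain ⟨s', hs', hspan⟩ := (Submodule.fg_span_iff_fg_span_finset_subset _).1 hfg
  let e := s'.equivFin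
  let x : Fin s'.card → R := fun i => (e.symm i : R)
  have hx : ∀ i, x i ∈ 𝒜 1 := fun i => hs' (e.symm i).2
  have hrange : Set.range x = (s' : Set R) := by
    ext y; constructor
    · rintro ⟨i, rfl⟩; exact (e.symm i).2
    · intro hy; exact ⟨e ⟨y, hy⟩, by simp [x]⟩
  have hirr : irr 𝒜 = Ideal.span (Set.range x) := by
    rw [hrange]; unfold irr; rw [hstd]; exact hspan
  have hreg : polyOf x ∈ R[X]⁰ := by
    apply polyOf_mem_nonZeroDivisors
    intro a ha
    apply eq_zero_of_mul_irr_eq_zero hpos h0 h1 a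
    intro μ hμ
    rw [hirr] at hμ
    induction hμ using Submodule.span_induction with
    | mem y hy => obtain ⟨i, rfl⟩ := hy; rw [mul_comm]; exact ha i
    | zero => simp
    | add y z _ _ hy hz => rw [add_mul, hy, hz, add_zero]
    | smul b y _ hy => rw [smul_eq_mul, mul_assoc, hy, mul_zero]
  letI : Field (GrLC.deg0 𝒜) := h0.toField
  haveI := finite_comp hpos x hx hirr n
  haveI := finite_comp hpos x hx hirr (n + 1)
  apply ntrick s'.card
  intro N
  exact ⟨coeffMap n N x hx, coeffMap_injective n N x hx hreg⟩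

end Helper71.GrCM
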