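import Mathlib

set_option autoImplicit false
set_option linter.unusedSectionVars false
universe u
open DirectSum

namespace Groth.Agent.Lib.Helper71.GradedPoly

variable {A B : Type u} [CommRing A] [CommRing B] [Algebra A B]
variable (𝒜 : ℕ → Submodule A B) [GradedAlgebra 𝒜]

/-- the irrelevant ideal -/
abbrev Irr : Ideal B := (HomogeneousIdeal.irrelevant 𝒜).toIdeal

/-- projection -/
noncomputable def pr (n : ℕ) : B →ₗ[A] B := GradedAlgebra.proj 𝒜 n

theorem pr_mem (n : ℕ) (x : B) : pr 𝒜 n x ∈ 𝒜 n := (decompose 𝒜 x n).2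

theorem pr_of_mem {n : ℕ} {x : B} (hx : x ∈ 𝒜 n) : pr 𝒜 n x = x := by
  rw [pr, GradedAlgebra.proj_apply, decompose_of_mem_same 𝒜 hx]

theorem pr_of_mem_ne {n m : ℕ} {x : B} (hx : x ∈ 𝒜 n) (h : n ≠ m) : pr 𝒜 m x = 0 := by
  rw [pr, GradedAlgebra.proj_apply, decompose_of_mem_ne 𝒜 hx h]

theorem pr_pr (n : ℕ) (x : B) : pr 𝒜 n (pr 𝒜 n x) = pr 𝒜 n x := pr_of_mem 𝒜 (pr_mem 𝒜 n x)

theorem pr_pr_ne {n m : ℕ} (h : n ≠ m) (x : B) : pr 𝒜 m (pr 𝒜 n x) = 0 :=
  pr_of_mem_ne 𝒜 (pr_mem 𝒜 n x) h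

open scoped Classical in
theorem sum_pr (x : B) : ∑ n ∈ (decompose 𝒜 x).support, pr 𝒜 n x = x :=
  DirectSum.sum_support_decompose 𝒜 x

theorem mem_Irr_iff (x : B) : x ∈ Irr 𝒜 ↔ pr 𝒜 0 x = 0 := Iff.rfl

theorem pr_mem_Irr {x : B} (hx : x ∈ Irr 𝒜) (n : ℕ) : pr 𝒜 n x ∈ Irr 𝒜 :=
  (HomogeneousIdeal.irrelevant 𝒜).isHomogeneous n hx

theorem pr_mem_Irr_sq {x : B} (hx : x ∈ Irr 𝒜 ^ 2) (n : ℕ) : pr 𝒜 n x ∈ Irr 𝒜 ^ 2 := by
  have h : (Irr 𝒜 ^ 2).IsHomogeneous 𝒜 := by
    rw [pow_two]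
    exact (HomogeneousIdeal.irrelevant 𝒜).isHomogeneous.mul (HomogeneousIdeal.irrelevant 𝒜).isHomogeneous
  exact h n hx

theorem mem_Irr_of_mem {n : ℕ} (hn : 0 < n) {x : B} (hx : x ∈ 𝒜 n) : x ∈ Irr 𝒜 :=
  HomogeneousIdeal.mem_irrelevant_of_mem 𝒜 hn hx

/-- The subalgebra generated by homogeneous elements of degree `< m`. -/
def lowAlg (m : ℕ) : Subalgebra A B := Algebra.adjoin A (⋃ n < m, (𝒜 n : Set B))

theorem mem_lowAlg_of_mem {m n : ℕ} (h : n < m) {x : B} (hx : x ∈ 𝒜 n) : x ∈ lowAlg 𝒜 m :=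
  Algebra.subset_adjoin (Set.mem_iUnion₂.mpr ⟨n, h, hx⟩)

open scoped Classical in
/-- degree-`m` component of a product of two elements of the irrelevant ideal lies in `lowAlg m`. -/
theorem pr_mul_mem_lowAlg (m : ℕ) {u v : B} (hu : u ∈ Irr 𝒜) (hv : v ∈ Irr 𝒜) :
    pr 𝒜 m (u * v) ∈ lowAlg 𝒜 m := by
  conv => rw [← sum_pr 𝒜 u, ← sum_pr 𝒜 v]
  rw [Finset.sum_mul_sum, map_sum]
  refine Subalgebra.sum_mem _ fun i _ => ?_
  rw [map_sum]
  refine Subalgebra.sum_mem _ fun j _ => ?_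
  have hij : pr 𝒜 i u * pr 𝒜 j v ∈ 𝒜 (i + j) := SetLike.mul_mem_graded (pr_mem 𝒜 i u) (pr_mem 𝒜 j v)
  by_cases h : i + j = m
  · rw [pr_of_mem 𝒜 (h ▸ hij)]
    rcases Nat.eq_zero_or_pos i with rfl | hi
    · rw [(mem_Irr_iff 𝒜 u).mp hu, zero_mul]; exact Subalgebra.zero_mem _
    rcases Nat.eq_zero_or_pos j with rfl | hj
    · rw [(mem_Irr_iff 𝒜 v).mp hv, mul_zero]; exact Subalgebra.zero_mem _
    exact Subalgebra.mul_mem _ (mem_lowAlg_of_mem 𝒜 (by omega) (pr_mem 𝒜 i u))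
      (mem_lowAlg_of_mem 𝒜 (by omega) (pr_mem 𝒜 j v))
  · rw [pr_of_mem_ne 𝒜 hij h]; exact Subalgebra.zero_mem _

theorem pr_mem_lowAlg_of_mem_sq (m : ℕ) {c : B} (hc : c ∈ Irr 𝒜 ^ 2) :
    pr 𝒜 m c ∈ lowAlg 𝒜 m := by
  rw [pow_two] at hc
  induction hc using Submodule.mul_induction_on' with
  | mem_mul_mem u hu v hv => exact pr_mul_mem_lowAlg 𝒜 m hu hv
  | add x _ y _ hx hy => rw [map_add]; exact Subalgebra.add_mem _ hx hy

/-- the quotient map to the conormal module, as an `A`-linear map. -/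
noncomputable def piA : ↥(Irr 𝒜) →ₗ[A] (Irr 𝒜).Cotangent :=
  (Irr 𝒜).toCotangent.restrictScalars A

theorem piA_surjective : Function.Surjective (piA 𝒜) := (Irr 𝒜).toCotangent_surjective

theorem piA_eq_zero_iff (x : ↥(Irr 𝒜)) : piA 𝒜 x = 0 ↔ (x : B) ∈ Irr 𝒜 ^ 2 :=
  (Irr 𝒜).toCotangent_eq_zero x

theorem piA_eq_iff (x y : ↥(Irr 𝒜)) : piA 𝒜 x = piA 𝒜 y ↔ (x - y : B) ∈ Irr 𝒜 ^ 2 :=
  (Irr 𝒜).toCotangent_eq

/-- projection restricted to the irrelevant ideal -/
noncomputable def q (n : ℕ) : ↥(Irr 𝒜) →ₗ[A] ↥(Irr 𝒜) where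
  toFun x := ⟨pr 𝒜 n x, pr_mem_Irr 𝒜 x.2 n⟩
  map_add' x y := Subtype.ext ((pr 𝒜 n).map_add x y)
  map_smul' a x := Subtype.ext ((pr 𝒜 n).map_smul a x)

@[simp] theorem q_coe (n : ℕ) (x : ↥(Irr 𝒜)) : ((q 𝒜 n x : ↥(Irr 𝒜)) : B) = pr 𝒜 n x := rfl

theorem ker_piA_le (n : ℕ) : LinearMap.ker (piA 𝒜) ≤ LinearMap.ker ((piA 𝒜) ∘ₗ q 𝒜 n) := by
  intro x hx
  rw [LinearMap.mem_ker] at hx ⊢
  rw [piA_eq_zero_iff] at hx
  rw [LinearMap.comp_apply, piA_eq_zero_iff]
  exact pr_mem_Irr_sq 𝒜 hx n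

/-- the induced projection on the conormal module -/
noncomputable def pN (n : ℕ) : (Irr 𝒜).Cotangent →ₗ[A] (Irr 𝒜).Cotangent :=
  (Submodule.liftQ (LinearMap.ker (piA 𝒜)) ((piA 𝒜) ∘ₗ q 𝒜 n) (ker_piA_le 𝒜 n)) ∘ₗ
    ((piA 𝒜).quotKerEquivOfSurjective (piA_surjective 𝒜)).symm.toLinearMap

theorem pN_piA (n : ℕ) (x : ↥(Irr 𝒜)) : pN 𝒜 n (piA 𝒜 x) = piA 𝒜 (q 𝒜 n x) := by
  unfold pN
  rw [LinearMap.comp_apply, LinearEquiv.coe_coe, LinearMap.quotKerEquivOfSurjective_symm_apply,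
    Submodule.liftQ_apply, LinearMap.comp_apply]

theorem q_q (n : ℕ) (x : ↥(Irr 𝒜)) : q 𝒜 n (q 𝒜 n x) = q 𝒜 n x := by
  ext; simp only [q_coe, pr_pr]

theorem q_q_ne {n m : ℕ} (h : n ≠ m) (x : ↥(Irr 𝒜)) : q 𝒜 m (q 𝒜 n x) = 0 := by
  ext; simp only [q_coe, pr_pr_ne 𝒜 h, ZeroMemClass.coe_zero]

theorem pN_pN (n : ℕ) (z : (Irr 𝒜).Cotangent) : pN 𝒜 n (pN 𝒜 n z) = pN 𝒜 n z := by
  obtain ⟨x, rfl⟩ := piA_surjective 𝒜 z
  rw [pN_piA, pN_piA, q_q]

theorem pN_pN_ne {n m : ℕ} (h : n ≠ m) (z : (Irr 𝒜).Cotangent) : pN 𝒜 m (pN 𝒜 n z) = 0 := by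
  obtain ⟨x, rfl⟩ := piA_surjective 𝒜 z
  rw [pN_piA, pN_piA, q_q_ne 𝒜 h, map_zero]

open scoped Classical in
theorem exists_bound (x : B) : ∃ D : ℕ, ∀ n, D < n → pr 𝒜 n x = 0 := by
  refine ⟨(decompose 𝒜 x).support.sup id, fun n hn => ?_⟩
  have : n ∉ (decompose 𝒜 x).support := by
    intro h
    have := Finset.le_sup (f := id) h
    simp only [id] at this
    omega
  rw [DFinsupp.notMem_support_iff] at this
  rw [pr, GradedAlgebra.proj_apply, this]
  rfl

open scoped Classical in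
theorem sum_range_pr (x : B) (D : ℕ) (hD : ∀ n, D < n → pr 𝒜 n x = 0) :
    ∑ n ∈ Finset.range (D + 1), pr 𝒜 n x = x := by
  conv_rhs => rw [← sum_pr 𝒜 x]
  symm
  apply Finset.sum_subset
  · intro n hn
    rw [Finset.mem_range]
    by_contra h
    have h0 := hD n (by omega)
    rw [DFinsupp.mem_support_iff] at hn
    apply hn
    ext
    exact h0
  · intro n _ hn
    rw [DFinsupp.notMem_support_iff] at hn
    rw [pr, GradedAlgebra.proj_apply, hn]
    rfl

theorem exists_graded_generators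
    (h0 : ∀ b : B, b ∈ 𝒜 0 ↔ b ∈ Set.range (algebraMap A B))
    {ι : Type*} [Fintype ι] (e : Module.Basis ι A (Irr 𝒜).Cotangent) :
    ∃ y : ι → ↥(Irr 𝒜), (∀ i, piA 𝒜 (y i) = e i) ∧
      Algebra.adjoin A (Set.range fun i => (y i : B)) = ⊤ := by
  classical
  have hproj : Module.Projective A (Irr 𝒜).Cotangent := Module.Projective.of_basis e
  -- lifts of the basis
  have hb : ∀ i, ∃ b : ↥(Irr 𝒜), piA 𝒜 b = e i := fun i => piA_surjective 𝒜 (e i)
  choose b hb using hb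
  have hD : ∀ i, ∃ D : ℕ, ∀ n, D < n → pr 𝒜 n (b i : B) = 0 := fun i => exists_bound 𝒜 (b i : B)
  choose D₀ hD₀ using hD
  obtain ⟨D, hDdef⟩ : ∃ D, D = Finset.univ.sup D₀ := ⟨_, rfl⟩
  have hD : ∀ i n, D < n → pr 𝒜 n (b i : B) = 0 := by
    intro i n hn
    apply hD₀ i n
    have : D₀ i ≤ D := by rw [hDdef]; exact Finset.le_sup (Finset.mem_univ i)
    omega
  obtain ⟨s₀, hs₀⟩ := Module.projective_lifting_property (piA 𝒜) LinearMap.id (piA_surjective 𝒜)
  have hs₀' : ∀ z, piA 𝒜 (s₀ z) = z := fun z => DFunLike.congr_fun hs₀ z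
  -- (a) pN n = 0 for n > D
  have ha : ∀ n, D < n → pN 𝒜 n = 0 := by
    intro n hn
    apply e.ext
    intro i
    rw [← hb i, pN_piA, LinearMap.zero_apply]
    have : q 𝒜 n (b i) = 0 := by
      ext; rw [q_coe, hD i n hn]; rfl
    rw [this, map_zero]
  -- (b) sum of pN = id
  have hbsum : ∀ z, ∑ n ∈ Finset.range (D + 1), pN 𝒜 n z = z := by
    intro z
    have : (∑ n ∈ Finset.range (D + 1), pN 𝒜 n) = LinearMap.id := by
      apply e.ext
      intro i
      rw [LinearMap.sum_apply, LinearMap.id_apply, ← hb i]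
      simp only [pN_piA]
      rw [← map_sum]
      congr 1
      ext
      rw [AddSubmonoidClass.coe_finsetSum]
      simp only [q_coe]
      exact sum_range_pr 𝒜 _ D (hD i)
    have h2 := DFunLike.congr_fun this z
    rwa [LinearMap.sum_apply, LinearMap.id_apply] at h2
  -- the graded section
  obtain ⟨s, hsdef⟩ : ∃ s : (Irr 𝒜).Cotangent →ₗ[A] ↥(Irr 𝒜),
      s = ∑ n ∈ Finset.range (D + 1), (q 𝒜 n) ∘ₗ s₀ ∘ₗ (pN 𝒜 n) := ⟨_, rfl⟩
  have hs_apply : ∀ z, s z = ∑ n ∈ Finset.range (D + 1), q 𝒜 n (s₀ (pN 𝒜 n z)) := by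
    intro z; rw [hsdef, LinearMap.sum_apply]; rfl
  -- (c) section
  have hc : ∀ z, piA 𝒜 (s z) = z := by
    intro z
    rw [hs_apply, map_sum]
    conv_rhs => rw [← hbsum z]
    refine Finset.sum_congr rfl fun n _ => ?_
    rw [← pN_piA, hs₀', pN_pN]
  -- (d) graded
  have hd : ∀ m z, q 𝒜 m (s z) = s (pN 𝒜 m z) := by
    intro m z
    rw [hs_apply, hs_apply, map_sum]
    by_cases hm : m ∈ Finset.range (D + 1)
    · rw [Finset.sum_eq_single m, Finset.sum_eq_single m]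
      · rw [q_q, pN_pN]
      · intro n _ hn
        rw [pN_pN_ne 𝒜 (Ne.symm hn), map_zero, map_zero]
      · intro h; exact absurd hm h
      · intro n _ hn
        rw [q_q_ne 𝒜 hn]
      · intro h; exact absurd hm h
    · rw [Finset.mem_range, not_lt] at hm
      rw [Finset.sum_eq_zero, Finset.sum_eq_zero]
      · intro n hn
        rw [ha m (by omega), LinearMap.zero_apply, map_zero, map_zero, map_zero]
      · intro n hn
        rw [Finset.mem_range] at hn
        exact q_q_ne 𝒜 (by omega) _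
  refine ⟨fun i => s (e i), fun i => hc (e i), ?_⟩
  obtain ⟨B', hB'⟩ : ∃ B' : Subalgebra A B,
      B' = Algebra.adjoin A (Set.range fun i => ((s (e i) : ↥(Irr 𝒜)) : B)) := ⟨_, rfl⟩
  rw [← hB']
  have hsz : ∀ z, ((s z : ↥(Irr 𝒜)) : B) ∈ B' := by
    intro z
    rw [← e.sum_repr z, map_sum, AddSubmonoidClass.coe_finsetSum]
    refine Subalgebra.sum_mem _ fun i _ => ?_
    rw [map_smul]
    have : (((e.repr z i) • s (e i) : ↥(Irr 𝒜)) : B) = (e.repr z i) • ((s (e i) : ↥(Irr 𝒜)) : B) := rfl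
    rw [this]
    refine Subalgebra.smul_mem _ ?_ _
    rw [hB']
    exact Algebra.subset_adjoin ⟨i, rfl⟩
  have hmain : ∀ m, ∀ x ∈ 𝒜 m, x ∈ B' := by
    intro m
    induction m using Nat.strong_induction_on with
    | _ m ih =>
      intro x hx
      rcases Nat.eq_zero_or_pos m with rfl | hm
      · obtain ⟨a, rfl⟩ := (h0 x).mp hx
        exact Subalgebra.algebraMap_mem _ a
      · have hxI : x ∈ Irr 𝒜 := mem_Irr_of_mem 𝒜 hm hx
        obtain ⟨z, hz⟩ : ∃ z, z = piA 𝒜 ⟨x, hxI⟩ := ⟨_, rfl⟩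
        have hqx : q 𝒜 m ⟨x, hxI⟩ = ⟨x, hxI⟩ := by
          ext; rw [q_coe]; exact pr_of_mem 𝒜 hx
        have hpz : pN 𝒜 m z = z := by rw [hz, pN_piA, hqx]
        have hsz' : pr 𝒜 m ((s z : ↥(Irr 𝒜)) : B) = ((s z : ↥(Irr 𝒜)) : B) := by
          have := congrArg (fun w : ↥(Irr 𝒜) => (w : B)) (hd m z)
          simp only [q_coe] at this
          rw [this, hpz]
        have hc2 : x - ((s z : ↥(Irr 𝒜)) : B) ∈ Irr 𝒜 ^ 2 := by
          have h1 : piA 𝒜 ⟨x, hxI⟩ = piA 𝒜 (s z) := by rw [hc, hz]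
          exact (piA_eq_iff 𝒜 _ _).mp h1
        have hc3 : pr 𝒜 m (x - ((s z : ↥(Irr 𝒜)) : B)) = x - ((s z : ↥(Irr 𝒜)) : B) := by
          rw [map_sub, pr_of_mem 𝒜 hx, hsz']
        have hlow : lowAlg 𝒜 m ≤ B' := by
          unfold lowAlg
          rw [Algebra.adjoin_le_iff]
          intro w hw
          obtain ⟨n, hn, hw⟩ := Set.mem_iUnion₂.mp hw
          exact ih n hn w hw
        have hc4 : x - ((s z : ↥(Irr 𝒜)) : B) ∈ B' := by
          rw [← hc3]
          exact hlow (pr_mem_lowAlg_of_mem_sq 𝒜 m hc2)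
        have : x = (x - ((s z : ↥(Irr 𝒜)) : B)) + ((s z : ↥(Irr 𝒜)) : B) := by ring
        rw [this]
        exact Subalgebra.add_mem _ hc4 (hsz z)
  rw [eq_top_iff]
  intro x _
  rw [← sum_pr 𝒜 x]
  exact Subalgebra.sum_mem _ fun n _ => hmain n _ (pr_mem 𝒜 n x)

section PartTwo
open MvPolynomial


theorem algebraMap_mem_Irr_iff (hinj : Function.Injective (algebraMap A B)) (a : A) :
    algebraMap A B a ∈ Irr 𝒜 ↔ a = 0 := by
  constructor
  · intro h
    rw [mem_Irr_iff] at h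
    have h1 : algebraMap A B a ∈ 𝒜 0 := SetLike.algebraMap_mem_graded 𝒜 a
    rw [pr_of_mem 𝒜 h1] at h
    exact hinj (by rw [h, map_zero])
  · rintro rfl; rw [map_zero]; exact zero_mem _

variable {ι : Type*} [Fintype ι] (y : ι → ↥(Irr 𝒜))

/-- the map from the polynomial ring -/
noncomputable def phi : MvPolynomial ι A →ₐ[A] B := aeval (fun i => (y i : B))

theorem phi_X (i : ι) : phi 𝒜 y (X i) = (y i : B) := by simp [phi]

theorem phi_sub_const_mem (f : MvPolynomial ι A) :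
    phi 𝒜 y f - algebraMap A B (constantCoeff f) ∈ Irr 𝒜 := by
  induction f using MvPolynomial.induction_on with
  | C a => simp [phi]
  | add p q hp hq =>
    have : phi 𝒜 y (p + q) - algebraMap A B (constantCoeff (p + q)) =
        (phi 𝒜 y p - algebraMap A B (constantCoeff p)) +
        (phi 𝒜 y q - algebraMap A B (constantCoeff q)) := by
      rw [map_add, map_add, map_add]; ring
    rw [this]; exact Ideal.add_mem _ hp hq
  | mul_X p i _ =>
    rw [map_mul, map_mul, constantCoeff_X, mul_zero, map_zero, sub_zero, phi_X]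
    exact Ideal.mul_mem_left _ _ (y i).2

theorem phi_sub_linear_mem (f : MvPolynomial ι A) :
    phi 𝒜 y f - algebraMap A B (constantCoeff f) -
      ∑ i, (coeff (Finsupp.single i 1) f) • (y i : B) ∈ Irr 𝒜 ^ 2 := by
  classical
  induction f using MvPolynomial.induction_on with
  | C a =>
    have : ∀ i : ι, coeff (Finsupp.single i 1) (C a : MvPolynomial ι A) = 0 := by
      intro i
      rw [coeff_C, if_neg]
      intro h
      have := DFunLike.congr_fun h i
      simp at this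
    simp [phi, this]
  | add p q hp hq =>
    have : phi 𝒜 y (p + q) - algebraMap A B (constantCoeff (p + q)) -
        ∑ i, (coeff (Finsupp.single i 1) (p + q)) • (y i : B) =
        (phi 𝒜 y p - algebraMap A B (constantCoeff p) -
          ∑ i, (coeff (Finsupp.single i 1) p) • (y i : B)) +
        (phi 𝒜 y q - algebraMap A B (constantCoeff q) -
          ∑ i, (coeff (Finsupp.single i 1) q) • (y i : B)) := by
      simp only [map_add, coeff_add, add_smul, Finset.sum_add_distrib]; ring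
    rw [this]; exact Ideal.add_mem _ hp hq
  | mul_X p j _ =>
    have hc : ∀ i : ι, coeff (Finsupp.single i 1) (p * X j) =
        if i = j then constantCoeff p else 0 := by
      intro i
      rw [coeff_mul_X']
      by_cases hij : i = j
      · subst hij
        simp [constantCoeff_eq]
      · rw [if_neg hij, if_neg]
        simp [Ne.symm hij]
    have hsum : ∑ i, (coeff (Finsupp.single i 1) (p * X j)) • (y i : B) =
        (constantCoeff p) • (y j : B) := by
      simp only [hc]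
      rw [Finset.sum_eq_single j]
      · simp
      · intro i _ hij; simp [hij]
      · intro h; exact absurd (Finset.mem_univ j) h
    rw [hsum, map_mul, map_mul, constantCoeff_X, mul_zero, map_zero, sub_zero, phi_X]
    have : phi 𝒜 y p * (y j : B) - (constantCoeff p) • (y j : B) =
        (phi 𝒜 y p - algebraMap A B (constantCoeff p)) * (y j : B) := by
      rw [Algebra.smul_def]; ring
    rw [this, pow_two]
    exact Ideal.mul_mem_mul (phi_sub_const_mem 𝒜 y p) (y j).2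

theorem ker_phi_le (hinj : Function.Injective (algebraMap A B))
    (e : Module.Basis ι A (Irr 𝒜).Cotangent) (hy : ∀ i, piA 𝒜 (y i) = e i) :
    RingHom.ker (phi 𝒜 y) ≤ idealOfVars ι A ^ 2 := by
  classical
  intro f hf
  rw [RingHom.mem_ker] at hf
  have h0 : constantCoeff f = 0 := by
    have := phi_sub_const_mem 𝒜 y f
    rw [hf, zero_sub, neg_mem_iff] at this
    exact (algebraMap_mem_Irr_iff 𝒜 hinj _).mp this
  have h1 : ∀ i, coeff (Finsupp.single i 1) f = 0 := by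
    have hlin := phi_sub_linear_mem 𝒜 y f
    rw [hf, h0, map_zero, sub_zero, zero_sub, neg_mem_iff] at hlin
    have h2 : piA 𝒜 (∑ i, (coeff (Finsupp.single i 1) f) • y i) = 0 := by
      rw [piA_eq_zero_iff]
      have : ((∑ i, (coeff (Finsupp.single i 1) f) • y i : ↥(Irr 𝒜)) : B) =
          ∑ i, (coeff (Finsupp.single i 1) f) • (y i : B) := by
        rw [AddSubmonoidClass.coe_finsetSum]; rfl
      rw [this]; exact hlin
    rw [map_sum] at h2
    simp only [map_smul, hy] at h2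
    have h3 := Fintype.linearIndependent_iff.mp e.linearIndependent _ h2
    exact h3
  rw [mem_pow_idealOfVars_iff']
  intro x hx
  have hx' : Finsupp.degree x = 0 ∨ Finsupp.degree x = 1 := by omega
  rcases hx' with hx0 | hx1
  · rw [Finsupp.degree_eq_zero_iff] at hx0
    rw [hx0]; exact h0
  · -- degree one: x = single i 1
    have hne : x ≠ 0 := by
      intro h; rw [h] at hx1; simp at hx1
    obtain ⟨i, hi⟩ : ∃ i, x i ≠ 0 := by
      by_contra hcon
      push Not at hcon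
      exact hne (Finsupp.ext hcon)
    have hxi : x = Finsupp.single i 1 := by
      have hle : Finsupp.single i 1 ≤ x := by
        rw [Finsupp.single_le_iff]
        omega
      obtain ⟨c, hc⟩ := le_iff_exists_add.mp hle
      have hdeg : Finsupp.degree c = 0 := by
        have := congrArg Finsupp.degree hc
        rw [map_add, Finsupp.degree_single, hx1] at this
        omega
      rw [Finsupp.degree_eq_zero_iff] at hdeg
      rw [hc, hdeg, add_zero]
    rw [hxi]; exact h1 i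


end PartTwo


/-- Local vanishing of the kernel of a surjection from a formally smooth algebra onto an algebra
which is formally smooth at a prime, when the kernel lies in the square of the prime. -/
theorem exists_mul_eq_zero_of_smooth {A P B : Type u} [CommRing A] [CommRing P] [CommRing B]
    [Algebra A P] [Algebra A B] [IsNoetherianRing P] [Algebra.FormallySmooth A P]
    (φ : P →ₐ[A] B) (hφ : Function.Surjective φ) (𝔮 : Ideal P) [𝔮.IsPrime]
    (𝔭 : Ideal B) [𝔭.IsPrime] (h𝔮 : 𝔮 = 𝔭.comap φ.toRingHom)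
    (hK : RingHom.ker φ.toRingHom ≤ 𝔮 ^ 2)
    [hsm : Algebra.FormallySmooth A (Localization.AtPrime 𝔭)] :
    ∀ f ∈ RingHom.ker φ.toRingHom, ∃ t, t ∉ 𝔮 ∧ t * f = 0 := by
  -- the local map
  let Pq := Localization.AtPrime 𝔮
  let Bp := Localization.AtPrime 𝔭
  let Φ₀ : Pq →+* Bp := Localization.localRingHom 𝔮 𝔭 φ.toRingHom h𝔮
  let Φ : Pq →ₐ[A] Bp :=
    { Φ₀ with
      commutes' := fun a => by
        show Φ₀ (algebraMap A Pq a) = algebraMap A Bp a
        rw [IsScalarTower.algebraMap_apply A P Pq, Localization.localRingHom_to_map,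
          IsScalarTower.algebraMap_apply A B Bp]
        congr 1
        exact φ.commutes a }
  have hΦ_apply : ∀ z, Φ z = Φ₀ z := fun _ => rfl
  have hΦsurj : Function.Surjective Φ := by
    intro w
    obtain ⟨b, s, rfl⟩ := IsLocalization.exists_mk'_eq 𝔭.primeCompl w
    obtain ⟨f, rfl⟩ := hφ b
    obtain ⟨t, ht⟩ := hφ s.1
    have htq : t ∈ 𝔮.primeCompl := by
      intro h
      rw [h𝔮] at h
      have : φ t ∈ 𝔭 := h
      rw [ht] at this
      exact s.2 this
    refine ⟨IsLocalization.mk' Pq f ⟨t, htq⟩, ?_⟩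
    rw [hΦ_apply, Localization.localRingHom_mk']
    congr 1
    exact Subtype.ext ht
  have hsmP : Algebra.FormallySmooth A Pq := by
    have : Algebra.FormallySmooth P Pq := Algebra.FormallySmooth.of_isLocalization 𝔮.primeCompl
    exact Algebra.FormallySmooth.comp A P Pq
  obtain ⟨g, hg⟩ := (Algebra.FormallySmooth.iff_split_surjection Φ hΦsurj).mp hsm
  obtain ⟨J, hJ⟩ : ∃ J : Ideal Pq, J = RingHom.ker Φ.toRingHom := ⟨_, rfl⟩
  have hJmem : ∀ z : Pq, z ∈ J ↔ Φ z = 0 := by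
    intro z; rw [hJ]; exact RingHom.mem_ker
  let 𝔪 : Ideal Pq := IsLocalRing.maximalIdeal Pq
  have h𝔪 : 𝔮.map (algebraMap P Pq) = 𝔪 := Localization.AtPrime.map_eq_maximalIdeal
  -- Step A
  have hA : J ≤ 𝔪 ^ 2 := by
    intro z hz
    rw [hJmem] at hz
    obtain ⟨f, s, rfl⟩ := IsLocalization.exists_mk'_eq 𝔮.primeCompl z
    rw [hΦ_apply, Localization.localRingHom_mk', IsLocalization.mk'_eq_zero_iff] at hz
    obtain ⟨u, hu⟩ := hz
    obtain ⟨t, ht⟩ := hφ u.1
    have htq : t ∈ 𝔮.primeCompl := by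
      intro h
      rw [h𝔮] at h
      have : φ t ∈ 𝔭 := h
      rw [ht] at this
      exact u.2 this
    have htf : t * f ∈ 𝔮 ^ 2 := by
      apply hK
      rw [RingHom.mem_ker]
      show φ (t * f) = 0
      rw [map_mul, ht]; exact hu
    have h1 : IsLocalization.mk' Pq f s =
        algebraMap P Pq (t * f) * IsLocalization.mk' Pq 1 (⟨t, htq⟩ * s) := by
      rw [IsLocalization.mul_mk'_eq_mk'_of_mul, mul_one, IsLocalization.mk'_eq_iff_eq]
      congr 1
      simp only [Submonoid.coe_mul]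
      ring
    rw [h1, ← h𝔪, ← Ideal.map_pow]
    exact Ideal.mul_mem_right _ _ (Ideal.mem_map_of_mem _ htf)
  have hJ𝔪 : J ≤ 𝔪 := hA.trans (Ideal.pow_le_self (by norm_num))
  -- the quotient
  let mkC : Pq →+* Pq ⧸ RingHom.ker Φ.toRingHom ^ 2 := Ideal.Quotient.mk _
  have hmkC_surj : Function.Surjective mkC := Ideal.Quotient.mk_surjective
  have hΦbar : ∀ z, Φ.kerSquareLift (mkC z) = Φ z := fun z => AlgHom.kerSquareLift_mk Φ z
  have hgΦ : ∀ w, Φ.kerSquareLift (g w) = w := fun w => DFunLike.congr_fun hg w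
  -- Step B
  have hB : ∀ c, c - g (Φ.kerSquareLift c) ∈ J.map mkC := by
    intro c
    obtain ⟨z, rfl⟩ := hmkC_surj c
    obtain ⟨z', hz'⟩ := hmkC_surj (g (Φ.kerSquareLift (mkC z)))
    rw [← hz', ← map_sub]
    apply Ideal.mem_map_of_mem
    rw [hJmem, map_sub, ← hΦbar z', hz', hgΦ, hΦbar, sub_self]
  -- Step C
  have hC : ∀ z ∈ 𝔪 * 𝔪, mkC z - g (Φ.kerSquareLift (mkC z)) ∈ (𝔪.map mkC) * (J.map mkC) := by
    intro z hz
    induction hz using Submodule.mul_induction_on' with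
    | mem_mul_mem u hu v hv =>
      have hev : g (Φ.kerSquareLift (mkC v)) ∈ 𝔪.map mkC := by
        have h1 := hB (mkC v)
        have h2 : mkC v ∈ 𝔪.map mkC := Ideal.mem_map_of_mem _ hv
        have h3 : J.map mkC ≤ 𝔪.map mkC := Ideal.map_mono hJ𝔪
        have : g (Φ.kerSquareLift (mkC v)) = mkC v - (mkC v - g (Φ.kerSquareLift (mkC v))) := by ring
        rw [this]
        exact Ideal.sub_mem _ h2 (h3 h1)
      have : mkC (u * v) - g (Φ.kerSquareLift (mkC (u * v))) =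
          mkC u * (mkC v - g (Φ.kerSquareLift (mkC v))) +
          g (Φ.kerSquareLift (mkC v)) * (mkC u - g (Φ.kerSquareLift (mkC u))) := by
        simp only [map_mul]; ring
      rw [this]
      exact Ideal.add_mem _ (Ideal.mul_mem_mul (Ideal.mem_map_of_mem _ hu) (hB _))
        (Ideal.mul_mem_mul hev (hB _))
    | add x _ y _ hx hy =>
      have : mkC (x + y) - g (Φ.kerSquareLift (mkC (x + y))) =
          (mkC x - g (Φ.kerSquareLift (mkC x))) + (mkC y - g (Φ.kerSquareLift (mkC y))) := by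
        simp only [map_add]; ring
      rw [this]; exact Ideal.add_mem _ hx hy
  -- Step D
  have hD : J ≤ 𝔪 * J := by
    intro z hz
    have h1 := hC z (by rw [← pow_two]; exact hA hz)
    have h2 : Φ.kerSquareLift (mkC z) = 0 := by rw [hΦbar]; exact (hJmem z).mp hz
    rw [h2, map_zero, sub_zero, ← Ideal.map_mul] at h1
    obtain ⟨w, hw, hwz⟩ := (Ideal.mem_map_iff_of_surjective mkC hmkC_surj).mp h1
    have h3 : z - w ∈ RingHom.ker Φ.toRingHom ^ 2 := by
      rw [← Ideal.Quotient.eq_zero_iff_mem]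
      show mkC (z - w) = 0
      rw [map_sub, hwz, sub_self]
    have h4 : RingHom.ker Φ.toRingHom ^ 2 ≤ 𝔪 * J := by
      rw [← hJ, pow_two]
      exact Ideal.mul_mono_left hJ𝔪
    have : z = (z - w) + w := by ring
    rw [this]
    exact Ideal.add_mem _ (h4 h3) hw
  -- Step E
  have hE : J = ⊥ := by
    have hfg : (J : Submodule Pq Pq).FG := IsNoetherian.noetherian J
    apply Submodule.eq_bot_of_le_smul_of_le_jacobson_bot 𝔪 J hfg
    · rw [smul_eq_mul]; exact hD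
    · exact IsLocalRing.maximalIdeal_le_jacobson ⊥
  -- Step F
  intro f hf
  have h1 : algebraMap P Pq f ∈ J := by
    rw [hJmem, hΦ_apply, Localization.localRingHom_to_map]
    rw [RingHom.mem_ker] at hf
    rw [hf, map_zero]
  rw [hE, Ideal.mem_bot, IsLocalization.map_eq_zero_iff 𝔮.primeCompl] at h1
  obtain ⟨t, ht⟩ := h1
  exact ⟨t.1, t.2, ht⟩


end Groth.Agent.Lib.Helper71.GradedPoly
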