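import Mathlib
import Groth.Prelude.Def_CAlg
import Groth.Prelude.Def_CAlgX

set_option autoImplicit false
universe u

namespace Helper71.HB

open Matrix

variable {R : Type u} [CommRing R]

/-- from `2 ≤ depth_J(R)` extract a regular pair in `J` (in elementary form) -/
theorem exists_regular_pair (J : Ideal R) (h : 2 ≤ LocCoh.idealDepth J R) :
    ∃ x ∈ J, ∃ y ∈ J, (∀ r : R, x * r = 0 → r = 0) ∧
      (∀ p q : R, y * p = x * q → ∃ p' : R, p = x * p') := by
  classical
  unfold LocCoh.idealDepth at h
  split_ifs at h with htop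
  · have hJ : J = ⊤ := by
      rw [smul_eq_mul, Ideal.mul_top] at htop
      exact htop
    refine ⟨1, by rw [hJ]; exact Submodule.mem_top, 1, by rw [hJ]; exact Submodule.mem_top, ?_, ?_⟩
    · intro r hr; rwa [one_mul] at hr
    · intro p q hpq; exact ⟨q, by rw [one_mul] at hpq; exact hpq⟩
  · obtain ⟨rs, hrs, hlen⟩ : ∃ rs : List R,
        (RingTheory.Sequence.IsWeaklyRegular R rs ∧ ∀ r ∈ rs, r ∈ J) ∧ 2 ≤ rs.length := by
      by_contra hcon
      push Not at hcon
      have hle : (⨆ (rs : List R)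
          (_ : RingTheory.Sequence.IsWeaklyRegular R rs ∧ ∀ r ∈ rs, r ∈ J), (rs.length : ℕ∞)) ≤ 1 := by
        refine iSup₂_le fun rs hrs => ?_
        have := hcon rs hrs
        have h1 : rs.length ≤ 1 := by omega
        exact_mod_cast h1
      have := le_trans h hle
      norm_num at this
    match rs, hrs, hlen with
    | x :: y :: rest, hrs, _ =>
      obtain ⟨hreg, hmem⟩ := hrs
      rw [RingTheory.Sequence.isWeaklyRegular_cons_iff] at hreg
      obtain ⟨hx, hreg2⟩ := hreg
      rw [RingTheory.Sequence.isWeaklyRegular_cons_iff] at hreg2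
      obtain ⟨hy, -⟩ := hreg2
      refine ⟨x, hmem x (by simp), y, hmem y (by simp), ?_, ?_⟩
      · intro r hr
        apply hx
        simp only [smul_eq_mul, mul_zero]
        exact hr
      · intro p q hpq
        have h0 : (Submodule.Quotient.mk p : QuotSMulTop x R) = 0 := by
          apply hy
          simp only [smul_zero]
          rw [← Submodule.Quotient.mk_smul, Submodule.Quotient.mk_eq_zero, smul_eq_mul, hpq]
          exact Submodule.smul_mem_pointwise_smul q x ⊤ Submodule.mem_top
        rw [Submodule.Quotient.mk_eq_zero, Submodule.mem_smul_pointwise_iff_exists] at h0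
        obtain ⟨p', -, hp'⟩ := h0
        exact ⟨p', hp'.symm⟩

section Mat

variable {t : ℕ} (Ψ : Matrix (Fin (t + 1)) (Fin t) R)

/-- signed maximal minors -/
noncomputable def D (i : Fin (t + 1)) : R := (-1 : R) ^ (i : ℕ) * (Ψ.submatrix i.succAbove id).det

/-- the augmented square matrix `[v | Ψ]` -/
def aug (v : Fin (t + 1) → R) : Matrix (Fin (t + 1)) (Fin (t + 1)) R :=
  Matrix.of fun r => (Fin.cons (v r) (Ψ r) : Fin (t + 1) → R)

omit [CommRing R] in
@[simp] theorem aug_zero (v : Fin (t + 1) → R) (r : Fin (t + 1)) : aug Ψ v r 0 = v r := rfl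

omit [CommRing R] in
@[simp] theorem aug_succ (v : Fin (t + 1) → R) (r : Fin (t + 1)) (j : Fin t) :
    aug Ψ v r j.succ = Ψ r j := by
  simp [aug]

omit [CommRing R] in
theorem aug_submatrix (v : Fin (t + 1) → R) (i : Fin (t + 1)) :
    (aug Ψ v).submatrix i.succAbove Fin.succ = Ψ.submatrix i.succAbove id := by
  ext r c
  simp

theorem det_aug (v : Fin (t + 1) → R) : (aug Ψ v).det = ∑ i, D Ψ i * v i := by
  rw [det_succ_column_zero]
  refine Finset.sum_congr rfl fun i _ => ?_
  rw [aug_submatrix, aug_zero, D]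
  ring

theorem D_mul (j : Fin t) : ∑ i, D Ψ i * Ψ i j = 0 := by
  rw [← det_aug Ψ (fun i => Ψ i j)]
  refine det_zero_of_column_eq (i := 0) (j := j.succ) (Fin.succ_ne_zero j).symm ?_
  intro k
  simp

/-- Cramer-type identity: `D_k v = -Ψ u + det[v|Ψ] e_k`. -/
theorem D_smul_eq (v : Fin (t + 1) → R) (k r : Fin (t + 1)) :
    v r * D Ψ k + ∑ j : Fin t, Ψ r j * (aug Ψ v).adjugate j.succ k =
      if r = k then (aug Ψ v).det else 0 := by
  have h := congrFun (congrFun (mul_adjugate (aug Ψ v)) r) k
  rw [mul_apply, Fin.sum_univ_succ, Matrix.smul_apply, one_apply, smul_eq_mul, mul_ite, mul_one,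
    mul_zero] at h
  rw [← h, aug_zero, adjugate_fin_succ_eq_det_submatrix, Fin.succAbove_zero, aug_submatrix]
  simp only [aug_succ, Fin.val_zero, add_zero, D]

theorem D_smul_mem_range (v : Fin (t + 1) → R) (hv : ∑ i, D Ψ i * v i = 0) (k : Fin (t + 1)) :
    D Ψ k • v ∈ LinearMap.range Ψ.mulVecLin := by
  refine ⟨fun j => - (aug Ψ v).adjugate j.succ k, ?_⟩
  ext r
  have h := D_smul_eq Ψ v k r
  rw [det_aug, hv, ite_self] at h
  rw [mulVecLin_apply, mulVec, dotProduct, Pi.smul_apply, smul_eq_mul]
  simp only [mul_neg, Finset.sum_neg_distrib]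
  linear_combination (-1 : R) * h

theorem D_smul_eq_zero (x : Fin t → R) (hx : Ψ.mulVec x = 0) (k : Fin (t + 1)) :
    D Ψ k • x = 0 := by
  have h1 : (Ψ.submatrix k.succAbove id).mulVec x = 0 := by
    ext r
    have := congrFun hx (k.succAbove r)
    simpa [mulVec, dotProduct] using this
  have h2 := congrArg (fun w => (Ψ.submatrix k.succAbove id).adjugate.mulVec w) h1
  beta_reduce at h2
  rw [mulVec_mulVec, adjugate_mul, smul_mulVec, one_mulVec, mulVec_zero] at h2
  rw [D, mul_smul, h2, smul_zero]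

theorem D_mem_minorIdeal (k : Fin (t + 1)) : D Ψ k ∈ CAlgX.minorIdeal Ψ t := by
  unfold D CAlgX.minorIdeal
  exact Ideal.mul_mem_left _ _ (Ideal.subset_span ⟨(k.succAbove, id), rfl⟩)

theorem submatrix_det_mem (f : Fin t → Fin (t + 1)) (g : Fin t → Fin t) :
    (Ψ.submatrix f g).det ∈ Ideal.span (Set.range (D Ψ)) := by
  have hD : ∀ i : Fin (t + 1), (Ψ.submatrix i.succAbove id).det ∈ Ideal.span (Set.range (D Ψ)) := by
    intro i
    have : (Ψ.submatrix i.succAbove id).det = (-1 : R) ^ (i : ℕ) * D Ψ i := by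
      rw [D, ← mul_assoc, ← mul_pow]; simp
    rw [this]
    exact Ideal.mul_mem_left _ _ (Ideal.subset_span ⟨i, rfl⟩)
  by_cases hg : Function.Injective g
  swap
  · rw [Function.Injective] at hg
    push Not at hg
    obtain ⟨j, j', hjj', hne⟩ := hg
    rw [det_zero_of_column_eq hne (fun k => by simp [hjj'])]
    exact Ideal.zero_mem _
  let σ : Equiv.Perm (Fin t) := Equiv.ofBijective g (Finite.injective_iff_bijective.mp hg)
  have e1 : Ψ.submatrix f g = (Ψ.submatrix f id).submatrix id σ := by
    ext r c; rfl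
  rw [e1, det_permute']
  refine Ideal.mul_mem_left _ _ ?_
  by_cases hf : Function.Injective f
  swap
  · rw [Function.Injective] at hf
    push Not at hf
    obtain ⟨j, j', hjj', hne⟩ := hf
    rw [det_zero_of_row_eq hne (by ext c; simp [hjj'])]
    exact Ideal.zero_mem _
  have hns : ¬ Function.Surjective f := by
    intro hs
    have := Fintype.card_le_of_surjective f hs
    simp at this
  rw [Function.Surjective] at hns
  push Not at hns
  obtain ⟨i, hi⟩ := hns
  choose τ hτ using fun j => Fin.exists_succAbove_eq (hi j)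
  have hτinj : Function.Injective τ := by
    intro j j' h
    apply hf
    rw [← hτ j, ← hτ j', h]
  let σ' : Equiv.Perm (Fin t) := Equiv.ofBijective τ (Finite.injective_iff_bijective.mp hτinj)
  have e2 : Ψ.submatrix f id = (Ψ.submatrix i.succAbove id).submatrix σ' id := by
    ext r c
    simp only [submatrix_apply, id_eq]
    rw [show σ' r = τ r from rfl, hτ]
  rw [e2, det_permute]
  exact Ideal.mul_mem_left _ _ (hD i)

theorem minorIdeal_eq : CAlgX.minorIdeal Ψ t = Ideal.span (Set.range (D Ψ)) := by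
  apply le_antisymm
  · unfold CAlgX.minorIdeal
    rw [Ideal.span_le]
    rintro _ ⟨⟨f, g⟩, rfl⟩
    exact submatrix_det_mem Ψ f g
  · rw [Ideal.span_le]
    rintro _ ⟨k, rfl⟩
    exact D_mem_minorIdeal Ψ k

end Mat

theorem smul_mem_of_gens {t n : ℕ} (Ψ : Matrix (Fin (t + 1)) (Fin t) R) (N : Submodule R (Fin n → R))
    (v : Fin n → R) (hk : ∀ k, D Ψ k • v ∈ N) :
    ∀ z ∈ Ideal.span (Set.range (D Ψ)), z • v ∈ N := by
  intro z hz
  refine Submodule.span_induction ?_ ?_ ?_ ?_ hz
  · rintro _ ⟨k, rfl⟩; exact hk k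
  · rw [zero_smul]; exact N.zero_mem
  · intro a b _ _ ha hb; rw [add_smul]; exact N.add_mem ha hb
  · intro c a _ ha; rw [smul_eq_mul, mul_smul]; exact N.smul_mem c ha

theorem main (t : ℕ)
    (Ψ : Matrix (Fin (t + 1)) (Fin t) R) (hdepth : 2 ≤ LocCoh.idealDepth (CAlgX.minorIdeal Ψ t) R)
    (a : R) (ha : a ∈ nonZeroDivisors R) :
    LinearMap.ker Ψ.mulVecLin = ⊥ ∧
      LinearMap.ker (Fintype.linearCombination R
          (fun i : Fin (t + 1) => a * ((-1 : R) ^ (i : ℕ) * (Ψ.submatrix i.succAbove id).det))) =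
        LinearMap.range Ψ.mulVecLin ∧
      LinearMap.range (Fintype.linearCombination R
          (fun i : Fin (t + 1) => a * ((-1 : R) ^ (i : ℕ) * (Ψ.submatrix i.succAbove id).det))) =
        Ideal.span {a} * CAlgX.minorIdeal Ψ t := by
  have hΔ : (fun i : Fin (t + 1) => a * ((-1 : R) ^ (i : ℕ) * (Ψ.submatrix i.succAbove id).det)) =
      fun i => a * D Ψ i := rfl
  rw [hΔ]
  obtain ⟨x, hxJ, y, hyJ, hxreg, hyreg⟩ := exists_regular_pair _ hdepth
  rw [minorIdeal_eq] at hxJ hyJ ⊢
  have hvec : ∀ {n : ℕ} (w : Fin n → R), x • w = 0 → w = 0 := by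
    intro n w hw
    ext j
    exact hxreg _ (congrFun hw j)
  have hinj : ∀ w : Fin t → R, Ψ.mulVec w = 0 → w = 0 := by
    intro w hw
    apply hvec
    have := smul_mem_of_gens Ψ ⊥ w (fun k => by
      rw [Submodule.mem_bot]; exact D_smul_eq_zero Ψ w hw k) x hxJ
    rwa [Submodule.mem_bot] at this
  refine ⟨?_, ?_, ?_⟩
  · rw [LinearMap.ker_eq_bot']
    intro w hw
    exact hinj w hw
  · ext v
    constructor
    · intro hv
      rw [LinearMap.mem_ker, Fintype.linearCombination_apply] at hv
      have hv' : ∑ i, D Ψ i * v i = 0 := by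
        have h1 : (∑ i, D Ψ i * v i) * a = 0 := by
          rw [← hv, Finset.sum_mul]
          refine Finset.sum_congr rfl fun i _ => ?_
          rw [smul_eq_mul]; ring
        exact (mem_nonZeroDivisors_iff_right.mp ha) _ h1
      have hJv := smul_mem_of_gens Ψ (LinearMap.range Ψ.mulVecLin) v
        (fun k => D_smul_mem_range Ψ v hv' k)
      obtain ⟨p, hp⟩ := hJv x hxJ
      obtain ⟨q, hq⟩ := hJv y hyJ
      rw [mulVecLin_apply] at hp hq
      have hpq : y • p = x • q := by
        have h0 : y • p - x • q = 0 := by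
          apply hinj
          rw [mulVec_sub, mulVec_smul, mulVec_smul, hp, hq, smul_comm, sub_self]
        exact sub_eq_zero.mp h0
      have hp' : ∀ j, ∃ p' : R, p j = x * p' := fun j =>
        hyreg (p j) (q j) (congrFun hpq j)
      choose p' hp'e using hp'
      refine ⟨p', ?_⟩
      rw [mulVecLin_apply]
      have hpx : p = x • p' := by ext j; rw [hp'e j]; rfl
      have h0 : x • (Ψ.mulVec p' - v) = 0 := by
        rw [smul_sub, ← mulVec_smul, ← hpx, hp, sub_self]
      exact sub_eq_zero.mp (hvec _ h0)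
    · rintro ⟨w, rfl⟩
      rw [LinearMap.mem_ker, Fintype.linearCombination_apply]
      simp only [mulVecLin_apply, mulVec, dotProduct, smul_eq_mul]
      calc ∑ i, (∑ j, Ψ i j * w j) * (a * D Ψ i)
          = ∑ j, a * w j * ∑ i, D Ψ i * Ψ i j := by
            simp only [Finset.sum_mul, Finset.mul_sum]
            rw [Finset.sum_comm]
            exact Finset.sum_congr rfl fun j _ => Finset.sum_congr rfl fun i _ => by ring
        _ = 0 := by simp [D_mul]
  · rw [Fintype.range_linearCombination]
    apply le_antisymm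
    · rw [Submodule.span_le]
      rintro _ ⟨i, rfl⟩
      exact Ideal.mul_mem_mul (Ideal.mem_span_singleton_self a) (Ideal.subset_span ⟨i, rfl⟩)
    · rw [Ideal.mul_le]
      intro r hr s hs
      rw [Ideal.mem_span_singleton'] at hr
      obtain ⟨c, rfl⟩ := hr
      refine Submodule.span_induction ?_ ?_ ?_ ?_ hs
      · rintro _ ⟨k, rfl⟩
        have : c * a * D Ψ k = c • (a * D Ψ k) := by rw [smul_eq_mul]; ring
        rw [this]
        exact Submodule.smul_mem _ _ (Submodule.subset_span ⟨k, rfl⟩)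
      · rw [mul_zero]; exact Submodule.zero_mem _
      · intro u u' _ _ hu hu'; rw [mul_add]; exact Submodule.add_mem _ hu hu'
      · intro d u _ hu
        have : c * a * (d • u) = d • (c * a * u) := by simp only [smul_eq_mul]; ring
        rw [this]
        exact Submodule.smul_mem _ _ hu

/-- If nothing outside `𝔞` multiplies `J` into `𝔞`, then `J` contains an element regular modulo
`𝔞` (Noetherian prime avoidance over the associated primes of `R ⧸ 𝔞`). -/
theorem exists_regular_of_colon [IsNoetherianRing R] (𝔞 J : Ideal R)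
    (h : ∀ z, (∀ j ∈ J, z * j ∈ 𝔞) → z ∈ 𝔞) : ∃ y ∈ J, ∀ r, y * r ∈ 𝔞 → r ∈ 𝔞 := by
  classical
  by_contra hcon
  push Not at hcon
  have hsub : (J : Set R) ⊆ ⋃ p ∈ associatedPrimes R (R ⧸ 𝔞), (p : Set R) := by
    rw [biUnion_associatedPrimes_eq_compl_regular R (R ⧸ 𝔞)]
    intro y hy
    obtain ⟨r, hr, hr'⟩ := hcon y hy
    simp only [Set.mem_compl_iff, Set.mem_ofPred_eq]
    intro hreg
    apply hr'
    have h0 : (Ideal.Quotient.mk 𝔞 r : R ⧸ 𝔞) = 0 := by
      apply hreg
      simp only [smul_zero]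
      rw [Algebra.smul_def, Ideal.Quotient.algebraMap_eq, ← map_mul, Ideal.Quotient.eq_zero_iff_mem]
      exact hr
    exact Ideal.Quotient.eq_zero_iff_mem.mp h0
  have hfin : (associatedPrimes R (R ⧸ 𝔞)).Finite := associatedPrimes.finite R (R ⧸ 𝔞)
  have hsub' : (J : Set R) ⊆ ⋃ p ∈ (↑hfin.toFinset : Set (Ideal R)), ((id p : Ideal R) : Set R) := by
    simpa using hsub
  rw [Ideal.subset_union_prime (f := id) ⊥ ⊥ (fun p hp _ _ => by
    have : p ∈ associatedPrimes R (R ⧸ 𝔞) := hfin.mem_toFinset.mp hp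
    exact this.isPrime)] at hsub'
  obtain ⟨p, hp, hJp⟩ := hsub'
  have hpass : IsAssociatedPrime p (R ⧸ 𝔞) := hfin.mem_toFinset.mp hp
  rw [isAssociatedPrime_iff] at hpass
  obtain ⟨hprime, m, hm⟩ := hpass
  obtain ⟨z, rfl⟩ := Ideal.Quotient.mk_surjective m
  have hz : z ∈ 𝔞 := by
    apply h
    intro j hj
    have : j ∈ p := hJp hj
    rw [hm, Submodule.mem_colon_singleton, Submodule.mem_bot, Algebra.smul_def,
      Ideal.Quotient.algebraMap_eq, ← map_mul, Ideal.Quotient.eq_zero_iff_mem] at this
    rwa [mul_comm]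
  apply hprime.ne_top
  rw [Ideal.eq_top_iff_one, hm, Submodule.mem_colon_singleton, one_smul, Submodule.mem_bot,
    Ideal.Quotient.eq_zero_iff_mem]
  exact hz

/-- key step of McCoy's theorem (relative to an ideal `𝔞`) -/
theorem mccoy_step {n m r : ℕ} (hr : r < m) (Ψ : Matrix (Fin n) (Fin m) R) (𝔞 : Ideal R)
    (hinj : ∀ w : Fin m → R, (∀ i, (Ψ.mulVec w) i ∈ 𝔞) → ∀ j, w j ∈ 𝔞) (z : R)
    (hz : ∀ (s : Fin (r + 1) → Fin n) (t : Fin (r + 1) → Fin m), z * (Ψ.submatrix s t).det ∈ 𝔞)
    (s : Fin r → Fin n) (t : Fin r → Fin m) : z * (Ψ.submatrix s t).det ∈ 𝔞 := by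
  classical
  -- a column outside the range of `t`
  have hns : ¬ Function.Surjective t := by
    intro hs
    have := Fintype.card_le_of_surjective t hs
    simp at this
    omega
  rw [Function.Surjective] at hns
  push Not at hns
  obtain ⟨c, hc⟩ := hns
  let T : Fin (r + 1) → Fin m := Fin.cons c t
  let C : Fin (r + 1) → R := fun k => (Ψ.submatrix s (T ∘ k.succAbove)).det
  let w : Fin m → R := fun j => ∑ k : Fin (r + 1), if T k = j then z * ((-1) ^ (k : ℕ) * C k) else 0
  have hw : ∀ i, (Ψ.mulVec w) i ∈ 𝔞 := by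
    intro i
    have e : (Ψ.mulVec w) i = z * (Ψ.submatrix (Fin.cons i s : Fin (r + 1) → Fin n) T).det := by
      rw [det_succ_row_zero, Finset.mul_sum]
      simp only [mulVec, dotProduct, w, Finset.mul_sum]
      rw [Finset.sum_comm]
      refine Finset.sum_congr rfl fun k _ => ?_
      rw [Finset.sum_eq_single (T k)]
      · rw [if_pos rfl]
        have : (Ψ.submatrix (Fin.cons i s : Fin (r + 1) → Fin n) T).submatrix Fin.succ k.succAbove =
            Ψ.submatrix s (T ∘ k.succAbove) := by
          ext a b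
          simp
        rw [this]
        simp only [submatrix_apply, Fin.cons_zero, C]
        ring
      · intro j _ hj
        rw [if_neg (Ne.symm hj), mul_zero]
      · intro h; exact absurd (Finset.mem_univ _) h
    rw [e]
    exact hz _ _
  have hwc := hinj w hw c
  have e : w c = z * (Ψ.submatrix s t).det := by
    simp only [w]
    rw [Fin.sum_univ_succ]
    have h0 : T 0 = c := rfl
    rw [if_pos h0]
    have hrest : ∑ k : Fin r, (if T k.succ = c then z * ((-1) ^ (k.succ : ℕ) * C k.succ) else 0) = 0 := by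
      refine Finset.sum_eq_zero fun k _ => ?_
      have : T k.succ ≠ c := by
        simp only [T, Fin.cons_succ]
        exact hc k
      rw [if_neg this]
    rw [hrest, add_zero]
    have hC0 : C 0 = (Ψ.submatrix s t).det := by
      simp only [C]
      congr 2
    rw [hC0]
    simp
  rwa [e] at hwc

/-- McCoy's theorem relative to an ideal `𝔞`: if `Ψ` is injective modulo `𝔞` and `z` multiplies all
maximal minors into `𝔞` then `z ∈ 𝔞`. -/
theorem mccoy_rel {n m : ℕ} (Ψ : Matrix (Fin n) (Fin m) R) (𝔞 : Ideal R)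
    (hinj : ∀ w : Fin m → R, (∀ i, (Ψ.mulVec w) i ∈ 𝔞) → ∀ j, w j ∈ 𝔞) (z : R)
    (hz : ∀ (s : Fin m → Fin n) (t : Fin m → Fin m), z * (Ψ.submatrix s t).det ∈ 𝔞) : z ∈ 𝔞 := by
  have key : ∀ k : ℕ, k ≤ m → ∀ (s : Fin (m - k) → Fin n) (t : Fin (m - k) → Fin m),
      z * (Ψ.submatrix s t).det ∈ 𝔞 := by
    intro k
    induction k with
    | zero => intro _ s t; exact hz s t
    | succ k ih =>
      intro hk s t
      have hlt : m - (k + 1) < m := by omega
      have hz' : ∀ (s : Fin (m - (k + 1) + 1) → Fin n) (t : Fin (m - (k + 1) + 1) → Fin m),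
          z * (Ψ.submatrix s t).det ∈ 𝔞 := by
        have e : m - (k + 1) + 1 = m - k := by omega
        rw [e]
        exact ih (by omega)
      exact mccoy_step hlt Ψ 𝔞 hinj z hz' s t
  have h0 := key m le_rfl
  have e : m - m = 0 := Nat.sub_self m
  rw [e] at h0
  have := h0 Fin.elim0 Fin.elim0
  rwa [det_isEmpty, mul_one] at this

section Forward

variable {n m : ℕ} (Ψ : Matrix (Fin n) (Fin m) R)

/-- the ideal of maximal minors is generated by the row-selected determinants -/
theorem minorIdeal_eq_rowdet :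
    CAlgX.minorIdeal Ψ m = Ideal.span (Set.range fun s : Fin m → Fin n => (Ψ.submatrix s id).det) := by
  apply le_antisymm
  · unfold CAlgX.minorIdeal
    rw [Ideal.span_le]
    rintro _ ⟨⟨s, t⟩, rfl⟩
    show (Ψ.submatrix s t).det ∈ _
    by_cases ht : Function.Injective t
    · let σ : Equiv.Perm (Fin m) := Equiv.ofBijective t (Finite.injective_iff_bijective.mp ht)
      have e1 : Ψ.submatrix s t = (Ψ.submatrix s id).submatrix id σ := by
        ext r c; rfl
      rw [e1, det_permute']
      exact Ideal.mul_mem_left _ _ (Ideal.subset_span ⟨s, rfl⟩)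
    · rw [Function.Injective] at ht
      push Not at ht
      obtain ⟨j, j', hjj', hne⟩ := ht
      rw [det_zero_of_column_eq hne (fun k => by simp [hjj'])]
      exact Ideal.zero_mem _
  · rw [Ideal.span_le]
    rintro _ ⟨s, rfl⟩
    exact Ideal.subset_span ⟨(s, id), rfl⟩

theorem rowdet_smul_eq_zero (s : Fin m → Fin n) (w : Fin m → R)
    (hw : (Ψ.submatrix s id).mulVec w = 0) : (Ψ.submatrix s id).det • w = 0 := by
  have h2 := congrArg (fun v => (Ψ.submatrix s id).adjugate.mulVec v) hw
  beta_reduce at h2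
  rwa [mulVec_mulVec, adjugate_mul, smul_mulVec, one_mulVec, mulVec_zero] at h2

theorem submatrix_mulVec (s : Fin m → Fin n) (w : Fin m → R) (a : Fin m) :
    (Ψ.submatrix s id).mulVec w a = Ψ.mulVec w (s a) := by
  simp [mulVec, dotProduct]

/-- the signed maximal minors of a row-selection are orthogonal to the column space -/
theorem cramer_orth (S : Fin (m + 1) → Fin n) (ρ : Fin n → R)
    (hρ : ρ ∈ LinearMap.range Ψ.mulVecLin) :
    ∑ k, D (Ψ.submatrix S id) k * ρ (S k) = 0 := by
  obtain ⟨w, rfl⟩ := hρ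
  simp only [mulVecLin_apply, mulVec, dotProduct]
  calc ∑ k, D (Ψ.submatrix S id) k * ∑ j, Ψ (S k) j * w j
      = ∑ j, w j * ∑ k, D (Ψ.submatrix S id) k * (Ψ.submatrix S id) k j := by
        simp only [Finset.mul_sum]
        rw [Finset.sum_comm]
        exact Finset.sum_congr rfl fun j _ => Finset.sum_congr rfl fun k _ => by
          simp only [submatrix_apply, id_eq]; ring
    _ = 0 := by
        refine Finset.sum_eq_zero fun j _ => ?_
        rw [D_mul (Ψ.submatrix S id) j, mul_zero]

theorem D_cons_zero (l : Fin n) (s : Fin m → Fin n) :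
    D (Ψ.submatrix (Fin.cons l s : Fin (m + 1) → Fin n) id) 0 = (Ψ.submatrix s id).det := by
  unfold D
  simp only [Fin.val_zero, pow_zero, one_mul]
  congr 1

end Forward

theorem main_forward [IsNoetherianRing R] (m n : ℕ)
    (Ψ : Matrix (Fin n) (Fin m) R) (π : (Fin n → R) →ₗ[R] R)
    (hΨ : LinearMap.ker Ψ.mulVecLin = ⊥) (hex : LinearMap.ker π = LinearMap.range Ψ.mulVecLin)
    (hI : LinearMap.range π ≠ ⊥) :
    n = m + 1 ∧
      (∃ a : R, a ∈ nonZeroDivisors R ∧ LinearMap.range π = Ideal.span {a} * CAlgX.minorIdeal Ψ m) ∧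
      2 ≤ LocCoh.idealDepth (CAlgX.minorIdeal Ψ m) R := by
  classical
  -- basic notation
  obtain ⟨f, hf⟩ : ∃ f : Fin n → R, ∀ i, f i = π (fun j => if i = j then 1 else 0) := ⟨_, fun _ => rfl⟩
  have hπ : ∀ v, π v = ∑ i, v i * f i := fun v => by
    rw [LinearMap.pi_apply_eq_sum_univ π v]
    exact Finset.sum_congr rfl fun i _ => by rw [hf i, smul_eq_mul]
  have hnt : Nontrivial R := by
    by_contra h
    rw [not_nontrivial_iff_subsingleton] at h
    apply hI
    rw [eq_bot_iff]; intro r _; rw [Submodule.mem_bot]; exact Subsingleton.elim _ _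
  have hinj : ∀ w : Fin m → R, Ψ.mulVec w = 0 → w = 0 := by
    intro w hw
    exact (LinearMap.ker_eq_bot'.mp hΨ) w hw
  have hker : ∀ ρ : Fin n → R, π ρ = 0 → ∃ w, Ψ.mulVec w = ρ := by
    intro ρ hρ
    have : ρ ∈ LinearMap.ker π := hρ
    rw [hex] at this
    exact this
  have hπΨ : ∀ w, π (Ψ.mulVec w) = 0 := by
    intro w
    have : Ψ.mulVec w ∈ LinearMap.range Ψ.mulVecLin := ⟨w, rfl⟩
    rw [← hex] at this; exact this
  obtain ⟨J, hJ⟩ : ∃ J, J = CAlgX.minorIdeal Ψ m := ⟨_, rfl⟩
  rw [← hJ]
  have hJgen : J = Ideal.span (Set.range fun s : Fin m → Fin n => (Ψ.submatrix s id).det) :=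
    hJ.trans (minorIdeal_eq_rowdet Ψ)
  have hminorJ : ∀ (s : Fin m → Fin n) (t : Fin m → Fin m), (Ψ.submatrix s t).det ∈ J :=
    fun s t => by rw [hJ]; exact Ideal.subset_span ⟨(s, t), rfl⟩
  -- induction principle on J
  have hJind : ∀ (P : R → Prop), (∀ s : Fin m → Fin n, P (Ψ.submatrix s id).det) → P 0 →
      (∀ a b, P a → P b → P (a + b)) → (∀ c a, P a → P (c * a)) → ∀ j ∈ J, P j := by
    intro P h1 h2 h3 h4 j hj
    rw [hJgen] at hj
    refine Submodule.span_induction ?_ h2 (fun a b _ _ ha hb => h3 a b ha hb)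
      (fun c a _ ha => h4 c a ha) hj
    rintro _ ⟨s, rfl⟩; exact h1 s
  -- Step 1: annihilator of J is zero
  have hJann : ∀ z, (∀ j ∈ J, z * j ∈ (⊥ : Ideal R)) → z ∈ (⊥ : Ideal R) := by
    intro z hz
    apply mccoy_rel Ψ ⊥ _ z (fun s t => hz _ (hminorJ s t))
    intro w hw j
    have : Ψ.mulVec w = 0 := by ext i; exact (Submodule.mem_bot R).mp (hw i)
    rw [hinj w this]; exact Submodule.zero_mem _
  -- Step 2: NZD in J
  obtain ⟨x, hxJ, hxreg⟩ := exists_regular_of_colon ⊥ J hJann
  have hxreg' : ∀ r, x * r = 0 → r = 0 := fun r hr => by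
    have := hxreg r (by rw [hr]; exact Submodule.zero_mem _)
    exact (Submodule.mem_bot R).mp this
  -- Step 3: m + 1 ≤ n
  have hnm : m + 1 ≤ n := by
    by_contra hlt
    push Not at hlt
    have hδf : ∀ (s : Fin m → Fin n) (i : Fin n), (Ψ.submatrix s id).det * f i = 0 := by
      intro s i
      by_cases hs : Function.Injective s
      · have hmn : m ≤ n := by simpa using Fintype.card_le_of_injective s hs
        have hnm' : n = m := by omega
        subst hnm'
        have hbij : Function.Bijective s := Finite.injective_iff_bijective.mp hs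
        have h0 : Matrix.vecMul (fun a => f (s a)) (Ψ.submatrix s id) = 0 := by
          ext j
          simp only [vecMul, dotProduct, submatrix_apply, id_eq, Pi.zero_apply]
          rw [hbij.sum_comp (fun i => f i * Ψ i j)]
          have h1 := hπΨ (Pi.single j 1)
          rw [hπ] at h1
          rw [← h1]
          refine Finset.sum_congr rfl fun i _ => ?_
          rw [mulVec_single_one, mul_comm]
          rfl
        have h1 := congrArg (fun v => Matrix.vecMul v (Ψ.submatrix s id).adjugate) h0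
        beta_reduce at h1
        rw [vecMul_vecMul, mul_adjugate, vecMul_smul, vecMul_one, zero_vecMul] at h1
        obtain ⟨a, rfl⟩ := hbij.2 i
        have h2 := congrFun h1 a
        simpa using h2
      · rw [Function.Injective] at hs; push Not at hs
        obtain ⟨j, j', hjj', hne⟩ := hs
        rw [det_zero_of_row_eq hne (by ext c; simp [hjj']), zero_mul]
    have hxf : ∀ i, x * f i = 0 := by
      intro i
      refine hJind (fun j => j * f i = 0) (fun s => hδf s i) (zero_mul _) ?_ ?_ x hxJ
      · intro a b ha hb; rw [add_mul, ha, hb, add_zero]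
      · intro c a ha; rw [mul_assoc, ha, mul_zero]
    apply hI
    rw [eq_bot_iff]
    rintro _ ⟨v, rfl⟩
    rw [Submodule.mem_bot, hπ]
    refine Finset.sum_eq_zero fun i _ => ?_
    rw [hxreg' (f i) (hxf i), mul_zero]
  -- Step 4: NZD in I
  have hIann : ∀ z, (∀ j ∈ LinearMap.range π, z * j ∈ (⊥ : Ideal R)) → z ∈ (⊥ : Ideal R) := by
    intro z hz
    apply hJann
    have hδ : ∀ s : Fin m → Fin n, z * (Ψ.submatrix s id).det = 0 := by
      intro s
      have hns : ¬ Function.Surjective s := by
        intro hs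
        have := Fintype.card_le_of_surjective s hs
        simp at this; omega
      rw [Function.Surjective] at hns; push Not at hns
      obtain ⟨l, hl⟩ := hns
      have hzl : π (z • (Pi.single l 1 : Fin n → R)) = 0 := by
        rw [map_smul, smul_eq_mul]
        have := hz (π (Pi.single l 1)) ⟨_, rfl⟩
        exact (Submodule.mem_bot R).mp this
      obtain ⟨w, hw⟩ := hker _ hzl
      have hrows : (Ψ.submatrix s id).mulVec w = 0 := by
        ext a
        rw [submatrix_mulVec, hw]
        simp [hl a]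
      have h0 := rowdet_smul_eq_zero Ψ s w hrows
      have h1 : (Ψ.submatrix s id).det • (z • (Pi.single l 1 : Fin n → R)) = 0 := by
        rw [← hw, ← mulVec_smul, h0, mulVec_zero]
      have h2 := congrFun h1 l
      simpa [mul_comm] using h2
    intro j hj
    rw [Submodule.mem_bot]
    refine hJind (fun j => z * j = 0) hδ (mul_zero _) ?_ ?_ j hj
    · intro a b ha hb; rw [mul_add, ha, hb, add_zero]
    · intro c a ha; rw [mul_left_comm, ha, mul_zero]
  obtain ⟨p, hpI, hpreg⟩ := exists_regular_of_colon ⊥ (LinearMap.range π) hIann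
  have hpreg' : ∀ r, p * r = 0 → r = 0 := fun r hr => by
    have := hpreg r (by rw [hr]; exact Submodule.zero_mem _)
    exact (Submodule.mem_bot R).mp this
  obtain ⟨u, hu⟩ := hpI
  -- Cramer relation
  have hcram : ∀ (S : Fin (m + 1) → Fin n) (i : Fin n),
      p * (∑ k, if i = S k then D (Ψ.submatrix S id) k else 0) =
        f i * ∑ k, D (Ψ.submatrix S id) k * u (S k) := by
    intro S i
    have hρ : π (p • (fun j => if i = j then (1 : R) else 0) - f i • u) = 0 := by
      rw [map_sub, map_smul, map_smul, hu, ← hf i, smul_eq_mul, smul_eq_mul, mul_comm, sub_self]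
    obtain ⟨w, hw⟩ := hker _ hρ
    have h0 := cramer_orth Ψ S _ ⟨w, hw⟩
    simp only [Pi.sub_apply, Pi.smul_apply, smul_eq_mul] at h0
    have e : ∑ k, D (Ψ.submatrix S id) k * (p * (if i = S k then 1 else 0) - f i * u (S k)) =
        p * (∑ k, if i = S k then D (Ψ.submatrix S id) k else 0) -
          f i * ∑ k, D (Ψ.submatrix S id) k * u (S k) := by
      rw [Finset.mul_sum, Finset.mul_sum, ← Finset.sum_sub_distrib]
      refine Finset.sum_congr rfl fun k _ => ?_
      split_ifs <;> ring
    rw [e] at h0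
    exact sub_eq_zero.mp h0
  -- Step 5: n ≤ m + 1
  have hn_le : n ≤ m + 1 := by
    by_contra hgt
    push Not at hgt
    have hnil : ∀ s : Fin m → Fin n, (p * (Ψ.submatrix s id).det) ^ 2 = 0 := by
      intro s
      have hcard : (Finset.univ.image s).card ≤ m := by
        calc _ ≤ (Finset.univ : Finset (Fin m)).card := Finset.card_image_le
          _ = m := by simp
      have hcompl : 1 < ((Finset.univ.image s)ᶜ).card := by
        rw [Finset.card_compl]; simp only [Fintype.card_fin]; omega
      obtain ⟨l, hl, l', hl', hll'⟩ := Finset.one_lt_card.mp hcompl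
      have hl0 : ∀ a, l ≠ s a := by
        intro a h
        rw [Finset.mem_compl] at hl
        exact hl (Finset.mem_image.mpr ⟨a, Finset.mem_univ _, h.symm⟩)
      have hl0' : ∀ a, l' ≠ s a := by
        intro a h
        rw [Finset.mem_compl] at hl'
        exact hl' (Finset.mem_image.mpr ⟨a, Finset.mem_univ _, h.symm⟩)
      have hsum : ∀ (l₁ l₂ : Fin n), (∀ a, l₁ ≠ s a) →
          (∑ k, if l₁ = (Fin.cons l₂ s : Fin (m + 1) → Fin n) k then
            D (Ψ.submatrix (Fin.cons l₂ s : Fin (m + 1) → Fin n) id) k else 0) =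
          if l₁ = l₂ then (Ψ.submatrix s id).det else 0 := by
        intro l₁ l₂ h
        rw [Fin.sum_univ_succ]
        have hrest : ∑ k : Fin m, (if l₁ = (Fin.cons l₂ s : Fin (m + 1) → Fin n) k.succ then
            D (Ψ.submatrix (Fin.cons l₂ s : Fin (m + 1) → Fin n) id) k.succ else 0) = 0 := by
          refine Finset.sum_eq_zero fun k _ => ?_
          rw [Fin.cons_succ, if_neg (h k)]
        rw [hrest, add_zero, Fin.cons_zero, D_cons_zero]
      have hb := hcram (Fin.cons l s) l
      rw [hsum l l hl0, if_pos rfl] at hb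
      have hb' := hcram (Fin.cons l' s) l'
      rw [hsum l' l' hl0', if_pos rfl] at hb'
      have ha := hcram (Fin.cons l s) l'
      rw [hsum l' l hl0', if_neg (Ne.symm hll'), mul_zero] at ha
      rw [pow_two]
      nth_rewrite 1 [hb]
      rw [hb']
      calc f l * (∑ k, D (Ψ.submatrix (Fin.cons l s : Fin (m + 1) → Fin n) id) k *
              u ((Fin.cons l s : Fin (m + 1) → Fin n) k)) *
            (f l' * ∑ k, D (Ψ.submatrix (Fin.cons l' s : Fin (m + 1) → Fin n) id) k *
              u ((Fin.cons l' s : Fin (m + 1) → Fin n) k))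
          = (f l' * ∑ k, D (Ψ.submatrix (Fin.cons l s : Fin (m + 1) → Fin n) id) k *
              u ((Fin.cons l s : Fin (m + 1) → Fin n) k)) *
            (f l * ∑ k, D (Ψ.submatrix (Fin.cons l' s : Fin (m + 1) → Fin n) id) k *
              u ((Fin.cons l' s : Fin (m + 1) → Fin n) k)) := by ring
        _ = 0 := by rw [← ha, zero_mul]
    have hpx : p * x ∈ nilradical R := by
      refine hJind (fun j => p * j ∈ nilradical R) (fun s => mem_nilradical.mpr ⟨2, hnil s⟩) ?_ ?_ ?_
        x hxJ
      · rw [mul_zero]; exact Ideal.zero_mem _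
      · intro a b ha hb; rw [mul_add]; exact Ideal.add_mem _ ha hb
      · intro c a ha; rw [mul_left_comm]; exact Ideal.mul_mem_left _ _ ha
    obtain ⟨N, hN⟩ := mem_nilradical.mp hpx
    have hreg : ∀ r, (p * x) * r = 0 → r = 0 := fun r hr =>
      hxreg' r (hpreg' (x * r) (by rw [← mul_assoc]; exact hr))
    have hpow : ∀ N : ℕ, (p * x) ^ N = 0 → (1 : R) = 0 := by
      intro N
      induction N with
      | zero => intro h; rwa [pow_zero] at h
      | succ k ih =>
        intro h; apply ih; apply hreg; rw [← pow_succ']; exact h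
    exact one_ne_zero (hpow N hN)
  have hn : n = m + 1 := le_antisymm hn_le hnm
  subst hn
  refine ⟨rfl, ?_⟩
  -- Step 7: regular element modulo x
  have hcolon : ∀ z, (∀ j ∈ J, z * j ∈ Ideal.span {x}) → z ∈ Ideal.span {x} := by
    intro z hz
    apply mccoy_rel Ψ (Ideal.span {x}) _ z (fun s t => hz _ (hminorJ s t))
    intro w hw
    have hex' : ∀ i, ∃ v, (Ψ.mulVec w) i = x * v := fun i => by
      have := hw i
      rw [Ideal.mem_span_singleton'] at this
      obtain ⟨v, hv⟩ := this
      exact ⟨v, by rw [← hv, mul_comm]⟩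
    choose v hv using hex'
    have hΨw : Ψ.mulVec w = x • v := by ext i; rw [hv i]; rfl
    have hπv : π v = 0 := by
      apply hxreg'
      rw [← smul_eq_mul, ← map_smul, ← hΨw]; exact hπΨ w
    obtain ⟨w', hw'⟩ := hker v hπv
    have h0 : w - x • w' = 0 := by
      apply hinj
      rw [mulVec_sub, mulVec_smul, hw', hΨw, sub_self]
    intro j
    have hj : w j = x * w' j := by
      have := congrFun (sub_eq_zero.mp h0) j
      simpa using this
    rw [hj]; exact Ideal.mul_mem_right _ _ (Ideal.mem_span_singleton_self x)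
  obtain ⟨y, hyJ, hyreg⟩ := exists_regular_of_colon (Ideal.span {x}) J hcolon
  -- Step 8
  have hJD : J = Ideal.span (Set.range (D Ψ)) := hJ.trans (minorIdeal_eq Ψ)
  obtain ⟨cx, hcx⟩ := Ideal.mem_span_range_iff_exists_fun.mp (hJD ▸ hxJ)
  obtain ⟨cy, hcy⟩ := Ideal.mem_span_range_iff_exists_fun.mp (hJD ▸ hyJ)
  obtain ⟨β, hβ⟩ : ∃ β, β = ∑ k, D Ψ k * u k := ⟨_, rfl⟩
  have hpD : ∀ k, p * D Ψ k = β * f k := by
    intro k
    have h := hcram id k
    simp only [submatrix_id_id, id_eq] at h
    rw [Finset.sum_ite_eq Finset.univ k (fun k => D Ψ k), if_pos (Finset.mem_univ _), ← hβ] at h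
    rw [h, mul_comm]
  obtain ⟨x', hx'⟩ : ∃ x', x' = ∑ k, cx k * f k := ⟨_, rfl⟩
  obtain ⟨y', hy'⟩ : ∃ y', y' = ∑ k, cy k * f k := ⟨_, rfl⟩
  have hpx : p * x = β * x' := by
    rw [← hcx, hx', Finset.mul_sum, Finset.mul_sum]
    refine Finset.sum_congr rfl fun k _ => ?_
    rw [mul_left_comm, hpD, mul_left_comm]
  have hpy : p * y = β * y' := by
    rw [← hcy, hy', Finset.mul_sum, Finset.mul_sum]
    refine Finset.sum_congr rfl fun k _ => ?_
    rw [mul_left_comm, hpD, mul_left_comm]
  have hβreg : ∀ r, β * r = 0 → r = 0 := by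
    intro r hr
    apply hxreg'
    apply hpreg'
    rw [← mul_assoc, hpx, mul_assoc, mul_left_comm, hr, mul_zero]
  have hxy : x' * y = y' * x := by
    have : β * (x' * y - y' * x) = 0 := by
      rw [mul_sub, ← mul_assoc, ← mul_assoc, ← hpx, ← hpy]; ring
    exact sub_eq_zero.mp (hβreg _ this)
  obtain ⟨a, ha⟩ : ∃ a, x' = x * a := by
    have := hyreg x' (by
      rw [mul_comm, hxy]; exact Ideal.mul_mem_left _ _ (Ideal.mem_span_singleton_self x))
    rw [Ideal.mem_span_singleton'] at this
    obtain ⟨a, ha⟩ := this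
    exact ⟨a, by rw [← ha, mul_comm]⟩
  have hpa : p = β * a := by
    have : x * (p - β * a) = 0 := by
      rw [mul_sub, mul_comm x p, hpx, ha]; ring
    exact sub_eq_zero.mp (hxreg' _ this)
  have hfa : ∀ k, f k = a * D Ψ k := by
    intro k
    have : β * (f k - a * D Ψ k) = 0 := by
      rw [mul_sub, ← hpD, hpa]; ring
    exact sub_eq_zero.mp (hβreg _ this)
  have haNZD : a ∈ nonZeroDivisors R := by
    rw [mem_nonZeroDivisors_iff_right]
    intro r hr
    apply hpreg'
    rw [hpa]
    linear_combination β * hr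
  have hrange : LinearMap.range π = Ideal.span {a} * J := by
    rw [hJD]
    apply le_antisymm
    · rintro _ ⟨v, rfl⟩
      rw [hπ]
      refine Ideal.sum_mem _ fun k _ => ?_
      rw [hfa k]
      exact Ideal.mul_mem_left _ _
        (Ideal.mul_mem_mul (Ideal.mem_span_singleton_self a) (Ideal.subset_span ⟨k, rfl⟩))
    · rw [Ideal.mul_le]
      intro r hr s hs
      rw [Ideal.mem_span_singleton'] at hr
      obtain ⟨c, rfl⟩ := hr
      refine Submodule.span_induction ?_ ?_ ?_ ?_ hs
      · rintro _ ⟨k, rfl⟩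
        refine ⟨c • (fun j => if k = j then 1 else 0), ?_⟩
        rw [map_smul, smul_eq_mul, ← hf k, hfa k]; ring
      · rw [mul_zero]; exact Submodule.zero_mem _
      · intro u1 u2 _ _ h1 h2; rw [mul_add]; exact Submodule.add_mem _ h1 h2
      · intro d u1 _ h1
        have : c * a * (d • u1) = d • (c * a * u1) := by simp only [smul_eq_mul]; ring
        rw [this]
        exact Submodule.smul_mem _ d h1
  refine ⟨⟨a, haNZD, hrange⟩, ?_⟩
  -- Step 9: depth
  unfold LocCoh.idealDepth
  split_ifs with htop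
  · exact le_top
  · have hreg : RingTheory.Sequence.IsWeaklyRegular R [x, y] := by
      rw [RingTheory.Sequence.isWeaklyRegular_cons_iff, RingTheory.Sequence.isWeaklyRegular_cons_iff]
      refine ⟨?_, ?_, RingTheory.Sequence.IsWeaklyRegular.nil _ _⟩
      · intro r1 r2 h
        simp only [smul_eq_mul] at h
        have := hxreg' (r1 - r2) (by rw [mul_sub, h, sub_self])
        exact sub_eq_zero.mp this
      · intro q1 q2 h
        obtain ⟨r1, rfl⟩ := Submodule.Quotient.mk_surjective _ q1
        obtain ⟨r2, rfl⟩ := Submodule.Quotient.mk_surjective _ q2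
        beta_reduce at h
        rw [← Submodule.Quotient.mk_smul, ← Submodule.Quotient.mk_smul, Submodule.Quotient.eq] at h
        rw [Submodule.Quotient.eq]
        rw [Submodule.mem_smul_pointwise_iff_exists] at h ⊢
        obtain ⟨q, -, hq⟩ := h
        have hmem : y * (r1 - r2) ∈ Ideal.span {x} := by
          rw [Ideal.mem_span_singleton']
          refine ⟨q, ?_⟩
          simp only [smul_eq_mul] at hq
          rw [mul_comm, hq]; ring
        have := hyreg _ hmem
        rw [Ideal.mem_span_singleton'] at this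
        obtain ⟨q', hq'⟩ := this
        exact ⟨q', Submodule.mem_top, by rw [smul_eq_mul, mul_comm, hq']⟩
    refine le_trans ?_ (le_iSup₂ (f := fun (rs : List R)
      (_ : RingTheory.Sequence.IsWeaklyRegular R rs ∧ ∀ r ∈ rs, r ∈ J) => (rs.length : ℕ∞))
      [x, y] ⟨hreg, ?_⟩)
    · simp
    · intro r hr
      simp only [List.mem_cons, List.not_mem_nil, or_false] at hr
      rcases hr with rfl | rfl
      · exact hxJ
      · exact hyJ

end Helper71.HB
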