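import Mathlib

/-!
# Hopf's lemma on bilinear maps without zero divisors (algebraically closed field)

`exists_rank_one_zero`: over an algebraically closed field, `c ≤ m + n - 2` bilinear forms on
`k^m × k^n` have a common zero `(u, v)` with `u ≠ 0`, `v ≠ 0`.  Proof: Krull's height theorem in
the Segre cone ring `k[x_i y_j]` (of dimension `m + n - 1`) + Nullstellensatz.
-/

namespace Groth.Agent.Lib.Helper71.Hopf

open MvPolynomial

variable {k : Type*} [Field k] (m n : ℕ)

/-- Segre map. -/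
noncomputable def θ : MvPolynomial (Fin m × Fin n) k →ₐ[k] MvPolynomial (Fin m ⊕ Fin n) k :=
  aeval (fun ij => X (Sum.inl ij.1) * X (Sum.inr ij.2))

open scoped Classical in
/-- kill the variables in `S`. -/
noncomputable def ev (S : Set (Fin m ⊕ Fin n)) :
    MvPolynomial (Fin m ⊕ Fin n) k →ₐ[k] MvPolynomial (Fin m ⊕ Fin n) k :=
  aeval (fun s => if s ∈ S then 0 else X s)

open scoped Classical in
theorem ev_X (S : Set (Fin m ⊕ Fin n)) (s : Fin m ⊕ Fin n) :
    ev (k := k) m n S (X s) = if s ∈ S then 0 else X s := by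
  simp [ev]

theorem θ_X (i : Fin m) (j : Fin n) :
    θ (k := k) m n (X (i, j)) = X (Sum.inl i) * X (Sum.inr j) := by
  simp [θ]

theorem ev_comp_ev {S S' : Set (Fin m ⊕ Fin n)} (h : S ⊆ S') (x : MvPolynomial (Fin m ⊕ Fin n) k) :
    ev m n S' (ev m n S x) = ev m n S' x := by
  classical
  have : (ev (k := k) m n S').comp (ev m n S) = ev m n S' := by
    apply MvPolynomial.algHom_ext
    intro s
    rw [AlgHom.comp_apply, ev_X, ev_X]
    by_cases hs : s ∈ S
    · rw [if_pos hs, if_pos (h hs), map_zero]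
    · rw [if_neg hs, ev_X]
  exact congrArg (fun f => f x) this

/-- the Segre cone ring. -/
noncomputable abbrev Rg : Subalgebra k (MvPolynomial (Fin m ⊕ Fin n) k) := (θ (k := k) m n).range

/-- the quotient map onto the Segre cone ring. -/
noncomputable def π : MvPolynomial (Fin m × Fin n) k →ₐ[k] Rg (k := k) m n :=
  (θ m n).rangeRestrict

theorem π_surjective : Function.Surjective (π (k := k) m n) :=
  AlgHom.rangeRestrict_surjective _

theorem π_coe (q : MvPolynomial (Fin m × Fin n) k) :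
    ((π m n q : Rg (k := k) m n) : MvPolynomial (Fin m ⊕ Fin n) k) = θ m n q := rfl

/-- primes of the Segre cone ring coming from coordinate subspaces. -/
noncomputable def pS (S : Set (Fin m ⊕ Fin n)) : Ideal (Rg (k := k) m n) :=
  RingHom.ker ((ev m n S).comp (Rg (k := k) m n).val)

instance (S : Set (Fin m ⊕ Fin n)) : (pS (k := k) m n S).IsPrime := by
  unfold pS
  exact RingHom.ker_isPrime _

theorem mem_pS (S : Set (Fin m ⊕ Fin n)) (r : Rg (k := k) m n) :
    r ∈ pS m n S ↔ ev m n S (r : MvPolynomial (Fin m ⊕ Fin n) k) = 0 := by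
  simp [pS, RingHom.mem_ker]

theorem z_mem_pS (S : Set (Fin m ⊕ Fin n)) (i : Fin m) (j : Fin n) :
    π (k := k) m n (X (i, j)) ∈ pS m n S ↔ Sum.inl i ∈ S ∨ Sum.inr j ∈ S := by
  classical
  rw [mem_pS, π_coe, θ_X, map_mul, ev_X, ev_X]
  by_cases h1 : Sum.inl i ∈ S
  · simp [h1]
  · by_cases h2 : Sum.inr j ∈ S
    · simp [h2]
    · simp only [h1, h2, if_false, or_self, iff_false]
      exact mul_ne_zero (X_ne_zero _) (X_ne_zero _)

theorem pS_mono {S S' : Set (Fin m ⊕ Fin n)} (h : S ⊆ S') : pS (k := k) m n S ≤ pS m n S' := by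
  intro r hr
  rw [mem_pS] at hr ⊢
  rw [← ev_comp_ev m n h, hr, map_zero]

/-- constant coefficient is unchanged. -/
theorem constantCoeff_ev_θ (S : Set (Fin m ⊕ Fin n)) (q : MvPolynomial (Fin m × Fin n) k) :
    constantCoeff (ev m n S (θ m n q)) = constantCoeff q := by
  classical
  have : (constantCoeff.comp ((ev (k := k) m n S).toRingHom.comp (θ m n).toRingHom)) =
      constantCoeff := by
    apply MvPolynomial.ringHom_ext
    · intro a
      simp
    · rintro ⟨i, j⟩
      simp only [RingHom.comp_apply, AlgHom.toRingHom_eq_coe, RingHom.coe_coe, θ_X, map_mul, ev_X,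
        constantCoeff_X]
      split_ifs <;> simp
  exact congrArg (fun f => f q) this

/-- the chain of coordinate sets. -/
def mS (s : ℕ) : Set (Fin m ⊕ Fin n) :=
  {x | Sum.elim (fun i : Fin m => i.val < s ∧ i.val + 1 < m) (fun j : Fin n => m + j.val ≤ s) x}

theorem inl_mem_mS (s : ℕ) (i : Fin m) : Sum.inl i ∈ mS m n s ↔ i.val < s ∧ i.val + 1 < m :=
  Iff.rfl

theorem inr_mem_mS (s : ℕ) (j : Fin n) : Sum.inr j ∈ mS m n s ↔ m + j.val ≤ s :=
  Iff.rfl

theorem mS_mono {s s' : ℕ} (h : s ≤ s') : mS m n s ⊆ mS m n s' := by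
  rintro (i | j) hx
  · rw [inl_mem_mS] at hx ⊢
    omega
  · rw [inr_mem_mS] at hx ⊢
    omega

theorem pS_lt (hm : 1 ≤ m) (hn : 1 ≤ n) (s : ℕ) (hs : s + 2 ≤ m + n) :
    pS (k := k) m n (mS m n s) < pS m n (mS m n (s + 1)) := by
  rw [SetLike.lt_iff_le_and_exists]
  refine ⟨pS_mono m n (mS_mono m n (Nat.le_succ s)), ?_⟩
  by_cases h : s + 1 < m
  · refine ⟨π m n (X (⟨s, by omega⟩, ⟨0, by omega⟩)), ?_, ?_⟩
    · rw [z_mem_pS, inl_mem_mS]
      left
      simp only
      omega
    · rw [z_mem_pS, inl_mem_mS, inr_mem_mS]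
      simp only
      omega
  · refine ⟨π m n (X (⟨m - 1, by omega⟩, ⟨s + 1 - m, by omega⟩)), ?_, ?_⟩
    · rw [z_mem_pS, inr_mem_mS]
      right
      simp only
      omega
    · rw [z_mem_pS, inl_mem_mS, inr_mem_mS]
      simp only
      omega

theorem le_height_pS (hm : 1 ≤ m) (hn : 1 ≤ n) :
    ∀ s : ℕ, s + 1 ≤ m + n → (s : ℕ∞) ≤ (pS (k := k) m n (mS m n s)).height := by
  intro s
  induction s with
  | zero => intro _; simp
  | succ s ih =>
    intro hs
    have h1 := ih (by omega)
    have h2 := Ideal.height_add_one_le_of_lt_of_isPrime (pS_lt (k := k) m n hm hn s (by omega))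
    calc ((s + 1 : ℕ) : ℕ∞) = (s : ℕ∞) + 1 := by push_cast; rfl
      _ ≤ (pS (k := k) m n (mS m n s)).height + 1 := by gcongr
      _ ≤ _ := h2

instance : Algebra.FiniteType k (Rg (k := k) m n) :=
  Algebra.FiniteType.of_surjective (π m n) (π_surjective m n)

instance : IsNoetherianRing (Rg (k := k) m n) := Algebra.FiniteType.isNoetherianRing k _

instance : IsJacobsonRing (Rg (k := k) m n) := isJacobsonRing_of_finiteType (A := k)

/-- the linear form attached to a coefficient matrix. -/
noncomputable def Lf (lam : Fin m → Fin n → k) : MvPolynomial (Fin m × Fin n) k :=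
  ∑ i, ∑ j, C (lam i j) * X (i, j)

theorem aeval_Lf (lam : Fin m → Fin n → k) (t : Fin m × Fin n → k) :
    aeval t (Lf m n lam) = ∑ i, ∑ j, lam i j * t (i, j) := by
  simp [Lf]

theorem exists_point [IsAlgClosed k] (hm : 1 ≤ m) (hn : 1 ≤ n) (c : ℕ) (hc : c + 2 ≤ m + n)
    (lam : Fin c → Fin m → Fin n → k) :
    ∃ t : Fin m × Fin n → k, t ≠ 0 ∧
      (∀ i j i' j', t (i, j) * t (i', j') = t (i, j') * t (i', j)) ∧
      ∀ l, ∑ i, ∑ j, lam l i j * t (i, j) = 0 := by
  classical
  set M0 : Ideal (Rg (k := k) m n) := pS m n (mS m n (m + n - 1)) with hM0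
  set gens : Finset (Rg (k := k) m n) := Finset.univ.image (fun l => π m n (Lf m n (lam l)))
    with hgens
  set J : Ideal (Rg (k := k) m n) := Ideal.span (gens : Set (Rg (k := k) m n)) with hJ
  have hz : ∀ i j, π (k := k) m n (X (i, j)) ∈ M0 := by
    intro i j
    rw [hM0, z_mem_pS, inr_mem_mS]
    right
    have := j.isLt
    omega
  have hJle : J ≤ M0 := by
    rw [hJ, Ideal.span_le]
    intro x hx
    rw [hgens, Finset.coe_image] at hx
    obtain ⟨l, -, rfl⟩ := hx
    show π m n (Lf m n (lam l)) ∈ M0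
    unfold Lf
    rw [map_sum]
    refine Ideal.sum_mem _ (fun i _ => ?_)
    rw [map_sum]
    refine Ideal.sum_mem _ (fun j _ => ?_)
    rw [map_mul]
    exact Ideal.mul_mem_left _ _ (hz i j)
  obtain ⟨P, hPmin, hPle⟩ := Ideal.exists_minimalPrimes_le hJle
  have hPprime : P.IsPrime := hPmin.1.1
  have hPh : P.height ≤ (c : ℕ∞) := by
    have h1 := Ideal.height_le_card_of_mem_minimalPrimes_span_finset hPmin
    refine h1.trans ?_
    have : gens.card ≤ c := by
      rw [hgens]
      exact Finset.card_image_le.trans (by simp)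
    exact_mod_cast this
  have hM0h : ((m + n - 1 : ℕ) : ℕ∞) ≤ M0.height := le_height_pS m n hm hn (m + n - 1) (by omega)
  have hne : P ≠ M0 := by
    intro h
    rw [h] at hPh
    have := hM0h.trans hPh
    have : m + n - 1 ≤ c := by exact_mod_cast this
    omega
  obtain ⟨f, hfM, hfP⟩ := SetLike.exists_of_lt (lt_of_le_of_ne hPle hne)
  have hjac : P.jacobson = P := IsJacobsonRing.out inferInstance hPprime.isRadical
  have hfj : f ∉ P.jacobson := by rw [hjac]; exact hfP
  rw [Ideal.jacobson, Ideal.mem_sInf] at hfj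
  push Not at hfj
  obtain ⟨M', ⟨hPM', hM'max⟩, hfM'⟩ := hfj
  have hNmax : (M'.comap (π m n)).IsMaximal :=
    Ideal.comap_isMaximal_of_surjective _ (π_surjective m n)
  obtain ⟨t, ht⟩ := MvPolynomial.eq_vanishingIdeal_singleton_of_isMaximal k hNmax
  have hmem : ∀ q, π m n q ∈ M' ↔ aeval t q = 0 := by
    intro q
    rw [← Ideal.mem_comap, ht, mem_vanishingIdeal_singleton_iff]
  refine ⟨t, ?_, ?_, ?_⟩
  · obtain ⟨q, rfl⟩ := π_surjective m n f
    intro h0
    apply hfM'
    rw [hmem, h0, aeval_zero]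
    rw [hM0, mem_pS, π_coe] at hfM
    rw [← constantCoeff_ev_θ m n (mS m n (m + n - 1)) q, hfM]
    simp
  · intro i j i' j'
    have h0 : π (k := k) m n (X (i, j) * X (i', j') - X (i, j') * X (i', j)) = 0 := by
      apply Subtype.ext
      rw [π_coe, map_sub, map_mul, map_mul, θ_X, θ_X, θ_X, θ_X]
      simp only [ZeroMemClass.coe_zero]
      ring
    have h1 : π (k := k) m n (X (i, j) * X (i', j') - X (i, j') * X (i', j)) ∈ M' := by
      rw [h0]; exact zero_mem _
    rw [hmem] at h1
    simpa [sub_eq_zero] using h1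
  · intro l
    have h1 : π m n (Lf m n (lam l)) ∈ M' := by
      apply hPM'
      apply hPmin.1.2
      apply Ideal.subset_span
      rw [hgens, Finset.coe_image]
      exact ⟨l, by simp, rfl⟩
    rw [hmem, aeval_Lf] at h1
    exact h1

/-- **Hopf's lemma, matrix form**. -/
theorem exists_rank_one_zero [IsAlgClosed k] (hm : 1 ≤ m) (hn : 1 ≤ n) (c : ℕ)
    (hc : c + 2 ≤ m + n) (lam : Fin c → Fin m → Fin n → k) :
    ∃ (u : Fin m → k) (v : Fin n → k), u ≠ 0 ∧ v ≠ 0 ∧
      ∀ l, ∑ i, ∑ j, lam l i j * (u i * v j) = 0 := by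
  obtain ⟨t, ht0, hrk, hL⟩ := exists_point m n hm hn c hc lam
  have : ∃ ij, t ij ≠ 0 := by
    by_contra h
    push Not at h
    exact ht0 (funext h)
  obtain ⟨⟨i0, j0⟩, h0⟩ := this
  refine ⟨fun i => t (i, j0), fun j => t (i0, j) / t (i0, j0), ?_, ?_, ?_⟩
  · intro h
    exact h0 (congrFun h i0)
  · intro h
    have := congrFun h j0
    simp only [Pi.zero_apply] at this
    rw [div_self h0] at this
    exact one_ne_zero this
  · intro l
    rw [← hL l]
    apply Finset.sum_congr rfl
    intro i _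
    apply Finset.sum_congr rfl
    intro j _
    have := hrk i j i0 j0
    congr 1
    field_simp
    rw [← this, mul_comm]

/-- **Hopf's lemma** for bilinear maps without zero divisors over an algebraically closed field. -/
theorem hopf_bilinear {k : Type*} [Field k] [IsAlgClosed k] {U V W : Type*}
    [AddCommGroup U] [Module k U] [AddCommGroup V] [Module k V] [AddCommGroup W] [Module k W]
    [Module.Finite k U] [Module.Finite k V] [Module.Finite k W] [Nontrivial U] [Nontrivial V]
    (φ : U →ₗ[k] V →ₗ[k] W) (hφ : ∀ (a : U) (b : V), a ≠ 0 → b ≠ 0 → φ a b ≠ 0) :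
    Module.finrank k U + Module.finrank k V ≤ Module.finrank k W + 1 := by
  by_contra hcon
  push Not at hcon
  have hm : 1 ≤ Module.finrank k U := Module.finrank_pos
  have hn : 1 ≤ Module.finrank k V := Module.finrank_pos
  let bU := Module.finBasis k U
  let bV := Module.finBasis k V
  let bW := Module.finBasis k W
  obtain ⟨u, v, hu, hv, h⟩ := exists_rank_one_zero (Module.finrank k U) (Module.finrank k V) hm hn
    (Module.finrank k W) (by omega) (fun l i j => bW.repr (φ (bU i) (bV j)) l)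
  have ha : bU.equivFun.symm u ≠ 0 := (LinearEquiv.map_ne_zero_iff _).mpr hu
  have hb : bV.equivFun.symm v ≠ 0 := (LinearEquiv.map_ne_zero_iff _).mpr hv
  apply hφ _ _ ha hb
  apply bW.repr.injective
  ext l
  rw [Module.Basis.equivFun_symm_apply, Module.Basis.equivFun_symm_apply]
  simp only [map_sum, LinearMap.sum_apply, map_smul, LinearMap.smul_apply, Finsupp.coe_finsetSum,
    Finset.sum_apply, Finsupp.coe_smul, Pi.smul_apply, smul_eq_mul, map_zero, Finsupp.coe_zero,
    Pi.zero_apply]
  rw [← h l, Finset.sum_comm]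
  apply Finset.sum_congr rfl
  intro j _
  rw [Finset.mul_sum]
  apply Finset.sum_congr rfl
  intro i _
  ring

end Groth.Agent.Lib.Helper71.Hopf
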