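import Mathlib

/-!
# Kähler differentials of power series rings in characteristic `p` (helper71 seat library)

Over a perfect field `k` of characteristic `p`, `Ω[k[[x₁,…,xₙ]]⁄k]` is free on the `dxᵢ`; the
conormal presentation of `Ω` for a hypersurface quotient and the resulting `Ext` computation.
-/

set_option autoImplicit false
set_option linter.unusedSectionVars false
universe u
open scoped BigOperators

namespace Helper71.PSDiff

section Frob

variable {σ : Type} [Fintype σ] [DecidableEq σ] {k : Type u} [Field k] (p : ℕ) [Fact p.Prime]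
  [CharP k p] [PerfectField k]

/-- The exponent vector attached to a residue vector. -/
noncomputable def resExp (α : σ → Fin p) : σ →₀ ℕ := Finsupp.equivFunOnFinite.symm (fun i => ((α i : Fin p) : ℕ))

theorem resExp_apply (α : σ → Fin p) (i : σ) : resExp p α i = ((α i : Fin p) : ℕ) := rfl

/-- The `α`-component of a power series for the Frobenius decomposition. -/
noncomputable def comp (g : MvPowerSeries σ k) (α : σ → Fin p) : MvPowerSeries σ k :=
  fun β => (frobeniusEquiv k p).symm (MvPowerSeries.coeff (p • β + resExp p α) g)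

theorem coeff_comp (g : MvPowerSeries σ k) (α : σ → Fin p) (β : σ →₀ ℕ) :
    MvPowerSeries.coeff β (comp p g α) =
      (frobeniusEquiv k p).symm (MvPowerSeries.coeff (p • β + resExp p α) g) := rfl

theorem coeff_pow_smul (h : MvPowerSeries σ k) (β : σ →₀ ℕ) :
    MvPowerSeries.coeff (p • β) (h ^ p) = (MvPowerSeries.coeff β h) ^ p := by
  have hp : p ≠ 0 := (Fact.out : p.Prime).ne_zero
  rw [← MvPowerSeries.map_frobenius_expand p hp, MvPowerSeries.coeff_map,
    MvPowerSeries.coeff_expand_smul, frobenius_def]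

theorem coeff_pow_of_not_dvd (h : MvPowerSeries σ k) {γ : σ →₀ ℕ} {i : σ} (hi : ¬ p ∣ γ i) :
    MvPowerSeries.coeff γ (h ^ p) = 0 := by
  have hp : p ≠ 0 := (Fact.out : p.Prime).ne_zero
  rw [← MvPowerSeries.map_frobenius_expand p hp, MvPowerSeries.coeff_map,
    MvPowerSeries.coeff_expand_of_not_dvd p hp h hi, map_zero]

theorem decomp (g : MvPowerSeries σ k) :
    g = ∑ α : σ → Fin p, (comp p g α) ^ p * MvPowerSeries.monomial (resExp p α) (1 : k) := by
  have hp : 0 < p := (Fact.out : p.Prime).pos
  ext γ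
  rw [map_sum]
  -- the distinguished residue vector
  let α₀ : σ → Fin p := fun i => ⟨γ i % p, Nat.mod_lt _ hp⟩
  let β₀ : σ →₀ ℕ := Finsupp.equivFunOnFinite.symm (fun i => γ i / p)
  have hγ : γ = p • β₀ + resExp p α₀ := by
    ext i
    simp only [Finsupp.coe_add, Finsupp.coe_smul, Pi.add_apply, Pi.smul_apply, smul_eq_mul,
      resExp_apply]
    exact (Nat.div_add_mod (γ i) p).symm
  rw [Finset.sum_eq_single α₀]
  · rw [MvPowerSeries.coeff_mul_monomial, if_pos, mul_one]
    · have : γ - resExp p α₀ = p • β₀ := by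
        conv_lhs => rw [hγ]
        exact add_tsub_cancel_right _ _
      rw [this, coeff_pow_smul, coeff_comp, ← hγ]
      exact (frobeniusEquiv_symm_pow_p k p _).symm
    · conv_rhs => rw [hγ]
      exact le_add_self
  · intro α _ hα
    rw [MvPowerSeries.coeff_mul_monomial]
    split_ifs with hle
    · rw [mul_one]
      obtain ⟨i, hi⟩ : ∃ i, α i ≠ α₀ i := by
        by_contra hcon
        push Not at hcon
        exact hα (funext hcon)
      apply coeff_pow_of_not_dvd p _ (i := i)
      intro hdvd
      apply hi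
      apply Fin.ext
      have h1 : (α i : ℕ) ≤ γ i := by
        have := hle i
        rwa [resExp_apply] at this
      have h2 : (γ - resExp p α) i = γ i - (α i : ℕ) := by
        rw [Finsupp.tsub_apply, resExp_apply]
      rw [h2] at hdvd
      have h3 : (α i : ℕ) < p := (α i).2
      change (α i : ℕ) = γ i % p
      obtain ⟨c, hc⟩ := hdvd
      have h4 : γ i = (α i : ℕ) + p * c := by omega
      rw [h4, Nat.add_mul_mod_self_left, Nat.mod_eq_of_lt h3]
    · rfl
  · intro h; exact absurd (Finset.mem_univ _) h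

end Frob

section Deriv

variable {σ : Type} [Fintype σ] [DecidableEq σ] {k : Type u} [Field k] (p : ℕ) [Fact p.Prime]
  [CharP k p] [PerfectField k]

include p

/-- A derivation of the power series ring killing the variables is zero (perfect base field of
positive characteristic). -/
theorem derivation_eq_zero {M : Type*} [AddCommGroup M] [Module k M]
    [Module (MvPowerSeries σ k) M] [IsScalarTower k (MvPowerSeries σ k) M]
    (d : Derivation k (MvPowerSeries σ k) M) (hd : ∀ i, d (MvPowerSeries.X i) = 0)
    (g : MvPowerSeries σ k) : d g = 0 := by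
  have : CharP (MvPowerSeries σ k) p := by
    have : ExpChar k p := ExpChar.prime (Fact.out : p.Prime)
    exact charP_of_injective_algebraMap (algebraMap k (MvPowerSeries σ k)).injective p
  -- monomials are killed
  have hmon : ∀ e : σ →₀ ℕ, d (MvPowerSeries.monomial e (1 : k)) = 0 := by
    intro e
    induction e using Finsupp.induction with
    | zero =>
      have : (MvPowerSeries.monomial (0 : σ →₀ ℕ) (1 : k)) = 1 := rfl
      rw [this, Derivation.map_one_eq_zero]
    | single_add i n e _ _ ih =>
      have : MvPowerSeries.monomial (Finsupp.single i n + e) (1 : k) =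
          MvPowerSeries.X i ^ n * MvPowerSeries.monomial e (1 : k) := by
        rw [MvPowerSeries.X_pow_eq, MvPowerSeries.monomial_mul_monomial, one_mul]
      rw [this, Derivation.leibniz, ih, smul_zero, zero_add, Derivation.leibniz_pow, hd, smul_zero,
        smul_zero, smul_zero]
  -- `p`-th powers are killed
  have hpow : ∀ h : MvPowerSeries σ k, d (h ^ p) = 0 := by
    intro h
    rw [Derivation.leibniz_pow]
    have : ((p : ℕ) : MvPowerSeries σ k) = 0 := CharP.cast_eq_zero _ p
    rw [← Nat.cast_smul_eq_nsmul (MvPowerSeries σ k), this, zero_smul]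
  rw [decomp p g, map_sum]
  refine Finset.sum_eq_zero fun α _ => ?_
  rw [Derivation.leibniz, hmon, hpow, smul_zero, smul_zero, add_zero]

/-- Every derivation of the power series ring is determined by the partial derivatives. -/
theorem D_eq_sum (g : MvPowerSeries σ k) :
    KaehlerDifferential.D k (MvPowerSeries σ k) g =
      ∑ i, MvPowerSeries.pderiv k i g • KaehlerDifferential.D k (MvPowerSeries σ k)
        (MvPowerSeries.X i) := by
  let L : Ω[MvPowerSeries σ k⁄k] →ₗ[MvPowerSeries σ k] Ω[MvPowerSeries σ k⁄k] :=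
    LinearMap.id - ∑ i, (LinearMap.toSpanSingleton (MvPowerSeries σ k) _
      (KaehlerDifferential.D k (MvPowerSeries σ k) (MvPowerSeries.X i))) ∘ₗ
        (MvPowerSeries.pderiv k i).liftKaehlerDifferential
  have hL : ∀ g : MvPowerSeries σ k, L (KaehlerDifferential.D k _ g) =
      KaehlerDifferential.D k _ g - ∑ i, MvPowerSeries.pderiv k i g •
        KaehlerDifferential.D k (MvPowerSeries σ k) (MvPowerSeries.X i) := by
    intro g
    simp only [L, LinearMap.sub_apply, LinearMap.id_apply, LinearMap.sum_apply,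
      LinearMap.comp_apply, Derivation.liftKaehlerDifferential_comp_D,
      LinearMap.toSpanSingleton_apply]
  have h0 := derivation_eq_zero p (L.compDer (KaehlerDifferential.D k (MvPowerSeries σ k))) ?_ g
  · have h1 : (L.compDer (KaehlerDifferential.D k (MvPowerSeries σ k))) g =
        L (KaehlerDifferential.D k _ g) := rfl
    rw [h1, hL, sub_eq_zero] at h0
    exact h0
  · intro j
    have h1 : (L.compDer (KaehlerDifferential.D k (MvPowerSeries σ k))) (MvPowerSeries.X j) =
        L (KaehlerDifferential.D k _ (MvPowerSeries.X j)) := rfl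
    rw [h1, hL, sub_eq_zero, Finset.sum_eq_single j]
    · rw [MvPowerSeries.pderiv_X_self, one_smul]
    · intro i _ hij
      rw [MvPowerSeries.pderiv_X_of_ne (Ne.symm hij), zero_smul]
    · intro h; exact absurd (Finset.mem_univ j) h

/-- The value of any derivation in terms of partial derivatives. -/
theorem derivation_eq_sum {M : Type*} [AddCommGroup M] [Module k M]
    [Module (MvPowerSeries σ k) M] [IsScalarTower k (MvPowerSeries σ k) M]
    (d : Derivation k (MvPowerSeries σ k) M) (g : MvPowerSeries σ k) :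
    d g = ∑ i, MvPowerSeries.pderiv k i g • d (MvPowerSeries.X i) := by
  have h := congrArg d.liftKaehlerDifferential (D_eq_sum p g)
  rw [Derivation.liftKaehlerDifferential_comp_D, map_sum] at h
  rw [h]
  refine Finset.sum_congr rfl fun i _ => ?_
  rw [map_smul, Derivation.liftKaehlerDifferential_comp_D]

end Deriv

section Quot

variable {σ : Type} [Fintype σ] [DecidableEq σ] {k : Type u} [Field k]

/-- The hypersurface quotient. -/
abbrev R0 (f : MvPowerSeries σ k) : Type u := MvPowerSeries σ k ⧸ Ideal.span {f}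

/-- The gradient modulo `f`. -/
noncomputable def gradBar (f : MvPowerSeries σ k) (g : MvPowerSeries σ k) : σ → R0 f :=
  fun i => Ideal.Quotient.mk (Ideal.span {f}) (MvPowerSeries.pderiv k i g)

theorem gradBar_apply (f g : MvPowerSeries σ k) (i : σ) :
    gradBar f g i = Ideal.Quotient.mk (Ideal.span {f}) (MvPowerSeries.pderiv k i g) := rfl

theorem gradBar_mul (f g h : MvPowerSeries σ k) :
    gradBar f (g * h) = Ideal.Quotient.mk (Ideal.span {f}) g • gradBar f h +
      Ideal.Quotient.mk (Ideal.span {f}) h • gradBar f g := by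
  funext i
  simp only [gradBar_apply, Pi.add_apply, Pi.smul_apply, smul_eq_mul, Derivation.leibniz, map_add,
    map_mul]

theorem gradBar_X (f : MvPowerSeries σ k) (i : σ) : gradBar f (MvPowerSeries.X i) = Pi.single i 1 := by
  funext j
  rw [gradBar_apply]
  by_cases h : j = i
  · subst h
    rw [MvPowerSeries.pderiv_X_self, map_one, Pi.single_eq_same]
  · rw [MvPowerSeries.pderiv_X_of_ne (Ne.symm h), map_zero, Pi.single_eq_of_ne h]

/-- The gradient as a `k`-linear map. -/
noncomputable def gradL (f : MvPowerSeries σ k) : MvPowerSeries σ k →ₗ[k] (σ → R0 f) :=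
  LinearMap.pi fun i => (Ideal.Quotient.mkₐ k (Ideal.span {f})).toLinearMap ∘ₗ
    (MvPowerSeries.pderiv k i : MvPowerSeries σ k →ₗ[k] MvPowerSeries σ k)

theorem gradL_apply (f g : MvPowerSeries σ k) : gradL f g = gradBar f g := rfl

/-- The Jacobian vector. -/
noncomputable def vvec (f : MvPowerSeries σ k) : σ → R0 f := gradBar f f

/-- The cokernel of the Jacobian vector. -/
abbrev Nmod (f : MvPowerSeries σ k) : Type u := (σ → R0 f) ⧸ Submodule.span (R0 f) {vvec f}

/-- The class of the gradient, as a `k`-linear map on the power series ring. -/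
noncomputable def gradN (f : MvPowerSeries σ k) : MvPowerSeries σ k →ₗ[k] Nmod f :=
  ((Submodule.span (R0 f) {vvec f}).mkQ.restrictScalars k) ∘ₗ gradL f

theorem gradN_apply (f g : MvPowerSeries σ k) :
    gradN f g = Submodule.Quotient.mk (gradBar f g) := rfl

theorem gradN_eq_zero (f g : MvPowerSeries σ k) (hg : g ∈ Ideal.span {f}) : gradN f g = 0 := by
  obtain ⟨h, rfl⟩ := Ideal.mem_span_singleton'.mp hg
  rw [gradN_apply, Submodule.Quotient.mk_eq_zero, gradBar_mul]
  have : Ideal.Quotient.mk (Ideal.span {f}) f = 0 :=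
    Ideal.Quotient.eq_zero_iff_mem.mpr (Ideal.mem_span_singleton_self f)
  rw [this]
  have h0 : (0 : R0 f) • gradBar f h = 0 := by
    funext i
    exact zero_mul _
  rw [h0, add_zero]
  exact Submodule.smul_mem _ _ (Submodule.mem_span_singleton_self _)

/-- The induced `k`-linear map on the quotient. -/
noncomputable def deltaL (f : MvPowerSeries σ k) : R0 f →ₗ[k] Nmod f :=
  (Submodule.liftQ ((Ideal.span {f}).restrictScalars k) (gradN f) (fun g hg => by
    rw [LinearMap.mem_ker]
    exact gradN_eq_zero f g hg)) ∘ₗ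
    (Submodule.Quotient.restrictScalarsEquiv k (Ideal.span {f})).symm.toLinearMap

theorem deltaL_mk (f g : MvPowerSeries σ k) :
    deltaL f (Ideal.Quotient.mk (Ideal.span {f}) g) = Submodule.Quotient.mk (gradBar f g) := rfl

/-- The derivation `R₀ → N`. -/
noncomputable def deltaD (f : MvPowerSeries σ k) : Derivation k (R0 f) (Nmod f) :=
  Derivation.mk' (deltaL f) (by
    intro a b
    obtain ⟨g, rfl⟩ := Ideal.Quotient.mk_surjective a
    obtain ⟨h, rfl⟩ := Ideal.Quotient.mk_surjective b
    rw [← map_mul, deltaL_mk, deltaL_mk, deltaL_mk, gradBar_mul]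
    rfl)

theorem deltaD_mk (f g : MvPowerSeries σ k) :
    deltaD f (Ideal.Quotient.mk (Ideal.span {f}) g) = Submodule.Quotient.mk (gradBar f g) := rfl

/-- The presentation map `R₀^σ → Ω`. -/
noncomputable def piMap (f : MvPowerSeries σ k) : (σ → R0 f) →ₗ[R0 f] Ω[R0 f⁄k] :=
  Fintype.linearCombination (R0 f) fun i =>
    KaehlerDifferential.D k (R0 f) (Ideal.Quotient.mk (Ideal.span {f}) (MvPowerSeries.X i))

theorem piMap_apply (f : MvPowerSeries σ k) (a : σ → R0 f) :
    piMap f a = ∑ i, a i • KaehlerDifferential.D k (R0 f)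
      (Ideal.Quotient.mk (Ideal.span {f}) (MvPowerSeries.X i)) := by
  simp [piMap, Fintype.linearCombination_apply]

theorem lift_piMap (f : MvPowerSeries σ k) (a : σ → R0 f) :
    (deltaD f).liftKaehlerDifferential (piMap f a) = Submodule.Quotient.mk a := by
  rw [piMap_apply, map_sum]
  have : ∀ i, (deltaD f).liftKaehlerDifferential (a i • KaehlerDifferential.D k (R0 f)
      (Ideal.Quotient.mk (Ideal.span {f}) (MvPowerSeries.X i))) =
      Submodule.Quotient.mk (a i • (Pi.single i 1 : σ → R0 f)) := by
    intro i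
    rw [map_smul, Derivation.liftKaehlerDifferential_comp_D, deltaD_mk, gradBar_X]
    rfl
  simp only [this]
  change ∑ x, (Submodule.span (R0 f) {vvec f}).mkQ (a x • (Pi.single x 1 : σ → R0 f)) =
    (Submodule.span (R0 f) {vvec f}).mkQ a
  rw [← map_sum]
  congr 1
  funext j
  rw [Finset.sum_apply, Finset.sum_eq_single j]
  · simp
  · intro i _ hij
    simp [hij]
  · intro h; exact absurd (Finset.mem_univ j) h

end Quot

section Pres

variable {σ : Type} [Fintype σ] [DecidableEq σ] {k : Type u} [Field k] (p : ℕ) [Fact p.Prime]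
  [CharP k p] [PerfectField k]

include p

/-- The differential of a class in terms of the gradient. -/
theorem D_mk (f g : MvPowerSeries σ k) :
    KaehlerDifferential.D k (R0 f) (Ideal.Quotient.mk (Ideal.span {f}) g) =
      piMap f (gradBar f g) := by
  have h := derivation_eq_sum p
    ((KaehlerDifferential.D k (R0 f)).compAlgebraMap (MvPowerSeries σ k)) g
  rw [piMap_apply]
  refine h.trans (Finset.sum_congr rfl fun i _ => ?_)
  rw [gradBar_apply]
  exact (algebraMap_smul (R0 f) (MvPowerSeries.pderiv k i g)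
    (KaehlerDifferential.D k (R0 f) (Ideal.Quotient.mk (Ideal.span {f}) (MvPowerSeries.X i)))).symm

theorem piMap_surjective (f : MvPowerSeries σ k) : Function.Surjective (piMap f) := by
  rw [← LinearMap.range_eq_top, eq_top_iff, ← KaehlerDifferential.span_range_derivation,
    Submodule.span_le]
  rintro _ ⟨b, rfl⟩
  obtain ⟨g, rfl⟩ := Ideal.Quotient.mk_surjective b
  exact ⟨gradBar f g, (D_mk p f g).symm⟩

/-- The first map of the presentation. -/
noncomputable def iotaMap (f : MvPowerSeries σ k) : R0 f →ₗ[R0 f] (σ → R0 f) :=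
  LinearMap.toSpanSingleton (R0 f) (σ → R0 f) (vvec f)

omit p in
theorem iotaMap_apply (f : MvPowerSeries σ k) (c : R0 f) : iotaMap f c = c • vvec f := rfl

theorem exact_iota_pi (f : MvPowerSeries σ k) : Function.Exact (iotaMap f) (piMap f) := by
  intro a
  constructor
  · intro ha
    have h1 := lift_piMap f a
    rw [ha, map_zero] at h1
    have h2 := (Submodule.Quotient.mk_eq_zero _).mp h1.symm
    obtain ⟨c, hc⟩ := Submodule.mem_span_singleton.mp h2
    exact ⟨c, hc⟩
  · rintro ⟨c, rfl⟩
    rw [iotaMap_apply, map_smul]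
    have : piMap f (vvec f) = 0 := by
      rw [vvec, ← D_mk p f f]
      have : Ideal.Quotient.mk (Ideal.span {f}) f = 0 :=
        Ideal.Quotient.eq_zero_iff_mem.mpr (Ideal.mem_span_singleton_self f)
      rw [this, map_zero]
    rw [this, smul_zero]

end Pres

section Colon

variable {σ : Type} [Fintype σ] [DecidableEq σ] {k : Type u} [Field k]

theorem X_pow_ne_zero (i : σ) (N : ℕ) : (MvPowerSeries.X i : MvPowerSeries σ k) ^ N ≠ 0 := by
  intro h
  have := congrArg (MvPowerSeries.coeff (Finsupp.single i N)) h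
  rw [MvPowerSeries.coeff_X_pow, if_pos rfl, map_zero] at this
  exact one_ne_zero this

theorem X_mem_maximalIdeal (i : σ) :
    (MvPowerSeries.X i : MvPowerSeries σ k) ∈ IsLocalRing.maximalIdeal (MvPowerSeries σ k) := by
  rw [IsLocalRing.mem_maximalIdeal, mem_nonunits_iff, MvPowerSeries.isUnit_iff_constantCoeff,
    MvPowerSeries.constantCoeff_X]
  exact not_isUnit_zero

/-- `(f) : (Xᵢ^N, Xⱼ^N) = (f)` for `f ≠ 0` and `i ≠ j`. -/
theorem mem_span_of_mul_pow_mem {i j : σ} (hij : i ≠ j) (f g : MvPowerSeries σ k) (hf : f ≠ 0)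
    (N : ℕ) (h1 : g * MvPowerSeries.X i ^ N ∈ Ideal.span {f})
    (h2 : g * MvPowerSeries.X j ^ N ∈ Ideal.span {f}) : g ∈ Ideal.span {f} := by
  obtain ⟨a, ha⟩ := Ideal.mem_span_singleton'.mp h1
  obtain ⟨b, hb⟩ := Ideal.mem_span_singleton'.mp h2
  have h3 : a * MvPowerSeries.X j ^ N = MvPowerSeries.X i ^ N * b := by
    have : f * (a * MvPowerSeries.X j ^ N) = f * (MvPowerSeries.X i ^ N * b) := by
      calc f * (a * MvPowerSeries.X j ^ N) = (a * f) * MvPowerSeries.X j ^ N := by ring
        _ = (b * f) * MvPowerSeries.X i ^ N := by rw [ha, hb]; ring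
        _ = f * (MvPowerSeries.X i ^ N * b) := by ring
    exact mul_left_cancel₀ hf this
  have h4 : (MvPowerSeries.X i : MvPowerSeries σ k) ^ N ∣ a := by
    rw [MvPowerSeries.X_pow_dvd_iff]
    intro m hm
    have h5 : (MvPowerSeries.X i : MvPowerSeries σ k) ^ N ∣ a * MvPowerSeries.X j ^ N :=
      ⟨b, h3⟩
    rw [MvPowerSeries.X_pow_dvd_iff] at h5
    have h6 := h5 (m + Finsupp.single j N) (by
      rw [Finsupp.add_apply, Finsupp.single_eq_of_ne hij, add_zero]
      exact hm)
    rw [MvPowerSeries.X_pow_eq, MvPowerSeries.coeff_add_mul_monomial, mul_one] at h6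
    exact h6
  obtain ⟨a', rfl⟩ := h4
  rw [Ideal.mem_span_singleton']
  refine ⟨a', ?_⟩
  have : MvPowerSeries.X i ^ N * (a' * f) = MvPowerSeries.X i ^ N * g := by
    rw [mul_comm _ g, ← ha]; ring
  exact mul_left_cancel₀ (X_pow_ne_zero i N) this

end Colon

section Jac

variable {σ : Type} [Fintype σ] [DecidableEq σ] {k : Type u} [Field k] (p : ℕ) [Fact p.Prime]
  [CharP k p] [PerfectField k]

include p

/-- The Jacobian ideal is generated by the partial derivatives. -/
theorem jac_eq (f : MvPowerSeries σ k) :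
    Ideal.span {g | ∃ D : Derivation k (MvPowerSeries σ k) (MvPowerSeries σ k), g = D f} =
      Ideal.span (Set.range fun i => MvPowerSeries.pderiv k i f) := by
  apply le_antisymm
  · rw [Ideal.span_le]
    rintro _ ⟨D, rfl⟩
    rw [derivation_eq_sum p D f]
    refine Ideal.sum_mem _ fun i _ => ?_
    rw [smul_eq_mul]
    exact Ideal.mul_mem_right _ _ (Ideal.subset_span ⟨i, rfl⟩)
  · rw [Ideal.span_le]
    rintro _ ⟨i, rfl⟩
    exact Ideal.subset_span ⟨MvPowerSeries.pderiv k i, rfl⟩

theorem iotaMap_injective {i j : σ} (hij : i ≠ j) (f : MvPowerSeries σ k)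
    (hiso : ∃ N : ℕ, IsLocalRing.maximalIdeal (MvPowerSeries σ k) ^ N ≤
      Ideal.span {f} ⊔ Ideal.span {g | ∃ D : Derivation k (MvPowerSeries σ k) (MvPowerSeries σ k),
        g = D f}) : Function.Injective (iotaMap f) := by
  obtain ⟨N, hN⟩ := hiso
  rw [jac_eq p f] at hN
  -- `f ≠ 0`
  have hf : f ≠ 0 := by
    rintro rfl
    have h0 : Ideal.span {(0 : MvPowerSeries σ k)} ⊔
        Ideal.span (Set.range fun i => MvPowerSeries.pderiv k i (0 : MvPowerSeries σ k)) = ⊥ := by
      rw [eq_bot_iff, sup_le_iff, Ideal.span_le, Ideal.span_le]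
      constructor
      · rintro _ rfl; exact Ideal.zero_mem _
      · rintro _ ⟨i, rfl⟩
        change (MvPowerSeries.pderiv k i) 0 ∈ _
        rw [map_zero]; exact Ideal.zero_mem _
    rw [h0] at hN
    have := hN (Ideal.pow_mem_pow (X_mem_maximalIdeal i) N)
    exact X_pow_ne_zero i N ((Ideal.mem_bot).mp this)
  rw [← LinearMap.ker_eq_bot, LinearMap.ker_eq_bot']
  intro c hc
  obtain ⟨g, rfl⟩ := Ideal.Quotient.mk_surjective c
  rw [iotaMap_apply] at hc
  have hc' : ∀ l, g * MvPowerSeries.pderiv k l f ∈ Ideal.span {f} := by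
    intro l
    have := congrFun hc l
    rw [Pi.smul_apply, vvec, gradBar_apply, smul_eq_mul, ← map_mul] at this
    exact Ideal.Quotient.eq_zero_iff_mem.mp this
  -- the colon ideal
  let T : Ideal (MvPowerSeries σ k) :=
    Submodule.comap (LinearMap.mulLeft (MvPowerSeries σ k) g) (Ideal.span {f})
  have hT : ∀ a, a ∈ T ↔ g * a ∈ Ideal.span {f} := fun a => Iff.rfl
  have h1 : Ideal.span {f} ⊔ Ideal.span (Set.range fun i => MvPowerSeries.pderiv k i f) ≤ T := by
    rw [sup_le_iff, Ideal.span_le, Ideal.span_le]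
    constructor
    · rintro _ rfl
      rw [SetLike.mem_coe, hT]
      exact Ideal.mul_mem_left _ _ (Ideal.mem_span_singleton_self _)
    · rintro _ ⟨l, rfl⟩
      rw [SetLike.mem_coe, hT]
      exact hc' l
  have h2 : ∀ l, g * MvPowerSeries.X l ^ N ∈ Ideal.span {f} := fun l =>
    (hT _).mp (h1 (hN (Ideal.pow_mem_pow (X_mem_maximalIdeal l) N)))
  exact Ideal.Quotient.eq_zero_iff_mem.mpr (mem_span_of_mul_pow_mem hij f g hf N (h2 i) (h2 j))

end Jac

end Helper71.PSDiff
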