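import Mathlib
import Groth.Agent.Lib.Helper71.PSDiff
import Groth.Agent.Lib.Helper71.ExtOne

/-!
# `Ext` of the Kähler differentials of a hypersurface in a power series ring, characteristic `p`
(helper71 seat library)
-/

set_option autoImplicit false
set_option linter.unusedSectionVars false
universe u
open scoped BigOperators
open CategoryTheory Abelian

namespace Helper71.HypExt

section General

variable {R : Type u} [CommRing R] {K F M N : Type u}
  [AddCommGroup K] [Module R K] [AddCommGroup F] [Module R F] [AddCommGroup M] [Module R M]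
  [AddCommGroup N] [Module R N]

/-- A module with a projective resolution of length one has vanishing `Ext²`. -/
theorem ext_two_subsingleton [Module.Projective R F] [Module.Projective R K] (ι : K →ₗ[R] F)
    (π : F →ₗ[R] M) (hι : Function.Injective ι) (hπ : Function.Surjective π)
    (hex : Function.Exact ι π) :
    Subsingleton (Ext (ModuleCat.of R M) (ModuleCat.of R N) 2) := by
  have hS := Helper71.ExtOne.sc_shortExact ι π hι hπ hex
  have hF : Projective (Helper71.ExtOne.sc ι π hex).X₂ := by
    change Projective (ModuleCat.of R F)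
    infer_instance
  have hK : Projective (Helper71.ExtOne.sc ι π hex).X₁ := by
    change Projective (ModuleCat.of R K)
    infer_instance
  refine ⟨fun x y => ?_⟩
  have key : ∀ z : Ext (ModuleCat.of R M) (ModuleCat.of R N) 2, z = 0 := by
    intro z
    obtain ⟨x₁, hx₁⟩ := Ext.contravariant_sequence_exact₃ hS (ModuleCat.of R N) z
      (Ext.eq_zero_of_projective _) (show 1 + 1 = 2 by norm_num)
    rw [← hx₁, Ext.eq_zero_of_projective x₁, Ext.comp_zero]
  rw [key x, key y]

end General

section Main

open Helper71.PSDiff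

variable {σ : Type} [Fintype σ] [DecidableEq σ] {k : Type u} [Field k] [PerfectField k] (p : ℕ)
  [Fact p.Prime] [CharP k p]

include p

/-- The image of the restriction map under evaluation at `1` is the Jacobian ideal. -/
theorem map_range_lcomp (f : MvPowerSeries σ k) :
    (LinearMap.range (LinearMap.lcomp (R0 f) (R0 f) (iotaMap f))).map
      (LinearMap.ringLmapEquivSelf (R0 f) (R0 f) (R0 f)).toLinearMap =
    Ideal.map (Ideal.Quotient.mk (Ideal.span {f}))
      (Ideal.span {g | ∃ D : Derivation k (MvPowerSeries σ k) (MvPowerSeries σ k), g = D f}) := by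
  rw [jac_eq p f, Ideal.map_span]
  have hrange : (Ideal.Quotient.mk (Ideal.span {f})) '' (Set.range fun i =>
      MvPowerSeries.pderiv k i f) = Set.range (vvec f) := by
    ext c
    constructor
    · rintro ⟨_, ⟨i, rfl⟩, rfl⟩
      exact ⟨i, rfl⟩
    · rintro ⟨i, rfl⟩
      exact ⟨_, ⟨i, rfl⟩, rfl⟩
  rw [hrange]
  ext c
  constructor
  · rintro ⟨_, ⟨ψ, rfl⟩, rfl⟩
    change ψ (iotaMap f 1) ∈ _
    rw [iotaMap_apply, one_smul, LinearMap.pi_apply_eq_sum_univ ψ (vvec f)]
    refine Ideal.sum_mem _ fun i _ => ?_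
    rw [smul_eq_mul]
    exact Ideal.mul_mem_right _ _ (Ideal.subset_span ⟨i, rfl⟩)
  · intro hc
    obtain ⟨b, hb⟩ := (Ideal.mem_span_range_iff_exists_fun).mp hc
    refine ⟨_, ⟨∑ i, b i • LinearMap.proj i, rfl⟩, ?_⟩
    change (∑ i, b i • (LinearMap.proj i : (σ → R0 f) →ₗ[R0 f] R0 f)) (iotaMap f 1) = c
    rw [iotaMap_apply, one_smul, ← hb, LinearMap.sum_apply]
    rfl

theorem main {i j : σ} (hij : i ≠ j) (f : MvPowerSeries σ k)
    (hiso : ∃ N : ℕ, IsLocalRing.maximalIdeal (MvPowerSeries σ k) ^ N ≤
      Ideal.span {f} ⊔ Ideal.span {g | ∃ D : Derivation k (MvPowerSeries σ k) (MvPowerSeries σ k),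
        g = D f}) :
    Subsingleton (Ext
        (ModuleCat.of (MvPowerSeries σ k ⧸ Ideal.span {f})
          (KaehlerDifferential k (MvPowerSeries σ k ⧸ Ideal.span {f})))
        (ModuleCat.of (MvPowerSeries σ k ⧸ Ideal.span {f})
          (MvPowerSeries σ k ⧸ Ideal.span {f})) 2) ∧
      Nonempty (Ext
        (ModuleCat.of (MvPowerSeries σ k ⧸ Ideal.span {f})
          (KaehlerDifferential k (MvPowerSeries σ k ⧸ Ideal.span {f})))
        (ModuleCat.of (MvPowerSeries σ k ⧸ Ideal.span {f})
          (MvPowerSeries σ k ⧸ Ideal.span {f})) 1 ≃ₗ[MvPowerSeries σ k ⧸ Ideal.span {f}]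
        ((MvPowerSeries σ k ⧸ Ideal.span {f}) ⧸ Ideal.map (Ideal.Quotient.mk (Ideal.span {f}))
          (Ideal.span {g | ∃ D : Derivation k (MvPowerSeries σ k) (MvPowerSeries σ k),
            g = D f}))) := by
  have hι := iotaMap_injective p hij f hiso
  have hπ := piMap_surjective p f
  have hex := exact_iota_pi p f
  have : Module.Projective (R0 f) (σ → R0 f) := Module.Projective.of_free
  have : Module.Projective (R0 f) (R0 f) := Module.Projective.of_free
  refine ⟨ext_two_subsingleton (iotaMap f) (piMap f) hι hπ hex, ⟨?_⟩⟩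
  have e1 := Helper71.ExtOne.extOneEquiv (N := R0 f) (iotaMap f) (piMap f) hι hπ hex
  have e2 := Submodule.Quotient.equiv
    (LinearMap.range (LinearMap.lcomp (R0 f) (R0 f) (iotaMap f)))
    (Ideal.map (Ideal.Quotient.mk (Ideal.span {f}))
      (Ideal.span {g | ∃ D : Derivation k (MvPowerSeries σ k) (MvPowerSeries σ k), g = D f}))
    (LinearMap.ringLmapEquivSelf (R0 f) (R0 f) (R0 f)) (map_range_lcomp p f)
  exact e1.symm ≪≫ₗ e2

end Main

end Helper71.HypExt
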