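import Mathlib
import Groth.Agent.Lib.Helper71.Conductor
import Groth.Agent.Lib.Helper71.ExtOne

/-!
# `Ext¹` lengths over the monomial curve ring `R_n = k + X^n k[[X]]` (helper71 seat library)
-/

set_option autoImplicit false
set_option linter.unusedSectionVars false
set_option linter.style.haveILetI false
set_option synthInstance.maxHeartbeats 200000
set_option maxHeartbeats 1600000
universe u

open scoped BigOperators
open PowerSeries Helper71.Conductor CategoryTheory Abelian

namespace Helper71.MonoCurve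

section Basics

variable {k : Type u} [Field k] {n : ℕ} {A : Subalgebra k (PowerSeries k)}

/-- The defining property of the monomial ring `R_n`. -/
def IsMono (n : ℕ) (A : Subalgebra k (PowerSeries k)) : Prop :=
  ∀ f : PowerSeries k, f ∈ A ↔ ∀ m : ℕ, PowerSeries.coeff m f ≠ 0 → (m = 0 ∨ n ≤ m)

theorem IsMono.mem_iff (h : IsMono n A) (f : PowerSeries k) :
    f ∈ A ↔ ∀ l, 0 < l → l < n → PowerSeries.coeff l f = 0 := by
  rw [h f]
  constructor
  · intro hf l hl0 hln
    by_contra hne
    rcases hf l hne with h0 | h1 <;> omega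
  · intro hf m hm
    by_contra hcon
    push Not at hcon
    exact hm (hf m (Nat.pos_of_ne_zero hcon.1) hcon.2)

theorem IsMono.X_pow_mul_mem (h : IsMono n A) (g : PowerSeries k) :
    (PowerSeries.X : PowerSeries k) ^ n * g ∈ A := by
  rw [h.mem_iff]
  intro l _ hln
  rw [PowerSeries.coeff_X_pow_mul', if_neg (by omega)]

theorem IsMono.coeff_eq_zero (h : IsMono n A) (a : ↥A) {l : ℕ} (hl0 : 0 < l) (hln : l < n) :
    PowerSeries.coeff l (a : PowerSeries k) = 0 :=
  (h.mem_iff _).mp a.2 l hl0 hln

/-- The augmentation `A → k`. -/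
noncomputable def aug (A : Subalgebra k (PowerSeries k)) : ↥A →+* k :=
  (PowerSeries.constantCoeff (R := k)).comp A.val.toRingHom

theorem aug_apply (a : ↥A) : aug A a = PowerSeries.constantCoeff (a : PowerSeries k) := rfl

theorem aug_surjective : Function.Surjective (aug A) := by
  intro c
  refine ⟨algebraMap k ↥A c, ?_⟩
  rw [aug_apply]
  simp

/-- Elements of `A` are `constant + X^n * (...)`. -/
theorem IsMono.exists_eq (h : IsMono n A) (a : ↥A) :
    ∃ b : PowerSeries k, (a : PowerSeries k) = PowerSeries.C (aug A a) + PowerSeries.X ^ n * b := by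
  have hdvd : (PowerSeries.X : PowerSeries k) ^ n ∣ (a : PowerSeries k) - PowerSeries.C (aug A a) := by
    rw [PowerSeries.X_pow_dvd_iff]
    intro l hl
    rcases Nat.eq_zero_or_pos l with rfl | hl0
    · simp [aug_apply]
    · rw [map_sub, h.coeff_eq_zero a hl0 hl, PowerSeries.coeff_C, if_neg (by omega), sub_zero]
  obtain ⟨b, hb⟩ := hdvd
  exact ⟨b, by rw [← hb]; ring⟩

/-- Coefficients of a product with an element of `A` below degree `n + c`, for a factor divisible by
`X^c`. -/
theorem IsMono.coeff_mul (h : IsMono n A) (a : ↥A) (c : ℕ) (g : PowerSeries k) {l : ℕ}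
    (hl : l < n + c) :
    PowerSeries.coeff l ((a : PowerSeries k) * (PowerSeries.X ^ c * g)) =
      aug A a * PowerSeries.coeff l (PowerSeries.X ^ c * g) := by
  obtain ⟨b, hb⟩ := h.exists_eq a
  rw [hb, add_mul, map_add, PowerSeries.coeff_C_mul]
  have : (PowerSeries.X : PowerSeries k) ^ n * b * (PowerSeries.X ^ c * g) =
      PowerSeries.X ^ (n + c) * (b * g) := by ring
  have h2 : PowerSeries.coeff l ((PowerSeries.X : PowerSeries k) ^ (n + c) * (b * g)) = 0 := by
    rw [PowerSeries.coeff_X_pow_mul', if_neg (by omega)]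
  rw [this, h2, add_zero]

theorem IsMono.coeff_mul' (h : IsMono n A) (a : ↥A) (g : PowerSeries k) {l : ℕ} (hl : l < n) :
    PowerSeries.coeff l ((a : PowerSeries k) * g) = aug A a * PowerSeries.coeff l g := by
  have := h.coeff_mul a 0 g (l := l) (by omega)
  simpa using this

theorem X_pow_reg (x y : PowerSeries k) (hxy : (PowerSeries.X : PowerSeries k) ^ n * x =
    PowerSeries.X ^ n * y) : x = y :=
  mul_left_cancel₀ (pow_ne_zero n PowerSeries.X_ne_zero) hxy

end Basics

section DataConstruction

variable {k : Type u} [Field k] {n : ℕ} {A : Subalgebra k (PowerSeries k)}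

/-- The coefficient condition defining the monomial module with exponents `0` and `ex i`. -/
def InMod (n : ℕ) {s : ℕ} (ex : Fin s → ℕ) (f : PowerSeries k) : Prop :=
  ∀ l, 0 < l → l < n → (∀ i, ex i ≠ l) → PowerSeries.coeff l f = 0

theorem inMod_one {s : ℕ} (ex : Fin s → ℕ) : InMod n ex (1 : PowerSeries k) := by
  intro l hl _ _
  rw [PowerSeries.coeff_one, if_neg (by omega)]

theorem inMod_X_pow {s : ℕ} (ex : Fin s → ℕ) (i : Fin s) :
    InMod n ex ((PowerSeries.X : PowerSeries k) ^ ex i) := by
  intro l _ _ hne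
  rw [PowerSeries.coeff_X_pow, if_neg (fun h => hne i h.symm)]

theorem C_mem (h : IsMono n A) (c : k) : (PowerSeries.C c : PowerSeries k) ∈ A := by
  rw [h.mem_iff]
  intro l hl _
  rw [PowerSeries.coeff_C, if_neg (by omega)]

/-- The decomposition of an element of the monomial module. -/
theorem exists_decomp {s : ℕ} (ex : Fin s → ℕ) (hex : Function.Injective ex)
    (hpos : ∀ i, 0 < ex i) (hlt : ∀ i, ex i < n) (f : PowerSeries k) (hf : InMod n ex f) :
    ∃ g : PowerSeries k, f = PowerSeries.C (PowerSeries.coeff 0 f) + PowerSeries.X ^ n * g +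
      ∑ i, PowerSeries.C (PowerSeries.coeff (ex i) f) * PowerSeries.X ^ ex i := by
  have hdvd : (PowerSeries.X : PowerSeries k) ^ n ∣ f - (PowerSeries.C (PowerSeries.coeff 0 f) +
      ∑ i, PowerSeries.C (PowerSeries.coeff (ex i) f) * PowerSeries.X ^ ex i) := by
    rw [PowerSeries.X_pow_dvd_iff]
    intro l hl
    rw [map_sub, map_add, map_sum]
    simp only [PowerSeries.coeff_C_mul, PowerSeries.coeff_X_pow]
    rcases Nat.eq_zero_or_pos l with rfl | hl0
    · have : ∀ i, (0 : ℕ) ≠ ex i := fun i => (hpos i).ne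
      simp [this]
    · rw [PowerSeries.coeff_C, if_neg (by omega), zero_add]
      by_cases hx : ∃ i, ex i = l
      · obtain ⟨i0, rfl⟩ := hx
        rw [Finset.sum_eq_single i0]
        · simp
        · intro i _ hi
          rw [if_neg (fun h => hi (hex h.symm)), mul_zero]
        · intro h'; exact absurd (Finset.mem_univ i0) h'
      · push Not at hx
        rw [hf l hl0 hl hx, Finset.sum_eq_zero, sub_zero]
        intro i _
        rw [if_neg (fun h => hx i h.symm), mul_zero]
  obtain ⟨g, hg⟩ := hdvd
  refine ⟨g, ?_⟩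
  rw [← hg]; ring

/-- Construction of the abstract data for a monomial module. -/
theorem exists_data (h : IsMono n A) {s : ℕ} (ex : Fin s → ℕ) (hex : Function.Injective ex)
    (hpos : ∀ i, 0 < ex i) (hlt : ∀ i, ex i < n)
    {M : Type u} [AddCommGroup M] [Module ↥A M] (j : M →ₗ[↥A] PowerSeries k)
    (hj : Function.Injective j) (hrange : ∀ f, (∃ x, j x = f) ↔ InMod n ex f) :
    ∃ m : Option (Fin s) → M,
      Data A ((PowerSeries.X : PowerSeries k) ^ n) (fun i => PowerSeries.X ^ ex i) j m := by
  obtain ⟨m0, hm0⟩ := (hrange 1).mpr (inMod_one ex)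
  choose ms hms using fun i => (hrange _).mpr (inMod_X_pow (k := k) (n := n) ex i)
  refine ⟨fun l => Option.elim l m0 ms, ⟨fun x y => X_pow_reg x y, h.X_pow_mul_mem, hj, hm0, hms,
    fun x => ?_, fun a ha l => ?_⟩⟩
  · -- spanning
    obtain ⟨g, hg⟩ := exists_decomp ex hex hpos hlt (j x) ((hrange _).mp ⟨x, rfl⟩)
    have hmem0 : PowerSeries.C (PowerSeries.coeff 0 (j x)) + PowerSeries.X ^ n * g ∈ A :=
      A.add_mem (C_mem h _) (h.X_pow_mul_mem g)
    refine ⟨fun l => Option.elim l ⟨_, hmem0⟩ (fun i => ⟨_, C_mem h (PowerSeries.coeff (ex i) (j x))⟩), ?_⟩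
    apply hj
    rw [map_sum, Fintype.sum_option]
    simp only [Option.elim, j_smul, hm0, hms, mul_one]
    exact hg.symm
  · -- relations
    have hsum : ((a none : ↥A) : PowerSeries k) +
        ∑ i, ((a (some i) : ↥A) : PowerSeries k) * PowerSeries.X ^ ex i = 0 := by
      have := congrArg j ha
      rw [map_sum, Fintype.sum_option, map_zero] at this
      simp only [Option.elim, j_smul, hm0, hms, mul_one] at this
      exact this
    -- the augmentation of every coefficient vanishes
    have haug : ∀ l, aug A (a l) = 0 := by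
      intro l
      rcases l with _ | i0
      · have := congrArg (PowerSeries.coeff 0) hsum
        rw [map_add, map_sum, map_zero, Finset.sum_eq_zero, add_zero] at this
        · rw [aug_apply, ← PowerSeries.coeff_zero_eq_constantCoeff_apply]; exact this
        · intro i _
          rw [PowerSeries.coeff_mul_X_pow', if_neg (by have := hpos i; omega)]
      · have := congrArg (PowerSeries.coeff (ex i0)) hsum
        rw [map_add, map_sum, map_zero, h.coeff_eq_zero _ (hpos i0) (hlt i0), zero_add,
          Finset.sum_eq_single i0] at this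
        · rw [PowerSeries.coeff_mul_X_pow', if_pos le_rfl, Nat.sub_self] at this
          rw [aug_apply, ← PowerSeries.coeff_zero_eq_constantCoeff_apply]; exact this
        · intro i _ hi
          rw [PowerSeries.coeff_mul_X_pow']
          split_ifs with hle
          · have hne : ex i ≠ ex i0 := fun h' => hi (hex h')
            exact h.coeff_eq_zero _ (by omega) (by have := hlt i0; omega)
          · rfl
        · intro h'; exact absurd (Finset.mem_univ i0) h'
    obtain ⟨b, hb⟩ := h.exists_eq (a l)
    refine ⟨b, ?_⟩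
    rw [hb, haug l, map_zero, zero_add]

end DataConstruction

section ExtLength

variable {k : Type u} [Field k] {n : ℕ} {A : Subalgebra k (PowerSeries k)}

/-- `Ext¹(M, M)` as a quotient of `Hom(Rel, M)`. -/
theorem length_ext_eq {S : Type} [Fintype S] [DecidableEq S] {τ : PowerSeries k}
    {u : S → PowerSeries k} {M : Type u} [AddCommGroup M] [Module ↥A M]
    {j : M →ₗ[↥A] PowerSeries k} {m : Option S → M} (D : Data A τ u j m) :
    Module.length ↥A (Ext (ModuleCat.of ↥A M) (ModuleCat.of ↥A M) 1) =
      Module.length ↥A ((↥(Rel A m) →ₗ[↥A] M) ⧸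
        LinearMap.range (LinearMap.lcomp ↥A M (Rel A m).subtype)) :=
by
  haveI : Module.Projective ↥A (Option S → ↥A) := Module.Projective.of_free
  have h1 : Function.Injective (Rel A m).subtype := Submodule.subtype_injective _
  have h2 : Function.Exact (Rel A m).subtype (cover A m) :=
    LinearMap.exact_subtype_ker_map (cover A m)
  have h := Helper71.ExtOne.length_ext_one (R := ↥A) (K := ↥(Rel A m)) (F := Option S → ↥A) (M := M)
    (N := M) (Rel A m).subtype (cover A m) h1 D.cover_surjective h2
  exact h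

/-- The general counting principle: an augmentation-semilinear surjection `Ξ` from `Hom(Rel, M)`
onto a finite-dimensional space whose kernel consists of the maps extending to the cover. -/
theorem length_ext_eq_finrank {S : Type} [Fintype S] [DecidableEq S] {τ : PowerSeries k}
    {u : S → PowerSeries k} {M : Type u} [AddCommGroup M] [Module ↥A M]
    {j : M →ₗ[↥A] PowerSeries k} {m : Option S → M} (D : Data A τ u j m)
    {E : Type u} [AddCommGroup E] [Module k E] [Module.Finite k E]
    (Ξ : (↥(Rel A m) →ₗ[↥A] M) →+ E)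
    (hΞ : ∀ (a : ↥A) φ, Ξ (a • φ) = aug A a • Ξ φ) (hsurj : Function.Surjective Ξ)
    (hker : ∀ φ, Ξ φ = 0 ↔ φ ∈ LinearMap.range (LinearMap.lcomp ↥A M (Rel A m).subtype)) :
    Module.length ↥A (Ext (ModuleCat.of ↥A M) (ModuleCat.of ↥A M) 1) =
      (Module.finrank k E : ℕ∞) := by
  have h := length_quotient_eq_finrank (aug A) aug_surjective
    (LinearMap.range (LinearMap.lcomp ↥A M (Rel A m).subtype)) Ξ hΞ hsurj hker
  rw [length_ext_eq D]
  exact h

theorem theta_zero {S : Type} [Fintype S] [DecidableEq S] {τ : PowerSeries k}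
    {u : S → PowerSeries k} {M : Type u} [AddCommGroup M] [Module ↥A M]
    {j : M →ₗ[↥A] PowerSeries k} {m : Option S → M} (D : Data A τ u j m) :
    theta D (0 : ↥(Rel A m) →ₗ[↥A] M) = 0 := by
  funext s
  simp [theta]

end ExtLength

section Case32

variable {k : Type u} [Field k] {n : ℕ} {A : Subalgebra k (PowerSeries k)}

/-- The polynomial with prescribed coefficients in degrees `c + l`, `l < N`. -/
noncomputable def polyOf (c N : ℕ) (v : Fin N → k) : PowerSeries k :=
  ∑ l : Fin N, PowerSeries.C (v l) * PowerSeries.X ^ (c + l.val)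

theorem coeff_polyOf (c N : ℕ) (v : Fin N → k) (l : Fin N) :
    PowerSeries.coeff (c + l.val) (polyOf c N v) = v l := by
  unfold polyOf
  rw [map_sum, Finset.sum_eq_single l]
  · rw [PowerSeries.coeff_C_mul, PowerSeries.coeff_X_pow, if_pos rfl, mul_one]
  · intro l' _ hl'
    rw [PowerSeries.coeff_C_mul, PowerSeries.coeff_X_pow, if_neg, mul_zero]
    intro h
    exact hl' (Fin.ext (by omega))
  · intro h; exact absurd (Finset.mem_univ l) h

theorem coeff_polyOf_of_lt (c N : ℕ) (v : Fin N → k) {d : ℕ} (hd : d < c) :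
    PowerSeries.coeff d (polyOf c N v) = 0 := by
  unfold polyOf
  rw [map_sum]
  refine Finset.sum_eq_zero fun l _ => ?_
  rw [PowerSeries.coeff_C_mul, PowerSeries.coeff_X_pow, if_neg (by omega), mul_zero]

theorem length_ext_ps (h : IsMono n A) (hn : 2 ≤ n) :
    Module.length ↥A (Ext (ModuleCat.of ↥A (PowerSeries k)) (ModuleCat.of ↥A (PowerSeries k)) 1) =
      (((n - 1) * n : ℕ) : ℕ∞) := by
  classical
  -- the data
  obtain ⟨m, D⟩ := exists_data h (s := n - 1) (fun i : Fin (n - 1) => i.val + 1)
    (fun a b hab => Fin.ext (by simpa using hab)) (fun i => Nat.succ_pos _)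
    (fun i => by have := i.2; omega) (LinearMap.id : PowerSeries k →ₗ[↥A] PowerSeries k)
    (fun x y hxy => hxy) (fun f => ⟨fun _ l hl0 hln hne => by
      exfalso
      exact hne ⟨l - 1, by omega⟩ (show l - 1 + 1 = l by omega), fun _ => ⟨f, rfl⟩⟩)
  -- the counting map
  let Ξ : (↥(Rel A m) →ₗ[↥A] PowerSeries k) →+ (Fin (n - 1) → Fin n → k) :=
    { toFun := fun φ s l => PowerSeries.coeff l.val (theta D φ s)
      map_zero' := by
        funext s l
        rw [theta_zero D]
        simp
      map_add' := fun φ ψ => by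
        funext s l
        rw [theta_add D]
        simp }
  have hΞ : ∀ φ s l, Ξ φ s l = PowerSeries.coeff l.val (theta D φ s) := fun _ _ _ => rfl
  have h1 := length_ext_eq_finrank D Ξ ?_ ?_ ?_
  · rw [h1, Module.finrank_pi_fintype]
    simp
  · -- semilinearity
    intro a φ
    funext s l
    rw [hΞ, theta_smul, h.coeff_mul' a _ l.2]
    rfl
  · -- surjectivity
    intro c
    obtain ⟨φ, hφ⟩ := exists_theta_eq D (fun s => polyOf 0 n (c s)) (fun s g => ⟨g * _, rfl⟩)
    refine ⟨φ, ?_⟩
    funext s l
    rw [hΞ, hφ]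
    have := coeff_polyOf 0 n (c s) l
    rwa [zero_add] at this
  · -- kernel
    intro φ
    rw [mem_range_lcomp_iff D]
    constructor
    · intro hφ
      have hdvd : ∀ s, (PowerSeries.X : PowerSeries k) ^ n ∣ theta D φ s := by
        intro s
        rw [PowerSeries.X_pow_dvd_iff]
        intro l hl
        have := congrFun (congrFun hφ s) ⟨l, hl⟩
        exact this
      choose g hg using hdvd
      refine ⟨fun l => Option.elim l 0 g, fun s => ?_⟩
      simp only [Option.elim, LinearMap.id_apply, mul_zero, sub_zero]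
      exact hg s
    · rintro ⟨f, hf⟩
      funext s l
      rw [hΞ, hf, PowerSeries.coeff_X_pow_mul', if_neg (by have := l.2; omega)]
      rfl

end Case32

section EndTerm

variable {k : Type u} [Field k] {n : ℕ} {A : Subalgebra k (PowerSeries k)}

/-- `A`-linear endomorphisms of `k[[X]]` are multiplications. -/
theorem end_apply (h : IsMono n A) (φ : PowerSeries k →ₗ[↥A] PowerSeries k) (g : PowerSeries k) :
    φ g = g * φ 1 := by
  apply X_pow_reg (n := n)
  have e1 : φ ((PowerSeries.X : PowerSeries k) ^ n * g) = PowerSeries.X ^ n * g * φ 1 := by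
    have h0 := map_smul φ (⟨PowerSeries.X ^ n * g, h.X_pow_mul_mem g⟩ : ↥A) (1 : PowerSeries k)
    have h1 : (⟨PowerSeries.X ^ n * g, h.X_pow_mul_mem g⟩ : ↥A) • (1 : PowerSeries k) =
        PowerSeries.X ^ n * g := by
      change PowerSeries.X ^ n * g * 1 = _
      rw [mul_one]
    rw [h1] at h0
    exact h0
  have e2 : φ ((PowerSeries.X : PowerSeries k) ^ n * g) = PowerSeries.X ^ n * φ g := by
    have h0 := map_smul φ (⟨PowerSeries.X ^ n * 1, h.X_pow_mul_mem 1⟩ : ↥A) g
    have h1 : (⟨PowerSeries.X ^ n * 1, h.X_pow_mul_mem 1⟩ : ↥A) • g =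
        PowerSeries.X ^ n * g := by
      change PowerSeries.X ^ n * 1 * g = _
      rw [mul_one]
    rw [h1] at h0
    rw [h0]
    change PowerSeries.X ^ n * 1 * φ g = _
    rw [mul_one]
  rw [← e2, e1]; ring

/-- Multiplication by a power series as an `A`-linear endomorphism. -/
noncomputable def mulEnd (A : Subalgebra k (PowerSeries k)) (p : PowerSeries k) :
    PowerSeries k →ₗ[↥A] PowerSeries k where
  toFun g := g * p
  map_add' x y := add_mul x y p
  map_smul' a x := by
    change (a : PowerSeries k) * x * p = (a : PowerSeries k) * (x * p)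
    ring

theorem length_end_quotient (h : IsMono n A) (hn : 2 ≤ n) :
    Module.length ↥A ((PowerSeries k →ₗ[↥A] PowerSeries k) ⧸ LinearMap.range
      (Algebra.lsmul ↥A ↥A (PowerSeries k) : ↥A →ₐ[↥A] Module.End ↥A (PowerSeries k)).toLinearMap) =
      ((n - 1 : ℕ) : ℕ∞) := by
  let Ξ : (PowerSeries k →ₗ[↥A] PowerSeries k) →+ (Fin (n - 1) → k) :=
    { toFun := fun φ l => PowerSeries.coeff (l.val + 1) (φ 1)
      map_zero' := by funext l; simp
      map_add' := fun φ ψ => by funext l; simp }
  have hΞ : ∀ φ l, Ξ φ l = PowerSeries.coeff (l.val + 1) (φ 1) := fun _ _ => rfl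
  have h1 := length_quotient_eq_finrank (aug A) aug_surjective
    (LinearMap.range (Algebra.lsmul ↥A ↥A (PowerSeries k) :
      ↥A →ₐ[↥A] Module.End ↥A (PowerSeries k)).toLinearMap) Ξ ?_ ?_ ?_
  · rw [h1]
    simp
  · intro a φ
    funext l
    rw [hΞ, LinearMap.smul_apply]
    change PowerSeries.coeff (l.val + 1) ((a : PowerSeries k) * φ 1) = _
    rw [h.coeff_mul' a _ (by have := l.2; omega)]
    rfl
  · intro c
    refine ⟨mulEnd A (polyOf 1 (n - 1) c), ?_⟩
    funext l
    rw [hΞ]
    change PowerSeries.coeff (l.val + 1) (1 * polyOf 1 (n - 1) c) = _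
    rw [one_mul, add_comm]
    exact coeff_polyOf 1 (n - 1) c l
  · intro φ
    constructor
    · intro hφ
      have hmem : φ 1 ∈ A := by
        rw [h.mem_iff]
        intro l hl0 hln
        have := congrFun hφ ⟨l - 1, by omega⟩
        rw [hΞ] at this
        simp only at this
        rwa [Nat.sub_add_cancel hl0] at this
      refine ⟨⟨φ 1, hmem⟩, ?_⟩
      refine LinearMap.ext fun g => ?_
      rw [end_apply h φ g]
      change (φ 1) * g = _
      rw [mul_comm]
    · rintro ⟨a, rfl⟩
      funext l
      rw [hΞ]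
      change PowerSeries.coeff (l.val + 1) ((a : PowerSeries k) * 1) = 0
      rw [mul_one]
      exact h.coeff_eq_zero a (Nat.succ_pos _) (by have := l.2; omega)

/-- The statement of S15032. -/
theorem main32 (h : IsMono n A) (hn : 2 ≤ n) :
    Module.length ↥A (Ext (ModuleCat.of ↥A (PowerSeries k)) (ModuleCat.of ↥A (PowerSeries k)) 1) =
      (((n - 1) ^ 2 : ℕ) : ℕ∞) + Module.length ↥A ((PowerSeries k →ₗ[↥A] PowerSeries k) ⧸
        LinearMap.range (Algebra.lsmul ↥A ↥A (PowerSeries k) :
          ↥A →ₐ[↥A] Module.End ↥A (PowerSeries k)).toLinearMap) := by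
  rw [length_ext_ps h hn, length_end_quotient h hn]
  obtain ⟨p, rfl⟩ : ∃ p, n = p + 2 := ⟨n - 2, by omega⟩
  norm_cast
  simp only [show p + 2 - 1 = p + 1 by omega]
  ring

end EndTerm

section SpanChar

variable {k : Type u} [Field k] {n : ℕ} {A : Subalgebra k (PowerSeries k)}

theorem coeff_polyOf_of_ge (c N : ℕ) (v : Fin N → k) {d : ℕ} (hd : c + N ≤ d) :
    PowerSeries.coeff d (polyOf c N v) = 0 := by
  unfold polyOf
  rw [map_sum]
  refine Finset.sum_eq_zero fun l _ => ?_
  rw [PowerSeries.coeff_C_mul, PowerSeries.coeff_X_pow, if_neg (by have := l.2; omega), mul_zero]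

/-- The span of the monomials with exponents in `T = {0} ∪ range ex` is the monomial module. -/
theorem mem_span_iff (h : IsMono n A) {s : ℕ} (ex : Fin s → ℕ) (hex : Function.Injective ex)
    (hpos : ∀ i, 0 < ex i) (hlt : ∀ i, ex i < n) (T : Set ℕ) (h0 : 0 ∈ T)
    (hT : ∀ t ∈ T, t = 0 ∨ ∃ p, ex p = t) (hT' : ∀ p, ex p ∈ T) (f : PowerSeries k) :
    f ∈ Submodule.span ↥A ((fun a : ℕ => (PowerSeries.X : PowerSeries k) ^ a) '' T) ↔
      InMod n ex f := by
  constructor
  · intro hf
    induction hf using Submodule.span_induction with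
    | mem x hx =>
      obtain ⟨t, ht, rfl⟩ := hx
      rcases hT t ht with rfl | ⟨p, rfl⟩
      · change InMod n ex ((PowerSeries.X : PowerSeries k) ^ 0)
        rw [pow_zero]; exact inMod_one ex
      · exact inMod_X_pow ex p
    | zero => intro l _ _ _; simp
    | add x y _ _ hx hy =>
      intro l hl0 hln hne
      rw [map_add, hx l hl0 hln hne, hy l hl0 hln hne, add_zero]
    | smul a x _ hx =>
      intro l hl0 hln hne
      change PowerSeries.coeff l ((a : PowerSeries k) * x) = 0
      rw [h.coeff_mul' a x hln, hx l hl0 hln hne, mul_zero]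
  · intro hf
    obtain ⟨g, hg⟩ := exists_decomp ex hex hpos hlt f hf
    rw [hg]
    refine Submodule.add_mem _ ?_ (Submodule.sum_mem _ fun p _ => ?_)
    · have hmem0 : PowerSeries.C (PowerSeries.coeff 0 f) + PowerSeries.X ^ n * g ∈ A :=
        A.add_mem (C_mem h _) (h.X_pow_mul_mem g)
      have : PowerSeries.C (PowerSeries.coeff 0 f) + PowerSeries.X ^ n * g =
          (⟨_, hmem0⟩ : ↥A) • ((PowerSeries.X : PowerSeries k) ^ 0) := by
        change _ = (PowerSeries.C (PowerSeries.coeff 0 f) + PowerSeries.X ^ n * g) * PowerSeries.X ^ 0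
        rw [pow_zero, mul_one]
      rw [this]
      exact Submodule.smul_mem _ _ (Submodule.subset_span ⟨0, h0, rfl⟩)
    · have : PowerSeries.C (PowerSeries.coeff (ex p) f) * PowerSeries.X ^ ex p =
          (⟨_, C_mem h (PowerSeries.coeff (ex p) f)⟩ : ↥A) • ((PowerSeries.X : PowerSeries k) ^ ex p) :=
        rfl
      rw [this]
      exact Submodule.smul_mem _ _ (Submodule.subset_span ⟨ex p, hT' p, rfl⟩)

end SpanChar

section Case33

variable {k : Type u} [Field k] {n : ℕ} {A : Subalgebra k (PowerSeries k)}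

theorem main33 (h : IsMono n A) (i : ℕ) (hi : i + 2 ≤ n) :
    Module.length ↥A (Ext
      (ModuleCat.of ↥A ↥(Submodule.span ↥A ((fun a : ℕ => (PowerSeries.X : PowerSeries k) ^ a) ''
        ({0} ∪ Set.Icc (n - i) (n - 1)))))
      (ModuleCat.of ↥A ↥(Submodule.span ↥A ((fun a : ℕ => (PowerSeries.X : PowerSeries k) ^ a) ''
        ({0} ∪ Set.Icc (n - i) (n - 1))))) 1) = ((i * (n - 1) : ℕ) : ℕ∞) := by
  classical
  -- exponents
  obtain ⟨ex, hexdef⟩ : ∃ ex : Fin i → ℕ, ∀ p, ex p = n - i + p.val := ⟨_, fun _ => rfl⟩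
  have hex : Function.Injective ex := fun a b hab => Fin.ext (by rw [hexdef, hexdef] at hab; omega)
  have hpos : ∀ p, 0 < ex p := fun p => by rw [hexdef]; omega
  have hlt : ∀ p, ex p < n := fun p => by rw [hexdef]; have := p.2; omega
  obtain ⟨Msub, hMsub⟩ : ∃ Msub : Submodule ↥A (PowerSeries k), Msub =
      Submodule.span ↥A ((fun a : ℕ => (PowerSeries.X : PowerSeries k) ^ a) ''
        ({0} ∪ Set.Icc (n - i) (n - 1))) := ⟨_, rfl⟩
  rw [← hMsub]
  have hmem : ∀ f : PowerSeries k, f ∈ Msub ↔ InMod n ex f := by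
    intro f
    rw [hMsub]
    refine mem_span_iff h ex hex hpos hlt _ (Or.inl rfl) ?_ ?_ f
    · rintro t (ht | ⟨ht1, ht2⟩)
      · exact Or.inl ht
      · exact Or.inr ⟨⟨t - (n - i), by omega⟩, by rw [hexdef]; simp only; omega⟩
    · intro p
      refine Or.inr ⟨?_, ?_⟩ <;> rw [hexdef] <;> have := p.2 <;> omega
  -- characterisation of InMod in this case
  have hIn : ∀ f : PowerSeries k, InMod n ex f ↔ ∀ l, 0 < l → l < n - i → PowerSeries.coeff l f = 0 := by
    intro f
    constructor
    · intro hf l hl0 hl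
      exact hf l hl0 (by omega) (fun p hp => by rw [hexdef] at hp; omega)
    · intro hf l hl0 hln hne
      by_cases hl : l < n - i
      · exact hf l hl0 hl
      · exfalso
        exact hne ⟨l - (n - i), by omega⟩ (by rw [hexdef]; simp only; omega)
  have hrange : ∀ f : PowerSeries k, (∃ x : ↥Msub, Msub.subtype x = f) ↔ InMod n ex f := by
    intro f
    constructor
    · rintro ⟨x, rfl⟩
      exact (hmem _).mp x.2
    · intro hf
      exact ⟨⟨f, (hmem f).mpr hf⟩, rfl⟩
  obtain ⟨m, D⟩ := exists_data (M := ↥Msub) h ex hex hpos hlt (Submodule.subtype Msub)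
    (Submodule.subtype_injective Msub) hrange
  -- `Θ` takes values in `X^(n-i) k[[X]]`
  have hθ : ∀ (φ : ↥(Rel A m) →ₗ[↥A] ↥Msub) (s : Fin i) (l : ℕ), l < n - i →
      PowerSeries.coeff l (theta D φ s) = 0 := by
    intro φ s l hl
    rcases Nat.eq_zero_or_pos l with rfl | hl0
    · obtain ⟨x, hx⟩ := theta_mem D φ s PowerSeries.X
      have hx' : InMod n ex (PowerSeries.X * theta D φ s) := by
        rw [← hx]; exact (hmem _).mp x.2
      have := (hIn _).mp hx' 1 Nat.one_pos (by omega)
      rwa [PowerSeries.coeff_succ_X_mul] at this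
    · obtain ⟨x, hx⟩ := theta_mem D φ s 1
      have hx' : InMod n ex (theta D φ s) := by
        rw [one_mul] at hx
        rw [← hx]; exact (hmem _).mp x.2
      exact (hIn _).mp hx' l hl0 hl
  have hθdvd : ∀ (φ : ↥(Rel A m) →ₗ[↥A] ↥Msub) (s : Fin i),
      ∃ g, theta D φ s = PowerSeries.X ^ (n - i) * g := by
    intro φ s
    exact (PowerSeries.X_pow_dvd_iff.mpr (hθ φ s))
  -- the counting map
  let Ξ : (↥(Rel A m) →ₗ[↥A] ↥Msub) →+ (Fin i → (Fin i → k) × (Fin (n - i - 1) → k)) :=
    { toFun := fun φ s => (fun q => PowerSeries.coeff (n - i + q.val) (theta D φ s),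
        fun r => PowerSeries.coeff (n + 1 + r.val) (theta D φ s))
      map_zero' := by
        funext s
        rw [theta_zero D]
        simp only [Pi.zero_apply, map_zero]
        rfl
      map_add' := fun φ ψ => by
        funext s
        rw [theta_add D]
        simp only [Pi.add_apply, map_add]
        rfl }
  have hΞ1 : ∀ φ s q, (Ξ φ s).1 q = PowerSeries.coeff (n - i + q.val) (theta D φ s) :=
    fun _ _ _ => rfl
  have hΞ2 : ∀ φ s r, (Ξ φ s).2 r = PowerSeries.coeff (n + 1 + r.val) (theta D φ s) :=
    fun _ _ _ => rfl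
  have h1 := length_ext_eq_finrank D Ξ ?_ ?_ ?_
  · rw [h1, Module.finrank_pi_fintype]
    simp only [Module.finrank_prod, Module.finrank_fintype_fun_eq_card, Fintype.card_fin,
      Finset.sum_const, Finset.card_univ, smul_eq_mul]
    congr 1
    congr 1
    omega
  · -- semilinearity
    intro a φ
    funext s
    obtain ⟨g, hg⟩ := hθdvd φ s
    refine Prod.ext ?_ ?_
    · funext q
      rw [hΞ1, theta_smul, hg, h.coeff_mul a (n - i) g (by have := q.2; omega), ← hg]
      rfl
    · funext r
      rw [hΞ2, theta_smul, hg, h.coeff_mul a (n - i) g (by have := r.2; omega), ← hg]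
      rfl
  · -- surjectivity
    intro e
    have hh : ∀ (s : Fin i) (g : PowerSeries k), ∃ x : ↥Msub, Msub.subtype x =
        g * (polyOf (n - i) i (e s).1 + polyOf (n + 1) (n - i - 1) (e s).2) := by
      intro s g
      refine ⟨⟨_, (hmem _).mpr ((hIn _).mpr fun l _ hl => ?_)⟩, rfl⟩
      have hdvd : (PowerSeries.X : PowerSeries k) ^ (n - i) ∣
          g * (polyOf (n - i) i (e s).1 + polyOf (n + 1) (n - i - 1) (e s).2) := by
        refine Dvd.dvd.mul_left ?_ g
        rw [PowerSeries.X_pow_dvd_iff]
        intro l' hl'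
        rw [map_add, coeff_polyOf_of_lt _ _ _ hl', coeff_polyOf_of_lt _ _ _ (by omega), add_zero]
      exact PowerSeries.X_pow_dvd_iff.mp hdvd l hl
    obtain ⟨φ, hφ⟩ := exists_theta_eq D _ hh
    refine ⟨φ, ?_⟩
    funext s
    refine Prod.ext ?_ ?_
    · funext q
      rw [hΞ1, hφ, map_add, coeff_polyOf, coeff_polyOf_of_lt _ _ _ (by have := q.2; omega), add_zero]
    · funext r
      rw [hΞ2, hφ, map_add, coeff_polyOf, coeff_polyOf_of_ge _ _ _ (by omega), zero_add]
  · -- kernel
    intro φ
    rw [mem_range_lcomp_iff D]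
    constructor
    · intro hφ
      have hz : ∀ s l, l < n → PowerSeries.coeff l (theta D φ s) = 0 := by
        intro s l hl
        by_cases hl' : l < n - i
        · exact hθ φ s l hl'
        · have := congrFun (congrArg Prod.fst (congrFun hφ s)) ⟨l - (n - i), by omega⟩
          rw [hΞ1] at this
          simp only at this
          rw [show n - i + (l - (n - i)) = l by omega] at this
          exact this
      have hdvd : ∀ s, (PowerSeries.X : PowerSeries k) ^ n ∣ theta D φ s := fun s =>
        PowerSeries.X_pow_dvd_iff.mpr (hz s)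
      choose g hg using hdvd
      have hgmem : ∀ s, g s ∈ Msub := by
        intro s
        rw [hmem, hIn]
        intro l hl0 hl
        have := congrFun (congrArg Prod.snd (congrFun hφ s)) ⟨l - 1, by omega⟩
        rw [hΞ2, hg, PowerSeries.coeff_X_pow_mul', if_pos (by omega)] at this
        simp only at this
        rw [show n + 1 + (l - 1) - n = l by omega] at this
        exact this
      refine ⟨fun l => Option.elim l 0 (fun s => ⟨g s, hgmem s⟩), fun s => ?_⟩
      simp only [Option.elim, map_zero, mul_zero, sub_zero]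
      exact hg s
    · rintro ⟨f, hf⟩
      funext s
      refine Prod.ext ?_ ?_
      · funext q
        rw [hΞ1, hf, PowerSeries.coeff_X_pow_mul', if_neg (by have := q.2; omega)]
        rfl
      · funext r
        have hr := r.2
        rw [hΞ2, hf, PowerSeries.coeff_X_pow_mul', if_pos (by omega), map_sub,
          show n + 1 + r.val - n = 1 + r.val by omega, PowerSeries.coeff_X_pow_mul',
          if_neg (by rw [hexdef]; omega), sub_zero]
        have := (hIn _).mp ((hmem _).mp (f (some s)).2) (1 + r.val) (by omega) (by omega)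
        exact this

end Case33

section Case31

variable {k : Type u} [Field k] {n : ℕ} {A : Subalgebra k (PowerSeries k)}

/-- The correction map `ω` of case 31. -/
noncomputable def omega (k : Type u) [Field k] (n i : ℕ) :
    (Fin i → k) →ₗ[k] (Fin i → Fin (n - 1 - i) → k) where
  toFun c s r := if h : r.val ≤ s.val then c ⟨i + r.val - s.val - 1, by have := s.2; omega⟩ else 0
  map_add' c d := by
    funext s r
    by_cases h : r.val ≤ s.val <;> simp [h]
  map_smul' a c := by
    funext s r
    by_cases h : r.val ≤ s.val <;> simp [h]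

theorem omega_apply (n i : ℕ) (c : Fin i → k) (s : Fin i) (r : Fin (n - 1 - i)) :
    omega k n i c s r =
      if h : r.val ≤ s.val then c ⟨i + r.val - s.val - 1, by have := s.2; omega⟩ else 0 := rfl

theorem omega_injective (n i : ℕ) (hi : i + 2 ≤ n) : Function.Injective (omega k n i) := by
  rw [← LinearMap.ker_eq_bot, LinearMap.ker_eq_bot']
  intro c hc
  funext p
  have := congrFun (congrFun hc ⟨i - 1 - p.val, by have := p.2; omega⟩) ⟨0, by omega⟩
  rw [omega_apply, dif_pos (by simp)] at this
  change _ = (0 : k) at this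
  change c p = 0
  rw [← this]
  congr 1
  apply Fin.ext
  simp only
  have := p.2
  omega

theorem finrank_quot_omega (n i : ℕ) (hi : i + 2 ≤ n) :
    Module.finrank k ((Fin i → Fin (n - 1 - i) → k) ⧸ LinearMap.range (omega k n i)) =
      i * (n - 2 - i) := by
  have h1 := Submodule.finrank_quotient_add_finrank (LinearMap.range (omega k n i))
  rw [LinearMap.finrank_range_of_inj (omega_injective n i hi)] at h1
  simp only [Module.finrank_pi_fintype, Fintype.card_fin,
    Finset.sum_const, Finset.card_univ, smul_eq_mul, Module.finrank_self, mul_one] at h1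
  have h2 : i * (n - 1 - i) = i * (n - 2 - i) + i := by
    have : n - 1 - i = (n - 2 - i) + 1 := by omega
    rw [this]; ring
  omega

/-- Coefficient of `X^(s+1) * g` at position `i + 1 + r`, for `g` in the module. -/
theorem coeff_shift_inMod {i : ℕ} (hi : i + 2 ≤ n) (g : PowerSeries k)
    (hg : ∀ l, i < l → l < n → PowerSeries.coeff l g = 0) (s : Fin i) (r : Fin (n - 1 - i)) :
    PowerSeries.coeff (i + 1 + r.val) ((PowerSeries.X : PowerSeries k) ^ (s.val + 1) * g) =
      if r.val ≤ s.val then PowerSeries.coeff (i + r.val - s.val) g else 0 := by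
  have hs := s.2
  have hr := r.2
  rw [PowerSeries.coeff_X_pow_mul', if_pos (by omega)]
  split_ifs with hrs
  · rw [show i + 1 + r.val - (s.val + 1) = i + r.val - s.val by omega]
  · exact hg _ (by omega) (by omega)

theorem main31 (h : IsMono n A) (i : ℕ) (hi : i + 2 ≤ n) :
    Module.length ↥A (Ext
      (ModuleCat.of ↥A ↥(Submodule.span ↥A ((fun a : ℕ => (PowerSeries.X : PowerSeries k) ^ a) ''
        Set.Iic i)))
      (ModuleCat.of ↥A ↥(Submodule.span ↥A ((fun a : ℕ => (PowerSeries.X : PowerSeries k) ^ a) ''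
        Set.Iic i))) 1) = ((i * (n - 2 - i) : ℕ) : ℕ∞) := by
  classical
  -- exponents
  obtain ⟨ex, hexdef⟩ : ∃ ex : Fin i → ℕ, ∀ p, ex p = p.val + 1 := ⟨_, fun _ => rfl⟩
  have hex : Function.Injective ex := fun a b hab => Fin.ext (by rw [hexdef, hexdef] at hab; omega)
  have hpos : ∀ p, 0 < ex p := fun p => by rw [hexdef]; omega
  have hlt : ∀ p, ex p < n := fun p => by rw [hexdef]; have := p.2; omega
  obtain ⟨Msub, hMsub⟩ : ∃ Msub : Submodule ↥A (PowerSeries k), Msub =
      Submodule.span ↥A ((fun a : ℕ => (PowerSeries.X : PowerSeries k) ^ a) '' Set.Iic i) :=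
    ⟨_, rfl⟩
  rw [← hMsub]
  have hmem : ∀ f : PowerSeries k, f ∈ Msub ↔ InMod n ex f := by
    intro f
    rw [hMsub]
    refine mem_span_iff h ex hex hpos hlt _ (Set.mem_Iic.mpr (Nat.zero_le i)) ?_ ?_ f
    · intro t ht
      rw [Set.mem_Iic] at ht
      rcases Nat.eq_zero_or_pos t with h0 | h0
      · exact Or.inl h0
      · exact Or.inr ⟨⟨t - 1, by omega⟩, by rw [hexdef]; simp only; omega⟩
    · intro p
      rw [Set.mem_Iic, hexdef]
      have := p.2
      omega
  -- characterisation of InMod in this case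
  have hIn : ∀ f : PowerSeries k, InMod n ex f ↔ ∀ l, i < l → l < n → PowerSeries.coeff l f = 0 := by
    intro f
    constructor
    · intro hf l hl0 hl
      exact hf l (by omega) hl (fun p hp => by rw [hexdef] at hp; have := p.2; omega)
    · intro hf l hl0 hln hne
      by_cases hl : i < l
      · exact hf l hl hln
      · exfalso
        exact hne ⟨l - 1, by omega⟩ (by rw [hexdef]; simp only; omega)
  have hrange : ∀ f : PowerSeries k, (∃ x : ↥Msub, Msub.subtype x = f) ↔ InMod n ex f := by
    intro f
    constructor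
    · rintro ⟨x, rfl⟩
      exact (hmem _).mp x.2
    · intro hf
      exact ⟨⟨f, (hmem f).mpr hf⟩, rfl⟩
  obtain ⟨m, D⟩ := exists_data (M := ↥Msub) h ex hex hpos hlt (Submodule.subtype Msub)
    (Submodule.subtype_injective Msub) hrange
  -- `Θ` takes values in `X^n k[[X]]`
  have hθ : ∀ (φ : ↥(Rel A m) →ₗ[↥A] ↥Msub) (s : Fin i) (l : ℕ), l < n →
      PowerSeries.coeff l (theta D φ s) = 0 := by
    intro φ s l hl
    obtain ⟨x, hx⟩ := theta_mem D φ s (PowerSeries.X ^ (n - 1 - l))
    have hx' : InMod n ex (PowerSeries.X ^ (n - 1 - l) * theta D φ s) := by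
      rw [← hx]; exact (hmem _).mp x.2
    have := (hIn _).mp hx' (n - 1) (by omega) (by omega)
    rw [PowerSeries.coeff_X_pow_mul', if_pos (by omega)] at this
    rw [show n - 1 - (n - 1 - l) = l by omega] at this
    exact this
  have hθdvd : ∀ (φ : ↥(Rel A m) →ₗ[↥A] ↥Msub) (s : Fin i),
      ∃ g, theta D φ s = PowerSeries.X ^ n * g := by
    intro φ s
    exact (PowerSeries.X_pow_dvd_iff.mpr (hθ φ s))
  -- the counting map
  let Ξ0 : (↥(Rel A m) →ₗ[↥A] ↥Msub) →+ (Fin i → Fin (n - 1 - i) → k) :=
    { toFun := fun φ s r => PowerSeries.coeff (n + (i + 1 + r.val)) (theta D φ s)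
      map_zero' := by
        funext s r
        rw [theta_zero D]
        simp only [Pi.zero_apply, map_zero]
      map_add' := fun φ ψ => by
        funext s r
        rw [theta_add D]
        simp only [Pi.add_apply, map_add] }
  have hΞ0 : ∀ φ s r, Ξ0 φ s r = PowerSeries.coeff (n + (i + 1 + r.val)) (theta D φ s) :=
    fun _ _ _ => rfl
  let Ξ : (↥(Rel A m) →ₗ[↥A] ↥Msub) →+
      ((Fin i → Fin (n - 1 - i) → k) ⧸ LinearMap.range (omega k n i)) :=
    (LinearMap.range (omega k n i)).mkQ.toAddMonoidHom.comp Ξ0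
  have hΞ : ∀ φ, Ξ φ = Submodule.Quotient.mk (Ξ0 φ) := fun _ => rfl
  have h1 := length_ext_eq_finrank D Ξ ?_ ?_ ?_
  · rw [h1, finrank_quot_omega n i hi]
  · -- semilinearity
    intro a φ
    rw [hΞ, hΞ, ← Submodule.Quotient.mk_smul]
    congr 1
    funext s r
    obtain ⟨g, hg⟩ := hθdvd φ s
    rw [hΞ0, theta_smul, hg, h.coeff_mul a n g (by have := r.2; omega), ← hg]
    rfl
  · -- surjectivity
    intro e
    obtain ⟨v, rfl⟩ := Submodule.Quotient.mk_surjective _ e
    have hh : ∀ (s : Fin i) (g : PowerSeries k), ∃ x : ↥Msub, Msub.subtype x =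
        g * (PowerSeries.X ^ n * polyOf (i + 1) (n - 1 - i) (v s)) := by
      intro s g
      refine ⟨⟨_, (hmem _).mpr ((hIn _).mpr fun l _ hl => ?_)⟩, rfl⟩
      have hdvd : (PowerSeries.X : PowerSeries k) ^ n ∣
          g * (PowerSeries.X ^ n * polyOf (i + 1) (n - 1 - i) (v s)) :=
        Dvd.dvd.mul_left (Dvd.intro _ rfl) g
      exact PowerSeries.X_pow_dvd_iff.mp hdvd l hl
    obtain ⟨φ, hφ⟩ := exists_theta_eq D _ hh
    refine ⟨φ, ?_⟩
    rw [hΞ]
    congr 1
    funext s r
    rw [hΞ0, hφ, PowerSeries.coeff_X_pow_mul', if_pos (by omega),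
      show n + (i + 1 + r.val) - n = i + 1 + r.val by omega, coeff_polyOf]
  · -- kernel
    intro φ
    rw [mem_range_lcomp_iff D, hΞ, Submodule.Quotient.mk_eq_zero]
    constructor
    · rintro ⟨c, hc⟩
      have hc' : ∀ s r, PowerSeries.coeff (n + (i + 1 + r.val)) (theta D φ s) =
          omega k n i c s r := by
        intro s r
        rw [← hΞ0, ← hc]
      choose g hg using hθdvd φ
      -- the element `f₀`
      have hf0 : ∀ l, i < l → l < n → PowerSeries.coeff l (-(polyOf 1 i c)) = 0 := by
        intro l hl _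
        rw [map_neg, coeff_polyOf_of_ge _ _ _ (by omega), neg_zero]
      have hf0mem : -(polyOf 1 i c) ∈ Msub := (hmem _).mpr ((hIn _).mpr hf0)
      have hfs : ∀ s, g s + PowerSeries.X ^ (s.val + 1) * (-(polyOf 1 i c)) ∈ Msub := by
        intro s
        rw [hmem, hIn]
        intro l hl hln
        obtain ⟨r, rfl⟩ : ∃ r : Fin (n - 1 - i), l = i + 1 + r.val :=
          ⟨⟨l - (i + 1), by omega⟩, by simp only; omega⟩
        rw [map_add, coeff_shift_inMod hi _ hf0 s r]
        have h2 := hc' s r
        rw [hg, PowerSeries.coeff_X_pow_mul', if_pos (by omega),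
          show n + (i + 1 + r.val) - n = i + 1 + r.val by omega, omega_apply] at h2
        rw [h2]
        split_ifs with hrs
        · rw [map_neg]
          have hs := s.2
          have := coeff_polyOf 1 i c ⟨i + r.val - s.val - 1, by omega⟩
          simp only at this
          rw [show 1 + (i + r.val - s.val - 1) = i + r.val - s.val by omega] at this
          rw [this, add_neg_cancel]
        · rw [add_zero]
      refine ⟨fun l => Option.elim l ⟨_, hf0mem⟩ (fun s => ⟨_, hfs s⟩), fun s => ?_⟩
      simp only [Option.elim, Submodule.subtype_apply]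
      rw [hg, hexdef]
      ring
    · rintro ⟨f, hf⟩
      refine ⟨fun p => -PowerSeries.coeff (p.val + 1) (Msub.subtype (f none)), ?_⟩
      funext s r
      have hr := r.2
      have hs := s.2
      rw [hΞ0, hf, PowerSeries.coeff_X_pow_mul', if_pos (by omega),
        show n + (i + 1 + r.val) - n = i + 1 + r.val by omega, map_sub, hexdef,
        coeff_shift_inMod hi (Msub.subtype (f none)) ((hIn _).mp ((hmem _).mp (f none).2)) s r,
        omega_apply]
      have h0 := (hIn _).mp ((hmem _).mp (f (some s)).2) (i + 1 + r.val) (by omega) (by omega)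
      change PowerSeries.coeff (i + 1 + r.val) (Msub.subtype (f (some s))) = 0 at h0
      rw [h0, zero_sub]
      split_ifs with hrs
      · simp only [Submodule.subtype_apply]
        rw [show i + r.val - s.val - 1 + 1 = i + r.val - s.val by omega]
      · rw [neg_zero]

end Case31

end Helper71.MonoCurve
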