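import Mathlib
import Groth.Agent.Lib.Helper73.DimFT.Catenary

set_option autoImplicit false
set_option linter.style.haveILetI false
universe u
open TensorProduct

namespace Groth.Agent.Lib.Helper71.MovDK

theorem exists_ne_zero_mem_ker {k : Type u} [Field k] {r : ℕ} (R : Type u) [CommRing R]
    [Algebra k R] [Algebra.FiniteType k R] (hdim : ringKrullDim R < (r : WithBot ℕ∞))
    (φ : MvPolynomial (Fin r) k →ₐ[k] R) : ∃ h : MvPolynomial (Fin r) k, h ≠ 0 ∧ φ h = 0 := by
  classical
  by_contra hcon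
  push Not at hcon
  have hinj : ∀ h : MvPolynomial (Fin r) k, φ h = 0 → h = 0 := fun h hh => by
    by_contra hne
    exact hcon h hne hh
  rcases subsingleton_or_nontrivial R with hR | hR
  · exact one_ne_zero (hinj 1 (Subsingleton.elim _ _))
  haveI : IsNoetherianRing R := Algebra.FiniteType.isNoetherianRing k R
  have hfin : (minimalPrimes R).Finite := minimalPrimes.finite_of_isNoetherianRing R
  have hbot : (⊥ : Ideal (MvPolynomial (Fin r) k)).IsPrime := Ideal.isPrime_bot
  have hle : hfin.toFinset.inf (fun q : Ideal R => q.comap φ.toRingHom) ≤ ⊥ := by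
    intro h hh
    have hmem : φ h ∈ nilradical R := by
      show φ h ∈ (⊥ : Ideal R).radical
      rw [← Ideal.sInf_minimalPrimes, Ideal.mem_sInf]
      intro q hq
      exact (Finset.inf_le (f := fun q : Ideal R => q.comap φ.toRingHom)
        (hfin.mem_toFinset.mpr hq)) hh
    obtain ⟨n, hn⟩ := mem_nilradical.mp hmem
    have h0 : h ^ n = 0 := hinj _ (by rw [map_pow]; exact hn)
    exact (Ideal.mem_bot).mpr (IsReduced.eq_zero _ ⟨n, h0⟩)
  obtain ⟨q, hq, hqle⟩ := (hbot.inf_le').mp hle
  have hqmin : q ∈ minimalPrimes R := hfin.mem_toFinset.mp hq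
  haveI : q.IsPrime := hqmin.1.1
  let ψ : MvPolynomial (Fin r) k →ₐ[k] R ⧸ q := (Ideal.Quotient.mkₐ k q).comp φ
  have hψ : Function.Injective ψ := by
    rw [injective_iff_map_eq_zero]
    intro h hh
    have : φ h ∈ q := Ideal.Quotient.eq_zero_iff_mem.mp hh
    exact (Ideal.mem_bot).mp (hqle this)
  haveI : Algebra.FiniteType k (R ⧸ q) :=
    Algebra.FiniteType.of_surjective (Ideal.Quotient.mkₐ k q) (Ideal.Quotient.mkₐ_surjective k q)
  obtain ⟨d, hd⟩ := Groth.Agent.Lib.Helper73.exists_nat_ringKrullDim_eq k (R ⧸ q)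
  have htr := Groth.Agent.Lib.Helper73.trdeg_eq_of_ringKrullDim_eq k (A := R ⧸ q)
    (FractionRing (R ⧸ q)) d hd
  have hai : AlgebraicIndependent k
      (fun i : Fin r => algebraMap (R ⧸ q) (FractionRing (R ⧸ q)) (ψ (MvPolynomial.X i))) := by
    rw [algebraicIndependent_iff_injective_aeval]
    have : MvPolynomial.aeval
        (fun i : Fin r => algebraMap (R ⧸ q) (FractionRing (R ⧸ q)) (ψ (MvPolynomial.X i))) =
        (IsScalarTower.toAlgHom k (R ⧸ q) (FractionRing (R ⧸ q))).comp ψ := by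
      apply MvPolynomial.algHom_ext
      intro i
      simp
    rw [this]
    exact (IsFractionRing.injective (R ⧸ q) (FractionRing (R ⧸ q))).comp hψ
  have hcard := hai.lift_cardinalMk_le_trdeg
  rw [htr] at hcard
  have hrd : r ≤ d := by
    simpa using hcard
  have h1 : ((r : ℕ) : WithBot ℕ∞) ≤ ringKrullDim (R ⧸ q) := by
    rw [hd]; exact_mod_cast hrd
  exact absurd (lt_of_le_of_lt (h1.trans (ringKrullDim_quotient_le q)) hdim) (lt_irrefl _)

end Groth.Agent.Lib.Helper71.MovDK
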