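import Mathlib
import Groth.Agent.Lib.Helper57.EtRes2
import Groth.Agent.Lib.Helper71.NeronUnqQSR

/-!
# Étale quasi-sections of a smooth morphism through a point with finite separable residue extension
-/

set_option autoImplicit false
set_option linter.style.haveILetI false
universe u
open CategoryTheory CategoryTheory.Limits AlgebraicGeometry

namespace Groth.Agent.Lib.Helper71.NeronUnqQS

open Groth.Agent.Lib.Helper57.EtRes

theorem resMap_congr_hom {U' U : Scheme.{u}} {m₁ m₂ : U' ⟶ U} (hm : m₁ = m₂) {u' : U'} {v : U}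
    (h1 : m₁ u' = v) (h2 : m₂ u' = v) : resMap m₁ h1 = resMap m₂ h2 := by
  subst hm; rfl

/-- transport of the residue field map to the affine charts -/
theorem exists_equivs {X S : Scheme.{u}} (f : X ⟶ S) (x : X) (U : S.Opens) (hU : IsAffineOpen U)
    (V : X.Opens) (hV : IsAffineOpen V) (e : V ≤ f ⁻¹ᵁ U) (hxV : x ∈ V)
    (h : (hU.primeIdealOf ⟨f x, e hxV⟩).asIdeal =
      (hV.primeIdealOf ⟨x, hxV⟩).asIdeal.comap (f.appLE U V e).hom) :
    ∃ (e₁ : S.residueField (f x) ≃+* (hU.primeIdealOf ⟨f x, e hxV⟩).asIdeal.ResidueField)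
      (e₂ : X.residueField x ≃+* (hV.primeIdealOf ⟨x, hxV⟩).asIdeal.ResidueField),
      (Ideal.ResidueField.map _ _ (f.appLE U V e).hom h).comp (e₁ : _ →+* _) =
        (e₂ : _ →+* _).comp (f.residueFieldMap x).hom := by
  let p : ↥(Spec Γ(S, U)) := hU.primeIdealOf ⟨f x, e hxV⟩
  let P : ↥(Spec Γ(X, V)) := hV.primeIdealOf ⟨x, hxV⟩
  have hjU : hU.fromSpec p = f x := hU.fromSpec_primeIdealOf ⟨f x, e hxV⟩
  have hjV : hV.fromSpec P = x := hV.fromSpec_primeIdealOf ⟨x, hxV⟩
  have hφ : Spec.map (f.appLE U V e) P = p :=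
    IsAffineOpen.comap_primeIdealOf_appLE U hU V hV e hxV
  have sq : Spec.map (f.appLE U V e) ≫ hU.fromSpec = hV.fromSpec ≫ f :=
    IsAffineOpen.SpecMap_appLE_fromSpec f hU hV e
  have h1 : (hV.fromSpec ≫ f) P = f x :=
    (Scheme.Hom.comp_apply hV.fromSpec f P).trans (congrArg (fun y => f y) hjV)
  have h2 : (Spec.map (f.appLE U V e) ≫ hU.fromSpec) P = f x :=
    (Scheme.Hom.comp_apply (Spec.map (f.appLE U V e)) hU.fromSpec P).trans
      ((congrArg (fun y => hU.fromSpec y) hφ).trans hjU)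
  have c1 : resMap (hV.fromSpec ≫ f) h1 = resMap f (rfl : f x = f x) ≫ resMap hV.fromSpec hjV :=
    resMap_comp hV.fromSpec f hjV rfl h1
  have c2 : resMap (Spec.map (f.appLE U V e) ≫ hU.fromSpec) h2 =
      resMap hU.fromSpec hjU ≫ resMap (Spec.map (f.appLE U V e)) hφ :=
    resMap_comp (Spec.map (f.appLE U V e)) hU.fromSpec hφ hjU h2
  have c3 := resMap_SpecMap (f.appLE U V e) P p hφ h
  have c4 : resMap (hV.fromSpec ≫ f) h1 = resMap (Spec.map (f.appLE U V e) ≫ hU.fromSpec) h2 :=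
    resMap_congr_hom sq.symm h1 h2
  let α : S.residueField (f x) ≅ CommRingCat.of p.asIdeal.ResidueField :=
    asIso (resMap hU.fromSpec hjU) ≪≫ Scheme.Spec.residueFieldIso _ p
  let β : X.residueField x ≅ CommRingCat.of P.asIdeal.ResidueField :=
    asIso (resMap hV.fromSpec hjV) ≪≫ Scheme.Spec.residueFieldIso _ P
  have key : α.hom ≫ CommRingCat.ofHom (Ideal.ResidueField.map p.asIdeal P.asIdeal
      (f.appLE U V e).hom h) = f.residueFieldMap x ≫ β.hom := by
    simp only [α, β, Iso.trans_hom, asIso_hom, Category.assoc]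
    rw [← c3, ← Category.assoc, ← c2, ← c4, c1, resMap_rfl, Category.assoc]
  refine ⟨α.commRingCatIsoToRingEquiv, β.commRingCatIsoToRingEquiv, ?_⟩
  ext t
  have := congrArg (fun φ => φ.hom t) key
  exact this

theorem exists_etale_section_through {X S : Scheme.{u}} (f : X ⟶ S) [Smooth f] (x : X)
    (hfin : (f.residueFieldMap x).hom.Finite)
    (hsep : letI := (f.residueFieldMap x).hom.toAlgebra
      Algebra.IsSeparable (S.residueField (f x)) (X.residueField x)) :
    ∃ (S' : Scheme.{u}) (g : S' ⟶ S) (s' : S'), Etale g ∧ ∃ h : S' ⟶ X, h ≫ f = g ∧ h s' = x := by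
  obtain ⟨U, hU, V, hV, hxV, e, hf⟩ := Smooth.exists_isStandardSmooth f x
  obtain ⟨n, g, hgC, hg⟩ := hf.exists_etale_mvPolynomial
  algebraize [(f.appLE U V e).hom]
  let gA : MvPolynomial (Fin n) Γ(S, U) →ₐ[Γ(S, U)] Γ(X, V) :=
    { g with commutes' := fun r => congr($hgC r) }
  let p : PrimeSpectrum Γ(S, U) := hU.primeIdealOf ⟨f x, e hxV⟩
  let P : PrimeSpectrum Γ(X, V) := hV.primeIdealOf ⟨x, hxV⟩
  have hcomap : P.comap (f.appLE U V e).hom = p :=
    IsAffineOpen.comap_primeIdealOf_appLE U hU V hV e hxV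
  have h : p.asIdeal = P.asIdeal.comap (f.appLE U V e).hom := by
    rw [← hcomap]; rfl
  obtain ⟨e₁, e₂, he⟩ := exists_equivs f x U hU V hV e hxV h
  let ρ : p.asIdeal.ResidueField →+* P.asIdeal.ResidueField :=
    Ideal.ResidueField.map p.asIdeal P.asIdeal (f.appLE U V e).hom h
  letI algSX : Algebra (S.residueField (f x)) (X.residueField x) :=
    (f.residueFieldMap x).hom.toAlgebra
  letI algρ : Algebra p.asIdeal.ResidueField P.asIdeal.ResidueField := ρ.toAlgebra
  haveI : Module.Finite (S.residueField (f x)) (X.residueField x) := hfin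
  haveI : Algebra.IsSeparable (S.residueField (f x)) (X.residueField x) := hsep
  have he' : RingHom.comp (algebraMap p.asIdeal.ResidueField P.asIdeal.ResidueField)
      (e₁ : _ →+* _) = RingHom.comp (e₂ : _ →+* _)
        (algebraMap (S.residueField (f x)) (X.residueField x)) := he
  haveI : Module.Finite p.asIdeal.ResidueField P.asIdeal.ResidueField :=
    Module.Finite.of_equiv_equiv e₁ e₂ he'
  haveI : Algebra.IsSeparable p.asIdeal.ResidueField P.asIdeal.ResidueField :=
    Algebra.IsSeparable.of_equiv_equiv e₁ e₂ he'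
  obtain ⟨R₂, _, _, hE, 𝔮₂, _, σ, h1, h2⟩ :=
    Groth.Agent.Lib.Helper71.NeronUnqQSR.exists_etale_section_data_through n gA p.asIdeal
      P.asIdeal.ResidueField (algebraMap Γ(X, V) P.asIdeal.ResidueField)
      (fun r => (Ideal.ResidueField.map_algebraMap p.asIdeal P.asIdeal
        (f.appLE U V e).hom h r).symm)
  have hker : RingHom.ker (algebraMap Γ(X, V) P.asIdeal.ResidueField) = P.asIdeal :=
    Ideal.ker_algebraMap_residueField _
  rw [hker] at h2
  -- the schemes
  let a : Spec Γ(X, V) ⟶ Spec (.of (MvPolynomial (Fin n) Γ(S, U))) :=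
    Spec.map (CommRingCat.ofHom g)
  let bσ : Spec (.of R₂) ⟶ Spec (.of (MvPolynomial (Fin n) Γ(S, U))) :=
    Spec.map (CommRingCat.ofHom σ.toRingHom)
  let c : Spec (.of R₂) ⟶ Spec Γ(S, U) := Spec.map (CommRingCat.ofHom (algebraMap Γ(S, U) R₂))
  have ha : Etale a := HasRingHomProperty.Spec_iff.mpr hg
  have hc : Etale c := HasRingHomProperty.Spec_iff.mpr (RingHom.etale_algebraMap.mpr hE)
  let gfin : pullback a bσ ⟶ S := pullback.snd a bσ ≫ c ≫ hU.fromSpec
  let hfin' : pullback a bσ ⟶ X := pullback.fst a bσ ≫ hV.fromSpec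
  have hpt : a P = bσ ⟨𝔮₂, inferInstance⟩ := PrimeSpectrum.ext h2
  obtain ⟨z, hz1, hz2⟩ := Scheme.Pullback.exists_preimage_pullback (f := a) (g := bσ)
    P ⟨𝔮₂, inferInstance⟩ hpt
  refine ⟨pullback a bσ, gfin, z, inferInstance, hfin', ?_, ?_⟩
  · change (pullback.fst a bσ ≫ hV.fromSpec) ≫ f = pullback.snd a bσ ≫ c ≫ hU.fromSpec
    rw [Category.assoc, ← IsAffineOpen.SpecMap_appLE_fromSpec f hU hV e]
    have hfac : Spec.map (f.appLE U V e) =
        a ≫ Spec.map (CommRingCat.ofHom (MvPolynomial.C : Γ(S, U) →+* _)) := by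
      rw [← Spec.map_comp]
      congr 1
      ext r
      exact congr($hgC r).symm
    have hfac2 : c = bσ ≫ Spec.map (CommRingCat.ofHom (MvPolynomial.C : Γ(S, U) →+* _)) := by
      change Spec.map _ = Spec.map _ ≫ Spec.map _
      rw [← Spec.map_comp]
      congr 1
      ext r
      exact (σ.commutes r).symm
    rw [hfac, hfac2, Category.assoc, Category.assoc, pullback.condition_assoc]
  · change hV.fromSpec (pullback.fst a bσ z) = x
    rw [hz1]
    exact hV.fromSpec_primeIdealOf ⟨x, hxV⟩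

end Groth.Agent.Lib.Helper71.NeronUnqQS
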