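import Groth.Prelude
import Groth.Agent.Lib.Helper78.NeutralCons
set_option autoImplicit false
universe u
open CategoryTheory CategoryTheory.Limits AlgebraicGeometry
open MonoidalCategory CartesianMonoidalCategory MonObj GrpObj

namespace Groth.Agent.Lib.Helper71.NeutRepQC

open Groth.Agent.Lib.Helper78.NeutralCons

/-- constructible subsets of a compact space are compact (as in helper40 `Nis`). -/
theorem isCompact_of_isConstructible {X : Type*} [TopologicalSpace X] [CompactSpace X] {s : Set X}
    (hs : Topology.IsConstructible s) : IsCompact s := by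
  induction s, hs using BooleanSubalgebra.closure_sdiff_sup_induction with
  | isSublattice => exact ⟨fun s hs t ht ↦ ⟨hs.1.union ht.1, hs.2.union ht.2⟩,
      fun s hs t ht ↦ ⟨hs.1.inter ht.1, hs.2.inter_isOpen ht.2 ht.1⟩⟩
  | bot_mem => exact ⟨isOpen_empty, .empty⟩
  | top_mem => exact ⟨isOpen_univ, .univ⟩
  | sdiff U hU V hV => exact hU.2.isCompact.diff hV.1
  | sup s _ t _ hs' ht' => exact hs'.union ht'

/-- [QC] the neutral component (if open) is quasi-compact over the base. -/
theorem quasiCompact_neutral {S : Scheme.{u}} (G : Over S) [GrpObj G]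
    [LocallyOfFinitePresentation G.hom] (U0 : G.left.Opens)
    (hU0 : (U0 : Set G.left) = SGA3x.neutralSet G) : QuasiCompact (U0.ι ≫ G.hom) := by
  have hloc := fun s : S => exists_affine_nbhd_section G.hom (unitSec G) (unitSec_hom G) s
  choose V U hV hU hsV hUV hVU using hloc
  have hsup : ⨆ s, V s = ⊤ := by
    rw [eq_top_iff]
    intro s _
    exact TopologicalSpace.Opens.mem_iSup.mpr ⟨s, hsV s⟩
  rw [IsZariskiLocalAtTarget.iff_of_iSup_eq_top (P := @QuasiCompact) V hsup]
  intro s
  haveI : IsAffine (V s).toScheme := hV s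
  rw [HasAffineProperty.iff_of_isAffine (P := @QuasiCompact)]
  change CompactSpace (((U0.ι ≫ G.hom) ⁻¹ᵁ V s : U0.toScheme.Opens) : Set U0.toScheme)
  rw [← isCompact_iff_compactSpace]
  obtain ⟨P, hP, m, hm, T₂, hT₂, himg, hrange⟩ :=
    exists_local_package G (V s) (U s) (hV s) (hU s) (hUV s) (hVU s)
  have hcT : IsCompact T₂ := isCompact_of_isConstructible hT₂
  have hcI : IsCompact (m '' T₂) := hcT.image m.continuous
  rw [U0.ι.isOpenEmbedding.isEmbedding.isCompact_iff]
  convert hcI using 1
  rw [himg, ← hU0]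
  ext x
  constructor
  · rintro ⟨y, hy, rfl⟩
    exact ⟨y.2, hy⟩
  · rintro ⟨hx1, hx2⟩
    exact ⟨⟨x, hx1⟩, hx2, rfl⟩

end Groth.Agent.Lib.Helper71.NeutRepQC
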