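import Mathlib

set_option autoImplicit false
universe u

namespace Helper71.NodeFix

--BEGIN1
section Abstract

variable {A : Type u} [CommRing A]

/-- the diagonal map `A/(J₁ ⊓ J₂) → A/J₁ × A/J₂` -/
noncomputable def diagMap (J₁ J₂ : Ideal A) : (A ⧸ (J₁ ⊓ J₂)) →ₗ[A] (A ⧸ J₁) × (A ⧸ J₂) :=
  Submodule.liftQ (J₁ ⊓ J₂) (LinearMap.prod (Submodule.mkQ J₁) (Submodule.mkQ J₂)) (by
    intro x hx
    rw [LinearMap.mem_ker, LinearMap.prod_apply]
    change (Submodule.mkQ J₁ x, Submodule.mkQ J₂ x) = 0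
    rw [Prod.mk_eq_zero]
    exact ⟨(Submodule.Quotient.mk_eq_zero J₁).mpr hx.1, (Submodule.Quotient.mk_eq_zero J₂).mpr hx.2⟩)

/-- the difference map `A/J₁ × A/J₂ → A/(J₁ ⊔ J₂)` -/
noncomputable def diffMap (J₁ J₂ : Ideal A) : (A ⧸ J₁) × (A ⧸ J₂) →ₗ[A] (A ⧸ (J₁ ⊔ J₂)) :=
  LinearMap.coprod (Submodule.factor (le_sup_left : J₁ ≤ J₁ ⊔ J₂))
    (-(Submodule.factor (le_sup_right : J₂ ≤ J₁ ⊔ J₂)))

theorem diagMap_mk (J₁ J₂ : Ideal A) (x : A) :
    diagMap J₁ J₂ (Submodule.Quotient.mk x) = (Submodule.Quotient.mk x, Submodule.Quotient.mk x) :=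
  rfl

theorem diffMap_mk (J₁ J₂ : Ideal A) (x y : A) :
    diffMap J₁ J₂ (Submodule.Quotient.mk x, Submodule.Quotient.mk y) =
      Submodule.Quotient.mk (x - y) := by
  unfold diffMap
  rw [LinearMap.coprod_apply, LinearMap.neg_apply]
  have h1 : Submodule.factor (le_sup_left : J₁ ≤ J₁ ⊔ J₂) (Submodule.Quotient.mk x) =
      Submodule.Quotient.mk x := Submodule.factor_mk _ x
  have h2 : Submodule.factor (le_sup_right : J₂ ≤ J₁ ⊔ J₂) (Submodule.Quotient.mk y) =
      Submodule.Quotient.mk y := Submodule.factor_mk _ y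
  rw [h1, h2, ← sub_eq_add_neg, ← Submodule.Quotient.mk_sub]

theorem length_inf_sup (J₁ J₂ : Ideal A) :
    Module.length A (A ⧸ J₁) + Module.length A (A ⧸ J₂) =
      Module.length A (A ⧸ (J₁ ⊓ J₂)) + Module.length A (A ⧸ (J₁ ⊔ J₂)) := by
  rw [← Module.length_prod]
  apply Module.length_eq_add_of_exact (diagMap J₁ J₂) (diffMap J₁ J₂)
  · -- injective
    rw [injective_iff_map_eq_zero]
    intro z hz
    obtain ⟨x, rfl⟩ := Submodule.Quotient.mk_surjective _ z
    rw [diagMap_mk, Prod.mk_eq_zero] at hz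
    rw [Submodule.Quotient.mk_eq_zero]
    exact ⟨(Submodule.Quotient.mk_eq_zero J₁).mp hz.1, (Submodule.Quotient.mk_eq_zero J₂).mp hz.2⟩
  · -- surjective
    intro z
    obtain ⟨x, rfl⟩ := Submodule.Quotient.mk_surjective _ z
    refine ⟨(Submodule.Quotient.mk x, Submodule.Quotient.mk 0), ?_⟩
    rw [diffMap_mk, sub_zero]
  · -- exact
    intro p
    obtain ⟨p1, p2⟩ := p
    obtain ⟨x, rfl⟩ := Submodule.Quotient.mk_surjective _ p1
    obtain ⟨y, rfl⟩ := Submodule.Quotient.mk_surjective _ p2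
    rw [diffMap_mk, Submodule.Quotient.mk_eq_zero]
    constructor
    · intro h
      obtain ⟨j₁, hj₁, j₂, hj₂, hj⟩ := Submodule.mem_sup.mp h
      refine ⟨Submodule.Quotient.mk (x - j₁), ?_⟩
      rw [diagMap_mk, Prod.mk.injEq]
      constructor
      · rw [Submodule.Quotient.eq]
        have : x - j₁ - x = -j₁ := by ring
        rw [this]
        exact J₁.neg_mem hj₁
      · rw [Submodule.Quotient.eq]
        have : x - j₁ - y = j₂ := by linear_combination -hj
        rw [this]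
        exact hj₂
    · rintro ⟨z, hz⟩
      obtain ⟨w, rfl⟩ := Submodule.Quotient.mk_surjective _ z
      rw [diagMap_mk, Prod.mk.injEq, Submodule.Quotient.eq, Submodule.Quotient.eq] at hz
      have : x - y = -(w - x) + (w - y) := by ring
      rw [this]
      exact Submodule.add_mem_sup (J₁.neg_mem hz.1) hz.2

end Abstract
--END1

--BEGIN2
section Abstract2

variable {A : Type u} [CommRing A]

theorem abstract_main {K : Type*} [CommRing K] (ι : K →+* A) (t e : A) (σ : A →+* A)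
    (H1 : ∀ r : A, ∃ (c : K) (a b : A), r = ι c + t * a + e * b)
    (H2 : Ideal.span {t} ⊓ Ideal.span {e} = (⊥ : Ideal A))
    (H3 : (Ideal.span {t, e} : Ideal A).IsMaximal)
    (hι : ∀ c, σ (ι c) = ι c) (ht : σ t ∈ Ideal.span {t}) (he : σ e ∈ Ideal.span {e}) :
    Module.length A (A ⧸ Ideal.span (Set.range fun r : A => σ r - r)) + 1 =
      Module.length A (A ⧸ (Ideal.span (Set.range fun r : A => σ r - r) ⊔ Ideal.span {t})) +
      Module.length A (A ⧸ (Ideal.span (Set.range fun r : A => σ r - r) ⊔ Ideal.span {e})) := by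
  obtain ⟨I, hIdef⟩ : ∃ I : Ideal A, I = Ideal.span (Set.range fun r : A => σ r - r) := ⟨_, rfl⟩
  rw [← hIdef]
  have hmemI : ∀ r, σ r - r ∈ I := by
    intro r
    rw [hIdef]
    exact Ideal.subset_span ⟨r, rfl⟩
  obtain ⟨x, hx⟩ := Ideal.mem_span_singleton'.mp ht
  obtain ⟨y, hy⟩ := Ideal.mem_span_singleton'.mp he
  have hgt : ∀ a, σ (t * a) - t * a ∈ I ⊓ Ideal.span {t} := by
    intro a
    refine ⟨hmemI _, ?_⟩
    rw [map_mul, ← hx]
    apply Ideal.mem_span_singleton'.mpr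
    exact ⟨x * σ a - a, by ring⟩
  have hge : ∀ b, σ (e * b) - e * b ∈ I ⊓ Ideal.span {e} := by
    intro b
    refine ⟨hmemI _, ?_⟩
    rw [map_mul, ← hy]
    apply Ideal.mem_span_singleton'.mpr
    exact ⟨y * σ b - b, by ring⟩
  have hI : I ≤ (I ⊓ Ideal.span {t}) ⊔ (I ⊓ Ideal.span {e}) := by
    rw [hIdef, Ideal.span_le]
    rintro _ ⟨r, rfl⟩
    obtain ⟨c, a, b, hr⟩ := H1 r
    have h1 : σ r - r = (σ (t * a) - t * a) + (σ (e * b) - e * b) := by
      rw [hr, map_add, map_add, hι]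
      ring
    change σ r - r ∈ _
    rw [h1, ← hIdef]
    exact Submodule.add_mem_sup (hgt a) (hge b)
  have hte : (Ideal.span {t, e} : Ideal A) = Ideal.span {t} ⊔ Ideal.span {e} := Ideal.span_insert t {e}
  have hIm : I ≤ Ideal.span {t, e} := by
    rw [hte]
    exact hI.trans (sup_le_sup inf_le_right inf_le_right)
  have hinf : (I ⊔ Ideal.span {t}) ⊓ (I ⊔ Ideal.span {e}) = I := by
    apply le_antisymm
    · rintro z ⟨hz1, hz2⟩
      obtain ⟨i₁, hi₁, u₁, hu₁, rfl⟩ := Submodule.mem_sup.mp hz1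
      obtain ⟨i₂, hi₂, u₂, hu₂, h2⟩ := Submodule.mem_sup.mp hz2
      have hd : i₂ - i₁ ∈ I := I.sub_mem hi₂ hi₁
      obtain ⟨v₁, hv₁, v₂, hv₂, hv⟩ := Submodule.mem_sup.mp (hI hd)
      have h3 : u₁ - v₁ = u₂ + v₂ := by linear_combination -h2 - hv
      have h4 : u₁ - v₁ ∈ Ideal.span {t} ⊓ Ideal.span {e} := by
        refine ⟨(Ideal.span {t}).sub_mem hu₁ hv₁.2, ?_⟩
        rw [h3]
        exact (Ideal.span {e}).add_mem hu₂ hv₂.2
      rw [H2, Ideal.mem_bot, sub_eq_zero] at h4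
      rw [h4]
      exact I.add_mem hi₁ hv₁.1
    · exact le_inf le_sup_left le_sup_left
  have hsup : (I ⊔ Ideal.span {t}) ⊔ (I ⊔ Ideal.span {e}) = Ideal.span {t, e} := by
    apply le_antisymm
    · rw [hte]
      refine sup_le (sup_le (hIm.trans hte.le) le_sup_left) (sup_le (hIm.trans hte.le) le_sup_right)
    · rw [hte]
      exact sup_le (le_sup_of_le_left le_sup_right) (le_sup_of_le_right le_sup_right)
  have hone : Module.length A (A ⧸ (Ideal.span {t, e} : Ideal A)) = 1 := by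
    rw [Module.length_eq_one_iff, isSimpleModule_iff_isCoatom, ← Ideal.isMaximal_def]
    exact H3
  have h := length_inf_sup (I ⊔ Ideal.span {t}) (I ⊔ Ideal.span {e})
  rw [hinf, hsup, hone] at h
  exact h.symm

end Abstract2
--END2

section PS

open MvPowerSeries

variable {k : Type u} [Field k]

local notation "P" => MvPowerSeries (Fin 2) k

theorem fin2_eq_zero {m : Fin 2 →₀ ℕ} (h0 : m 0 = 0) (h1 : m 1 = 0) : m = 0 := by
  ext i
  fin_cases i
  · exact h0
  · exact h1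

/-- every power series is a constant plus a combination of the variables -/
theorem ps_decomp (f : P) : ∃ a b : P, f = C (constantCoeff f) + X 0 * a + X 1 * b := by
  classical
  obtain ⟨g, hg⟩ : ∃ g : P, ∀ m, coeff m g = if m 0 = 0 then coeff m f else 0 :=
    ⟨fun m => if m 0 = 0 then coeff m f else 0, fun m => rfl⟩
  have h1 : (X 0 : P) ∣ f - g := by
    rw [X_dvd_iff]
    intro m hm
    rw [map_sub, hg, if_pos hm, sub_self]
  have h2 : (X 1 : P) ∣ g - C (constantCoeff f) := by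
    rw [X_dvd_iff]
    intro m hm
    rw [map_sub, hg, coeff_C]
    by_cases h0 : m 0 = 0
    · have hm0 := fin2_eq_zero h0 hm
      rw [if_pos h0, if_pos hm0, hm0, coeff_zero_eq_constantCoeff_apply, sub_self]
    · have hm0 : m ≠ 0 := by
        intro h
        apply h0
        rw [h]
        rfl
      rw [if_neg h0, if_neg hm0, sub_self]
  obtain ⟨a, ha⟩ := h1
  obtain ⟨b, hb⟩ := h2
  refine ⟨a, b, ?_⟩
  linear_combination ha + hb

theorem X1_dvd_of_dvd_X0_mul {w : P} (h : (X 1 : P) ∣ X 0 * w) : (X 1 : P) ∣ w := by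
  rw [X_dvd_iff] at h ⊢
  intro m hm
  have h1 := h (Finsupp.single 0 1 + m) (by simp [hm])
  rw [X_def, coeff_add_monomial_mul, one_mul] at h1
  exact h1

end PS

section PS2

open MvPowerSeries

variable {k : Type u} [Field k] {A : Type u} [CommRing A]

local notation "P" => MvPowerSeries (Fin 2) k

theorem node_H1 (π : P →+* A) (hπ : Function.Surjective π) (r : A) :
    ∃ (c : k) (a b : A), r = (π.comp C) c + π (X 0) * a + π (X 1) * b := by
  obtain ⟨f, rfl⟩ := hπ r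
  obtain ⟨a, b, hf⟩ := ps_decomp f
  refine ⟨constantCoeff f, π a, π b, ?_⟩
  rw [RingHom.comp_apply, ← map_mul, ← map_mul, ← map_add, ← map_add, ← hf]

theorem node_H2 (π : P →+* A) (hπ : Function.Surjective π)
    (hker : ∀ x : P, π x = 0 ↔ (X 0 * X 1 : P) ∣ x) :
    Ideal.span {π (X 0)} ⊓ Ideal.span {π (X 1)} = (⊥ : Ideal A) := by
  rw [eq_bot_iff]
  rintro z ⟨hz1, hz2⟩
  obtain ⟨x', hx'⟩ := Ideal.mem_span_singleton'.mp hz1
  obtain ⟨y', hy'⟩ := Ideal.mem_span_singleton'.mp hz2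
  obtain ⟨x, rfl⟩ := hπ x'
  obtain ⟨y, rfl⟩ := hπ y'
  have h1 : π (x * X 0 - y * X 1) = 0 := by
    rw [map_sub, map_mul, map_mul, hx', hy', sub_self]
  obtain ⟨c, hc⟩ := (hker _).mp h1
  have h2 : (X 0 : P) * (x - X 1 * c) = X 1 * y := by linear_combination hc
  have h3 : (X 1 : P) ∣ x - X 1 * c := X1_dvd_of_dvd_X0_mul ⟨y, h2⟩
  obtain ⟨d, hd⟩ := h3
  have h4 : x * X 0 = X 0 * X 1 * (c + d) := by linear_combination (X 0 : P) * hd
  rw [Ideal.mem_bot, ← hx', ← map_mul, hker]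
  exact ⟨c + d, h4⟩

theorem node_H3 (π : P →+* A) (hπ : Function.Surjective π)
    (hker : ∀ x : P, π x = 0 ↔ (X 0 * X 1 : P) ∣ x) :
    (Ideal.span {π (X 0), π (X 1)} : Ideal A).IsMaximal := by
  rw [Ideal.isMaximal_iff]
  constructor
  · intro h1
    rw [Ideal.mem_span_pair] at h1
    obtain ⟨a', b', hab⟩ := h1
    obtain ⟨a, rfl⟩ := hπ a'
    obtain ⟨b, rfl⟩ := hπ b'
    have h2 : π (a * X 0 + b * X 1 - 1) = 0 := by
      rw [map_sub, map_add, map_mul, map_mul, hab, map_one, sub_self]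
    obtain ⟨c, hc⟩ := (hker _).mp h2
    have h3 := congrArg (constantCoeff (σ := Fin 2) (R := k)) hc
    simp at h3
  · intro J x hle hxM hxJ
    obtain ⟨c, a, b, hx⟩ := node_H1 π hπ x
    have hc : c ≠ 0 := by
      intro h0
      apply hxM
      rw [hx, h0, map_zero, zero_add, Ideal.mem_span_pair]
      exact ⟨a, b, by ring⟩
    have htJ : π (X 0) ∈ J := hle (Ideal.subset_span (by simp))
    have heJ : π (X 1) ∈ J := hle (Ideal.subset_span (by simp))
    have hcJ : (π.comp C) c ∈ J := by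
      have : (π.comp C) c = x - π (X 0) * a - π (X 1) * b := by rw [hx]; ring
      rw [this]
      exact J.sub_mem (J.sub_mem hxJ (J.mul_mem_right _ htJ)) (J.mul_mem_right _ heJ)
    have h1 : (1 : A) = (π.comp C) c⁻¹ * (π.comp C) c := by
      rw [← map_mul, inv_mul_cancel₀ hc, map_one]
    rw [h1]
    exact J.mul_mem_left _ hcJ

theorem node_main (π : P →+* A) (hπ : Function.Surjective π)
    (hker : ∀ x : P, π x = 0 ↔ (X 0 * X 1 : P) ∣ x) (σ : A →+* A)
    (hι : ∀ c : k, σ (π (C c)) = π (C c))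
    (ht : σ (π (X 0)) ∈ Ideal.span {π (X 0)}) (he : σ (π (X 1)) ∈ Ideal.span {π (X 1)}) :
    Module.length A (A ⧸ Ideal.span (Set.range fun r : A => σ r - r)) + 1 =
      Module.length A (A ⧸ (Ideal.span (Set.range fun r : A => σ r - r) ⊔ Ideal.span {π (X 0)})) +
      Module.length A (A ⧸ (Ideal.span (Set.range fun r : A => σ r - r) ⊔ Ideal.span {π (X 1)})) :=
  abstract_main (π.comp C) (π (X 0)) (π (X 1)) σ (node_H1 π hπ) (node_H2 π hπ hker)
    (node_H3 π hπ hker) hι ht he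

end PS2

end Helper71.NodeFix
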