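import Mathlib
import Groth.Prelude.Def_W4bk4grossh111Obs
import Groth.Agent.Lib.Helper85.ObsHull
import Groth.Agent.Lib.Helper85.ObsFinset
import Groth.Agent.Lib.Helper19.Grp.AntiAffineRep
import Groth.Agent.Lib.Helper19.Grp.GModMatrix
import Groth.Agent.Lib.Helper19.RatPts.ProdDenseRing
set_option autoImplicit false
set_option linter.style.haveILetI false
universe u
open CategoryTheory CategoryTheory.Limits MonoidalCategory CartesianMonoidalCategory MonObj AlgebraicGeometry Opposite TopologicalSpace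
open scoped TensorProduct
open Groth.Agent.Lib.Helper19.AffinePts Groth.Agent.Lib.Helper19.Kunneth Groth.Agent.Lib.Helper85.ObsHull

namespace Groth.Agent.Lib.Helper71.ObsTfaeT3

variable {k : Type u} [Field k]

/-- evaluation at a point is `k`-linear -/
theorem ev_algebraMap (H : Over (Spec (CommRingCat.of k))) [IsAffine H.left]
    {B : Type u} [CommRing B] [Algebra k B] (x : VecGrp.pt k B ⟶ H) (c : k) :
    letI := algU H ⊤
    ev H x (algebraMap k Γ(H.left, ⊤) c) = algebraMap k B c := by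
  letI := algU H ⊤
  obtain ⟨ψ, hψ⟩ := exists_factor_top H x
  rw [← factor_apply H x ψ hψ]
  exact ψ.commutes c

/-- T3 -/
theorem mem_fixedUnder_of_pts (G H : Over (Spec (CommRingCat.of k))) [GrpObj G] [GrpObj H]
    [IsAffine H.left] (i : H ⟶ G)
    {M : Type u} [AddCommGroup M] [Module k M] (ρ : VecGrp.GMod G M) (v : M)
    (hT1 : ∀ (B : Type u) [CommRing B] [Algebra k B] (x y : B ⊗[k] M),
      (∀ l : M →ₗ[k] k, coef l B x = coef l B y) → x = y)
    (hT2 : ∀ r : Γ(H.left, ⊤), (∀ x : VecGrp.pt k k ⟶ H, ev H x r = 0) → r = 0)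
    (hv : ∀ h : VecGrp.pt k k ⟶ H, ρ.ρ k (h ≫ i) ((1 : k) ⊗ₜ[k] v) = (1 : k) ⊗ₜ[k] v) :
    v ∈ ρ.fixedUnder i := by
  letI := algU H ⊤
  have hU := isAffineOpen_top H.left
  have key : ∀ (l : M →ₗ[k] k) (B : Type u) [CommRing B] [Algebra k B] (x : VecGrp.pt k B ⟶ H),
      coef l B (ρ.ρ B (x ≫ i) ((1 : B) ⊗ₜ[k] v)) =
        ev H x (coef l Γ(H.left, ⊤) (ρ.ρ Γ(H.left, ⊤) (gU H hU ≫ i)
          ((1 : Γ(H.left, ⊤)) ⊗ₜ[k] v))) := by
    intro l B _ _ x
    obtain ⟨ψ, hψ⟩ := exists_factor_top H x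
    have h1 : ρ.ρ B (x ≫ i) ((1 : B) ⊗ₜ[k] v) = VecGrp.Wmap ψ (ρ.ρ Γ(H.left, ⊤)
        (gU H hU ≫ i) ((1 : Γ(H.left, ⊤)) ⊗ₜ[k] v)) := by
      rw [← hψ, ρ.naturality ψ, VecGrp.Wmap_tmul, map_one, Category.assoc]
    rw [h1, coef_Wmap, factor_apply H x ψ hψ]
  have hr : ∀ l : M →ₗ[k] k, coef l Γ(H.left, ⊤) (ρ.ρ Γ(H.left, ⊤) (gU H hU ≫ i)
      ((1 : Γ(H.left, ⊤)) ⊗ₜ[k] v)) - algebraMap k Γ(H.left, ⊤) (l v) = 0 := by
    intro l
    apply hT2
    intro x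
    rw [map_sub, ← key l k x, hv x, coef_tmul, ev_algebraMap H x (l v), sub_eq_zero,
      Algebra.algebraMap_eq_smul_one]
  intro B _ _ h
  apply hT1 B
  intro l
  rw [key l B h, sub_eq_zero.mp (hr l), ev_algebraMap H h (l v), coef_tmul,
    Algebra.algebraMap_eq_smul_one]

end Groth.Agent.Lib.Helper71.ObsTfaeT3
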