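import Mathlib

set_option autoImplicit false
universe u

namespace Helper71.P1Aut

section Abstract

open LaurentPolynomial

--BEGIN1
section Units

variable {L : Type u} [Field L]

local notation "Λ" => LaurentPolynomial L

/-- units of the Laurent polynomial ring over a field are monomials -/
theorem unit_form (θ θ' : Λ) (h : θ * θ' = 1) : ∃ (c : L) (n : ℤ), c ≠ 0 ∧ θ = C c * T n := by
  obtain ⟨n, f, hf⟩ := exists_T_pow θ
  obtain ⟨m, g, hg⟩ := exists_T_pow θ'
  have h1 : Polynomial.toLaurent (f * g) = Polynomial.toLaurent (Polynomial.X ^ (n + m)) := by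
    rw [map_mul, hf, hg, Polynomial.toLaurent_X_pow]
    calc θ * T n * (θ' * T m) = (θ * θ') * (T n * T m) := by ring
      _ = T (n + m) := by rw [h, one_mul, ← T_add]
      _ = T ((n + m : ℕ) : ℤ) := by push_cast; rfl
  have h2 : f * g = Polynomial.X ^ (n + m) := Polynomial.toLaurent_injective h1
  have h3 : f ∣ Polynomial.X ^ (n + m) := ⟨g, h2.symm⟩
  obtain ⟨i, _, hi⟩ := (dvd_prime_pow Polynomial.prime_X _).mp h3
  obtain ⟨u, hu⟩ := hi.symm
  obtain ⟨c, hc, hcu⟩ := Polynomial.isUnit_iff.mp u.isUnit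
  refine ⟨c, (i : ℤ) - n, hc.ne_zero, ?_⟩
  have h4 : θ * T n = T i * C c := by
    rw [← hf, ← hu, map_mul, Polynomial.toLaurent_X_pow, ← hcu, Polynomial.toLaurent_C]
  calc θ = θ * T n * T (-n) := by rw [mul_assoc, ← T_add]; simp
    _ = T i * C c * T (-n) := by rw [h4]
    _ = C c * T (i - n) := by rw [sub_eq_add_neg, T_add]; ring

end Units
--END1

--BEGIN2
/-- abstract data describing the coordinate ring of `P¹ ∖ {q = 0}` -/
structure Data (K L A : Type u) [Field K] [Field L] [Algebra K L] [CommRing A] where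
  a : K
  b : K
  c : K
  α : L
  β : L
  hαβ : α ≠ β
  ha : a ≠ 0
  hb : algebraMap K L b = - algebraMap K L a * (α + β)
  hc : algebraMap K L c = algebraMap K L a * (α * β)
  σ : L →+* L
  σK : ∀ k, σ (algebraMap K L k) = algebraMap K L k
  σα : σ α = β
  σβ : σ β = α
  ι : K →+* A
  Xe : A
  Ye : A
  Ze : A
  rel1 : ι a * Xe + ι b * Ye + ι c * Ze = 1
  rel2 : Xe * Ze = Ye * Ye
  φ : A →+* LaurentPolynomial L
  φinj : Function.Injective φ
  φι : ∀ k, φ (ι k) = C (algebraMap K L k)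
  φT : C (algebraMap K L a) * (φ Xe - 2 * C α * φ Ye + C α ^ 2 * φ Ze) = T 1
  hext : ∀ ψ₁ ψ₂ : A →+* LaurentPolynomial L, (∀ k, ψ₁ (ι k) = ψ₂ (ι k)) → ψ₁ Xe = ψ₂ Xe →
    ψ₁ Ye = ψ₂ Ye → ψ₁ Ze = ψ₂ Ze → ψ₁ = ψ₂

namespace Data

variable {K L A : Type u} [Field K] [Field L] [Algebra K L] [CommRing A] (D : Data K L A)

local notation "Λ" => LaurentPolynomial L

/-- compatibility with the scalars -/
def Compat (ψ : A →+* Λ) : Prop := ∀ k, ψ (D.ι k) = C (algebraMap K L k)

/-- the coordinate `(x - α y)/(x - β y)` -/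
noncomputable def th (ψ : A →+* Λ) : Λ :=
  C (algebraMap K L D.a) * (ψ D.Xe - 2 * C D.α * ψ D.Ye + C D.α ^ 2 * ψ D.Ze)

/-- the coordinate `(x - β y)/(x - α y)` -/
noncomputable def th' (ψ : A →+* Λ) : Λ :=
  C (algebraMap K L D.a) * (ψ D.Xe - 2 * C D.β * ψ D.Ye + C D.β ^ 2 * ψ D.Ze)

omit [Algebra K L] [CommRing A] in
theorem C_inj' {x y : L} (h : (C x : Λ) = C y) : x = y := by
  have := congrArg (fun p : Λ => p.coeff 0) h
  simpa using this

theorem Cb_eq : (C (algebraMap K L D.b) : Λ) = - C (algebraMap K L D.a) * (C D.α + C D.β) := by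
  rw [D.hb]; simp [map_mul, map_add, map_neg]

theorem Cc_eq : (C (algebraMap K L D.c) : Λ) = C (algebraMap K L D.a) * (C D.α * C D.β) := by
  rw [D.hc]; simp [map_mul]

theorem rel1' {ψ : A →+* Λ} (hψ : D.Compat ψ) :
    C (algebraMap K L D.a) * ψ D.Xe + C (algebraMap K L D.b) * ψ D.Ye
      + C (algebraMap K L D.c) * ψ D.Ze = 1 := by
  have h := congrArg ψ D.rel1
  rw [map_add, map_add, map_mul, map_mul, map_mul, hψ, hψ, hψ, map_one] at h
  exact h

theorem rel2' (ψ : A →+* Λ) : ψ D.Xe * ψ D.Ze = ψ D.Ye * ψ D.Ye := by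
  rw [← map_mul, ← map_mul, D.rel2]

theorem th_mul {ψ : A →+* Λ} (hψ : D.Compat ψ) : D.th ψ * D.th' ψ = 1 := by
  have h1 := D.rel1' hψ
  have h2 := D.rel2' ψ
  rw [D.Cb_eq, D.Cc_eq] at h1
  unfold th th'
  linear_combination (C (algebraMap K L D.a) ^ 2 * (C D.α - C D.β) ^ 2) * h2 +
    (C (algebraMap K L D.a) * ψ D.Xe + -C (algebraMap K L D.a) * (C D.α + C D.β) * ψ D.Ye +
      C (algebraMap K L D.a) * (C D.α * C D.β) * ψ D.Ze + 1) * h1

theorem Ca_ne : (C (algebraMap K L D.a) : Λ) ≠ 0 := by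
  intro h
  have h0 : (C (algebraMap K L D.a) : Λ) = C 0 := by rw [h, map_zero]
  have := C_inj' h0
  exact D.ha ((map_eq_zero _).mp this)

theorem CD_ne : (C D.α - C D.β : Λ) ≠ 0 := by
  intro h
  rw [sub_eq_zero] at h
  exact D.hαβ (C_inj' h)

theorem det {ψ₁ ψ₂ : A →+* Λ} (h₁ : D.Compat ψ₁) (h₂ : D.Compat ψ₂) (h : D.th ψ₁ = D.th ψ₂) :
    ψ₁ = ψ₂ := by
  have hm1 := D.th_mul h₁
  have hm2 := D.th_mul h₂
  have h' : D.th' ψ₁ = D.th' ψ₂ := by
    calc D.th' ψ₁ = D.th' ψ₁ * (D.th ψ₂ * D.th' ψ₂) := by rw [hm2, mul_one]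
      _ = (D.th ψ₁ * D.th' ψ₁) * D.th' ψ₂ := by rw [← h]; ring
      _ = D.th' ψ₂ := by rw [hm1, one_mul]
  have r1 := D.rel1' h₁
  have r2 := D.rel1' h₂
  rw [D.Cb_eq, D.Cc_eq] at r1 r2
  unfold th at h
  unfold th' at h'
  have hZ : ψ₁ D.Ze = ψ₂ D.Ze := by
    have : (C (algebraMap K L D.a) * (C D.α - C D.β) ^ 2) * (ψ₁ D.Ze - ψ₂ D.Ze) = 0 := by
      linear_combination h + h' - 2 * r1 + 2 * r2
    rcases mul_eq_zero.mp this with h0 | h0
    · exact absurd h0 (mul_ne_zero D.Ca_ne (pow_ne_zero _ D.CD_ne))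
    · exact sub_eq_zero.mp h0
  have hY : ψ₁ D.Ye = ψ₂ D.Ye := by
    have : (C (algebraMap K L D.a) * (C D.α - C D.β)) * (ψ₁ D.Ye - ψ₂ D.Ye) = 0 := by
      rw [hZ] at h r1
      linear_combination -h + r1 - r2
    rcases mul_eq_zero.mp this with h0 | h0
    · exact absurd h0 (mul_ne_zero D.Ca_ne D.CD_ne)
    · exact sub_eq_zero.mp h0
  have hX : ψ₁ D.Xe = ψ₂ D.Xe := by
    have : C (algebraMap K L D.a) * (ψ₁ D.Xe - ψ₂ D.Xe) = 0 := by
      rw [hZ, hY] at r1
      linear_combination r1 - r2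
    rcases mul_eq_zero.mp this with h0 | h0
    · exact absurd h0 D.Ca_ne
    · exact sub_eq_zero.mp h0
  exact D.hext ψ₁ ψ₂ (fun k => by rw [h₁, h₂]) hX hY hZ

end Data
--END2

--BEGIN3
section Mon

variable {L : Type u} [Field L]

local notation "Λ" => LaurentPolynomial L

theorem mon_inj {c c' : L} {n n' : ℤ} (hc : c ≠ 0) (h : (C c * T n : Λ) = C c' * T n') :
    n = n' ∧ c = c' := by
  rw [← single_eq_C_mul_T, ← single_eq_C_mul_T, AddMonoidAlgebra.single_inj] at h
  rcases h with h | h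
  · exact h
  · exact absurd h.1 hc

/-- the monomial units -/
noncomputable def monU (c : Lˣ) (n : ℤ) : Λˣ where
  val := C (c : L) * T n
  inv := C ((c⁻¹ : Lˣ) : L) * T (-n)
  val_inv := by
    calc (C (c : L) * T n * (C ((c⁻¹ : Lˣ) : L) * T (-n)) : Λ)
        = C ((c : L) * ((c⁻¹ : Lˣ) : L)) * T (n + -n) := by rw [map_mul, T_add]; ring
      _ = 1 := by simp
  inv_val := by
    calc (C ((c⁻¹ : Lˣ) : L) * T (-n) * (C (c : L) * T n) : Λ)
        = C ((c : L) * ((c⁻¹ : Lˣ) : L)) * T (n + -n) := by rw [map_mul, T_add]; ring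
      _ = 1 := by simp

theorem monU_val (c : Lˣ) (n : ℤ) : ((monU c n : Λˣ) : Λ) = C (c : L) * T n := rfl

theorem monU_mul (c c' : Lˣ) (n n' : ℤ) : monU c n * monU c' n' = monU (c * c') (n + n') := by
  apply Units.ext
  rw [Units.val_mul, monU_val, monU_val, monU_val, Units.val_mul, map_mul, T_add]
  ring

/-- the monomial units as a group homomorphism -/
noncomputable def monHom : Lˣ × Multiplicative ℤ →* Λˣ :=
  MonoidHom.mk' (fun p => monU p.1 (Multiplicative.toAdd p.2)) (by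
    intro p q
    rw [monU_mul]
    rfl)

theorem monU_zpow (c : Lˣ) (n k : ℤ) : (monU c n) ^ k = monU (c ^ k) (k * n) := by
  have h := map_zpow (monHom (L := L)) (c, Multiplicative.ofAdd n) k
  have h1 : monHom (L := L) (c, Multiplicative.ofAdd n) = monU c n := rfl
  have h2 : monHom (L := L) ((c, Multiplicative.ofAdd n) ^ k) = monU (c ^ k) (k * n) := by
    change monU _ _ = _
    congr 1
  rw [← h1, ← h, h2]

/-- evaluation at a unit -/
noncomputable def E (u : Λˣ) : Λ →+* Λ := LaurentPolynomial.eval₂ (C : L →+* Λ) u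

theorem E_C (u : Λˣ) (x : L) : E u (C x) = C x := eval₂_C _ _ _

theorem E_T (u : Λˣ) (n : ℤ) : E u (T n) = ((u ^ n : Λˣ) : Λ) := eval₂_T _ _ _

theorem E_T1 (u : Λˣ) : E u (T 1) = (u : Λ) := by rw [E_T, zpow_one]

theorem E_mon (c : Lˣ) (n : ℤ) (x : L) (k : ℤ) :
    E (monU c n) (C x * T k) = C (x * ((c ^ k : Lˣ) : L)) * T (k * n) := by
  rw [map_mul, E_C, E_T, monU_zpow, monU_val, map_mul]
  ring

end Mon
--END3

--BEGIN4
namespace Data

variable {K L A : Type u} [Field K] [Field L] [Algebra K L] [CommRing A] (D : Data K L A)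

local notation "Λ" => LaurentPolynomial L

theorem compat_E_comp {ψ : A →+* Λ} (hψ : D.Compat ψ) (u : Λˣ) : D.Compat ((E u).comp ψ) := by
  intro k
  rw [RingHom.comp_apply, hψ k, E_C]

theorem th_E_comp (ψ : A →+* Λ) (u : Λˣ) : D.th ((E u).comp ψ) = E u (D.th ψ) := by
  unfold th
  simp only [RingHom.comp_apply, map_mul, map_sub, map_add, map_pow, E_C, map_ofNat]

theorem th'_E_comp (ψ : A →+* Λ) (u : Λˣ) : D.th' ((E u).comp ψ) = E u (D.th' ψ) := by
  unfold th'
  simp only [RingHom.comp_apply, map_mul, map_sub, map_add, map_pow, E_C, map_ofNat]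

theorem compat_φ : D.Compat D.φ := D.φι

theorem th_φ : D.th D.φ = T 1 := D.φT

theorem th'_φ : D.th' D.φ = T (-1) := by
  have h := D.th_mul D.compat_φ
  rw [D.th_φ] at h
  calc D.th' D.φ = T (-1) * (T 1 * D.th' D.φ) := by
        rw [← mul_assoc, ← T_add]; simp
    _ = T (-1) := by rw [h, mul_one]

/-- automorphisms fixing the scalars -/
def Fix (g : A ≃+* A) : Prop := ∀ k, g (D.ι k) = D.ι k

theorem fix_one : D.Fix 1 := fun _ => rfl

theorem fix_mul {g h : A ≃+* A} (hg : D.Fix g) (hh : D.Fix h) : D.Fix (g * h) := by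
  intro k
  rw [RingAut.mul_apply, hh k, hg k]

theorem fix_inv {g : A ≃+* A} (hg : D.Fix g) : D.Fix g⁻¹ := by
  intro k
  have h : g⁻¹ (g (D.ι k)) = D.ι k := by
    rw [← RingAut.mul_apply, inv_mul_cancel]; rfl
  rw [hg k] at h
  exact h

theorem fix_pow {g : A ≃+* A} (hg : D.Fix g) (m : ℕ) : D.Fix (g ^ m) := by
  induction m with
  | zero => rw [pow_zero]; exact D.fix_one
  | succ m ih => rw [pow_succ]; exact D.fix_mul ih hg

/-- the coordinate of `g` -/
noncomputable def θ (g : A ≃+* A) : Λ := D.th (D.φ.comp (g : A →+* A))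

/-- the inverse coordinate of `g` -/
noncomputable def θ' (g : A ≃+* A) : Λ := D.th' (D.φ.comp (g : A →+* A))

theorem compat_g {g : A ≃+* A} (hg : D.Fix g) : D.Compat (D.φ.comp (g : A →+* A)) := by
  intro k
  rw [RingHom.comp_apply, RingHom.coe_coe, hg k, D.φι]

/-- the coordinate of `g` as a unit -/
noncomputable def θu (g : A ≃+* A) (hg : D.Fix g) : Λˣ :=
  ⟨D.θ g, D.θ' g, D.th_mul (D.compat_g hg), by rw [mul_comm]; exact D.th_mul (D.compat_g hg)⟩

theorem θu_val (g : A ≃+* A) (hg : D.Fix g) : ((D.θu g hg : Λˣ) : Λ) = D.θ g := rfl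

theorem θu_inv (g : A ≃+* A) (hg : D.Fix g) : (((D.θu g hg)⁻¹ : Λˣ) : Λ) = D.θ' g := rfl

theorem key {g : A ≃+* A} (hg : D.Fix g) :
    D.φ.comp (g : A →+* A) = (E (D.θu g hg)).comp D.φ := by
  apply D.det (D.compat_g hg) (D.compat_E_comp D.compat_φ _)
  rw [D.th_E_comp, D.th_φ, E_T1]
  rfl

theorem comp_mul (g h : A ≃+* A) :
    D.φ.comp ((g * h : A ≃+* A) : A →+* A) = (D.φ.comp (g : A →+* A)).comp (h : A →+* A) := by
  ext x
  rfl

theorem θ_mul {g h : A ≃+* A} (hg : D.Fix g) : D.θ (g * h) = E (D.θu g hg) (D.θ h) := by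
  unfold θ
  rw [D.comp_mul, D.key hg, RingHom.comp_assoc, D.th_E_comp]

theorem θ'_mul {g h : A ≃+* A} (hg : D.Fix g) : D.θ' (g * h) = E (D.θu g hg) (D.θ' h) := by
  unfold θ'
  rw [D.comp_mul, D.key hg, RingHom.comp_assoc, D.th'_E_comp]

theorem θ_one : D.θ 1 = T 1 := D.th_φ

theorem θ_inj {g h : A ≃+* A} (hg : D.Fix g) (hh : D.Fix h) (e : D.θ g = D.θ h) : g = h := by
  have h1 : D.φ.comp (g : A →+* A) = D.φ.comp (h : A →+* A) :=
    D.det (D.compat_g hg) (D.compat_g hh) e
  apply RingEquiv.ext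
  intro x
  apply D.φinj
  exact RingHom.congr_fun h1 x

theorem exists_mon {g : A ≃+* A} (hg : D.Fix g) : ∃ (c : Lˣ) (n : ℤ), D.θu g hg = monU c n := by
  obtain ⟨c, n, hc, h⟩ := unit_form (D.θ g) (D.θ' g) (D.th_mul (D.compat_g hg))
  refine ⟨Units.mk0 c hc, n, ?_⟩
  apply Units.ext
  rw [θu_val, monU_val, h]
  rfl

theorem θu_mul {g h : A ≃+* A} (hg : D.Fix g) (hh : D.Fix h) {c c' : Lˣ} {n n' : ℤ}
    (e : D.θu g hg = monU c n) (e' : D.θu h hh = monU c' n') :
    D.θu (g * h) (D.fix_mul hg hh) = monU (c' * c ^ n') (n' * n) := by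
  apply Units.ext
  rw [θu_val, D.θ_mul hg, e, ← θu_val _ h hh, e', monU_val, E_mon, monU_val, Units.val_mul]

theorem θu_one : D.θu 1 D.fix_one = monU 1 1 := by
  apply Units.ext
  rw [θu_val, D.θ_one, monU_val]
  simp

theorem monU_inj {c c' : Lˣ} {n n' : ℤ} (h : monU (L := L) c n = monU c' n') : n = n' ∧ c = c' := by
  have h1 := congrArg (fun u : Λˣ => (u : Λ)) h
  simp only [monU_val] at h1
  obtain ⟨h2, h3⟩ := mon_inj c.ne_zero h1
  exact ⟨h2, Units.ext h3⟩

theorem deg_pm {g : A ≃+* A} (hg : D.Fix g) {c : Lˣ} {n : ℤ} (e : D.θu g hg = monU c n) :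
    n = 1 ∨ n = -1 := by
  obtain ⟨c', n', e'⟩ := D.exists_mon (D.fix_inv hg)
  have h := D.θu_mul (D.fix_inv hg) hg e' e
  have h1 : D.θu (g⁻¹ * g) (D.fix_mul (D.fix_inv hg) hg) = monU 1 1 := by
    rw [← D.θu_one]
    congr 1
    exact inv_mul_cancel g
  rw [h1] at h
  obtain ⟨h2, -⟩ := monU_inj h
  exact Int.eq_one_or_neg_one_of_mul_eq_one h2.symm

end Data
--END4

--BEGIN5
namespace Data

variable {K L A : Type u} [Field K] [Field L] [Algebra K L] [CommRing A] (D : Data K L A)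

local notation "Λ" => LaurentPolynomial L

/-- the semilinear involution `T ↦ T⁻¹` -/
noncomputable def S : Λ →+* Λ :=
  LaurentPolynomial.eval₂ ((C : L →+* Λ).comp D.σ) (monU 1 (-1))

theorem S_C (x : L) : D.S (C x) = C (D.σ x) := eval₂_C _ _ _

theorem S_T (n : ℤ) : D.S (T n) = T (-n) := by
  unfold S
  rw [eval₂_T, monU_zpow, monU_val]
  simp

theorem th_S_comp (ψ : A →+* Λ) : D.th (D.S.comp ψ) = D.S (D.th' ψ) := by
  unfold th th'
  simp only [RingHom.comp_apply, map_mul, map_sub, map_add, map_pow, S_C, map_ofNat, D.σK, D.σβ]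

theorem compat_S_comp {ψ : A →+* Λ} (hψ : D.Compat ψ) : D.Compat (D.S.comp ψ) := by
  intro k
  rw [RingHom.comp_apply, hψ k, S_C, D.σK]

theorem S_comp_φ : D.S.comp D.φ = D.φ := by
  apply D.det (D.compat_S_comp D.compat_φ) D.compat_φ
  rw [D.th_S_comp, D.th'_φ, S_T, D.th_φ]
  simp

theorem σ_c {g : A ≃+* A} (hg : D.Fix g) {c : Lˣ} {n : ℤ} (e : D.θu g hg = monU c n) :
    D.σ (c : L) = (c : L)⁻¹ := by
  have h1 : D.S.comp (D.φ.comp (g : A →+* A)) = D.φ.comp (g : A →+* A) := by
    rw [← RingHom.comp_assoc, D.S_comp_φ]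
  have h2 : D.θ g = D.S (D.θ' g) := by
    unfold θ θ'
    rw [← D.th_S_comp, h1]
  have h3 : D.θ g = C (c : L) * T n := by rw [← D.θu_val g hg, e, monU_val]
  have h4 : D.θ' g = C ((c⁻¹ : Lˣ) : L) * T (-n) := by rw [← D.θu_inv g hg, e]; rfl
  rw [h3, h4, map_mul, S_C, S_T, neg_neg] at h2
  obtain ⟨-, h5⟩ := mon_inj c.ne_zero h2
  rw [Units.val_inv_eq_inv_val, map_inv₀] at h5
  exact inv_eq_iff_eq_inv.mp h5.symm

theorem θ_pow {g : A ≃+* A} (hg : D.Fix g) {c : Lˣ} (e : D.θu g hg = monU c 1) (k : ℕ) :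
    D.θ (g ^ k) = C (((c ^ k : Lˣ) : L)) * T 1 := by
  induction k with
  | zero => rw [pow_zero, pow_zero, D.θ_one]; simp
  | succ k ih =>
    rw [pow_succ', D.θ_mul hg, ih, e, E_mon, zpow_one, one_mul, ← Units.val_mul, ← pow_succ]

theorem c_pm (hK : ∀ n : ℕ, 0 < n → (Polynomial.X ^ n - 1 : Polynomial K).Splits)
    {g : A ≃+* A} (hg : D.Fix g) {c : Lˣ} (e : D.θu g hg = monU c 1) {m : ℕ} (hm : 0 < m)
    (hgm : g ^ m = 1) : (c : L) = 1 ∨ (c : L) = -1 := by
  have h1 := D.θ_pow hg e m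
  rw [hgm, D.θ_one] at h1
  have h2 : (C (1 : L) * T 1 : Λ) = C (((c ^ m : Lˣ) : L)) * T 1 := by rw [← h1]; simp
  obtain ⟨-, h3⟩ := mon_inj one_ne_zero h2
  rw [Units.val_pow_eq_pow_val] at h3
  have hroot : ((Polynomial.X ^ m - 1 : Polynomial K).map (algebraMap K L)).IsRoot (c : L) := by
    simp [Polynomial.IsRoot, ← h3]
  have hne : (Polynomial.X ^ m - 1 : Polynomial K) ≠ 0 := by
    have := Polynomial.X_pow_sub_C_ne_zero hm (1 : K)
    simpa using this
  obtain ⟨k₀, hk₀⟩ := (hK m hm).mem_range_of_isRoot hne hroot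
  have h4 := D.σ_c hg e
  rw [← hk₀, D.σK] at h4
  rw [hk₀] at h4
  have h5 : (c : L) * (c : L) = 1 := by
    nth_rewrite 2 [h4]
    exact mul_inv_cancel₀ c.ne_zero
  exact mul_self_eq_one_iff.mp h5

end Data
--END5

--BEGIN6
namespace Data

variable {K L A : Type u} [Field K] [Field L] [Algebra K L] [CommRing A] (D : Data K L A)

local notation "Λ" => LaurentPolynomial L

theorem sq_of_neg {g : A ≃+* A} (hg : D.Fix g) {c : Lˣ} (e : D.θu g hg = monU c (-1)) :
    g * g = 1 := by
  apply D.θ_inj (D.fix_mul hg hg) D.fix_one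
  have h := D.θu_mul hg hg e e
  have h1 := congrArg (fun u : Λˣ => (u : Λ)) h
  simp only [θu_val, monU_val] at h1
  rw [h1, D.θ_one]
  simp

theorem abstract_main (hK : ∀ n : ℕ, 0 < n → (Polynomial.X ^ n - 1 : Polynomial K).Splits)
    (G : Subgroup (A ≃+* A)) [Finite G] (hG : ∀ g ∈ G, D.Fix g) :
    (∀ g ∈ G, g ^ 2 = 1) ∧ Nat.card G ≤ 4 := by
  classical
  -- finite order
  have hord : ∀ g ∈ G, ∃ m : ℕ, 0 < m ∧ g ^ m = 1 := by
    intro g hg
    have hfin : IsOfFinOrder (⟨g, hg⟩ : G) := isOfFinOrder_of_finite _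
    refine ⟨orderOf (⟨g, hg⟩ : G), hfin.orderOf_pos, ?_⟩
    have h := pow_orderOf_eq_one (⟨g, hg⟩ : G)
    have h1 := congrArg (fun x : G => (x : A ≃+* A)) h
    simpa using h1
  have hpm : ∀ g (hg : g ∈ G) (c : Lˣ), D.θu g (hG g hg) = monU c 1 →
      (c : L) = 1 ∨ (c : L) = -1 := by
    intro g hg c e
    obtain ⟨m, hm, hgm⟩ := hord g hg
    exact D.c_pm hK (hG g hg) e hm hgm
  have hsq : ∀ g ∈ G, g ^ 2 = 1 := by
    intro g hg
    obtain ⟨c, n, e⟩ := D.exists_mon (hG g hg)
    rcases D.deg_pm (hG g hg) e with rfl | rfl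
    · apply D.θ_inj (D.fix_pow (hG g hg) 2) D.fix_one
      rw [D.θ_pow (hG g hg) e 2, D.θ_one, Units.val_pow_eq_pow_val]
      rcases hpm g hg c e with h | h <;> rw [h] <;> simp
    · rw [pow_two]
      exact D.sq_of_neg (hG g hg) e
  refine ⟨hsq, ?_⟩
  -- the bound
  obtain ⟨c₀, hc₀⟩ : ∃ c₀ : Lˣ, ∀ g (hg : g ∈ G) (c : Lˣ), D.θu g (hG g hg) = monU c (-1) →
      (c : L) = c₀ ∨ (c : L) = -c₀ := by
    by_cases hex : ∃ g, ∃ (hg : g ∈ G), ∃ c : Lˣ, D.θu g (hG g hg) = monU c (-1)
    · obtain ⟨g₀, hg₀, c₀, e₀⟩ := hex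
      refine ⟨c₀, ?_⟩
      intro g hg c e
      have h := D.θu_mul (hG g₀ hg₀) (hG g hg) e₀ e
      have h1 : ((-1 : ℤ) * -1) = 1 := by norm_num
      rw [h1] at h
      have h2 := hpm (g₀ * g) (G.mul_mem hg₀ hg) _ h
      rw [Units.val_mul, zpow_neg, zpow_one, Units.val_inv_eq_inv_val] at h2
      rcases h2 with h2 | h2
      · left
        field_simp at h2
        exact h2
      · right
        field_simp at h2
        rw [h2]
    · refine ⟨1, ?_⟩
      intro g hg c e
      exact absurd ⟨g, hg, c, e⟩ hex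
  let s : Finset Λ := {C (1 : L) * T 1, C (-1 : L) * T 1, C (c₀ : L) * T (-1),
    C (-(c₀ : L)) * T (-1)}
  have hs : s.card ≤ 4 := Finset.card_le_four
  let f : G → Λ := fun g => D.θ (g : A ≃+* A)
  have hf : Function.Injective f := by
    intro g h e
    exact Subtype.ext (D.θ_inj (hG g g.2) (hG h h.2) e)
  have hrange : Set.range f ⊆ (s : Set Λ) := by
    rintro _ ⟨g, rfl⟩
    obtain ⟨c, n, e⟩ := D.exists_mon (hG g g.2)
    have hθ : f g = C (c : L) * T n := by
      change D.θ (g : A ≃+* A) = _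
      rw [← D.θu_val _ (hG g g.2), e, monU_val]
    rw [hθ]
    simp only [Finset.coe_insert, Finset.coe_singleton, Set.mem_insert_iff, Set.mem_singleton_iff, s]
    rcases D.deg_pm (hG g g.2) e with rfl | rfl
    · rcases hpm g g.2 c e with h | h
      · left; rw [h]
      · right; left; rw [h]
    · rcases hc₀ g g.2 c e with h | h
      · right; right; left; rw [h]
      · right; right; right; rw [h]
  calc Nat.card G = Nat.card (Set.range f) := (Nat.card_range_of_injective hf).symm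
    _ = (Set.range f).ncard := Nat.card_coe_set_eq _
    _ ≤ (s : Set Λ).ncard := Set.ncard_le_ncard hrange (Finset.finite_toSet s)
    _ = s.card := Set.ncard_coe_finset s
    _ ≤ 4 := hs

end Data
--END6

end Abstract

--BEGIN7
section PolyFacts

open MvPolynomial

variable {K : Type u} [Field K]

/-- the exponent vector `(i, j)` -/
noncomputable def ex (i j : ℕ) : Fin 2 →₀ ℕ := Finsupp.single 0 i + Finsupp.single 1 j

theorem ex_zero (i j : ℕ) : ex i j 0 = i := by simp [ex]

theorem ex_one (i j : ℕ) : ex i j 1 = j := by simp [ex]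

theorem ex_eq (m : Fin 2 →₀ ℕ) : m = ex (m 0) (m 1) := by
  ext k
  fin_cases k
  · exact (ex_zero _ _).symm
  · exact (ex_one _ _).symm

theorem ex_degree (i j : ℕ) : (ex i j).degree = i + j := by
  rw [Finsupp.degree_eq_sum, Fin.sum_univ_two, ex_zero, ex_one]

theorem mono_eq (i j : ℕ) (r : K) :
    (C r * X 0 ^ i * X 1 ^ j : MvPolynomial (Fin 2) K) = monomial (ex i j) r := by
  rw [mul_assoc, X_pow_eq_monomial, X_pow_eq_monomial, monomial_mul, C_mul_monomial, mul_one,
    mul_one]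
  rfl

theorem homog_decomp {N : ℕ} {f : MvPolynomial (Fin 2) K} (hf : f.IsHomogeneous N) :
    f = ∑ i ∈ Finset.range (N + 1), C (f.coeff (ex i (N - i))) * X 0 ^ i * X 1 ^ (N - i) := by
  ext m
  rw [coeff_sum]
  simp_rw [mono_eq, coeff_monomial]
  by_cases hm : m 0 + m 1 = N
  · have hm' : m = ex (m 0) (N - m 0) := by
      have h1 : N - m 0 = m 1 := by omega
      rw [h1]
      exact ex_eq m
    rw [Finset.sum_eq_single (m 0)]
    · rw [if_pos hm'.symm, ← hm']
    · intro i _ hi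
      rw [if_neg]
      intro h
      apply hi
      have := congrArg (fun e : Fin 2 →₀ ℕ => e 0) h
      simp only [ex_zero] at this
      exact this
    · intro h
      exfalso
      apply h
      rw [Finset.mem_range]
      omega
  · have h0 : f.coeff m = 0 := by
      apply hf.coeff_eq_zero
      rw [Finsupp.degree_eq_sum, Fin.sum_univ_two]
      exact hm
    rw [h0]
    symm
    apply Finset.sum_eq_zero
    intro i hi
    rw [if_neg]
    intro h
    apply hm
    rw [← h, ex_zero, ex_one]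
    rw [Finset.mem_range] at hi
    omega

theorem quad_form {q : MvPolynomial (Fin 2) K} (hq : q.IsHomogeneous 2) :
    q = C (q.coeff (Finsupp.single 0 2)) * X 0 ^ 2
      + C (q.coeff (Finsupp.single 0 1 + Finsupp.single 1 1)) * (X 0 * X 1)
      + C (q.coeff (Finsupp.single 1 2)) * X 1 ^ 2 := by
  have h := homog_decomp hq
  rw [Finset.sum_range_succ, Finset.sum_range_succ, Finset.sum_range_succ,
    Finset.sum_range_zero] at h
  have e0 : ex 0 (2 - 0) = Finsupp.single 1 2 := by simp [ex]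
  have e1 : ex 1 (2 - 1) = Finsupp.single 0 1 + Finsupp.single 1 1 := by simp [ex]
  have e2 : ex 2 (2 - 2) = Finsupp.single 0 2 := by simp [ex]
  rw [e0, e1, e2] at h
  nth_rewrite 1 [h]
  simp only [pow_zero, pow_one, Nat.sub_zero, Nat.sub_self, mul_one, zero_add]
  have h21 : 2 - 1 = 1 := rfl
  rw [h21, pow_one]
  ring

end PolyFacts

section LinIndep

open Polynomial

variable {L : Type u} [Field L]

theorem lin_indep {α β : L} (hαβ : α ≠ β) (N : ℕ) : ∀ (c : ℕ → L),
    (∑ i ∈ Finset.range (N + 1), C (c i) * (C α - C β * X) ^ i * (1 - X) ^ (N - i) = 0) →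
    ∀ i ≤ N, c i = 0 := by
  induction N with
  | zero =>
    intro c h i hi
    rw [Finset.sum_range_one] at h
    simp only [pow_zero, mul_one, Nat.sub_zero] at h
    have hi0 : i = 0 := by omega
    rw [hi0]
    exact C_eq_zero.mp h
  | succ N ih =>
    intro c h
    rw [Finset.sum_range_succ] at h
    have hlast : c (N + 1) = 0 := by
      have h1 := congrArg (Polynomial.eval 1) h
      rw [eval_add, eval_finsetSum, Finset.sum_eq_zero, zero_add] at h1
      · simp only [Nat.sub_self, pow_zero, mul_one, eval_mul, eval_C, eval_pow, eval_sub, eval_X,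
          eval_zero] at h1
        rcases mul_eq_zero.mp h1 with h2 | h2
        · exact h2
        · exfalso
          have := pow_eq_zero_iff (n := N + 1) (by omega) |>.mp h2
          exact hαβ (sub_eq_zero.mp this)
      · intro i hi
        rw [Finset.mem_range] at hi
        have : N + 1 - i = (N - i) + 1 := by omega
        rw [this, pow_succ]
        simp
    rw [hlast] at h
    simp only [map_zero, zero_mul, add_zero] at h
    have h2 : (1 - X : L[X]) * ∑ i ∈ Finset.range (N + 1),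
        C (c i) * (C α - C β * X) ^ i * (1 - X) ^ (N - i) = 0 := by
      rw [← h, Finset.mul_sum]
      apply Finset.sum_congr rfl
      intro i hi
      rw [Finset.mem_range] at hi
      have : N + 1 - i = (N - i) + 1 := by omega
      rw [this, pow_succ]
      ring
    have hne : (1 - X : L[X]) ≠ 0 := by
      intro h0
      have := congrArg (Polynomial.eval 0) h0
      simp at this
    have h3 := (mul_eq_zero.mp h2).resolve_left hne
    intro i hi
    rcases Nat.lt_or_ge i (N + 1) with h4 | h4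
    · exact ih c h3 i (by omega)
    · have : i = N + 1 := by omega
      rw [this]
      exact hlast

end LinIndep
--END7

--BEGIN8
section Ev

open MvPolynomial

variable {K L : Type u} [Field K] [Field L] [Algebra K L] (α β : L)

/-- evaluation at `(α - βT, 1 - T)` -/
noncomputable def ev₀ : MvPolynomial (Fin 2) K →ₐ[K] Polynomial L :=
  aeval ![Polynomial.C α - Polynomial.C β * Polynomial.X, 1 - Polynomial.X]

theorem ev₀_X0 : ev₀ (K := K) α β (X 0) = Polynomial.C α - Polynomial.C β * Polynomial.X := by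
  simp [ev₀]

theorem ev₀_X1 : ev₀ (K := K) α β (X 1) = 1 - Polynomial.X := by
  simp [ev₀]

theorem ev₀_C (k : K) : ev₀ α β (C k) = Polynomial.C (algebraMap K L k) := by
  unfold ev₀
  rw [aeval_C]
  rfl

theorem ev₀_inj (hαβ : α ≠ β) {N : ℕ} {f : MvPolynomial (Fin 2) K} (hf : f.IsHomogeneous N)
    (h : ev₀ α β f = 0) : f = 0 := by
  have hd := homog_decomp hf
  have h2 : ev₀ α β (∑ i ∈ Finset.range (N + 1),
      C (f.coeff (ex i (N - i))) * X 0 ^ i * X 1 ^ (N - i)) = 0 := by
    rw [← hd]; exact h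
  rw [map_sum] at h2
  simp only [map_mul, map_pow, ev₀_C, ev₀_X0, ev₀_X1] at h2
  have h3 := lin_indep hαβ N (fun i => algebraMap K L (f.coeff (ex i (N - i)))) h2
  rw [hd]
  apply Finset.sum_eq_zero
  intro i hi
  rw [Finset.mem_range] at hi
  have h4 := h3 i (by omega)
  have h5 : f.coeff (ex i (N - i)) = 0 := (map_eq_zero _).mp h4
  rw [h5]
  simp

/-- evaluation in the Laurent polynomials -/
noncomputable def evL : MvPolynomial (Fin 2) K →+* LaurentPolynomial L :=
  (Polynomial.toLaurent).comp ((ev₀ (K := K) α β).toRingHom)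

theorem evL_X0 : evL (K := K) α β (X 0) =
    LaurentPolynomial.C α - LaurentPolynomial.C β * LaurentPolynomial.T 1 := by
  unfold evL
  rw [RingHom.comp_apply, AlgHom.toRingHom_eq_coe, RingHom.coe_coe, ev₀_X0]
  simp

theorem evL_X1 : evL (K := K) α β (X 1) = 1 - LaurentPolynomial.T 1 := by
  unfold evL
  rw [RingHom.comp_apply, AlgHom.toRingHom_eq_coe, RingHom.coe_coe, ev₀_X1]
  simp

theorem evL_C (k : K) : evL α β (C k) = LaurentPolynomial.C (algebraMap K L k) := by
  unfold evL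
  rw [RingHom.comp_apply, AlgHom.toRingHom_eq_coe, RingHom.coe_coe, ev₀_C]
  simp

theorem evL_inj (hαβ : α ≠ β) {N : ℕ} {f : MvPolynomial (Fin 2) K} (hf : f.IsHomogeneous N)
    (h : evL α β f = 0) : f = 0 := by
  apply ev₀_inj α β hαβ hf
  unfold evL at h
  rw [RingHom.comp_apply, AlgHom.toRingHom_eq_coe, RingHom.coe_coe] at h
  exact Polynomial.toLaurent_injective (by rw [h, map_zero])

theorem evL_q {a b c : K} {q : MvPolynomial (Fin 2) K}
    (hqf : q = C a * X 0 ^ 2 + C b * (X 0 * X 1) + C c * X 1 ^ 2)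
    (hb : algebraMap K L b = - algebraMap K L a * (α + β))
    (hc : algebraMap K L c = algebraMap K L a * (α * β)) :
    evL α β q = LaurentPolynomial.C (algebraMap K L a) *
      (LaurentPolynomial.C α - LaurentPolynomial.C β) ^ 2 * LaurentPolynomial.T 1 := by
  rw [hqf]
  simp only [map_add, map_mul, map_pow, evL_C, evL_X0, evL_X1]
  rw [hb, hc]
  simp only [map_mul, map_add, map_neg]
  ring

end Ev
--END8

--BEGIN9
section Loc

open MvPolynomial HomogeneousLocalization

attribute [local instance] MvPolynomial.gradedAlgebra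

variable {K : Type u} [Field K] (q : MvPolynomial (Fin 2) K)

local notation "𝒜" => MvPolynomial.homogeneousSubmodule (Fin 2) K
local notation "B" => Localization (Submonoid.powers q)
local notation "A'" => HomogeneousLocalization.Away 𝒜 q

/-- `1 / q ^ n` -/
noncomputable def den (n : ℕ) : B := Localization.mk 1 ⟨q ^ n, n, rfl⟩

theorem den_zero : den q 0 = 1 := by
  unfold den
  have : (⟨q ^ 0, 0, rfl⟩ : Submonoid.powers q) = 1 := by
    apply Subtype.ext
    simp
  rw [this, Localization.mk_one]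

theorem den_mul (n m : ℕ) : den q n * den q m = den q (n + m) := by
  unfold den
  rw [Localization.mk_mul, one_mul]
  congr 1
  apply Subtype.ext
  simp [pow_add]

theorem q_den (n : ℕ) : algebraMap (MvPolynomial (Fin 2) K) B (q ^ n) * den q n = 1 := by
  unfold den
  rw [← Localization.mk_one_eq_algebraMap, Localization.mk_mul, one_mul, mul_one]
  exact Localization.mk_self (⟨q ^ n, n, rfl⟩ : Submonoid.powers q)

theorem val_mk' (hq : q ∈ 𝒜 2) (n : ℕ) (f : MvPolynomial (Fin 2) K) (hf : f ∈ 𝒜 (n • 2)) :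
    (Away.mk 𝒜 hq n f hf).val = algebraMap (MvPolynomial (Fin 2) K) B f * den q n := by
  rw [Away.val_mk]
  unfold den
  rw [← Localization.mk_one_eq_algebraMap, Localization.mk_mul, one_mul, mul_one]

/-- the scalars -/
noncomputable def iota : K →+* A' where
  toFun k := k • (1 : A')
  map_one' := by
    apply HomogeneousLocalization.val_injective
    rw [val_smul, one_smul]
  map_mul' x y := by
    apply HomogeneousLocalization.val_injective
    rw [val_mul, val_smul, val_smul, val_smul, val_one]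
    rw [smul_mul_smul_comm, mul_one]
  map_zero' := by
    apply HomogeneousLocalization.val_injective
    rw [val_smul, val_one, val_zero, zero_smul]
  map_add' x y := by
    apply HomogeneousLocalization.val_injective
    rw [val_add, val_smul, val_smul, val_smul, val_one, add_smul]

theorem iota_apply (k : K) : iota q k = k • (1 : A') := rfl

theorem val_iota (k : K) : (iota q k).val = algebraMap (MvPolynomial (Fin 2) K) B (C k) := by
  rw [iota_apply, val_smul, val_one, Algebra.smul_def, mul_one]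
  rfl

end Loc
--END9

--BEGIN10
section Loc2

open MvPolynomial HomogeneousLocalization

attribute [local instance] MvPolynomial.gradedAlgebra

variable {K : Type u} [Field K] (q : MvPolynomial (Fin 2) K)

local notation "𝒜" => MvPolynomial.homogeneousSubmodule (Fin 2) K
local notation "B" => Localization (Submonoid.powers q)
local notation "A'" => HomogeneousLocalization.Away 𝒜 q

theorem hX0 : (X 0 ^ 2 : MvPolynomial (Fin 2) K) ∈ 𝒜 (1 • 2) :=
  (mem_homogeneousSubmodule _ _).mpr (isHomogeneous_X_pow 0 2)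

theorem hX1 : (X 1 ^ 2 : MvPolynomial (Fin 2) K) ∈ 𝒜 (1 • 2) :=
  (mem_homogeneousSubmodule _ _).mpr (isHomogeneous_X_pow 1 2)

theorem hX01 : (X 0 * X 1 : MvPolynomial (Fin 2) K) ∈ 𝒜 (1 • 2) :=
  (mem_homogeneousSubmodule _ _).mpr ((isHomogeneous_X K 0).mul (isHomogeneous_X K 1))

/-- `x² / q` -/
noncomputable def Xel (hq : q ∈ 𝒜 2) : A' := Away.mk 𝒜 hq 1 (X 0 ^ 2) hX0

/-- `xy / q` -/
noncomputable def Yel (hq : q ∈ 𝒜 2) : A' := Away.mk 𝒜 hq 1 (X 0 * X 1) hX01

/-- `y² / q` -/
noncomputable def Zel (hq : q ∈ 𝒜 2) : A' := Away.mk 𝒜 hq 1 (X 1 ^ 2) hX1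

theorem val_Xel (hq : q ∈ 𝒜 2) : (Xel q hq).val =
    algebraMap (MvPolynomial (Fin 2) K) B (X 0 ^ 2) * den q 1 := val_mk' q hq 1 _ _

theorem val_Yel (hq : q ∈ 𝒜 2) : (Yel q hq).val =
    algebraMap (MvPolynomial (Fin 2) K) B (X 0 * X 1) * den q 1 := val_mk' q hq 1 _ _

theorem val_Zel (hq : q ∈ 𝒜 2) : (Zel q hq).val =
    algebraMap (MvPolynomial (Fin 2) K) B (X 1 ^ 2) * den q 1 := val_mk' q hq 1 _ _

theorem hext_aux (hq : q ∈ 𝒜 2) {R : Type*} [Semiring R] (ψ₁ ψ₂ : A' →+* R)
    (hX : ψ₁ (Xel q hq) = ψ₂ (Xel q hq)) (hY : ψ₁ (Yel q hq) = ψ₂ (Yel q hq))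
    (hZ : ψ₁ (Zel q hq) = ψ₂ (Zel q hq)) :
    ∀ n i j : ℕ, i + j = n * 2 → ∃ z : A', ψ₁ z = ψ₂ z ∧
      z.val = algebraMap (MvPolynomial (Fin 2) K) B (X 0 ^ i * X 1 ^ j) * den q n := by
  intro n
  induction n with
  | zero =>
    intro i j hij
    have hi : i = 0 := by omega
    have hj : j = 0 := by omega
    subst hi hj
    refine ⟨1, by rw [map_one, map_one], ?_⟩
    rw [val_one, den_zero, pow_zero, pow_zero, mul_one, mul_one, map_one]
  | succ n ih =>
    intro i j hij
    have hden : den q (n + 1) = den q 1 * den q n := by rw [den_mul, add_comm]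
    rcases Nat.lt_or_ge i 2 with hi | hi
    · rcases Nat.eq_zero_or_pos i with hi0 | hi0
      · subst hi0
        obtain ⟨z', hz1, hz2⟩ := ih 0 (j - 2) (by omega)
        refine ⟨Zel q hq * z', by rw [map_mul, map_mul, hZ, hz1], ?_⟩
        rw [val_mul, hz2, val_Zel, hden]
        have hj : j = 2 + (j - 2) := by omega
        nth_rewrite 2 [hj]
        rw [pow_add]
        simp only [map_mul, pow_zero, one_mul]
        ring
      · have hi1 : i = 1 := by omega
        subst hi1
        obtain ⟨z', hz1, hz2⟩ := ih 0 (j - 1) (by omega)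
        refine ⟨Yel q hq * z', by rw [map_mul, map_mul, hY, hz1], ?_⟩
        rw [val_mul, hz2, val_Yel, hden]
        have hj : j = 1 + (j - 1) := by omega
        nth_rewrite 2 [hj]
        rw [pow_add]
        simp only [map_mul, pow_zero, one_mul, pow_one]
        ring
    · obtain ⟨z', hz1, hz2⟩ := ih (i - 2) j (by omega)
      refine ⟨Xel q hq * z', by rw [map_mul, map_mul, hX, hz1], ?_⟩
      rw [val_mul, hz2, val_Xel, hden]
      have hi' : i = 2 + (i - 2) := by omega
      nth_rewrite 2 [hi']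
      rw [pow_add]
      simp only [map_mul]
      ring

theorem hext_loc (hq : q ∈ 𝒜 2) {R : Type*} [Semiring R] (ψ₁ ψ₂ : A' →+* R)
    (hι : ∀ k, ψ₁ (iota q k) = ψ₂ (iota q k))
    (hX : ψ₁ (Xel q hq) = ψ₂ (Xel q hq)) (hY : ψ₁ (Yel q hq) = ψ₂ (Yel q hq))
    (hZ : ψ₁ (Zel q hq) = ψ₂ (Zel q hq)) : ψ₁ = ψ₂ := by
  apply RingHom.ext
  intro z
  obtain ⟨n, f, hf, rfl⟩ := Away.mk_surjective 𝒜 hq z
  have hf' : f.IsHomogeneous (n * 2) := by
    have := (mem_homogeneousSubmodule _ _).mp hf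
    rwa [smul_eq_mul] at this
  have hd := homog_decomp hf'
  have haux := hext_aux q hq ψ₁ ψ₂ hX hY hZ n
  have haux' : ∀ i : ℕ, ∃ z : A', i ≤ n * 2 → (ψ₁ z = ψ₂ z ∧
      z.val = algebraMap (MvPolynomial (Fin 2) K) B (X 0 ^ i * X 1 ^ (n * 2 - i)) * den q n) := by
    intro i
    by_cases hi : i ≤ n * 2
    · obtain ⟨z, hz⟩ := haux i (n * 2 - i) (by omega)
      exact ⟨z, fun _ => hz⟩
    · exact ⟨0, fun h => absurd h hi⟩
  choose zz hzz using haux'
  have key : Away.mk 𝒜 hq n f hf =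
      ∑ i ∈ Finset.range (n * 2 + 1), iota q (f.coeff (ex i (n * 2 - i))) * zz i := by
    apply HomogeneousLocalization.val_injective
    have hsum : ∀ (s : Finset ℕ) (F : ℕ → A'), (∑ i ∈ s, F i).val = ∑ i ∈ s, (F i).val :=
      fun s F => map_sum (algebraMap A' B) F s
    rw [val_mk', hsum]
    have hd' := congrArg (algebraMap (MvPolynomial (Fin 2) K) B) hd
    rw [hd', map_sum, Finset.sum_mul]
    apply Finset.sum_congr rfl
    intro i hi
    rw [Finset.mem_range] at hi
    rw [val_mul, val_iota, (hzz i (by omega)).2]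
    simp only [map_mul]
    ring
  rw [key, map_sum, map_sum]
  apply Finset.sum_congr rfl
  intro i hi
  rw [Finset.mem_range] at hi
  rw [map_mul, map_mul, hι, (hzz i (by omega)).1]

end Loc2
--END10

--BEGIN11
section Loc3

open MvPolynomial HomogeneousLocalization

attribute [local instance] MvPolynomial.gradedAlgebra

variable {K : Type u} [Field K] (q : MvPolynomial (Fin 2) K)

local notation "𝒜" => MvPolynomial.homogeneousSubmodule (Fin 2) K
local notation "B" => Localization (Submonoid.powers q)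
local notation "A'" => HomogeneousLocalization.Away 𝒜 q

variable {L : Type u} [Field L] [Algebra K L] (α β : L)

local notation "Λ" => LaurentPolynomial L

theorem phi_inj (hq : q ∈ 𝒜 2) (hαβ : α ≠ β) (φL : B →+* Λ)
    (hφL : ∀ f, φL (algebraMap (MvPolynomial (Fin 2) K) B f) = evL α β f) :
    Function.Injective (φL.comp (algebraMap A' B)) := by
  rw [injective_iff_map_eq_zero]
  intro z hz
  obtain ⟨n, f, hf, rfl⟩ := Away.mk_surjective 𝒜 hq z
  have hf' : f.IsHomogeneous (n * 2) := by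
    have := (mem_homogeneousSubmodule _ _).mp hf
    rwa [smul_eq_mul] at this
  rw [RingHom.comp_apply, HomogeneousLocalization.algebraMap_apply, val_mk', map_mul, hφL] at hz
  have hu : φL (algebraMap (MvPolynomial (Fin 2) K) B (q ^ n)) * φL (den q n) = 1 := by
    rw [← map_mul, q_den, map_one]
  have h0 : evL α β f = 0 := by
    calc evL α β f = evL α β f * (φL (den q n) *
          φL (algebraMap (MvPolynomial (Fin 2) K) B (q ^ n))) := by
          rw [mul_comm (φL _), hu, mul_one]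
      _ = 0 := by rw [← mul_assoc, hz, zero_mul]
  have hf0 := evL_inj α β hαβ hf' h0
  subst hf0
  apply HomogeneousLocalization.val_injective
  rw [val_mk', map_zero, zero_mul, val_zero]

theorem exists_data (hq : q ∈ 𝒜 2) {a b c : K}
    (hqf : q = C a * X 0 ^ 2 + C b * (X 0 * X 1) + C c * X 1 ^ 2) (ha : a ≠ 0)
    (hαβ : α ≠ β)
    (hb : algebraMap K L b = - algebraMap K L a * (α + β))
    (hc : algebraMap K L c = algebraMap K L a * (α * β))
    (σ : L →+* L) (σK : ∀ k, σ (algebraMap K L k) = algebraMap K L k)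
    (σα : σ α = β) (σβ : σ β = α) :
    ∃ D : Data K L A', ∀ k, D.ι k = k • (1 : A') := by
  have hevq := evL_q α β hqf hb hc
  have hu : IsUnit (evL α β q) := by
    rw [hevq]
    have h1 : IsUnit (LaurentPolynomial.C (algebraMap K L a) : Λ) :=
      (isUnit_iff_ne_zero.mpr ((map_ne_zero _).mpr ha)).map LaurentPolynomial.C
    have h2 : IsUnit (LaurentPolynomial.C α - LaurentPolynomial.C β : Λ) := by
      rw [← map_sub]
      exact (isUnit_iff_ne_zero.mpr (sub_ne_zero.mpr hαβ)).map LaurentPolynomial.C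
    exact (h1.mul (h2.pow 2)).mul (LaurentPolynomial.isUnit_T 1)
  obtain ⟨φL, hφL⟩ : ∃ φL : B →+* Λ,
      ∀ f, φL (algebraMap (MvPolynomial (Fin 2) K) B f) = evL α β f :=
    ⟨IsLocalization.Away.lift q hu, fun f => IsLocalization.Away.lift_eq q hu f⟩
  have hd : evL α β q * φL (den q 1) = 1 := by
    have := q_den q 1
    rw [pow_one] at this
    rw [← hφL, ← map_mul, this, map_one]
  have hφ : ∀ z : A', (φL.comp (algebraMap A' B)) z = φL z.val := fun z => rfl
  refine ⟨{
    a := a, b := b, c := c, α := α, β := β, hαβ := hαβ, ha := ha, hb := hb, hc := hc,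
    σ := σ, σK := σK, σα := σα, σβ := σβ,
    ι := iota q, Xe := Xel q hq, Ye := Yel q hq, Ze := Zel q hq,
    rel1 := ?_, rel2 := ?_,
    φ := φL.comp (algebraMap A' B),
    φinj := phi_inj q α β hq hαβ φL hφL,
    φι := ?_, φT := ?_,
    hext := fun ψ₁ ψ₂ h1 h2 h3 h4 => hext_loc q hq ψ₁ ψ₂ h1 h2 h3 h4 }, fun k => rfl⟩
  · apply HomogeneousLocalization.val_injective
    rw [val_add, val_add, val_mul, val_mul, val_mul, val_iota, val_iota, val_iota, val_Xel,
      val_Yel, val_Zel, val_one]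
    have h1 := q_den q 1
    rw [pow_one] at h1
    have h2 := congrArg (algebraMap (MvPolynomial (Fin 2) K) B) hqf
    rw [h2] at h1
    rw [← h1]
    simp only [map_add, map_mul]
    ring
  · apply HomogeneousLocalization.val_injective
    rw [val_mul, val_mul, val_Xel, val_Yel, val_Zel]
    simp only [map_mul, map_pow]
    ring
  · intro k
    rw [hφ, val_iota, hφL, evL_C]
  · rw [hφ, hφ, hφ, val_Xel, val_Yel, val_Zel]
    simp only [map_mul, map_pow, hφL, evL_X0, evL_X1]
    rw [hevq] at hd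
    linear_combination (LaurentPolynomial.T 1) * hd

end Loc3
--END11

--BEGIN12
section Main

open MvPolynomial HomogeneousLocalization

attribute [local instance] MvPolynomial.gradedAlgebra

variable {K : Type u} [Field K]

local notation "𝒜" => MvPolynomial.homogeneousSubmodule (Fin 2) K

theorem not_isUnit_of_eval_zero {p : MvPolynomial (Fin 2) K}
    (h : MvPolynomial.eval (0 : Fin 2 → K) p = 0) : ¬ IsUnit p := by
  intro hu
  have := hu.map (MvPolynomial.eval (0 : Fin 2 → K))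
  rw [h] at this
  exact not_isUnit_zero this

theorem main_of_root
    (hK : ∀ n : ℕ, 0 < n → (Polynomial.X ^ n - 1 : Polynomial K).Splits)
    (q : MvPolynomial (Fin 2) K) (hq : q.IsHomogeneous 2) {a b c : K}
    (hqf : q = C a * X 0 ^ 2 + C b * (X 0 * X 1) + C c * X 1 ^ 2) (ha : a ≠ 0)
    (hdisc : b ^ 2 - 4 * a * c ≠ 0)
    {L : Type u} [Field L] [Algebra K L] (α : L)
    (hα : algebraMap K L a * α ^ 2 + algebraMap K L b * α + algebraMap K L c = 0)
    (σ : L →+* L) (σK : ∀ k, σ (algebraMap K L k) = algebraMap K L k)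
    (σα : σ α = algebraMap K L (-b / a) - α)
    (G : Subgroup (Away 𝒜 q ≃+* Away 𝒜 q)) [Finite G]
    (hG : ∀ g ∈ G, ∀ (k : K) (z : Away 𝒜 q), g (k • z) = k • g z) :
    (∀ g ∈ G, g ^ 2 = 1) ∧ Nat.card G ≤ 4 := by
  have ha' : algebraMap K L a ≠ 0 := (map_ne_zero _).mpr ha
  obtain ⟨β, hβ⟩ : ∃ β : L, β = algebraMap K L (-b / a) - α := ⟨_, rfl⟩
  have hβ' : β = -algebraMap K L b / algebraMap K L a - α := by
    rw [hβ, map_div₀, map_neg]
  have hb : algebraMap K L b = - algebraMap K L a * (α + β) := by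
    rw [hβ']
    field_simp
    ring
  have hc : algebraMap K L c = algebraMap K L a * (α * β) := by
    rw [hβ']
    field_simp
    linear_combination hα
  have hαβ : α ≠ β := by
    intro h
    have h1 : 2 * algebraMap K L a * α + algebraMap K L b = 0 := by
      rw [hb, ← h]
      ring
    have h2 : algebraMap K L (b ^ 2 - 4 * a * c) = 0 := by
      simp only [map_sub, map_mul, map_pow, map_ofNat]
      linear_combination (2 * algebraMap K L a * α + algebraMap K L b) * h1
        - 4 * algebraMap K L a * hα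
    exact hdisc ((map_eq_zero _).mp h2)
  have σβ : σ β = α := by
    rw [hβ, map_sub, σK, σα]
    ring
  have σα' : σ α = β := by rw [σα, hβ]
  obtain ⟨D, hD⟩ := exists_data q α β ((mem_homogeneousSubmodule _ _).mpr hq) hqf ha hαβ hb hc
    σ σK σα' σβ
  apply D.abstract_main hK G
  intro g hg k
  rw [hD k, hG g hg k 1, map_one]

theorem main
    (hK : ∀ n : ℕ, 0 < n → (Polynomial.X ^ n - 1 : Polynomial K).Splits)
    (q : MvPolynomial (Fin 2) K) (hq : q.IsHomogeneous 2) (hirr : Irreducible q)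
    (hdisc : (q.coeff (Finsupp.single 0 1 + Finsupp.single 1 1)) ^ 2 -
      4 * q.coeff (Finsupp.single 0 2) * q.coeff (Finsupp.single 1 2) ≠ 0)
    (G : Subgroup (Away 𝒜 q ≃+* Away 𝒜 q)) [Finite G]
    (hG : ∀ g ∈ G, ∀ (k : K) (z : Away 𝒜 q), g (k • z) = k • g z) :
    (∀ g ∈ G, g ^ 2 = 1) ∧ Nat.card G ≤ 4 := by
  have hqf := quad_form hq
  obtain ⟨a, hadef⟩ : ∃ a : K, a = q.coeff (Finsupp.single 0 2) := ⟨_, rfl⟩
  obtain ⟨b, hbdef⟩ : ∃ b : K, b = q.coeff (Finsupp.single 0 1 + Finsupp.single 1 1) := ⟨_, rfl⟩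
  obtain ⟨c, hcdef⟩ : ∃ c : K, c = q.coeff (Finsupp.single 1 2) := ⟨_, rfl⟩
  rw [← hadef, ← hbdef, ← hcdef] at hqf hdisc
  -- `a ≠ 0`
  have ha : a ≠ 0 := by
    intro h0
    have hfac : q = X 1 * (C b * X 0 + C c * X 1) := by
      rw [hqf, h0]
      simp only [map_zero, zero_mul, zero_add]
      ring
    rcases hirr.isUnit_or_isUnit hfac with h | h
    · exact not_isUnit_of_eval_zero (by simp) h
    · exact not_isUnit_of_eval_zero (by simp) h
  -- the dehomogenised polynomial
  obtain ⟨P, hP⟩ : ∃ P : Polynomial K, P = Polynomial.C a * Polynomial.X ^ 2 +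
      Polynomial.C b * Polynomial.X + Polynomial.C c := ⟨_, rfl⟩
  have hdeg : P.natDegree = 2 := by rw [hP]; exact Polynomial.natDegree_quadratic ha
  have hnoroot : ∀ r : K, ¬ P.IsRoot r := by
    intro r hr
    have hr' : a * r ^ 2 + b * r + c = 0 := by
      rw [Polynomial.IsRoot, hP] at hr
      simpa using hr
    have hc' : c = -(a * r ^ 2 + b * r) := by linear_combination hr'
    have hfac : q = (X 0 - C r * X 1) * (C a * X 0 + C (b + a * r) * X 1) := by
      rw [hqf, hc']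
      simp only [map_neg, map_add, map_mul, map_pow]
      ring
    rcases hirr.isUnit_or_isUnit hfac with h | h
    · exact not_isUnit_of_eval_zero (by simp) h
    · exact not_isUnit_of_eval_zero (by simp) h
  have hPirr : Irreducible P := by
    apply Polynomial.irreducible_of_degree_le_three_of_not_isRoot _ hnoroot
    rw [hdeg]
    decide
  have heval : ∀ {S : Type u} [CommRing S] (i : K →+* S) (x : S),
      P.eval₂ i x = i a * x ^ 2 + i b * x + i c := by
    intro S _ i x
    rw [hP]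
    simp only [Polynomial.eval₂_add, Polynomial.eval₂_mul, Polynomial.eval₂_pow,
      Polynomial.eval₂_C, Polynomial.eval₂_X]
  have : Fact (Irreducible P) := ⟨hPirr⟩
  have hroot : algebraMap K (AdjoinRoot P) a * (AdjoinRoot.root P) ^ 2 +
      algebraMap K (AdjoinRoot P) b * (AdjoinRoot.root P) + algebraMap K (AdjoinRoot P) c = 0 := by
    have h := AdjoinRoot.eval₂_root P
    rw [← AdjoinRoot.algebraMap_eq, heval] at h
    exact h
  obtain ⟨β, hβ⟩ : ∃ β : AdjoinRoot P, β = algebraMap K (AdjoinRoot P) (-b / a)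
      - AdjoinRoot.root P := ⟨_, rfl⟩
  have hβroot : P.eval₂ (AdjoinRoot.of P) β = 0 := by
    have ha' : algebraMap K (AdjoinRoot P) a ≠ 0 := (map_ne_zero _).mpr ha
    have hβ' : β = -algebraMap K (AdjoinRoot P) b / algebraMap K (AdjoinRoot P) a
        - AdjoinRoot.root P := by
      rw [hβ, map_div₀, map_neg]
    rw [← AdjoinRoot.algebraMap_eq, heval, hβ']
    field_simp
    linear_combination (algebraMap K (AdjoinRoot P) a) * hroot
  have hof : ∀ k, algebraMap K (AdjoinRoot P) k = AdjoinRoot.of P k := by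
    intro k
    rw [AdjoinRoot.algebraMap_eq]
  have hσK : ∀ k, AdjoinRoot.lift (AdjoinRoot.of P) β hβroot
      (algebraMap K (AdjoinRoot P) k) = algebraMap K (AdjoinRoot P) k := by
    intro k
    rw [hof, AdjoinRoot.lift_of]
  have hσα : AdjoinRoot.lift (AdjoinRoot.of P) β hβroot (AdjoinRoot.root P) =
      algebraMap K (AdjoinRoot P) (-b / a) - AdjoinRoot.root P := by
    rw [AdjoinRoot.lift_root, hβ]
  exact main_of_root hK q hq hqf ha hdisc (AdjoinRoot.root P) hroot
    (AdjoinRoot.lift (AdjoinRoot.of P) β hβroot) hσK hσα G hG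

end Main
--END12

end Helper71.P1Aut
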