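import Mathlib

set_option autoImplicit false
universe u

namespace Helper71.QuadSq

open MvPolynomial

variable {κ : Type u} [Field κ]

local notation "R" => MvPolynomial (Fin 2) κ

/-- additive Leibniz maps on a commutative ring -/
structure IsDer {A : Type*} [CommRing A] (D : A → A) : Prop where
  add : ∀ u v, D (u + v) = D u + D v
  leib : ∀ u v, D (u * v) = u * D v + v * D u

theorem IsDer.map_zero {A : Type*} [CommRing A] {D : A → A} (h : IsDer D) : D 0 = 0 := by
  have := h.add 0 0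
  rw [add_zero] at this
  exact left_eq_add.mp this

theorem IsDer.map_one {A : Type*} [CommRing A] {D : A → A} (h : IsDer D) : D 1 = 0 := by
  have := h.leib 1 1
  rw [mul_one, one_mul] at this
  exact left_eq_add.mp this

theorem IsDer.map_sq {A : Type*} [CommRing A] [CharP A 2] {D : A → A} (h : IsDer D) (u : A) :
    D (u ^ 2) = 0 := by
  rw [pow_two, h.leib, ← two_mul, CharTwo.two_eq_zero, zero_mul]

theorem IsDer.map_sum {A : Type*} [CommRing A] {D : A → A} (h : IsDer D) {ι : Type*} (s : Finset ι)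
    (g : ι → A) : D (∑ i ∈ s, g i) = ∑ i ∈ s, D (g i) := by
  classical
  induction s using Finset.induction_on with
  | empty => simp [h.map_zero]
  | insert a s ha ih => rw [Finset.sum_insert ha, Finset.sum_insert ha, h.add, ih]

/-- a Leibniz map sends `I^2` into `I`. -/
theorem der_sq_mem {A : Type*} [CommRing A] {D : A → A} (h : IsDer D) (I : Ideal A) {q : A}
    (hq : q ∈ I ^ 2) : D q ∈ I := by
  rw [pow_two] at hq
  refine Submodule.mul_induction_on hq ?_ ?_
  · intro u hu v hv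
    rw [h.leib]
    exact I.add_mem (I.mul_mem_right _ hu) (I.mul_mem_right _ hv)
  · intro u v hu hv
    rw [h.add]
    exact I.add_mem hu hv

theorem isDer_pderiv (i : Fin 2) : IsDer (fun p : R => pderiv i p) where
  add u v := map_add _ u v
  leib u v := by
    show pderiv i (u * v) = u * pderiv i v + v * pderiv i u
    rw [Derivation.leibniz]
    simp [smul_eq_mul]

/-- coefficientwise extension of an additive map -/
noncomputable def Theta (θ : κ → κ) (p : R) : R :=
  ∑ m ∈ p.support, monomial m (θ (coeff m p))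

theorem coeff_Theta {θ : κ → κ} (h0 : θ 0 = 0) (p : R) (m : Fin 2 →₀ ℕ) :
    coeff m (Theta θ p) = θ (coeff m p) := by
  classical
  unfold Theta
  rw [coeff_sum]
  simp only [coeff_monomial]
  rw [Finset.sum_ite_eq']
  split_ifs with hm
  · rfl
  · rw [notMem_support_iff.mp hm, h0]

theorem isDer_Theta {θ : κ → κ} (h : IsDer θ) : IsDer (Theta θ : R → R) where
  add u v := by
    ext m
    rw [coeff_Theta h.map_zero, coeff_add, coeff_add, coeff_Theta h.map_zero, coeff_Theta h.map_zero, h.add]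
  leib u v := by
    classical
    ext m
    rw [mul_comm v (Theta θ u), coeff_Theta h.map_zero, coeff_add, coeff_mul, coeff_mul, coeff_mul,
      h.map_sum, ← Finset.sum_add_distrib]
    refine Finset.sum_congr rfl fun x _ => ?_
    rw [h.leib, coeff_Theta h.map_zero, coeff_Theta h.map_zero, mul_comm (coeff x.2 v)]

theorem Theta_monomial {θ : κ → κ} (h0 : θ 0 = 0) (m : Fin 2 →₀ ℕ) (c : κ) :
    Theta θ (monomial m c : R) = monomial m (θ c) := by
  classical
  ext m'
  rw [coeff_Theta h0, coeff_monomial, coeff_monomial]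
  split_ifs
  · rfl
  · exact h0

section Deriv

variable [CharP κ 2]

theorem sq_add_char2 (u v : κ) : (u + v) ^ 2 = u ^ 2 + v ^ 2 := by
  have h2 : (2 : κ) = 0 := CharTwo.two_eq_zero
  rw [add_sq]
  linear_combination (u * v) * h2

/-- `E + E z` as a subfield, when `z^2 ∈ E`. -/
def adjoinSqrt (E : Subfield κ) (z : κ) (hz : z ^ 2 ∈ E) : Subfield κ where
  carrier := {t | ∃ u ∈ E, ∃ v ∈ E, t = u + v * z}
  mul_mem' := by
    rintro _ _ ⟨u, hu, v, hv, rfl⟩ ⟨u', hu', v', hv', rfl⟩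
    refine ⟨u * u' + v * v' * z ^ 2, E.add_mem (E.mul_mem hu hu') (E.mul_mem (E.mul_mem hv hv') hz),
      u * v' + u' * v, E.add_mem (E.mul_mem hu hv') (E.mul_mem hu' hv), ?_⟩
    ring
  one_mem' := ⟨1, E.one_mem, 0, E.zero_mem, by ring⟩
  add_mem' := by
    rintro _ _ ⟨u, hu, v, hv, rfl⟩ ⟨u', hu', v', hv', rfl⟩
    exact ⟨u + u', E.add_mem hu hu', v + v', E.add_mem hv hv', by ring⟩
  zero_mem' := ⟨0, E.zero_mem, 0, E.zero_mem, by ring⟩
  neg_mem' := by
    rintro _ ⟨u, hu, v, hv, rfl⟩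
    exact ⟨-u, E.neg_mem hu, -v, E.neg_mem hv, by ring⟩
  inv_mem' := by
    rintro _ ⟨u, hu, v, hv, rfl⟩
    by_cases h0 : u + v * z = 0
    · rw [h0, inv_zero]
      exact ⟨0, E.zero_mem, 0, E.zero_mem, by ring⟩
    · have hN : (u + v * z) ^ 2 = u ^ 2 + v ^ 2 * z ^ 2 := by
        rw [sq_add_char2, mul_pow]
      have hNE : u ^ 2 + v ^ 2 * z ^ 2 ∈ E :=
        E.add_mem (E.pow_mem hu 2) (E.mul_mem (E.pow_mem hv 2) hz)
      have hN0 : u ^ 2 + v ^ 2 * z ^ 2 ≠ 0 := by
        rw [← hN]; exact pow_ne_zero 2 h0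
      refine ⟨u * (u ^ 2 + v ^ 2 * z ^ 2)⁻¹, E.mul_mem hu (E.inv_mem hNE),
        v * (u ^ 2 + v ^ 2 * z ^ 2)⁻¹, E.mul_mem hv (E.inv_mem hNE), ?_⟩
      rw [← hN]
      field_simp

theorem mem_adjoinSqrt {E : Subfield κ} {z : κ} {hz : z ^ 2 ∈ E} {t : κ} :
    t ∈ adjoinSqrt E z hz ↔ ∃ u ∈ E, ∃ v ∈ E, t = u + v * z := Iff.rfl

/-- maximal subfield avoiding `c`: gives a decomposition `κ = E ⊕ E c`. -/
theorem exists_decomp (F : Subfield κ) (hF : ∀ u : κ, u ^ 2 ∈ F) (c : κ) (hc : c ∉ F) :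
    ∃ E : Subfield κ, F ≤ E ∧ c ∉ E ∧ ∀ z : κ, ∃ u ∈ E, ∃ v ∈ E, z = u + v * c := by
  let S : Set (Subfield κ) := {E | F ≤ E ∧ c ∉ E}
  obtain ⟨E, hFE, hmax⟩ := zorn_le_nonempty₀ S (by
    intro C hCS hC y hy
    refine ⟨sSup C, ⟨le_trans (hCS hy).1 (le_sSup hy), ?_⟩, fun z hz => le_sSup hz⟩
    intro hmem
    rw [Subfield.mem_sSup_of_directedOn ⟨y, hy⟩ hC.directedOn] at hmem
    obtain ⟨s, hs, hcs⟩ := hmem
    exact (hCS hs).2 hcs) F ⟨le_rfl, hc⟩
  have hES : E ∈ S := hmax.prop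
  refine ⟨E, hES.1, hES.2, fun z => ?_⟩
  by_cases hzE : z ∈ E
  · exact ⟨z, hzE, 0, E.zero_mem, by ring⟩
  · have hz2 : z ^ 2 ∈ E := hES.1 (hF z)
    have hle : E ≤ adjoinSqrt E z hz2 := fun t ht => ⟨t, ht, 0, E.zero_mem, by ring⟩
    have hzmem : z ∈ adjoinSqrt E z hz2 := ⟨0, E.zero_mem, 1, E.one_mem, by ring⟩
    have hnotS : adjoinSqrt E z hz2 ∉ S := by
      intro hS'
      have := hmax.le_of_ge hS' hle
      exact hzE (this hzmem)
    have hcmem : c ∈ adjoinSqrt E z hz2 := by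
      by_contra hcn
      exact hnotS ⟨le_trans hES.1 hle, hcn⟩
    obtain ⟨u, hu, v, hv, hcuv⟩ := hcmem
    have hv0 : v ≠ 0 := by
      rintro rfl
      apply hES.2
      rw [hcuv, zero_mul, add_zero]; exact hu
    refine ⟨v⁻¹ * u, E.mul_mem (E.inv_mem hv) hu, v⁻¹, E.inv_mem hv, ?_⟩
    rw [hcuv]
    have h2 : u + u = 0 := CharTwo.add_self_eq_zero u
    field_simp
    linear_combination (-1 : κ) * h2

end Deriv

section CoordDer

theorem decomp_unique (E : Subfield κ) (c : κ) (hc : c ∉ E) {u v u' v' : κ}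
    (hu : u ∈ E) (hv : v ∈ E) (hu' : u' ∈ E) (hv' : v' ∈ E) (h : u + v * c = u' + v' * c) :
    u = u' ∧ v = v' := by
  have hvv : v = v' := by
    by_contra hne
    have h1 : (v - v') * c = u' - u := by linear_combination h
    have h2 : v - v' ≠ 0 := sub_ne_zero.mpr hne
    apply hc
    have : c = (v - v')⁻¹ * (u' - u) := by
      rw [← h1]; field_simp
    rw [this]
    exact E.mul_mem (E.inv_mem (E.sub_mem hv hv')) (E.sub_mem hu' hu)
  refine ⟨?_, hvv⟩
  rw [hvv] at h
  exact add_right_cancel h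

variable [CharP κ 2]

/-- The coordinate derivation `∂/∂c` for a decomposition `κ = E ⊕ E c`. -/
theorem exists_coordDer (E : Subfield κ) (c : κ) (hc : c ∉ E) (hc2 : c ^ 2 ∈ E)
    (hdec : ∀ z : κ, ∃ u ∈ E, ∃ v ∈ E, z = u + v * c) :
    ∃ θ : κ → κ, IsDer θ ∧ (∀ u ∈ E, θ u = 0) ∧ θ c = 1 ∧ ∀ z, θ z ∈ E := by
  choose U hU V hV hz using hdec
  have key : ∀ (z u v : κ), u ∈ E → v ∈ E → z = u + v * c → V z = v := by
    intro z u v hu hv hzz
    have := decomp_unique E c hc (hU z) (hV z) hu hv ((hz z).symm.trans hzz)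
    exact this.2
  refine ⟨V, ⟨?_, ?_⟩, ?_, ?_, hV⟩
  · intro a b
    apply key (a + b) (U a + U b) (V a + V b) (E.add_mem (hU a) (hU b)) (E.add_mem (hV a) (hV b))
    conv_lhs => rw [hz a, hz b]
    ring
  · intro a b
    have h2 : (2 : κ) = 0 := CharTwo.two_eq_zero
    have hk := key (a * b) (U a * U b + V a * V b * c ^ 2)
      (U a * V b + U b * V a)
      (E.add_mem (E.mul_mem (hU a) (hU b)) (E.mul_mem (E.mul_mem (hV a) (hV b)) hc2))
      (E.add_mem (E.mul_mem (hU a) (hV b)) (E.mul_mem (hU b) (hV a)))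
      (by conv_lhs => rw [hz a, hz b]
          ring)
    have e : a * V b + b * V a = (U a + V a * c) * V b + (U b + V b * c) * V a := by
      rw [← hz a, ← hz b]
    rw [hk, e]
    linear_combination (-(V a * V b * c)) * h2
  · intro u hu
    exact key u u 0 hu E.zero_mem (by ring)
  · exact key c 0 1 E.zero_mem E.one_mem (by ring)

/-- Derivation with `θ c = 1`, vanishing on a subfield `E ⊇ F`, values in `E`. -/
theorem exists_der (F : Subfield κ) (hF : ∀ u : κ, u ^ 2 ∈ F) (c : κ) (hc : c ∉ F) :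
    ∃ (E : Subfield κ) (θ : κ → κ), F ≤ E ∧ c ∉ E ∧ IsDer θ ∧ (∀ u ∈ E, θ u = 0) ∧ θ c = 1 ∧
      ∀ z, θ z ∈ E := by
  obtain ⟨E, hFE, hcE, hdec⟩ := exists_decomp F hF c hc
  obtain ⟨θ, h1, h2, h3, h4⟩ := exists_coordDer E c hcE (hFE (hF c)) hdec
  exact ⟨E, θ, hFE, hcE, h1, h2, h3, h4⟩

end CoordDer

/-- polynomials without constant term are combinations of the variables -/
theorem exists_decomp_vars (p : R) (h0 : coeff 0 p = 0) :
    ∃ r₀ r₁ : R, p = r₀ * X 0 + r₁ * X 1 := by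
  have hmem : p ∈ Ideal.span (Set.range (X : Fin 2 → R)) := by
    rw [← Set.image_univ, mem_ideal_span_X_image]
    intro m hm
    have hm0 : m ≠ 0 := by
      rintro rfl
      exact (mem_support_iff.mp hm) h0
    obtain ⟨i, hi⟩ := Finsupp.ne_iff.mp hm0
    exact ⟨i, Set.mem_univ _, by simpa using hi⟩
  rw [Ideal.mem_span_range_iff_exists_fun] at hmem
  obtain ⟨c, hc⟩ := hmem
  refine ⟨c 0, c 1, ?_⟩
  rw [← hc, Fin.sum_univ_two]

theorem coeff_lin0 (r₀ r₁ : R) :
    coeff (Finsupp.single 0 1) (r₀ * X 0 + r₁ * X 1) = coeff 0 r₀ := by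
  classical
  rw [coeff_add, coeff_mul_X', coeff_mul_X']
  simp

theorem coeff_lin1 (r₀ r₁ : R) :
    coeff (Finsupp.single 1 1) (r₀ * X 0 + r₁ * X 1) = coeff 0 r₁ := by
  classical
  rw [coeff_add, coeff_mul_X', coeff_mul_X']
  simp

/-- coefficient of `X_i^2` in a product of polynomials without constant terms -/
theorem coeff_sq_mul (i : Fin 2) (p p' : R) (h : coeff 0 p = 0) (h' : coeff 0 p' = 0) :
    coeff (Finsupp.single i 2) (p * p') =
      coeff (Finsupp.single i 1) p * coeff (Finsupp.single i 1) p' := by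
  classical
  rw [coeff_mul, Finsupp.antidiagonal_single, Finset.sum_map]
  have h2 : Finset.HasAntidiagonal.antidiagonal (2 : ℕ) = {((0 : ℕ), (2 : ℕ)), (1, 1), (2, 0)} := by decide
  rw [h2, Finset.sum_insert (by decide), Finset.sum_insert (by decide), Finset.sum_singleton]
  simp [h, h']

section Origin

variable [CharP κ 2]

theorem sq_add_R (a b : R) : (a + b) ^ 2 = a ^ 2 + b ^ 2 := by
  have h2 : (2 : R) = 0 := CharTwo.two_eq_zero
  rw [add_sq]
  linear_combination (a * b) * h2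

/-- elements with nonzero constant term are units modulo `J ∋ X_i^2` -/
theorem unit_cancel (J : Ideal R) (hX : ∀ i, (X i : R) ^ 2 ∈ J) (u z : R) (hu : coeff 0 u ≠ 0)
    (h : u * z ∈ J) : z ∈ J := by
  set δ := coeff 0 u with hδ
  have hn0 : coeff 0 (u - C δ) = 0 := by
    rw [coeff_sub, coeff_zero_C, sub_self]
  obtain ⟨r₀, r₁, hr⟩ := exists_decomp_vars _ hn0
  have hn2 : (u - C δ) ^ 2 ∈ J := by
    rw [hr, sq_add_R, mul_pow, mul_pow]
    exact J.add_mem (J.mul_mem_left _ (hX 0)) (J.mul_mem_left _ (hX 1))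
  have hu2 : u ^ 2 = C (δ ^ 2) + (u - C δ) ^ 2 := by
    have : u = C δ + (u - C δ) := by ring
    conv_lhs => rw [this]
    rw [sq_add_R, map_pow]
  have h1 : C (δ ^ 2) * z ∈ J := by
    have e : C (δ ^ 2) * z = u * (u * z) - (u - C δ) ^ 2 * z := by
      rw [← mul_assoc, ← pow_two, hu2]; ring
    rw [e]
    exact J.sub_mem (J.mul_mem_left _ h) (J.mul_mem_right _ hn2)
  have e : z = C ((δ ^ 2)⁻¹) * (C (δ ^ 2) * z) := by
    rw [← mul_assoc, ← map_mul, inv_mul_cancel₀ (pow_ne_zero 2 hu), map_one, one_mul]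
  rw [e]
  exact J.mul_mem_left _ h1

/-- Lemma O': quadrics `A X^2 + B Y^2` in `J^2` for `J ∋ X^2, Y^2` of colength `> 1`. -/
theorem lemmaO (J : Ideal R) (hX : ∀ i, (X i : R) ^ 2 ∈ J)
    (hJ : ¬∃ φ : R → κ, ∀ p, p - C (φ p) ∈ J) (A B : κ)
    (hq : C A * X 0 ^ 2 + C B * X 1 ^ 2 ∈ J ^ 2) :
    ∃ c α β : κ, A = c * α ^ 2 ∧ B = c * β ^ 2 := by
  classical
  -- (b) elements of J have no constant term
  have hb : ∀ p ∈ J, coeff 0 p = 0 := by
    intro p hp
    by_contra hne
    have h1 : (1 : R) ∈ J := unit_cancel J hX p 1 hne (by rwa [mul_one])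
    apply hJ
    refine ⟨fun _ => 0, fun p => ?_⟩
    rw [(Ideal.eq_top_iff_one J).mpr h1]
    exact Submodule.mem_top
  -- determinants of linear parts vanish
  have hdet : ∀ p₁ ∈ J, ∀ p₂ ∈ J,
      coeff (Finsupp.single 0 1) p₁ * coeff (Finsupp.single 1 1) p₂ -
        coeff (Finsupp.single 1 1) p₁ * coeff (Finsupp.single 0 1) p₂ = 0 := by
    intro p₁ hp₁ p₂ hp₂
    by_contra hne
    obtain ⟨a₁, b₁, e₁⟩ := exists_decomp_vars p₁ (hb p₁ hp₁)
    obtain ⟨a₂, b₂, e₂⟩ := exists_decomp_vars p₂ (hb p₂ hp₂)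
    rw [e₁, e₂, coeff_lin0, coeff_lin1, coeff_lin0, coeff_lin1] at hne
    have hdu : coeff 0 (a₁ * b₂ - b₁ * a₂) ≠ 0 := by
      rw [coeff_sub, ← constantCoeff_eq, map_mul, map_mul]
      exact hne
    have hx : (X 0 : R) ∈ J := by
      apply unit_cancel J hX _ _ hdu
      have : (a₁ * b₂ - b₁ * a₂) * X 0 = b₂ * p₁ - b₁ * p₂ := by rw [e₁, e₂]; ring
      rw [this]
      exact J.sub_mem (J.mul_mem_left _ hp₁) (J.mul_mem_left _ hp₂)
    have hy : (X 1 : R) ∈ J := by
      apply unit_cancel J hX _ _ hdu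
      have : (a₁ * b₂ - b₁ * a₂) * X 1 = a₁ * p₂ - a₂ * p₁ := by rw [e₁, e₂]; ring
      rw [this]
      exact J.sub_mem (J.mul_mem_left _ hp₂) (J.mul_mem_left _ hp₁)
    apply hJ
    refine ⟨fun p => coeff 0 p, fun p => ?_⟩
    have h0 : coeff 0 (p - C (coeff 0 p)) = 0 := by rw [coeff_sub, coeff_zero_C, sub_self]
    obtain ⟨r₀, r₁, hr⟩ := exists_decomp_vars _ h0
    rw [hr]
    exact J.add_mem (J.mul_mem_left _ hx) (J.mul_mem_left _ hy)
  -- coefficients of the given quadric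
  have hA : coeff (Finsupp.single 0 2) (C A * X 0 ^ 2 + C B * X 1 ^ 2 : R) = A := by
    rw [C_mul_X_pow_eq_monomial, C_mul_X_pow_eq_monomial, coeff_add, coeff_monomial, coeff_monomial]
    simp [Finsupp.single_eq_single_iff]
  have hB : coeff (Finsupp.single 1 2) (C A * X 0 ^ 2 + C B * X 1 ^ 2 : R) = B := by
    rw [C_mul_X_pow_eq_monomial, C_mul_X_pow_eq_monomial, coeff_add, coeff_monomial, coeff_monomial]
    simp [Finsupp.single_eq_single_iff]
  rw [pow_two] at hq
  by_cases hall : ∀ p ∈ J, coeff (Finsupp.single 0 1) p = 0 ∧ coeff (Finsupp.single 1 1) p = 0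
  · -- all linear parts vanish
    have hP : ∀ g ∈ J * J, coeff (Finsupp.single 0 2) g = 0 ∧ coeff (Finsupp.single 1 2) g = 0 := by
      intro g hg
      refine Submodule.mul_induction_on hg ?_ ?_
      · intro p hp p' hp'
        rw [coeff_sq_mul 0 p p' (hb p hp) (hb p' hp'), coeff_sq_mul 1 p p' (hb p hp) (hb p' hp'),
          (hall p hp).1, (hall p hp).2]
        simp
      · intro g g' hg hg'
        rw [coeff_add, coeff_add, hg.1, hg.2, hg'.1, hg'.2]
        simp
    have := hP _ hq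
    rw [hA, hB] at this
    exact ⟨0, 0, 0, by rw [this.1]; ring, by rw [this.2]; ring⟩
  · push Not at hall
    obtain ⟨p₀, hp₀, hne₀⟩ := hall
    set α := coeff (Finsupp.single 0 1) p₀ with hα
    set β := coeff (Finsupp.single 1 1) p₀ with hβ
    have hlin : ∀ p ∈ J, ∃ t : κ, coeff (Finsupp.single 0 1) p = t * α ∧
        coeff (Finsupp.single 1 1) p = t * β := by
      intro p hp
      have hd := hdet p₀ hp₀ p hp
      rw [← hα, ← hβ] at hd
      by_cases hα0 : α = 0
      · have hβ0 : β ≠ 0 := hne₀ hα0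
        refine ⟨coeff (Finsupp.single 1 1) p / β, ?_, ?_⟩
        · rw [hα0, zero_mul, sub_eq_zero] at hd
          rw [hα0, mul_zero]
          have : β * coeff (Finsupp.single 0 1) p = 0 := hd.symm
          rcases mul_eq_zero.mp this with h | h
          · exact absurd h hβ0
          · exact h
        · field_simp
      · refine ⟨coeff (Finsupp.single 0 1) p / α, ?_, ?_⟩
        · field_simp
        · field_simp
          linear_combination hd
    have hP : ∀ g ∈ J * J, ∃ c : κ, coeff (Finsupp.single 0 2) g = c * α ^ 2 ∧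
        coeff (Finsupp.single 1 2) g = c * β ^ 2 := by
      intro g hg
      refine Submodule.mul_induction_on hg ?_ ?_
      · intro p hp p' hp'
        obtain ⟨t, ht0, ht1⟩ := hlin p hp
        obtain ⟨t', ht0', ht1'⟩ := hlin p' hp'
        refine ⟨t * t', ?_, ?_⟩
        · rw [coeff_sq_mul 0 p p' (hb p hp) (hb p' hp'), ht0, ht0']; ring
        · rw [coeff_sq_mul 1 p p' (hb p hp) (hb p' hp'), ht1, ht1']; ring
      · rintro g g' ⟨c, hc0, hc1⟩ ⟨c', hc0', hc1'⟩
        refine ⟨c + c', ?_, ?_⟩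
        · rw [coeff_add, hc0, hc0']; ring
        · rw [coeff_add, hc1, hc1']; ring
    obtain ⟨c, hc0, hc1⟩ := hP _ hq
    rw [hA] at hc0
    rw [hB] at hc1
    exact ⟨c, α, β, hc0, hc1⟩

end Origin

theorem const_mem_eq_zero (I : Ideal R) (hIP : ¬∃ φ : R → κ, ∀ p, p - C (φ p) ∈ I) (c : κ)
    (h : (C c : R) ∈ I) : c = 0 := by
  by_contra hc
  apply hIP
  refine ⟨fun _ => 0, fun p => ?_⟩
  have h1 : (1 : R) ∈ I := by
    have : (1 : R) = C c⁻¹ * C c := by rw [← map_mul, inv_mul_cancel₀ hc, map_one]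
    rw [this]; exact I.mul_mem_left _ h
  rw [(Ideal.eq_top_iff_one I).mpr h1]; exact Submodule.mem_top

theorem Theta_C {θ : κ → κ} (h0 : θ 0 = 0) (c : κ) : Theta θ (C c : R) = C (θ c) :=
  Theta_monomial h0 0 c

section CaseB

variable [CharP κ 2]

/-- the subfield of squares -/
def sqField : Subfield κ where
  carrier := {t | ∃ u, t = u ^ 2}
  mul_mem' := by rintro _ _ ⟨u, rfl⟩ ⟨v, rfl⟩; exact ⟨u * v, (mul_pow u v 2).symm⟩
  one_mem' := ⟨1, by ring⟩
  add_mem' := by rintro _ _ ⟨u, rfl⟩ ⟨v, rfl⟩; exact ⟨u + v, (sq_add_char2 u v).symm⟩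
  zero_mem' := ⟨0, by ring⟩
  neg_mem' := by rintro _ ⟨u, rfl⟩; exact ⟨u, CharTwo.neg_eq _⟩
  inv_mem' := by rintro _ ⟨u, rfl⟩; exact ⟨u⁻¹, (inv_pow u 2).symm⟩

theorem mem_sqField {t : κ} : t ∈ (sqField : Subfield κ) ↔ ∃ u, t = u ^ 2 := Iff.rfl

theorem Theta_quad {θ : κ → κ} (hθ : IsDer θ) (i0 i1 : Fin 2) (a' f' : κ) :
    Theta θ (C a' + X i0 ^ 2 + C f' * X i1 ^ 2 : R) = C (θ a') + C (θ f') * X i1 ^ 2 := by
  have hΘ := isDer_Theta (κ := κ) hθ
  rw [hΘ.add, hΘ.add, Theta_C hθ.map_zero, hΘ.map_sq, add_zero, C_mul_X_pow_eq_monomial,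
    Theta_monomial hθ.map_zero, ← C_mul_X_pow_eq_monomial]

/-- translation automorphism -/
noncomputable def transl (P : Fin 2 → κ) : R →ₐ[κ] R := aeval (fun i => X i + C (P i))

omit [CharP κ 2] in
theorem transl_X (P : Fin 2 → κ) (i : Fin 2) : transl P (X i) = X i + C (P i) := aeval_X _ _

omit [CharP κ 2] in
theorem transl_C (P : Fin 2 → κ) (c : κ) : transl P (C c) = C c := by
  unfold transl
  rw [aeval_C]; rfl

theorem transl_transl (P : Fin 2 → κ) (p : R) : transl P (transl P p) = p := by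
  have : (transl P).comp (transl P) = AlgHom.id κ R := by
    apply MvPolynomial.algHom_ext
    intro i
    rw [AlgHom.comp_apply, transl_X, map_add, transl_X, transl_C, add_assoc,
      CharTwo.add_self_eq_zero, add_zero]
    rfl
  exact DFunLike.congr_fun this p

theorem caseB (I : Ideal R) (hIP : ¬∃ φ : R → κ, ∀ p, p - C (φ p) ∈ I) (i0 i1 : Fin 2)
    (h01 : i0 ≠ i1) (a' f' : κ) (hq : (C a' + X i0 ^ 2 + C f' * X i1 ^ 2 : R) ∈ I ^ 2) :
    (∃ g, a' = g ^ 2) ∧ ∃ i, f' = i ^ 2 := by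
  have hconst := const_mem_eq_zero I hIP
  have hF : ∀ u : κ, u ^ 2 ∈ (sqField : Subfield κ) := fun u => ⟨u, rfl⟩
  have hΘ : ∀ θ : κ → κ, IsDer θ → (C (θ a') + C (θ f') * X i1 ^ 2 : R) ∈ I := by
    intro θ hθ
    have := der_sq_mem (isDer_Theta hθ) I hq
    rwa [Theta_quad hθ] at this
  by_cases hf : f' ∈ (sqField : Subfield κ)
  · obtain ⟨i, hi⟩ := hf
    refine ⟨?_, i, hi⟩
    by_contra ha
    have ha' : a' ∉ (sqField : Subfield κ) := fun ⟨g, hg⟩ => ha ⟨g, hg⟩
    obtain ⟨E, θ, -, -, hθ, -, hθa, -⟩ := exists_der sqField hF a' ha'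
    have h1 := hΘ θ hθ
    rw [hθa, hi, hθ.map_sq, map_zero, zero_mul, add_zero] at h1
    exact one_ne_zero (hconst 1 h1)
  · exfalso
    obtain ⟨E, θ₀, -, -, hθ₀, -, hθ₀f, -⟩ := exists_der sqField hF f' hf
    obtain ⟨lam, hlam⟩ : ∃ lam, lam = θ₀ a' := ⟨_, rfl⟩
    have h1 : (C lam + X i1 ^ 2 : R) ∈ I := by
      have := hΘ θ₀ hθ₀
      rwa [hθ₀f, map_one, one_mul, ← hlam] at this
    have star : ∀ θ : κ → κ, IsDer θ → θ a' = θ f' * lam := by
      intro θ hθ
      have h2 := hΘ θ hθ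
      have h3 : (C (θ a' - θ f' * lam) : R) ∈ I := by
        have e : (C (θ a' - θ f' * lam) : R) =
            (C (θ a') + C (θ f') * X i1 ^ 2) - C (θ f') * (C lam + X i1 ^ 2) := by
          rw [map_sub, map_mul]; ring
        rw [e]; exact I.sub_mem h2 (I.mul_mem_left _ h1)
      exact sub_eq_zero.mp (hconst _ h3)
    -- lam is a square
    have hlamsq : lam ∈ (sqField : Subfield κ) := by
      by_contra hl
      obtain ⟨E', θ', -, hlE', hθ', hθ'E, hθ'l, hθ'v⟩ := exists_der sqField hF lam hl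
      have hs := star θ' hθ'
      have hf1 : θ' f' = 0 := by
        by_contra hne
        apply hlE'
        have : lam = (θ' f')⁻¹ * θ' a' := by rw [hs]; field_simp
        rw [this]; exact E'.mul_mem (E'.inv_mem (hθ'v _)) (hθ'v _)
      have ha1 : θ' a' = 0 := by rw [hs, hf1, zero_mul]
      have hD : IsDer (fun z => θ' (θ₀ z) - θ₀ (θ' z)) := by
        constructor
        · intro u v; simp only [hθ₀.add, hθ'.add]; ring
        · intro u v
          simp only [hθ₀.leib, hθ'.leib, hθ₀.add, hθ'.add]; ring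
      have hsD := star _ hD
      beta_reduce at hsD
      rw [← hlam, hθ'l, ha1, hθ₀f, hθ'.map_one, hf1, hθ₀.map_zero] at hsD
      simp at hsD
    obtain ⟨u, hu⟩ := hlamsq
    have hmusq : a' + f' * lam ∈ (sqField : Subfield κ) := by
      by_contra hm
      obtain ⟨E'', θ, -, -, hθ, -, hθm, -⟩ := exists_der sqField hF _ hm
      have hl0 : θ lam = 0 := by rw [hu]; exact hθ.map_sq u
      rw [hθ.add, hθ.leib, hl0, mul_zero, zero_add, star θ hθ, mul_comm lam,
        CharTwo.add_self_eq_zero] at hθm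
      exact zero_ne_one hθm
    obtain ⟨w, hw⟩ := hmusq
    have hq' : (C a' + X i0 ^ 2 + C f' * X i1 ^ 2 : R) =
        (X i0 + C w) ^ 2 + C f' * (X i1 + C u) ^ 2 := by
      rw [sq_add_R, sq_add_R, ← map_pow, ← map_pow, ← hw, ← hu]
      have h2 : (2 : R) = 0 := CharTwo.two_eq_zero
      rw [map_add, map_mul]
      linear_combination (- C f' * C lam) * h2
    have hYI : ((X i1 + C u) ^ 2 : R) ∈ I := by
      rw [sq_add_R, ← map_pow, ← hu, add_comm]; exact h1
    have hXI : ((X i0 + C w) ^ 2 : R) ∈ I := by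
      have e : ((X i0 + C w) ^ 2 : R) =
          (C a' + X i0 ^ 2 + C f' * X i1 ^ 2) - C f' * (X i1 + C u) ^ 2 := by rw [hq']; ring
      rw [e]
      exact I.sub_mem (Ideal.pow_le_self two_ne_zero hq) (I.mul_mem_left _ hYI)
    let P : Fin 2 → κ := fun i => if i = i0 then w else u
    have hP0 : P i0 = w := if_pos rfl
    have hP1 : P i1 = u := if_neg (Ne.symm h01)
    have hsurj : Function.Surjective (transl P) := fun p => ⟨transl P p, transl_transl P p⟩
    have e0 : transl P (X i0 + C w) = X i0 := by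
      rw [map_add, transl_X, transl_C, hP0, add_assoc, CharTwo.add_self_eq_zero, add_zero]
    have e1 : transl P (X i1 + C u) = X i1 := by
      rw [map_add, transl_X, transl_C, hP1, add_assoc, CharTwo.add_self_eq_zero, add_zero]
    have hJ0 : (X i0 ^ 2 : R) ∈ Ideal.map (transl P) I := by
      have := Ideal.mem_map_of_mem (transl P) hXI
      rwa [map_pow, e0] at this
    have hJ1 : (X i1 ^ 2 : R) ∈ Ideal.map (transl P) I := by
      have := Ideal.mem_map_of_mem (transl P) hYI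
      rwa [map_pow, e1] at this
    have hJ : ¬∃ φ : R → κ, ∀ p, p - C (φ p) ∈ Ideal.map (transl P) I := by
      rintro ⟨φ, hφ⟩
      apply hIP
      refine ⟨fun p => φ (transl P p), fun p => ?_⟩
      have h := hφ (transl P p)
      rw [Ideal.mem_map_iff_of_surjective _ hsurj] at h
      obtain ⟨p', hp', hp'e⟩ := h
      have h2 := congrArg (transl P) hp'e
      rw [transl_transl, map_sub, transl_transl, transl_C] at h2
      rw [← h2]; exact hp'
    have hqJ : (X i0 ^ 2 + C f' * X i1 ^ 2 : R) ∈ Ideal.map (transl P) I ^ 2 := by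
      have := Ideal.mem_map_of_mem (transl P) hq
      rwa [Ideal.map_pow, hq', map_add, map_mul, map_pow, map_pow, e0, e1, transl_C] at this
    have hidx : (i0 = 0 ∧ i1 = 1) ∨ (i0 = 1 ∧ i1 = 0) := by
      fin_cases i0 <;> fin_cases i1 <;> simp at h01 ⊢
    apply hf
    rcases hidx with ⟨r0, r1⟩ | ⟨r0, r1⟩
    · rw [r0] at hJ0
      rw [r1] at hJ1
      rw [r0, r1] at hqJ
      have hX : ∀ i : Fin 2, (X i ^ 2 : R) ∈ Ideal.map (transl P) I := by
        intro i; fin_cases i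
        · exact hJ0
        · exact hJ1
      have hqJ' : (C 1 * X 0 ^ 2 + C f' * X 1 ^ 2 : R) ∈ Ideal.map (transl P) I ^ 2 := by
        rwa [map_one, one_mul]
      obtain ⟨c, α, β, hA, hB⟩ := lemmaO _ hX hJ 1 f' hqJ'
      have hα : α ≠ 0 := by
        rintro rfl
        simp at hA
      have hc : c = (α ^ 2)⁻¹ := eq_inv_of_mul_eq_one_left hA.symm
      refine ⟨β / α, ?_⟩
      rw [hB, hc]; field_simp
    · rw [r0] at hJ0
      rw [r1] at hJ1
      rw [r0, r1] at hqJ
      have hX : ∀ i : Fin 2, (X i ^ 2 : R) ∈ Ideal.map (transl P) I := by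
        intro i; fin_cases i
        · exact hJ1
        · exact hJ0
      have hqJ' : (C f' * X 0 ^ 2 + C 1 * X 1 ^ 2 : R) ∈ Ideal.map (transl P) I ^ 2 := by
        rwa [map_one, one_mul, add_comm]
      obtain ⟨c, α, β, hA, hB⟩ := lemmaO _ hX hJ f' 1 hqJ'
      have hβ : β ≠ 0 := by
        rintro rfl
        simp at hB
      have hc : c = (β ^ 2)⁻¹ := eq_inv_of_mul_eq_one_left hB.symm
      refine ⟨α / β, ?_⟩
      rw [hA, hc]; field_simp

end CaseB

section LemmaA

/-- the evaluation killing `L = α + β X_{i0} + γ X_{i1}` -/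
noncomputable def ev (i0 : Fin 2) (α β γ : κ) : R →ₐ[κ] Polynomial κ :=
  aeval (fun i => if i = i0 then Polynomial.X else
    Polynomial.C (-γ⁻¹) * (Polynomial.C α + Polynomial.C β * Polynomial.X))

/-- the section of `ev` -/
noncomputable def iot (i0 : Fin 2) : Polynomial κ →ₐ[κ] R := Polynomial.aeval (X i0)

theorem ev_X0 (i0 : Fin 2) (α β γ : κ) : ev i0 α β γ (X i0) = Polynomial.X := by
  unfold ev; rw [aeval_X, if_pos rfl]

theorem ev_X1 (i0 i1 : Fin 2) (h01 : i0 ≠ i1) (α β γ : κ) :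
    ev i0 α β γ (X i1) =
      Polynomial.C (-γ⁻¹) * (Polynomial.C α + Polynomial.C β * Polynomial.X) := by
  unfold ev; rw [aeval_X, if_neg (Ne.symm h01)]

theorem ev_C (i0 : Fin 2) (α β γ c : κ) : ev i0 α β γ (C c) = Polynomial.C c := by
  unfold ev; rw [aeval_C]; rfl

theorem iot_X (i0 : Fin 2) : iot (κ := κ) i0 Polynomial.X = X i0 := by
  unfold iot; rw [Polynomial.aeval_X]

theorem iot_C (i0 : Fin 2) (c : κ) : iot (κ := κ) i0 (Polynomial.C c) = C c := by
  unfold iot; rw [Polynomial.aeval_C]; rfl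

theorem ev_iot (i0 : Fin 2) (α β γ : κ) (g : Polynomial κ) : ev i0 α β γ (iot i0 g) = g := by
  have : (ev i0 α β γ).comp (iot i0) = AlgHom.id κ (Polynomial κ) := by
    apply Polynomial.algHom_ext
    rw [AlgHom.comp_apply, iot_X, ev_X0]; rfl
  exact DFunLike.congr_fun this g

theorem ev_L (i0 i1 : Fin 2) (h01 : i0 ≠ i1) (α β γ : κ) (hγ : γ ≠ 0) :
    ev i0 α β γ (C α + C β * X i0 + C γ * X i1) = 0 := by
  rw [map_add, map_add, map_mul, map_mul, ev_C, ev_C, ev_C, ev_X0, ev_X1 i0 i1 h01, ← mul_assoc,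
    ← map_mul, mul_neg, mul_inv_cancel₀ hγ, map_neg, map_one]
  ring

theorem sub_iot_ev_mem (i0 i1 : Fin 2) (h01 : i0 ≠ i1) (α β γ : κ) (hγ : γ ≠ 0) (p : R) :
    p - iot i0 (ev i0 α β γ p) ∈ Ideal.span {(C α + C β * X i0 + C γ * X i1 : R)} := by
  set J := Ideal.span {(C α + C β * X i0 + C γ * X i1 : R)} with hJ
  have h : (Ideal.Quotient.mkₐ κ J).comp ((iot i0).comp (ev i0 α β γ)) = Ideal.Quotient.mkₐ κ J := by
    apply MvPolynomial.algHom_ext
    intro i
    have hi : i = i0 ∨ i = i1 := by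
      fin_cases i0 <;> fin_cases i1 <;> fin_cases i <;> simp at h01 ⊢
    rw [AlgHom.comp_apply, AlgHom.comp_apply, Ideal.Quotient.mkₐ_eq_mk, Ideal.Quotient.eq]
    rcases hi with rfl | rfl
    · rw [ev_X0, iot_X, sub_self]; exact J.zero_mem
    · rw [ev_X1 i0 i h01, map_mul, map_add, map_mul, iot_C, iot_C, iot_C, iot_X]
      have e : C (-γ⁻¹) * (C α + C β * X i0) - X i =
          C (-γ⁻¹) * (C α + C β * X i0 + C γ * X i) := by
        have : (C (-γ⁻¹) * C γ : R) = -1 := by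
          rw [← map_mul, neg_mul, inv_mul_cancel₀ hγ, map_neg, map_one]
        linear_combination (- X i) * this
      rw [e]
      exact J.mul_mem_left _ (Ideal.subset_span rfl)
  have h2 := DFunLike.congr_fun h p
  rw [AlgHom.comp_apply, AlgHom.comp_apply, Ideal.Quotient.mkₐ_eq_mk, Ideal.Quotient.eq] at h2
  have := J.neg_mem h2
  rwa [neg_sub] at this

theorem natDegree_ev_le (i0 : Fin 2) (α β γ : κ) (p : R) :
    (ev i0 α β γ p).natDegree ≤ p.totalDegree := by
  unfold ev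
  rw [aeval_def, eval₂_eq]
  apply Polynomial.natDegree_sum_le_of_forall_le
  intro d hd
  refine (Polynomial.natDegree_C_mul_le _ _).trans ?_
  refine (Polynomial.natDegree_prod_le _ _).trans ?_
  refine le_trans ?_ (le_totalDegree hd)
  rw [Finsupp.sum]
  apply Finset.sum_le_sum
  intro i _
  refine Polynomial.natDegree_pow_le.trans ?_
  have h1 : (if i = i0 then (Polynomial.X : Polynomial κ) else
      Polynomial.C (-γ⁻¹) * (Polynomial.C α + Polynomial.C β * Polynomial.X)).natDegree ≤ 1 := by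
    split_ifs
    · exact Polynomial.natDegree_X_le
    · refine (Polynomial.natDegree_C_mul_le _ _).trans ?_
      refine (Polynomial.natDegree_add_le _ _).trans ?_
      rw [Polynomial.natDegree_C]
      exact max_le (Nat.zero_le _) ((Polynomial.natDegree_C_mul_le _ _).trans Polynomial.natDegree_X_le)
  calc d i * _ ≤ d i * 1 := Nat.mul_le_mul_left _ h1
    _ = d i := mul_one _

theorem coeff_L (i0 i1 : Fin 2) (h01 : i0 ≠ i1) (α β γ : κ) :
    coeff (Finsupp.single i1 1) (C α + C β * X i0 + C γ * X i1 : R) = γ := by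
  classical
  rw [C_mul_X_eq_monomial, C_mul_X_eq_monomial, coeff_add, coeff_add, coeff_C, coeff_monomial,
    coeff_monomial]
  have h1 : (0 : Fin 2 →₀ ℕ) ≠ Finsupp.single i1 1 := by
    intro h; have := DFunLike.congr_fun h i1; simp at this
  have h2 : Finsupp.single i0 1 ≠ Finsupp.single i1 1 := by
    intro h; have := DFunLike.congr_fun h i1
    rw [Finsupp.single_eq_same, Finsupp.single_eq_of_ne (Ne.symm h01)] at this
    exact zero_ne_one this
  rw [if_neg h1, if_neg h2, if_pos rfl, zero_add, zero_add]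

theorem lemmaA (I : Ideal R) (hIP : ¬∃ φ : R → κ, ∀ p, p - C (φ p) ∈ I) (i0 i1 : Fin 2)
    (h01 : i0 ≠ i1) (α β γ : κ) (hγ : γ ≠ 0) (hL : (C α + C β * X i0 + C γ * X i1 : R) ∈ I)
    (q : R) (hqdeg : q.totalDegree ≤ 2) (hq : q ∈ I ^ 2) :
    ∃ j : κ, q = C j * (C α + C β * X i0 + C γ * X i1) ^ 2 := by
  classical
  by_cases hq0 : q = 0
  · exact ⟨0, by rw [hq0, map_zero, zero_mul]⟩
  set L : R := C α + C β * X i0 + C γ * X i1 with hLdef
  have hLI : Ideal.span {L} ≤ I := (Ideal.span_singleton_le_iff_mem I).mpr hL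
  have hevL : ev i0 α β γ L = 0 := ev_L i0 i1 h01 α β γ hγ
  have hcL : coeff (Finsupp.single i1 1) L = γ := coeff_L i0 i1 h01 α β γ
  have hL0 : L ≠ 0 := by
    intro h; rw [h, coeff_zero] at hcL; exact hγ hcL.symm
  have hLdeg : 1 ≤ L.totalDegree := by
    have hm : Finsupp.single i1 1 ∈ L.support := by
      rw [mem_support_iff, hcL]; exact hγ
    have := le_totalDegree hm
    rwa [Finsupp.sum_single_index rfl] at this
  have hker : ∀ p : R, ev i0 α β γ p = 0 → ∃ r : R, p = r * L := by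
    intro p hp
    have := sub_iot_ev_mem i0 i1 h01 α β γ hγ p
    rw [hp, map_zero, sub_zero, Ideal.mem_span_singleton'] at this
    obtain ⟨r, hr⟩ := this
    exact ⟨r, hr.symm⟩
  have hsurj : Function.Surjective (ev i0 α β γ) := fun g => ⟨iot i0 g, ev_iot i0 α β γ g⟩
  -- the generator
  set F := Submodule.IsPrincipal.generator (Ideal.map (ev i0 α β γ) I) with hFdef
  have hFspan : Ideal.span {F} = Ideal.map (ev i0 α β γ) I := Ideal.span_singleton_generator _
  have hFdeg : F = 0 ∨ 2 ≤ F.natDegree := by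
    by_contra hcon
    push Not at hcon
    obtain ⟨hF0, hFlt⟩ := hcon
    have hFle : F.natDegree ≤ 1 := by omega
    obtain ⟨a, b, hab⟩ := Polynomial.exists_eq_X_add_C_of_natDegree_le_one hFle
    obtain ⟨x₀, hx₀⟩ : ∃ x₀ : κ, (Polynomial.X - Polynomial.C x₀) ∈ Ideal.span {F} := by
      by_cases ha : a = 0
      · have hb : b ≠ 0 := by
          intro hb; apply hF0; rw [hab, ha, hb]; simp
        refine ⟨0, ?_⟩
        have h1 : (1 : Polynomial κ) ∈ Ideal.span {F} := by
          rw [Ideal.mem_span_singleton']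
          refine ⟨Polynomial.C b⁻¹, ?_⟩
          rw [hab, ha, map_zero, zero_mul, zero_add, ← map_mul, inv_mul_cancel₀ hb, map_one]
        rw [(Ideal.eq_top_iff_one _).mpr h1]; exact Submodule.mem_top
      · refine ⟨-b / a, ?_⟩
        rw [Ideal.mem_span_singleton']
        refine ⟨Polynomial.C a⁻¹, ?_⟩
        rw [hab, mul_add, ← mul_assoc, ← map_mul, ← map_mul, inv_mul_cancel₀ ha, map_one, one_mul,
          sub_eq_add_neg, ← map_neg]
        congr 2
        field_simp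
    apply hIP
    refine ⟨fun p => (ev i0 α β γ p).eval x₀, fun p => ?_⟩
    have hmem : ev i0 α β γ (p - C ((ev i0 α β γ p).eval x₀)) ∈ Ideal.map (ev i0 α β γ) I := by
      rw [map_sub, ev_C, ← hFspan]
      obtain ⟨s, hs⟩ := Polynomial.X_sub_C_dvd_sub_C_eval (a := x₀) (p := ev i0 α β γ p)
      rw [hs]
      exact Ideal.mul_mem_right _ _ hx₀
    rw [Ideal.mem_map_iff_of_surjective _ hsurj] at hmem
    obtain ⟨p', hp', hp'e⟩ := hmem
    obtain ⟨r, hr⟩ := hker (p - C ((ev i0 α β γ p).eval x₀) - p') (by rw [map_sub, hp'e, sub_self])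
    have : p - C ((ev i0 α β γ p).eval x₀) = r * L + p' := by rw [← hr]; ring
    rw [this]
    exact I.add_mem (I.mul_mem_left _ hL) hp'
  -- structure of I
  have hIK : ∀ p ∈ I, ∃ c d : R, p = c * iot i0 F + d * L := by
    intro p hp
    have h1 : ev i0 α β γ p ∈ Ideal.span {F} := by
      rw [hFspan]; exact Ideal.mem_map_of_mem _ hp
    rw [Ideal.mem_span_singleton'] at h1
    obtain ⟨s, hs⟩ := h1
    have h2 := sub_iot_ev_mem i0 i1 h01 α β γ hγ p
    rw [Ideal.mem_span_singleton'] at h2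
    obtain ⟨d, hd⟩ := h2
    refine ⟨iot i0 s, d, ?_⟩
    rw [← map_mul, hs, hd]; ring
  have hI2 : ∀ g ∈ I ^ 2, ∃ A B C' : R,
      g = A * (iot i0 F) ^ 2 + B * (iot i0 F * L) + C' * L ^ 2 := by
    intro g hg
    rw [pow_two] at hg
    refine Submodule.mul_induction_on hg ?_ ?_
    · intro p hp p' hp'
      obtain ⟨c, d, rfl⟩ := hIK p hp
      obtain ⟨c', d', rfl⟩ := hIK p' hp'
      exact ⟨c * c', c * d' + d * c', d * d', by ring⟩
    · rintro g g' ⟨A, B, C', rfl⟩ ⟨A', B', C'', rfl⟩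
      exact ⟨A + A', B + B', C' + C'', by ring⟩
  -- step 1
  obtain ⟨A, B, C', hqABC⟩ := hI2 q hq
  have hevq : ev i0 α β γ q = ev i0 α β γ A * F ^ 2 := by
    rw [hqABC, map_add, map_add, map_mul, map_mul, map_mul, map_mul, map_pow, map_pow, hevL,
      ev_iot]
    ring
  have hAF : ev i0 α β γ A * F ^ 2 = 0 := by
    by_contra hne
    have hA0 : ev i0 α β γ A ≠ 0 := left_ne_zero_of_mul hne
    have hF0 : F ≠ 0 := by
      intro h; apply hne; rw [h]; ring
    have hF2 : 2 ≤ F.natDegree := hFdeg.resolve_left hF0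
    have h1 : (ev i0 α β γ q).natDegree = (ev i0 α β γ A).natDegree + 2 * F.natDegree := by
      rw [hevq, Polynomial.natDegree_mul hA0 (pow_ne_zero 2 hF0), Polynomial.natDegree_pow]
    have h2 := natDegree_ev_le i0 α β γ q
    omega
  have hevq0 : ev i0 α β γ q = 0 := by rw [hevq, hAF]
  obtain ⟨r, hr⟩ := hker q hevq0
  have hr0 : r ≠ 0 := by
    intro h; apply hq0; rw [hr, h, zero_mul]
  have hrdeg : r.totalDegree ≤ 1 := by
    have := totalDegree_mul_of_isDomain hr0 hL0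
    rw [← hr] at this
    omega
  -- step 3
  have hevr : ev i0 α β γ r = 0 := by
    by_cases hF0 : F = 0
    · rw [hF0, map_zero] at hqABC
      have : r * L = (C' * L) * L := by rw [← hr, hqABC]; ring
      have hrr := mul_right_cancel₀ hL0 this
      rw [hrr, map_mul, hevL, mul_zero]
    · have hF2 : 2 ≤ F.natDegree := hFdeg.resolve_left hF0
      have hA0 : ev i0 α β γ A = 0 := by
        rcases mul_eq_zero.mp hAF with h | h
        · exact h
        · exact absurd ((pow_eq_zero_iff two_ne_zero).mp h) hF0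
      obtain ⟨A', hA'⟩ := hker A hA0
      have : r * L = (A' * (iot i0 F) ^ 2 + B * iot i0 F + C' * L) * L := by
        rw [← hr, hqABC, hA']; ring
      have hrr := mul_right_cancel₀ hL0 this
      by_contra hne
      have hfac : ev i0 α β γ r = F * (ev i0 α β γ A' * F + ev i0 α β γ B) := by
        rw [hrr, map_add, map_add, map_mul, map_mul, map_mul, map_pow, hevL, ev_iot]
        ring
      have hne2 : ev i0 α β γ A' * F + ev i0 α β γ B ≠ 0 := by
        intro h; apply hne; rw [hfac, h, mul_zero]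
      have h1 : (ev i0 α β γ r).natDegree =
          F.natDegree + (ev i0 α β γ A' * F + ev i0 α β γ B).natDegree := by
        rw [hfac, Polynomial.natDegree_mul hF0 hne2]
      have h2 := natDegree_ev_le i0 α β γ r
      omega
  obtain ⟨j', hj'⟩ := hker r hevr
  have hj0 : j' ≠ 0 := by
    intro h; apply hr0; rw [hj', h, zero_mul]
  have hjdeg : j'.totalDegree = 0 := by
    have h1 := totalDegree_mul_of_isDomain hj0 hL0
    rw [← hj'] at h1
    omega
  rw [totalDegree_eq_zero_iff_eq_C] at hjdeg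
  refine ⟨coeff 0 j', ?_⟩
  rw [← hjdeg, hr, hj']; ring

end LemmaA

theorem quad_totalDegree_le (a b c d e f : κ) :
    (C a + C b * X 0 + C c * X 1 + C d * X 0 ^ 2 + C e * X 0 * X 1 + C f * X 1 ^ 2 : R).totalDegree
      ≤ 2 := by
  have hC : ∀ z : κ, (C z : R).totalDegree ≤ 0 := fun z => (totalDegree_C z).le
  have hX : ∀ i : Fin 2, (X i : R).totalDegree ≤ 1 := fun i => (totalDegree_X i).le
  have h1 : ∀ (z : κ) (i : Fin 2), (C z * X i : R).totalDegree ≤ 1 := fun z i =>
    (totalDegree_mul _ _).trans (by have := hC z; have := hX i; omega)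
  have h2 : ∀ (z : κ) (i : Fin 2), (C z * X i ^ 2 : R).totalDegree ≤ 2 := fun z i =>
    (totalDegree_mul _ _).trans (by
      have := hC z; have := hX i; have := totalDegree_pow (X i : R) 2; omega)
  have h3 : (C e * X 0 * X 1 : R).totalDegree ≤ 2 :=
    (totalDegree_mul _ _).trans (by have := h1 e 0; have := hX 1; omega)
  refine (totalDegree_add _ _).trans (max_le ?_ (h2 f 1))
  refine (totalDegree_add _ _).trans (max_le ?_ h3)
  refine (totalDegree_add _ _).trans (max_le ?_ (h2 d 0))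
  refine (totalDegree_add _ _).trans (max_le ?_ ((h1 c 1).trans (by norm_num)))
  refine (totalDegree_add _ _).trans (max_le ((hC a).trans (by norm_num)) ((h1 b 0).trans (by norm_num)))

theorem pderiv0_quad (a b c d e f : κ) :
    pderiv 0 (C a + C b * X 0 + C c * X 1 + C d * X 0 ^ 2 + C e * X 0 * X 1 + C f * X 1 ^ 2 : R)
      = C b + C (2 * d) * X 0 + C e * X 1 := by
  have h2 : (C (2 * d) : R) = 2 * C d := by rw [map_mul, map_ofNat]
  rw [h2]
  simp [pderiv_X]
  ring

theorem pderiv1_quad (a b c d e f : κ) :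
    pderiv 1 (C a + C b * X 0 + C c * X 1 + C d * X 0 ^ 2 + C e * X 0 * X 1 + C f * X 1 ^ 2 : R)
      = C c + C e * X 0 + C (2 * f) * X 1 := by
  have h2 : (C (2 * f) : R) = 2 * C f := by rw [map_mul, map_ofNat]
  rw [h2]
  simp [pderiv_X]
  ring

theorem hIP_of_hI (I : Ideal R)
    (hI : ¬ (Module.Finite κ (R ⧸ I) ∧ Module.finrank κ (R ⧸ I) ≤ 1)) :
    ¬∃ φ : R → κ, ∀ p, p - C (φ p) ∈ I := by
  rintro ⟨φ, hφ⟩
  apply hI
  have hsurj : Function.Surjective (Algebra.linearMap κ (R ⧸ I)) := by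
    intro x
    obtain ⟨p, rfl⟩ := Ideal.Quotient.mk_surjective x
    refine ⟨φ p, ?_⟩
    rw [Algebra.linearMap_apply]
    have : algebraMap κ (R ⧸ I) (φ p) = Ideal.Quotient.mk I (C (φ p)) := rfl
    rw [this]
    symm
    rw [Ideal.Quotient.eq]
    exact hφ p
  have hfin : Module.Finite κ (R ⧸ I) := Module.Finite.of_surjective _ hsurj
  refine ⟨hfin, ?_⟩
  have := LinearMap.finrank_le_finrank_of_surjective hsurj
  rwa [Module.finrank_self] at this

theorem main (I : Ideal (MvPolynomial (Fin 2) κ))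
    (hI : ¬ (Module.Finite κ (MvPolynomial (Fin 2) κ ⧸ I) ∧
      Module.finrank κ (MvPolynomial (Fin 2) κ ⧸ I) ≤ 1))
    (a b c d e f : κ) (_hne : (a, b, c, d, e, f) ≠ (0, 0, 0, 0, 0, 0))
    (hmem : (C a + C b * X 0 + C c * X 1 + C d * X 0 ^ 2 + C e * X 0 * X 1 + C f * X 1 ^ 2 :
      MvPolynomial (Fin 2) κ) ∈ I ^ 2) :
    ∃ j g h i : κ, (C a + C b * X 0 + C c * X 1 + C d * X 0 ^ 2 + C e * X 0 * X 1 + C f * X 1 ^ 2 :
      MvPolynomial (Fin 2) κ) = C j * (C g + C h * X 0 + C i * X 1) ^ 2 := by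
  have hIP := hIP_of_hI I hI
  have hconst := const_mem_eq_zero I hIP
  have hdeg := quad_totalDegree_le a b c d e f
  have hpx : (C b + C (2 * d) * X 0 + C e * X 1 : R) ∈ I := by
    have := der_sq_mem (isDer_pderiv (κ := κ) 0) I hmem
    beta_reduce at this
    rwa [pderiv0_quad] at this
  have hpy : (C c + C e * X 0 + C (2 * f) * X 1 : R) ∈ I := by
    have := der_sq_mem (isDer_pderiv (κ := κ) 1) I hmem
    beta_reduce at this
    rwa [pderiv1_quad] at this
  by_cases he : e = 0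
  swap
  · obtain ⟨j, hj⟩ := lemmaA I hIP 0 1 (by decide) b (2 * d) e he hpx _ hdeg hmem
    exact ⟨j, b, 2 * d, e, hj⟩
  by_cases hd2 : 2 * d = 0
  swap
  · have hL : (C b + C 0 * X 1 + C (2 * d) * X 0 : R) ∈ I := by
      have e1 : (C b + C 0 * X 1 + C (2 * d) * X 0 : R) = C b + C (2 * d) * X 0 + C e * X 1 := by
        rw [he, map_zero]; ring
      rw [e1]; exact hpx
    obtain ⟨j, hj⟩ := lemmaA I hIP 1 0 (by decide) b 0 (2 * d) hd2 hL _ hdeg hmem
    refine ⟨j, b, 2 * d, 0, ?_⟩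
    rw [hj, map_zero]; ring
  by_cases hf2 : 2 * f = 0
  swap
  · have hL : (C c + C 0 * X 0 + C (2 * f) * X 1 : R) ∈ I := by
      rw [he] at hpy; exact hpy
    obtain ⟨j, hj⟩ := lemmaA I hIP 0 1 (by decide) c 0 (2 * f) hf2 hL _ hdeg hmem
    exact ⟨j, c, 0, 2 * f, hj⟩
  -- now e = 0, 2d = 0, 2f = 0
  have hb : b = 0 := by
    apply hconst
    rw [hd2, he, map_zero, zero_mul, zero_mul, add_zero, add_zero] at hpx
    exact hpx
  have hc : c = 0 := by
    apply hconst
    rw [hf2, he, map_zero, zero_mul, zero_mul, add_zero, add_zero] at hpy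
    exact hpy
  by_cases hdf : d = 0 ∧ f = 0
  · refine ⟨a, 1, 0, 0, ?_⟩
    rw [hb, hc, he, hdf.1, hdf.2]
    simp
  have h2 : (2 : κ) = 0 := by
    by_contra h2
    apply hdf
    exact ⟨(mul_eq_zero.mp hd2).resolve_left h2, (mul_eq_zero.mp hf2).resolve_left h2⟩
  have hchar : CharP κ 2 := CharTwo.of_one_ne_zero_of_two_eq_zero one_ne_zero h2
  have hq : (C a + C b * X 0 + C c * X 1 + C d * X 0 ^ 2 + C e * X 0 * X 1 + C f * X 1 ^ 2 : R) =
      C a + C d * X 0 ^ 2 + C f * X 1 ^ 2 := by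
    rw [hb, hc, he, map_zero]; ring
  rw [hq] at hmem ⊢
  by_cases hd : d = 0
  · have hf : f ≠ 0 := fun hf => hdf ⟨hd, hf⟩
    have hq' : (C (a / f) + X 1 ^ 2 + C 0 * X 0 ^ 2 : R) ∈ I ^ 2 := by
      have e1 : (C (a / f) + X 1 ^ 2 + C 0 * X 0 ^ 2 : R) =
          C f⁻¹ * (C a + C d * X 0 ^ 2 + C f * X 1 ^ 2) := by
        have : (C f⁻¹ * C f : R) = 1 := by rw [← map_mul, inv_mul_cancel₀ hf, map_one]
        rw [hd, map_zero, div_eq_inv_mul, map_mul]
        linear_combination (- X 1 ^ 2) * this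
      rw [e1]; exact Ideal.mul_mem_left _ _ hmem
    obtain ⟨⟨g, hg⟩, -⟩ := caseB I hIP 1 0 (by decide) (a / f) 0 hq'
    refine ⟨f, g, 0, 1, ?_⟩
    have ha : a = f * g ^ 2 := by rw [← hg]; field_simp
    rw [map_zero, zero_mul, add_zero, map_one, one_mul, sq_add_R, hd, ha, map_zero, map_mul,
      map_pow]
    ring
  · have hq' : (C (a / d) + X 0 ^ 2 + C (f / d) * X 1 ^ 2 : R) ∈ I ^ 2 := by
      have e1 : (C (a / d) + X 0 ^ 2 + C (f / d) * X 1 ^ 2 : R) =
          C d⁻¹ * (C a + C d * X 0 ^ 2 + C f * X 1 ^ 2) := by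
        have : (C d⁻¹ * C d : R) = 1 := by rw [← map_mul, inv_mul_cancel₀ hd, map_one]
        rw [div_eq_inv_mul, div_eq_inv_mul, map_mul, map_mul]
        linear_combination (- X 0 ^ 2) * this
      rw [e1]; exact Ideal.mul_mem_left _ _ hmem
    obtain ⟨⟨g, hg⟩, ⟨i, hi⟩⟩ := caseB I hIP 0 1 (by decide) (a / d) (f / d) hq'
    refine ⟨d, g, 1, i, ?_⟩
    have ha : a = d * g ^ 2 := by rw [← hg]; field_simp
    have hf : f = d * i ^ 2 := by rw [← hi]; field_simp
    rw [map_one, one_mul, sq_add_R, sq_add_R, ha, hf, map_mul, map_mul, map_pow, map_pow]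
    ring

end Helper71.QuadSq
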