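import Groth.Agent.Lib.Helper71.W2Poly

set_option autoImplicit false
universe u v

namespace Groth.Agent.Lib.Helper71.QuadricKey

open MvPolynomial

section eps

variable (S : Type u) [CommRing S] (n : ℕ)

noncomputable def e (i : Fin n) : MvPolynomial (Fin 2) S :=
  if i.val = 0 then X 0 else if i.val = 1 then X 1 else if i.val = 2 then - X 0 - X 1 else 0

def bal (m : (Fin n × Fin 2) →₀ ℕ) : Prop := ∀ i, m (i, 0) = m (i, 1)

open Classical in
noncomputable def epsFun (m : (Fin n × Fin 2) →₀ ℕ) : MvPolynomial (Fin 2) S :=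
  if bal n m then ∏ i, e S n i ^ m (i, 0) else 0

noncomputable def eps : MvPolynomial (Fin n × Fin 2) S →ₗ[S] MvPolynomial (Fin 2) S :=
  (basisMonomials (Fin n × Fin 2) S).constr S (epsFun S n)

theorem eps_monomial (m : (Fin n × Fin 2) →₀ ℕ) (a : S) :
    eps S n (monomial m a) = a • epsFun S n m := by
  have h1 : monomial m a = a • (basisMonomials (Fin n × Fin 2) S) m := by
    rw [coe_basisMonomials, smul_monomial, smul_eq_mul, mul_one]
  rw [h1, map_smul, eps, Module.Basis.constr_basis]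

theorem bal_add_iff (m : (Fin n × Fin 2) →₀ ℕ) (i : Fin n) :
    bal n (Finsupp.single (i, 0) 1 + Finsupp.single (i, 1) 1 + m) ↔ bal n m := by
  unfold bal
  refine forall_congr' fun j => ?_
  simp only [Finsupp.add_apply, Finsupp.single_apply, Prod.mk.injEq]
  by_cases hij : i = j
  · simp [hij]
  · simp [hij]

theorem eps_XX_mul (i : Fin n) (g : MvPolynomial (Fin n × Fin 2) S) :
    eps S n (X (i, 0) * X (i, 1) * g) = e S n i * eps S n g := by
  induction g using MvPolynomial.induction_on' with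
  | monomial m a =>
    have h1 : (X (i, 0) * X (i, 1) * monomial m a : MvPolynomial (Fin n × Fin 2) S) =
        monomial (Finsupp.single (i, 0) 1 + Finsupp.single (i, 1) 1 + m) a := by
      rw [X, X, monomial_mul, monomial_mul, one_mul, one_mul]
    rw [h1, eps_monomial, eps_monomial, epsFun, epsFun]
    by_cases hb : bal n m
    · rw [if_pos hb, if_pos ((bal_add_iff n m i).mpr hb), mul_smul_comm]
      congr 1
      have h2 : ∀ j : Fin n, e S n j ^ ((Finsupp.single (i, 0) 1 + Finsupp.single (i, 1) 1 + m :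
          (Fin n × Fin 2) →₀ ℕ) (j, 0)) =
          (if j = i then e S n j else 1) * e S n j ^ m (j, 0) := by
        intro j
        simp only [Finsupp.add_apply, Finsupp.single_apply, Prod.mk.injEq]
        by_cases hij : i = j
        · subst hij
          simp [pow_succ, pow_add, mul_comm]
        · have hji : ¬ j = i := fun h => hij h.symm
          simp [hij, hji]
      rw [Finset.prod_congr rfl fun j _ => h2 j, Finset.prod_mul_distrib,
        Finset.prod_ite_eq' Finset.univ i, if_pos (Finset.mem_univ i)]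
    · rw [if_neg hb, if_neg (fun h => hb ((bal_add_iff n m i).mp h)), smul_zero, mul_zero]
  | add g1 g2 h1 h2 =>
    rw [mul_add, map_add, h1, h2, map_add, mul_add]

theorem eps_one : eps S n 1 = 1 := by
  have : (1 : MvPolynomial (Fin n × Fin 2) S) = monomial 0 1 := rfl
  rw [this, eps_monomial, one_smul, epsFun, if_pos (show bal n 0 from fun i => rfl)]
  simp

theorem eps_XX_pow_mul (i : Fin n) (r : ℕ) (g : MvPolynomial (Fin n × Fin 2) S) :
    eps S n ((X (i, 0) * X (i, 1)) ^ r * g) = e S n i ^ r * eps S n g := by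
  induction r generalizing g with
  | zero => rw [pow_zero, pow_zero, one_mul, one_mul]
  | succ r ih =>
    rw [pow_succ, mul_assoc, ih, eps_XX_mul, pow_succ, mul_assoc]

theorem eps_q_mul (g : MvPolynomial (Fin n × Fin 2) S) :
    eps S n ((∑ i : Fin n, X (i, (0 : Fin 2)) * X (i, (1 : Fin 2))) * g) =
      (∑ i, e S n i) * eps S n g := by
  rw [Finset.sum_mul, map_sum, Finset.sum_mul]
  exact Finset.sum_congr rfl fun i _ => eps_XX_mul S n i g

end eps

section natural

variable {S : Type u} [CommRing S] {S' : Type v} [CommRing S'] (f : S →+* S') (n : ℕ)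

theorem map_e (i : Fin n) : MvPolynomial.map f (e S n i) = e S' n i := by
  unfold e
  split_ifs <;> simp

theorem map_epsFun (m : (Fin n × Fin 2) →₀ ℕ) :
    MvPolynomial.map f (epsFun S n m) = epsFun S' n m := by
  unfold epsFun
  by_cases hb : bal n m
  · rw [if_pos hb, if_pos hb, map_prod]
    refine Finset.prod_congr rfl fun i _ => ?_
    rw [map_pow, map_e]
  · rw [if_neg hb, if_neg hb, map_zero]

theorem eps_map (g : MvPolynomial (Fin n × Fin 2) S) :
    eps S' n (MvPolynomial.map f g) = MvPolynomial.map f (eps S n g) := by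
  induction g using MvPolynomial.induction_on' with
  | monomial m a =>
    rw [map_monomial, eps_monomial, eps_monomial, smul_eq_C_mul, smul_eq_C_mul, map_mul, map_C,
      map_epsFun]
  | add g1 g2 h1 h2 =>
    rw [map_add, map_add, h1, h2, map_add, map_add]

end natural

section sums

variable (S : Type u) [CommRing S] (n : ℕ)

theorem sum_e (hn : 3 ≤ n) : ∑ i, e S n i = 0 := by
  obtain ⟨m, rfl⟩ := Nat.exists_eq_add_of_le hn
  rw [show 3 + m = m + 3 from by omega] at *
  rw [Fin.sum_univ_succ, Fin.sum_univ_succ, Fin.sum_univ_succ]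
  have h3 : ∀ i : Fin m, e S (m + 3) i.succ.succ.succ = 0 := by
    intro i
    unfold e
    simp
  rw [Finset.sum_congr rfl fun i _ => h3 i, Finset.sum_const_zero]
  have h2 : (2 % (m + 3)) = 2 := Nat.mod_eq_of_lt (by omega)
  unfold e
  simp [h2]

theorem sum_e_pow (hn : 3 ≤ n) (p : ℕ) (hp : p ≠ 0) :
    ∑ i, e S n i ^ p = X 0 ^ p + X 1 ^ p + (- X 0 - X 1) ^ p := by
  obtain ⟨m, rfl⟩ := Nat.exists_eq_add_of_le hn
  rw [show 3 + m = m + 3 from by omega] at *
  rw [Fin.sum_univ_succ, Fin.sum_univ_succ, Fin.sum_univ_succ]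
  have h3 : ∀ i : Fin m, e S (m + 3) i.succ.succ.succ ^ p = 0 := by
    intro i
    unfold e
    simp [hp]
  rw [Finset.sum_congr rfl fun i _ => h3 i, Finset.sum_const_zero]
  have h2 : (2 % (m + 3)) = 2 := Nat.mod_eq_of_lt (by omega)
  unfold e
  simp [add_assoc, h2]

end sums

section coeffs

variable (S : Type u) [CommRing S] (p : ℕ)

noncomputable def m0 : Fin 2 →₀ ℕ := Finsupp.single 0 (p - 1) + Finsupp.single 1 1

theorem m0_zero : m0 p 0 = p - 1 := by simp [m0]

theorem m0_one : m0 p 1 = 1 := by simp [m0]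

theorem coeff_m0_mul_X0_pow (hp : 2 ≤ p) (a : MvPolynomial (Fin 2) S) :
    coeff (m0 p) (a * X 0 ^ p) = 0 := by
  rw [X_pow_eq_monomial, coeff_mul_monomial', if_neg]
  intro h
  have := h 0
  rw [Finsupp.single_eq_same, m0_zero] at this
  omega

theorem coeff_m0_mul_X1_pow (hp : 2 ≤ p) (a : MvPolynomial (Fin 2) S) :
    coeff (m0 p) (a * X 1 ^ p) = 0 := by
  rw [X_pow_eq_monomial, coeff_mul_monomial', if_neg]
  intro h
  have := h 1
  rw [Finsupp.single_eq_same, m0_one] at this
  omega

theorem coeff_m0_of_mem (hp : 2 ≤ p) (x : MvPolynomial (Fin 2) S)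
    (hx : x ∈ Ideal.span {(X 0 ^ p : MvPolynomial (Fin 2) S), X 1 ^ p}) :
    coeff (m0 p) x = 0 := by
  obtain ⟨a, b, rfl⟩ := Ideal.mem_span_pair.mp hx
  rw [coeff_add, coeff_m0_mul_X0_pow S p hp, coeff_m0_mul_X1_pow S p hp, add_zero]

theorem coeff_m0_add_pow (hp : 2 ≤ p) :
    coeff (m0 p) ((X 0 + X 1) ^ p : MvPolynomial (Fin 2) S) = (p : S) := by
  rw [add_pow, coeff_sum]
  have hterm : ∀ j ∈ Finset.range (p + 1),
      coeff (m0 p) ((X 0 ^ j * X 1 ^ (p - j) * (p.choose j : MvPolynomial (Fin 2) S))) =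
        if j = p - 1 then ((p.choose j : ℕ) : S) else 0 := by
    intro j hj
    have hj' : j ≤ p := Nat.lt_succ_iff.mp (Finset.mem_range.mp hj)
    have h1 : (X 0 ^ j * X 1 ^ (p - j) * (p.choose j : MvPolynomial (Fin 2) S)) =
        monomial (Finsupp.single 0 j + Finsupp.single 1 (p - j)) ((p.choose j : ℕ) : S) := by
      have : ((p.choose j : ℕ) : MvPolynomial (Fin 2) S) = monomial 0 ((p.choose j : ℕ) : S) := by
        rw [← C_apply, map_natCast]
      rw [this, X_pow_eq_monomial, X_pow_eq_monomial, monomial_mul, monomial_mul, one_mul, one_mul,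
        add_zero]
    rw [h1, coeff_monomial]
    by_cases hjp : j = p - 1
    · rw [if_pos hjp, if_pos]
      subst hjp
      ext i
      fin_cases i
      · simp [m0]
      · simp [m0]
        omega
    · rw [if_neg hjp, if_neg]
      intro h
      have := congrArg (fun f : Fin 2 →₀ ℕ => f 0) h
      simp [m0] at this
      exact hjp this
  rw [Finset.sum_congr rfl hterm, Finset.sum_ite_eq' (Finset.range (p + 1)) (p - 1),
    if_pos (Finset.mem_range.mpr (by omega))]
  congr 1
  rw [Nat.choose_symm (by omega : 1 ≤ p), Nat.choose_one_right]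

theorem coeff_m0_neg_pow (hp : 2 ≤ p) :
    coeff (m0 p) ((- X 0 - X 1) ^ p : MvPolynomial (Fin 2) S) = (-1) ^ p * (p : S) := by
  have h1 : (- X 0 - X 1 : MvPolynomial (Fin 2) S) = - (X 0 + X 1) := by ring
  have h2 : ((-1 : MvPolynomial (Fin 2) S)) ^ p = C ((-1 : S) ^ p) := by
    rw [map_pow, map_neg, map_one]
  rw [h1, neg_pow, h2, coeff_C_mul, coeff_m0_add_pow S p hp]

theorem coeff_m0_X0_pow (hp : 2 ≤ p) :
    coeff (m0 p) (X 0 ^ p : MvPolynomial (Fin 2) S) = 0 := by
  have := coeff_m0_mul_X0_pow S p hp 1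
  rwa [one_mul] at this

theorem coeff_m0_X1_pow (hp : 2 ≤ p) :
    coeff (m0 p) (X 1 ^ p : MvPolynomial (Fin 2) S) = 0 := by
  have := coeff_m0_mul_X1_pow S p hp 1
  rwa [one_mul] at this

end coeffs

section charp

variable (S : Type u) [CommRing S] (p : ℕ) [Fact p.Prime] [CharP S p] (n : ℕ)

theorem e_pow_mem (i : Fin n) :
    e S n i ^ p ∈ Ideal.span {(X 0 ^ p : MvPolynomial (Fin 2) S), X 1 ^ p} := by
  unfold e
  split_ifs
  · exact Ideal.subset_span (by simp)
  · exact Ideal.subset_span (by simp)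
  · have h1 : (- X 0 - X 1 : MvPolynomial (Fin 2) S) = - (X 0 + X 1) := by ring
    rw [h1, neg_pow, add_pow_char]
    exact Ideal.mul_mem_left _ _ (Ideal.add_mem _ (Ideal.subset_span (by simp))
      (Ideal.subset_span (by simp)))
  · rw [zero_pow (Fact.out : p.Prime).ne_zero]
    exact Ideal.zero_mem _

theorem eps_X_pow_mul_mem (v : Fin n × Fin 2) (g : MvPolynomial (Fin n × Fin 2) S) :
    eps S n (X v ^ p * g) ∈ Ideal.span {(X 0 ^ p : MvPolynomial (Fin 2) S), X 1 ^ p} := by
  induction g using MvPolynomial.induction_on' with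
  | monomial m a =>
    have h1 : (X v ^ p * monomial m a : MvPolynomial (Fin n × Fin 2) S) =
        monomial (Finsupp.single v p + m) a := by
      rw [X_pow_eq_monomial, monomial_mul, one_mul]
    rw [h1, eps_monomial, epsFun, smul_eq_C_mul]
    apply Ideal.mul_mem_left
    by_cases hb : bal n (Finsupp.single v p + m)
    · rw [if_pos hb]
      obtain ⟨i, ε⟩ := v
      have hle : p ≤ (Finsupp.single (i, ε) p + m : (Fin n × Fin 2) →₀ ℕ) (i, 0) := by
        fin_cases ε
        · simp
        · have := hb i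
          rw [this]
          simp
      refine Ideal.mem_of_dvd _ (dvd_trans (pow_dvd_pow _ hle) ?_) (e_pow_mem S p n i)
      exact Finset.dvd_prod_of_mem (fun j => e S n j ^
        (Finsupp.single (i, ε) p + m : (Fin n × Fin 2) →₀ ℕ) (j, 0)) (Finset.mem_univ i)
    · rw [if_neg hb]
      exact Ideal.zero_mem _
  | add g1 g2 h1 h2 =>
    rw [mul_add, map_add]
    exact Ideal.add_mem _ h1 h2

theorem coeff_eps_of_mem (hn : 3 ≤ n) (x : MvPolynomial (Fin n × Fin 2) S)
    (hx : x ∈ Ideal.span (insert (∑ i : Fin n, X (i, (0 : Fin 2)) * X (i, (1 : Fin 2)))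
      (Set.range fun v : Fin n × Fin 2 => (X v : MvPolynomial (Fin n × Fin 2) S) ^ p))) :
    coeff (m0 p) (eps S n x) = 0 := by
  have hp2 : 2 ≤ p := (Fact.out : p.Prime).two_le
  suffices h : ∀ a : MvPolynomial (Fin n × Fin 2) S, coeff (m0 p) (eps S n (a * x)) = 0 by
    have := h 1
    rwa [one_mul] at this
  induction hx using Submodule.span_induction with
  | mem y hy =>
    intro a
    rcases hy with rfl | ⟨v, rfl⟩
    · rw [mul_comm, eps_q_mul, sum_e S n hn, zero_mul, coeff_zero]
    · rw [mul_comm]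
      exact coeff_m0_of_mem S p hp2 _ (eps_X_pow_mul_mem S p n v a)
  | zero =>
    intro a
    rw [mul_zero, map_zero, coeff_zero]
  | add y z _ _ hy hz =>
    intro a
    rw [mul_add, map_add, coeff_add, hy a, hz a, add_zero]
  | smul b y _ hy =>
    intro a
    rw [smul_eq_mul, ← mul_assoc]
    exact hy (a * b)

theorem coeff_m0_pow_p (G : MvPolynomial (Fin 2) S) : coeff (m0 p) (G ^ p) = 0 := by
  have hp2 : 2 ≤ p := (Fact.out : p.Prime).two_le
  induction G using MvPolynomial.induction_on' with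
  | monomial s c =>
    rw [monomial_pow, coeff_monomial, if_neg]
    intro h
    have := congrArg (fun f : Fin 2 →₀ ℕ => f 1) h
    simp only [Finsupp.smul_apply, smul_eq_mul, m0_one] at this
    have h2 : p ∣ 1 := ⟨s 1, this.symm⟩
    have := Nat.le_of_dvd Nat.one_pos h2
    omega
  | add g1 g2 h1 h2 =>
    rw [add_pow_char, coeff_add, h1, h2, add_zero]

theorem coeff_eps_pow_p (g : MvPolynomial (Fin n × Fin 2) S) :
    coeff (m0 p) (eps S n (g ^ p)) = 0 := by
  induction g using MvPolynomial.induction_on' with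
  | monomial m a =>
    rw [monomial_pow, eps_monomial, epsFun, coeff_smul]
    by_cases hb : bal n (p • m)
    · rw [if_pos hb]
      have : ∏ i, e S n i ^ (p • m) (i, 0) = (∏ i, e S n i ^ m (i, 0)) ^ p := by
        rw [← Finset.prod_pow]
        refine Finset.prod_congr rfl fun i _ => ?_
        rw [Finsupp.smul_apply, smul_eq_mul, mul_comm, pow_mul]
      rw [this, coeff_m0_pow_p, smul_zero]
    · rw [if_neg hb, coeff_zero, smul_zero]
  | add g1 g2 h1 h2 =>
    rw [add_pow_char, map_add, coeff_add, h1, h2, add_zero]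

end charp

section key

open FrobAlg Groth.Agent.Lib.Helper71.W2 Groth.Agent.Lib.Helper71.W2Poly

variable (p : ℕ) [Fact p.Prime] (k : Type u) [Field k] [CharP k p] [PerfectRing k p] (n : ℕ)

omit [PerfectRing k p] in
theorem key_coeff (hn : 3 ≤ n) (c : MvPolynomial (Fin n × Fin 2) (W2 p k))
    (hc : (p : MvPolynomial (Fin n × Fin 2) (W2 p k)) * c =
      (∑ i : Fin n, X (i, (0 : Fin 2)) * X (i, (1 : Fin 2))) ^ p -
        ∑ i : Fin n, (X (i, (0 : Fin 2)) * X (i, (1 : Fin 2))) ^ p) :
    coeff (m0 p) (eps k n (MvPolynomial.map (res p k) c)) = - (-1) ^ p := by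
  have hp2 : 2 ≤ p := (Fact.out : p.Prime).two_le
  have hp0 : p ≠ 0 := (Fact.out : p.Prime).ne_zero
  have h1 : eps (W2 p k) n ((p : MvPolynomial (Fin n × Fin 2) (W2 p k)) * c) =
      (p : W2 p k) • eps (W2 p k) n c := by
    have : (p : MvPolynomial (Fin n × Fin 2) (W2 p k)) * c = (p : W2 p k) • c := by
      rw [smul_eq_C_mul, map_natCast]
    rw [this, map_smul]
  have h2 : eps (W2 p k) n ((∑ i : Fin n, X (i, (0 : Fin 2)) * X (i, (1 : Fin 2))) ^ p) = 0 := by
    obtain ⟨r, rfl⟩ : ∃ r, p = r + 1 := ⟨p - 1, by omega⟩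
    rw [pow_succ', eps_q_mul, sum_e _ n hn, zero_mul]
  have h3 : eps (W2 p k) n (∑ i : Fin n, (X (i, (0 : Fin 2)) * X (i, (1 : Fin 2))) ^ p) =
      X 0 ^ p + X 1 ^ p + (- X 0 - X 1) ^ p := by
    rw [map_sum, ← sum_e_pow (W2 p k) n hn p hp0]
    refine Finset.sum_congr rfl fun i _ => ?_
    have := eps_XX_pow_mul (W2 p k) n i p 1
    rwa [mul_one, eps_one, mul_one] at this
  have h4 := congrArg (eps (W2 p k) n) hc
  rw [h1, map_sub, h2, h3, zero_sub] at h4
  have h5 := congrArg (coeff (m0 p)) h4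
  rw [coeff_smul, coeff_neg, coeff_add, coeff_add, coeff_m0_X0_pow _ p hp2,
    coeff_m0_X1_pow _ p hp2, coeff_m0_neg_pow _ p hp2, zero_add, zero_add, smul_eq_mul] at h5
  have h6 : (p : W2 p k) * (coeff (m0 p) (eps (W2 p k) n c) + (-1) ^ p) = 0 := by
    rw [mul_add, h5]
    ring
  have h7 := (p_mul_eq_zero_iff p k).mp h6
  rw [← res_apply, map_add, map_pow, map_neg, map_one] at h7
  rw [eps_map, coeff_map]
  exact eq_neg_of_add_eq_zero_left h7

omit [PerfectRing k p] in
theorem key_coeff_ne_zero (hn : 3 ≤ n) (c : MvPolynomial (Fin n × Fin 2) (W2 p k))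
    (hc : (p : MvPolynomial (Fin n × Fin 2) (W2 p k)) * c =
      (∑ i : Fin n, X (i, (0 : Fin 2)) * X (i, (1 : Fin 2))) ^ p -
        ∑ i : Fin n, (X (i, (0 : Fin 2)) * X (i, (1 : Fin 2))) ^ p) :
    coeff (m0 p) (eps k n (MvPolynomial.map (res p k) c)) ≠ 0 := by
  rw [key_coeff p k n hn c hc]
  exact neg_ne_zero.mpr (pow_ne_zero _ (neg_ne_zero.mpr one_ne_zero))

theorem exists_c :
    ∃ c : MvPolynomial (Fin n × Fin 2) (W2 p k),
      (p : MvPolynomial (Fin n × Fin 2) (W2 p k)) * c =
      (∑ i : Fin n, X (i, (0 : Fin 2)) * X (i, (1 : Fin 2))) ^ p -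
        ∑ i : Fin n, (X (i, (0 : Fin 2)) * X (i, (1 : Fin 2))) ^ p := by
  obtain ⟨c, hc⟩ := ker_map_res_le p k
    ((∑ i : Fin n, X (i, (0 : Fin 2)) * X (i, (1 : Fin 2))) ^ p -
        ∑ i : Fin n, (X (i, (0 : Fin 2)) * X (i, (1 : Fin 2))) ^ p :
        MvPolynomial (Fin n × Fin 2) (W2 p k)) (by
      rw [map_sub, map_pow, map_sum, map_sum, sum_pow_char]
      refine sub_eq_zero.mpr (Finset.sum_congr rfl fun i _ => ?_)
      rw [map_pow])
  exact ⟨c, hc.symm⟩

end key

end Groth.Agent.Lib.Helper71.QuadricKey
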