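import Mathlib
import Groth.Agent.Lib.Helper3.QuasiRegular

/-!
# Presentation of the Rees algebra of a weakly regular sequence (helper71)

`Core f`: every homogeneous polynomial `P` with `P(f) = 0` lies in the ideal `JJ f` generated by the
`f_i X_j - f_j X_i`.  Main result: `core_of_isWeaklyRegular`.
-/

set_option autoImplicit false
universe u
open MvPolynomial
open Groth.Agent.Lib.Helper3.QReg

namespace Groth.Agent.Lib.Helper71.Rees

variable {A : Type u} [CommRing A]

/-- The ideal generated by the `2 × 2` minors `f_i X_j - f_j X_i`. -/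
noncomputable def JJ {c : ℕ} (f : Fin c → A) : Ideal (MvPolynomial (Fin c) A) :=
  Ideal.span {q | ∃ i j : Fin c, q = C (f i) * X j - C (f j) * X i}

/-- Every homogeneous relation lies in `JJ f`. -/
def Core {c : ℕ} (f : Fin c → A) : Prop :=
  ∀ (d : ℕ) (P : MvPolynomial (Fin c) A), P.IsHomogeneous d → eval f P = 0 → P ∈ JJ f

theorem eval_eq_zero_of_mem_JJ {c : ℕ} (f : Fin c → A) {P : MvPolynomial (Fin c) A}
    (hP : P ∈ JJ f) : eval f P = 0 := by
  have : JJ f ≤ RingHom.ker (eval f) := by
    unfold JJ
    rw [Ideal.span_le]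
    rintro _ ⟨i, j, rfl⟩
    simp only [SetLike.mem_coe, RingHom.mem_ker, map_sub, map_mul, eval_C, eval_X]
    ring
  exact this hP

theorem rename_mem_JJ {c c' : ℕ} (f : Fin c → A) (f' : Fin c' → A) (k : Fin c → Fin c')
    (hk : ∀ i, f' (k i) = f i) {P : MvPolynomial (Fin c) A} (hP : P ∈ JJ f) :
    rename k P ∈ JJ f' := by
  have h1 : JJ f ≤ Ideal.comap (rename k : MvPolynomial (Fin c) A →ₐ[A] MvPolynomial (Fin c') A)
      (JJ f') := by
    unfold JJ
    rw [Ideal.span_le]
    rintro _ ⟨i, j, rfl⟩
    simp only [SetLike.mem_coe, Ideal.mem_comap, map_sub, map_mul, rename_C, rename_X]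
    refine Ideal.subset_span ⟨k i, k j, ?_⟩
    rw [hk, hk]
  exact h1 hP

theorem core_comp_equiv {c : ℕ} (f : Fin c → A) (σ : Fin c ≃ Fin c) (h : Core (f ∘ σ)) :
    Core f := by
  intro d P hP hev
  have h1 : rename σ.symm P ∈ JJ (f ∘ σ) := by
    apply h d _ hP.rename_isHomogeneous
    rw [eval_rename]
    have : (f ∘ σ) ∘ σ.symm = f := by ext i; simp
    rw [this]
    exact hev
  have h2 := rename_mem_JJ (f ∘ σ) f σ (fun i => rfl) h1
  rwa [rename_rename, σ.self_comp_symm, rename_id] at h2

/-- colon property for powers of `g`. -/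
theorem colon_pow_pow {c : ℕ} (f : Fin c → A) (hq : ∀ n, QRAt f n) (g : A)
    (hg : ∀ a, g * a ∈ Ideal.span (Set.range f) → a ∈ Ideal.span (Set.range f)) :
    ∀ (k n : ℕ) (a : A), g ^ k * a ∈ Ideal.span (Set.range f) ^ n →
      a ∈ Ideal.span (Set.range f) ^ n := by
  intro k
  induction k with
  | zero => intro n a ha; simpa using ha
  | succ k ih =>
    intro n a ha
    apply ih n a
    apply colon_pow f hq g hg n
    rw [← mul_assoc, ← pow_succ']
    exact ha

theorem eval_mem_pow_of_isHomogeneous {c : ℕ} (f : Fin c → A) {n : ℕ}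
    {G : MvPolynomial (Fin c) A} (hG : G.IsHomogeneous n) :
    eval f G ∈ Ideal.span (Set.range f) ^ n :=
  (Ideal.mem_span_pow_iff_exists_isHomogeneous f _).mpr ⟨G, hG, rfl⟩

theorem natDegree_erase_le {R : Type*} [Semiring R] (Q : Polynomial R) (m : ℕ)
    (h : Q.natDegree ≤ m + 1) : (Q.erase (m + 1)).natDegree ≤ m := by
  rw [Polynomial.natDegree_le_iff_coeff_eq_zero]
  intro N hN
  rw [Polynomial.coeff_erase]
  split_ifs with h1
  · rfl
  · exact Polynomial.coeff_eq_zero_of_natDegree_lt (by omega)

theorem step {c : ℕ} (f : Fin (c + 1) → A) (hcore : Core (Fin.tail f))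
    (hq : ∀ n, QRAt (Fin.tail f) n)
    (hg : ∀ a, f 0 * a ∈ Ideal.span (Set.range (Fin.tail f)) →
      a ∈ Ideal.span (Set.range (Fin.tail f))) : Core f := by
  intro d
  have main : ∀ m : ℕ, ∀ P : MvPolynomial (Fin (c + 1)) A, P.IsHomogeneous d →
      (finSuccEquiv A c P).natDegree ≤ m → eval f P = 0 → P ∈ JJ f := by
    intro m
    induction m with
    | zero =>
      intro P hP hdeg hev
      have hQ : finSuccEquiv A c P = Polynomial.C ((finSuccEquiv A c P).coeff 0) :=
        Polynomial.eq_C_of_natDegree_le_zero hdeg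
      have hPL : P = rename Fin.succ ((finSuccEquiv A c P).coeff 0) := by
        apply (finSuccEquiv A c).injective
        rw [finSuccEquiv_rename_succ]; exact hQ
      have hLh : ((finSuccEquiv A c P).coeff 0).IsHomogeneous d :=
        hP.finSuccEquiv_coeff_isHomogeneous 0 d (zero_add _)
      have hLe : eval (Fin.tail f) ((finSuccEquiv A c P).coeff 0) = 0 := by
        rw [hPL, eval_rename] at hev
        exact hev
      rw [hPL]
      exact rename_mem_JJ (Fin.tail f) f Fin.succ (fun i => rfl) (hcore d _ hLh hLe)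
    | succ m ih =>
      intro P hP hdeg hev
      by_cases hmd : m + 1 ≤ d
      swap
      · apply ih P hP _ hev
        rw [natDegree_finSuccEquiv]
        have := (degreeOf_le_totalDegree P 0).trans hP.totalDegree_le
        omega
      obtain ⟨e, he⟩ : ∃ e, d = (m + 1) + e := Nat.exists_eq_add_of_le hmd
      obtain ⟨Q, hQ⟩ : ∃ Q, Q = finSuccEquiv A c P := ⟨_, rfl⟩
      rw [← hQ] at hdeg
      obtain ⟨L, hL⟩ : ∃ L, L = Q.coeff (m + 1) := ⟨_, rfl⟩
      have hLh : L.IsHomogeneous e := by
        rw [hL, hQ]; exact hP.finSuccEquiv_coeff_isHomogeneous (m + 1) e he.symm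
      have hfcons : f = Fin.cons (f 0) (Fin.tail f) := (Fin.cons_self_tail f).symm
      have hevQ : eval f P =
          ∑ k ∈ Finset.range (m + 2), eval (Fin.tail f) (Q.coeff k) * f 0 ^ k := by
        conv_lhs => rw [hfcons]
        rw [eval_eq_eval_mv_eval', Polynomial.eval_eq_sum_range' (n := m + 2)]
        · refine Finset.sum_congr rfl fun k _ => ?_
          rw [Polynomial.coeff_map, hQ]
        · rw [← hQ]
          exact lt_of_le_of_lt Polynomial.natDegree_map_le (by omega)
      rw [hev, Finset.sum_range_succ, ← hL] at hevQ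
      have h1 : f 0 ^ (m + 1) * eval (Fin.tail f) L ∈
          Ideal.span (Set.range (Fin.tail f)) ^ (e + 1) := by
        have h1' : f 0 ^ (m + 1) * eval (Fin.tail f) L =
            - ∑ k ∈ Finset.range (m + 1), eval (Fin.tail f) (Q.coeff k) * f 0 ^ k := by
          linear_combination -hevQ
        rw [h1']
        refine neg_mem (Ideal.sum_mem _ fun k hk => ?_)
        rw [Finset.mem_range] at hk
        have hk1 : (Q.coeff k).IsHomogeneous (d - k) := by
          rw [hQ]; exact hP.finSuccEquiv_coeff_isHomogeneous k (d - k) (by omega)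
        refine Ideal.mul_mem_right _ _ ?_
        exact Ideal.pow_le_pow_right (by omega) (eval_mem_pow_of_isHomogeneous _ hk1)
      have h2 : eval (Fin.tail f) L ∈ Ideal.span (Set.range (Fin.tail f)) ^ (e + 1) :=
        colon_pow_pow (Fin.tail f) hq (f 0) hg (m + 1) (e + 1) _ h1
      obtain ⟨y, hy, hsum⟩ := exists_sum_of_mem_pow_succ (Fin.tail f) e h2
      have hY : ∀ i, ∃ Y : MvPolynomial (Fin c) A, Y.IsHomogeneous e ∧ eval (Fin.tail f) Y = y i :=
        fun i => (Ideal.mem_span_pow_iff_exists_isHomogeneous (Fin.tail f) (y i)).mp (hy i)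
      choose Y hYh hYe using hY
      obtain ⟨G, hG⟩ : ∃ G, G = ∑ i, C (Fin.tail f i) * Y i := ⟨_, rfl⟩
      have hGh : G.IsHomogeneous e := by
        rw [hG]; exact IsHomogeneous.sum _ _ _ fun i _ => (hYh i).C_mul _
      have hGe : eval (Fin.tail f) G = eval (Fin.tail f) L := by
        rw [hG, map_sum, hsum]
        refine Finset.sum_congr rfl fun i _ => ?_
        rw [map_mul, eval_C, hYe]
      have hLG : L - G ∈ JJ (Fin.tail f) :=
        hcore e _ (hLh.sub hGh) (by rw [map_sub, hGe, sub_self])
      have hLG' : rename Fin.succ (L - G) ∈ JJ f :=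
        rename_mem_JJ (Fin.tail f) f Fin.succ (fun i => rfl) hLG
      obtain ⟨P₁, hP₁⟩ : ∃ P₁, P₁ = (finSuccEquiv A c).symm (Q.erase (m + 1)) := ⟨_, rfl⟩
      have hPdec : P = rename Fin.succ L * X 0 ^ (m + 1) + P₁ := by
        apply (finSuccEquiv A c).injective
        rw [map_add, map_mul, map_pow, finSuccEquiv_rename_succ, finSuccEquiv_X_zero, hP₁,
          AlgEquiv.apply_symm_apply, Polynomial.C_mul_X_pow_eq_monomial, hL,
          Polynomial.monomial_add_erase, hQ]
      obtain ⟨P₂, hP₂⟩ : ∃ P₂, P₂ =
          (∑ i, C (f 0) * X i.succ * rename Fin.succ (Y i)) * X 0 ^ m + P₁ := ⟨_, rfl⟩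
      have hG' : rename Fin.succ G = ∑ i, C (f i.succ) * rename Fin.succ (Y i) := by
        rw [hG, map_sum]
        refine Finset.sum_congr rfl fun i _ => ?_
        rw [map_mul, rename_C]; rfl
      have hdiffeq : P - P₂ = rename Fin.succ (L - G) * X 0 ^ (m + 1) +
          ∑ i, (C (f i.succ) * X 0 - C (f 0) * X i.succ) * (rename Fin.succ (Y i) * X 0 ^ m) := by
        have hs : ∑ i, (C (f i.succ) * X 0 - C (f 0) * X i.succ) *
            (rename Fin.succ (Y i) * X 0 ^ m) =
            rename Fin.succ G * X 0 ^ (m + 1) -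
              (∑ i, C (f 0) * X i.succ * rename Fin.succ (Y i)) * X 0 ^ m := by
          rw [hG', Finset.sum_mul, Finset.sum_mul, ← Finset.sum_sub_distrib]
          refine Finset.sum_congr rfl fun i _ => ?_
          ring
        rw [hs, hPdec, hP₂, map_sub]
        ring
      have hdiff : P - P₂ ∈ JJ f := by
        rw [hdiffeq]
        refine Ideal.add_mem _ (Ideal.mul_mem_right _ _ hLG') (Ideal.sum_mem _ fun i _ => ?_)
        refine Ideal.mul_mem_right _ _ (Ideal.subset_span ⟨i.succ, 0, rfl⟩)
      have hP₁h : P₁.IsHomogeneous d := by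
        have : P₁ = P - rename Fin.succ L * X 0 ^ (m + 1) := by rw [hPdec]; ring
        rw [this]
        refine hP.sub ?_
        have := (hLh.rename_isHomogeneous (f := Fin.succ)).mul (isHomogeneous_X_pow (R := A) (0 : Fin (c + 1)) (m + 1))
        rwa [show e + (m + 1) = d by omega] at this
      have hP₂h : P₂.IsHomogeneous d := by
        rw [hP₂]
        refine IsHomogeneous.add ?_ hP₁h
        have h3 : (∑ i, C (f 0) * X i.succ * rename Fin.succ (Y i) :
            MvPolynomial (Fin (c + 1)) A).IsHomogeneous (1 + e) := by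
          refine IsHomogeneous.sum _ _ _ fun i _ => ?_
          have := ((isHomogeneous_X A i.succ).C_mul (f 0)).mul
            ((hYh i).rename_isHomogeneous (f := Fin.succ))
          exact this
        have := h3.mul (isHomogeneous_X_pow (R := A) (0 : Fin (c + 1)) m)
        rwa [show 1 + e + m = d by omega] at this
      have hP₂e : eval f P₂ = 0 := by
        have : P₂ = P - (P - P₂) := by ring
        rw [this, map_sub, hev, eval_eq_zero_of_mem_JJ f hdiff, sub_zero]
      have hP₂deg : (finSuccEquiv A c P₂).natDegree ≤ m := by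
        have : finSuccEquiv A c P₂ =
            Polynomial.C (∑ i, C (f 0) * X i * Y i) * Polynomial.X ^ m + Q.erase (m + 1) := by
          rw [hP₂, map_add, map_mul, map_pow, finSuccEquiv_X_zero, hP₁, AlgEquiv.apply_symm_apply,
            map_sum, map_sum]
          congr 2
          refine Finset.sum_congr rfl fun i _ => ?_
          rw [map_mul, map_mul, finSuccEquiv_rename_succ, finSuccEquiv_X_succ, map_mul, map_mul]
          congr 2
          rw [finSuccEquiv_apply, eval₂Hom_C]
          rfl
        rw [this]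
        refine (Polynomial.natDegree_add_le _ _).trans (max_le ?_ (natDegree_erase_le Q m hdeg))
        exact Polynomial.natDegree_C_mul_X_pow_le _ _
      have hP₂mem := ih P₂ hP₂h hP₂deg hP₂e
      have : P = (P - P₂) + P₂ := by ring
      rw [this]
      exact Ideal.add_mem _ hdiff hP₂mem
  intro P hP hev
  exact main _ P hP le_rfl hev

/-- Every homogeneous relation on a weakly regular sequence is a combination of the
Koszul-type relations `f_i X_j - f_j X_i`. -/
theorem core_of_isWeaklyRegular : ∀ {c : ℕ} (f : Fin c → A),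
    RingTheory.Sequence.IsWeaklyRegular A (List.ofFn f) → Core f
  | 0, f, _ => by
    intro d P hP hev
    have h1 : P = C (coeff 0 P) := MvPolynomial.eq_C_of_isEmpty P
    rw [h1, eval_C] at hev
    rw [h1, hev, map_zero]
    exact zero_mem _
  | c + 1, f, hf => by
    have hf0 := hf
    have hlist : List.ofFn f = List.ofFn (fun i : Fin c => f i.castSucc) ++ [f (Fin.last c)] := by
      rw [List.ofFn_succ', List.concat_eq_append]
    rw [hlist, RingTheory.Sequence.isWeaklyRegular_append_iff] at hf
    obtain ⟨hf1, hf2⟩ := hf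
    have ih := core_of_isWeaklyRegular _ hf1
    have ihq := (isQuasiRegular_iff _).mp (isQuasiRegular_of_isWeaklyRegular _ hf1)
    rw [RingTheory.Sequence.isWeaklyRegular_singleton_iff,
      isSMulRegular_quotient_iff_mem_of_smul_mem] at hf2
    have hJ : (Ideal.ofList (List.ofFn fun i : Fin c => f i.castSucc) • (⊤ : Submodule A A)) =
        Ideal.span (Set.range fun i : Fin c => f i.castSucc) := by
      rw [smul_eq_mul, Ideal.mul_top]
      unfold Ideal.ofList
      congr 1
      ext x
      simp [List.mem_ofFn]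
    have h2 : Core (Fin.cons (f (Fin.last c)) (fun i => f i.castSucc) : Fin (c + 1) → A) := by
      apply step
      · rw [Fin.tail_cons]; exact ih
      · rw [Fin.tail_cons]; exact ihq
      · rw [Fin.tail_cons, Fin.cons_zero]
        intro a ha
        rw [← hJ] at ha ⊢
        exact hf2 a ha
    apply core_comp_equiv f (finRotate (c + 1)).symm
    convert h2 using 1
    ext i
    refine Fin.cases ?_ (fun j => ?_) i
    · rw [Function.comp_apply, Fin.cons_zero]
      congr 1
    · rw [Function.comp_apply, Fin.cons_succ]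
      congr 1
      rw [Equiv.symm_apply_eq, finRotate_apply]
      exact (Fin.coeSucc_eq_succ).symm

end Groth.Agent.Lib.Helper71.Rees
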