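import Mathlib

/-!
# A Traverso/Swan-type key lemma (no localization)

`A → B` a finite ring map with `A` Noetherian, `B = A[q]`, `A` "seminormal in `B`"
(`b^2, b^3 ∈ A ⇒ b ∈ A`), and `q` is pointwise congruent to a fraction of `A` modulo all primes
over each prime of `A`.  Then `q ∈ A`.
-/

universe u

set_option linter.unusedSectionVars false
set_option linter.style.haveILetI false

namespace Groth.Agent.Lib.Helper71.SemiN1

section MS

variable {R : Type*} [CommRing R]

/-- multiplicative-set trick: if `x` lies in every prime containing `I` and disjoint from `S`,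
then `u * x ^ n ∈ I` for some `u ∈ S`. -/
theorem exists_mul_pow_mem (I : Ideal R) (S : Submonoid R) (x : R)
    (h : ∀ P : Ideal R, P.IsPrime → I ≤ P → Disjoint (P : Set R) (S : Set R) → x ∈ P) :
    ∃ u ∈ S, ∃ n : ℕ, u * x ^ n ∈ I := by
  by_contra hcon
  push Not at hcon
  have hdis : Disjoint (I : Set R) ((S ⊔ Submonoid.powers x : Submonoid R) : Set R) := by
    rw [Set.disjoint_left]
    intro z hzI hzT
    obtain ⟨u, hu, t, ht, rfl⟩ := Submonoid.mem_sup.1 hzT
    obtain ⟨n, rfl⟩ := ht
    exact hcon u hu n hzI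
  obtain ⟨P, hP, hIP, hPT⟩ := Ideal.exists_le_prime_disjoint I _ hdis
  have hPS : Disjoint (P : Set R) (S : Set R) := by
    rw [Set.disjoint_left] at hPT ⊢
    intro z hz hzS
    exact hPT hz (Submonoid.mem_sup_left hzS)
  have hx := h P hP hIP hPS
  rw [Set.disjoint_left] at hPT
  exact hPT hx (Submonoid.mem_sup_right (Submonoid.mem_powers x))

end MS

variable {A B : Type*} [CommRing A] [CommRing B] [Algebra A B]

/-- The conductor of `A` in `B` (as an ideal of `A`). -/
def cond (A B : Type*) [CommRing A] [CommRing B] [Algebra A B] : Ideal A where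
  carrier := {x | ∀ b : B, algebraMap A B x * b ∈ (algebraMap A B).range}
  add_mem' := by
    intro x y hx hy b
    rw [map_add, add_mul]
    exact Subring.add_mem _ (hx b) (hy b)
  zero_mem' := by
    intro b
    rw [map_zero, zero_mul]
    exact Subring.zero_mem _
  smul_mem' := by
    intro c x hx b
    obtain ⟨z, hz⟩ := hx b
    refine ⟨c * z, ?_⟩
    rw [smul_eq_mul, map_mul, map_mul, hz, mul_assoc]

theorem mem_cond {x : A} : x ∈ cond A B ↔ ∀ b : B, algebraMap A B x * b ∈ (algebraMap A B).range :=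
  Iff.rfl

theorem cond_mul {x : A} (hx : x ∈ cond A B) (b : B) :
    ∃ z ∈ cond A B, algebraMap A B z = algebraMap A B x * b := by
  obtain ⟨z, hz⟩ := hx b
  refine ⟨z, fun b' => ?_, hz⟩
  rw [hz, mul_assoc]
  exact hx (b * b')

/-- the key lemma. -/
theorem key [IsNoetherianRing A] [Module.Finite A B]
    (hsn : ∀ b : B, b ^ 2 ∈ (algebraMap A B).range → b ^ 3 ∈ (algebraMap A B).range →
      b ∈ (algebraMap A B).range)
    (q : B) (hadj : Algebra.adjoin A {q} = ⊤)
    (hpt : ∀ y : Ideal A, y.IsPrime → ∃ a b : A, b ∉ y ∧ ∀ P : Ideal B, P.IsPrime →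
      P.comap (algebraMap A B) = y → algebraMap A B a - q * algebraMap A B b ∈ P) :
    q ∈ (algebraMap A B).range := by
  classical
  set φ := algebraMap A B with hφ
  by_contra hq
  -- the conductor is proper
  have hc1 : cond A B ≠ ⊤ := by
    intro h
    have h1 : (1 : A) ∈ cond A B := h ▸ Submodule.mem_top
    have := h1 q
    rw [map_one, one_mul] at this
    exact hq this
  obtain ⟨m, hm, hcm⟩ := Ideal.exists_le_maximal _ hc1
  haveI : m.IsPrime := hm.isPrime
  obtain ⟨y, hymin, -⟩ := Ideal.exists_minimalPrimes_le hcm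
  haveI hyp : y.IsPrime := hymin.1.1
  have hcy : cond A B ≤ y := hymin.1.2
  -- F1: elements of y are nilpotent modulo the y-saturation of the conductor
  have hF1 : ∀ x ∈ y, ∃ u ∈ y.primeCompl, ∃ n : ℕ, u * x ^ n ∈ cond A B := by
    intro x hx
    apply exists_mul_pow_mem
    intro P hP hcP hdis
    have hPy : P ≤ y := by
      intro z hz
      by_contra hzy
      exact (Set.disjoint_left.1 hdis) hz hzy
    exact hymin.2 ⟨hP, hcP⟩ hPy hx
  -- saturation ideal
  let J : Ideal A :=
    { carrier := {x | ∃ u ∈ y.primeCompl, u * x ∈ cond A B}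
      add_mem' := by
        rintro a b ⟨u, hu, hua⟩ ⟨v, hv, hvb⟩
        refine ⟨u * v, y.primeCompl.mul_mem hu hv, ?_⟩
        have : u * v * (a + b) = v * (u * a) + u * (v * b) := by ring
        rw [this]
        exact Ideal.add_mem _ (Ideal.mul_mem_left _ _ hua) (Ideal.mul_mem_left _ _ hvb)
      zero_mem' := ⟨1, y.primeCompl.one_mem, by rw [mul_zero]; exact Ideal.zero_mem _⟩
      smul_mem' := by
        rintro c a ⟨u, hu, hua⟩
        refine ⟨u, hu, ?_⟩
        have : u * (c • a) = c * (u * a) := by rw [smul_eq_mul]; ring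
        rw [this]
        exact Ideal.mul_mem_left _ _ hua }
  have hJmem : ∀ x, x ∈ J ↔ ∃ u ∈ y.primeCompl, u * x ∈ cond A B := fun x => Iff.rfl
  have hyJ : y ≤ J.radical := by
    intro x hx
    obtain ⟨u, hu, n, hn⟩ := hF1 x hx
    exact ⟨n, (hJmem _).2 ⟨u, hu, hn⟩⟩
  obtain ⟨M, hM⟩ := Ideal.exists_pow_le_of_le_radical_of_fg hyJ (IsNoetherian.noetherian y)
  -- elements of J B are multiplied into the conductor by elements outside y
  have hJB : ∀ z ∈ J.map φ, ∃ u ∈ y.primeCompl, ∃ c ∈ cond A B, φ c = φ u * z := by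
    intro z hz
    rw [Ideal.map] at hz
    induction hz using Submodule.span_induction with
    | mem z hz =>
      obtain ⟨x, hx, rfl⟩ := hz
      obtain ⟨u, hu, hux⟩ := (hJmem x).1 hx
      exact ⟨u, hu, u * x, hux, map_mul _ _ _⟩
    | zero => exact ⟨1, y.primeCompl.one_mem, 0, Ideal.zero_mem _, by rw [map_zero, mul_zero]⟩
    | add z w _ _ hz hw =>
      obtain ⟨u, hu, c, hc, hcz⟩ := hz
      obtain ⟨v, hv, d, hd, hdw⟩ := hw
      refine ⟨u * v, y.primeCompl.mul_mem hu hv, v * c + u * d,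
        Ideal.add_mem _ (Ideal.mul_mem_left _ _ hc) (Ideal.mul_mem_left _ _ hd), ?_⟩
      rw [map_add, map_mul, map_mul, map_mul, hcz, hdw]
      ring
    | smul b z _ hz =>
      obtain ⟨u, hu, c, hc, hcz⟩ := hz
      obtain ⟨c', hc', hcc'⟩ := cond_mul hc b
      refine ⟨u, hu, c', hc', ?_⟩
      rw [hcc', hcz, smul_eq_mul]
      ring
  -- the pointwise datum at y
  obtain ⟨a₀, b₀, hb₀, hab₀⟩ := hpt y hyp
  set e : B := φ a₀ - q * φ b₀ with he
  -- F2: a multiple of a power of e lies in y B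
  have hF2 : ∃ u ∈ y.primeCompl, ∃ n : ℕ, φ u * e ^ n ∈ y.map φ := by
    obtain ⟨u', hu', n, hn⟩ := exists_mul_pow_mem (y.map φ) (Submonoid.map φ y.primeCompl) e (by
      intro P hP hyP hdis
      apply hab₀ P hP
      apply le_antisymm
      · intro z hz
        by_contra hzy
        exact (Set.disjoint_left.1 hdis) (Ideal.mem_comap.1 hz)
          (Submonoid.mem_map.2 ⟨z, hzy, rfl⟩)
      · exact Ideal.map_le_iff_le_comap.1 hyP)
    obtain ⟨u, hu, rfl⟩ := Submonoid.mem_map.1 hu'
    exact ⟨u, hu, n, hn⟩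
  obtain ⟨u₂, hu₂, N, hN⟩ := hF2
  set e₁ : B := φ u₂ * e with he₁
  have he₁N : e₁ ^ (N + 1) ∈ y.map φ := by
    have : e₁ ^ (N + 1) = (φ u₂ ^ N * e) * (φ u₂ * e ^ N) := by
      rw [he₁, mul_pow]
      ring
    rw [this]
    exact Ideal.mul_mem_left _ _ hN
  have he₁J : e₁ ^ ((N + 1) * M) ∈ J.map φ := by
    rw [pow_mul]
    have h1 : (e₁ ^ (N + 1)) ^ M ∈ (y.map φ) ^ M := Ideal.pow_mem_pow he₁N M
    rw [← Ideal.map_pow] at h1
    exact Ideal.map_mono hM h1
  obtain ⟨u₁, hu₁, c, hc, hcu⟩ := hJB _ he₁J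
  set L : ℕ := (N + 1) * M with hL
  set e₂ : B := φ u₁ * e₁ with he₂
  have hhigh : ∀ j, L + 1 ≤ j → e₂ ^ j ∈ φ.range := by
    intro j hj
    have : e₂ ^ j = φ c * (φ u₁ ^ (j - 1) * e₁ ^ (j - L)) := by
      rw [hcu, he₂, mul_pow]
      have h1 : φ u₁ ^ j = φ u₁ * φ u₁ ^ (j - 1) := by
        rw [← pow_succ']
        congr 1
        omega
      have h2 : e₁ ^ j = e₁ ^ L * e₁ ^ (j - L) := by
        rw [← pow_add]
        congr 1
        omega
      rw [h1, h2]
      ring
    rw [this]
    exact hc _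
  -- F4: descend
  have hdesc : ∀ l, 1 ≤ l → (∀ j, l ≤ j → e₂ ^ j ∈ φ.range) → e₂ ∈ φ.range := by
    intro l hl
    induction l, hl using Nat.le_induction with
    | base =>
      intro h
      have := h 1 le_rfl
      rwa [pow_one] at this
    | succ l hl ih =>
      intro h
      apply ih
      intro j hj
      rcases Nat.eq_or_lt_of_le hj with rfl | hlt
      · apply hsn
        · rw [← pow_mul]
          exact h _ (by omega)
        · rw [← pow_mul]
          exact h _ (by omega)
      · exact h j hlt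
  have he₂A : e₂ ∈ φ.range := hdesc (L + 1) (by omega) hhigh
  -- so w q ∈ A with w ∉ y
  set w : A := u₁ * u₂ * b₀ with hw
  have hwy : w ∈ y.primeCompl :=
    y.primeCompl.mul_mem (y.primeCompl.mul_mem hu₁ hu₂) hb₀
  have hwq : φ w * q ∈ φ.range := by
    have : φ w * q = φ (u₁ * u₂ * a₀) - e₂ := by
      rw [he₂, he₁, he, hw]
      simp only [map_mul]
      ring
    rw [this]
    exact Subring.sub_mem _ ⟨_, rfl⟩ he₂A
  -- F5: a power of w is in the conductor
  have hwr : φ w ∈ φ.range := ⟨w, rfl⟩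
  have hpow : ∀ b : B, ∃ n : ℕ, φ w ^ n * b ∈ φ.range := by
    intro b
    have hb : b ∈ Algebra.adjoin A {q} := by rw [hadj]; exact Algebra.mem_top
    induction hb using Algebra.adjoin_induction with
    | mem x hx =>
      rw [Set.mem_singleton_iff] at hx
      subst hx
      exact ⟨1, by rw [pow_one]; exact hwq⟩
    | algebraMap r => exact ⟨0, by rw [pow_zero, one_mul]; exact ⟨r, rfl⟩⟩
    | add x z _ _ hx hz =>
      obtain ⟨n, hn⟩ := hx
      obtain ⟨k, hk⟩ := hz
      refine ⟨n + k, ?_⟩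
      have : φ w ^ (n + k) * (x + z) = φ w ^ k * (φ w ^ n * x) + φ w ^ n * (φ w ^ k * z) := by
        rw [pow_add]
        ring
      rw [this]
      exact Subring.add_mem _ (Subring.mul_mem _ (Subring.pow_mem _ hwr _) hn)
        (Subring.mul_mem _ (Subring.pow_mem _ hwr _) hk)
    | mul x z _ _ hx hz =>
      obtain ⟨n, hn⟩ := hx
      obtain ⟨k, hk⟩ := hz
      refine ⟨n + k, ?_⟩
      have : φ w ^ (n + k) * (x * z) = (φ w ^ n * x) * (φ w ^ k * z) := by
        rw [pow_add]
        ring
      rw [this]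
      exact Subring.mul_mem _ hn hk
  choose nb hnb using hpow
  obtain ⟨s, hs⟩ := (Module.Finite.fg_top : (⊤ : Submodule A B).FG)
  set n : ℕ := ∑ b ∈ s, nb b with hn
  have hgen : ∀ b ∈ s, φ w ^ n * b ∈ φ.range := by
    intro b hb
    have h1 : nb b ≤ n := Finset.single_le_sum (f := nb) (fun _ _ => Nat.zero_le _) hb
    have : φ w ^ n * b = φ w ^ (n - nb b) * (φ w ^ nb b * b) := by
      rw [← mul_assoc, ← pow_add]
      congr 2
      omega
    rw [this]
    exact Subring.mul_mem _ (Subring.pow_mem _ hwr _) (hnb b)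
  have hall : ∀ b : B, φ w ^ n * b ∈ φ.range := by
    intro b
    have hb : b ∈ Submodule.span A (s : Set B) := by rw [hs]; exact Submodule.mem_top
    induction hb using Submodule.span_induction with
    | mem x hx => exact hgen x hx
    | zero => rw [mul_zero]; exact Subring.zero_mem _
    | add x z _ _ hx hz => rw [mul_add]; exact Subring.add_mem _ hx hz
    | smul r x _ hx =>
      have : φ w ^ n * (r • x) = φ r * (φ w ^ n * x) := by
        rw [Algebra.smul_def]
        ring
      rw [this]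
      exact Subring.mul_mem _ ⟨r, rfl⟩ hx
  have hwn : w ^ n ∈ cond A B := by
    intro b
    rw [map_pow]
    exact hall b
  exact hwy (hyp.mem_of_pow_mem n (hcy hwn))

end Groth.Agent.Lib.Helper71.SemiN1
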