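import Mathlib
import Groth.Agent.Lib.Helper87.DvrLiftRing

/-!
# From complete DVRs to all DVRs

If a "pointwise function" (encoded by `Rel`) is algebraic along all complete DVRs, it is algebraic
along all DVRs (pass to a complete DVR dominating the given one).
-/

universe u

set_option linter.unusedSectionVars false
set_option linter.style.haveILetI false
set_option linter.overlappingInstances false

open IsLocalRing

namespace Groth.Agent.Lib.Helper71.SemiN2

variable {A : Type u} [CommRing A]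
  (Rel : PrimeSpectrum A → A → A → Prop)
  (hR1 : ∀ y, ∃ a b, b ∉ y.asIdeal ∧ Rel y a b)

include hR1 in
theorem hH_of_complete
    (hHc : ∀ (R : Type u) [CommRing R] [IsDomain R] [IsDiscreteValuationRing R]
      [IsAdicComplete (maximalIdeal R) R] (φ : A →+* R),
      ∃ s : R, ∀ y' : PrimeSpectrum R, ∀ a b, Rel (PrimeSpectrum.comap φ y') a b →
        s * φ b - φ a ∈ y'.asIdeal) :
    ∀ (R : Type u) [CommRing R] [IsDomain R] [IsDiscreteValuationRing R] (φ : A →+* R),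
      ∃ s : R, ∀ y' : PrimeSpectrum R, ∀ a b, Rel (PrimeSpectrum.comap φ y') a b →
        s * φ b - φ a ∈ y'.asIdeal := by
  intro R _ _ _ φ
  obtain ⟨B, iB, iD, iDVR, iC, ι, hloc, e, hinj, -⟩ :=
    Groth.Agent.Lib.Helper87.DvrLiftRing.exists_complete_dvr_ext R (ResidueField R)
  obtain ⟨sh, hsh⟩ := hHc B (ι.comp φ)
  let y₀ : PrimeSpectrum A := PrimeSpectrum.comap φ ⟨⊥, Ideal.isPrime_bot⟩
  obtain ⟨a₀, b₀, hb₀, hrel₀⟩ := hR1 y₀
  have hb0 : φ b₀ ≠ 0 := by
    intro h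
    apply hb₀
    change b₀ ∈ (PrimeSpectrum.comap φ ⟨⊥, Ideal.isPrime_bot⟩).asIdeal
    rw [PrimeSpectrum.comap_asIdeal, Ideal.mem_comap]
    exact h
  have hι0 : ∀ x : R, ι x = 0 ↔ x = 0 := fun x => map_eq_zero_iff ι hinj
  have hcomap : PrimeSpectrum.comap (ι.comp φ) ⟨⊥, Ideal.isPrime_bot⟩ = y₀ := by
    apply PrimeSpectrum.ext
    ext a
    change ι (φ a) ∈ (⊥ : Ideal B) ↔ φ a ∈ (⊥ : Ideal R)
    rw [Ideal.mem_bot, Ideal.mem_bot, hι0]
  have h1 : sh * ι (φ b₀) = ι (φ a₀) := by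
    have := hsh ⟨⊥, Ideal.isPrime_bot⟩ a₀ b₀ (by rw [hcomap]; exact hrel₀)
    change sh * (ι.comp φ) b₀ - (ι.comp φ) a₀ ∈ (⊥ : Ideal B) at this
    rw [Ideal.mem_bot, sub_eq_zero] at this
    exact this
  have hιb0 : ι (φ b₀) ≠ 0 := fun h => hb0 ((hι0 _).1 h)
  have key : ∃ s : R, ι s = sh := by
    by_cases hdiv : φ b₀ ∣ φ a₀
    · obtain ⟨c, hc⟩ := hdiv
      refine ⟨c, ?_⟩
      have : sh * ι (φ b₀) = ι c * ι (φ b₀) := by
        rw [h1, hc, map_mul, mul_comm]
      exact (mul_right_cancel₀ hιb0 this).symm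
    · exfalso
      obtain ⟨c, hc⟩ := (ValuationRing.dvd_total (φ b₀) (φ a₀)).resolve_left hdiv
      have hcu : ¬ IsUnit c := by
        intro hu
        obtain ⟨u, rfl⟩ := hu
        apply hdiv
        refine ⟨((u⁻¹ : Rˣ) : R), ?_⟩
        rw [hc, mul_assoc, Units.mul_inv, mul_one]
      have ha0 : φ a₀ ≠ 0 := by
        intro h
        apply hb0
        rw [hc, h, zero_mul]
      have hιa0 : ι (φ a₀) ≠ 0 := fun h => ha0 ((hι0 _).1 h)
      have h2 : (ι c * sh) * ι (φ a₀) = 1 * ι (φ a₀) := by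
        rw [one_mul]
        calc ι c * sh * ι (φ a₀) = sh * (ι (φ a₀) * ι c) := by ring
          _ = sh * ι (φ a₀ * c) := by rw [map_mul]
          _ = sh * ι (φ b₀) := by rw [← hc]
          _ = ι (φ a₀) := h1
      have h3 : ι c * sh = 1 := mul_right_cancel₀ hιa0 h2
      exact hcu (hloc.map_nonunit c (IsUnit.of_mul_eq_one _ h3))
  obtain ⟨s, hs⟩ := key
  refine ⟨s, fun y' a b hab => ?_⟩
  have hex : ∃ yh : PrimeSpectrum B, PrimeSpectrum.comap ι yh = y' := by
    by_cases h0 : y'.asIdeal = ⊥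
    · refine ⟨⟨⊥, Ideal.isPrime_bot⟩, ?_⟩
      apply PrimeSpectrum.ext
      rw [PrimeSpectrum.comap_asIdeal, h0]
      ext x
      rw [Ideal.mem_comap, Ideal.mem_bot, Ideal.mem_bot, hι0]
    · have hmax : y'.asIdeal = maximalIdeal R :=
        eq_maximalIdeal (y'.isPrime.isMaximal h0)
      refine ⟨closedPoint B, ?_⟩
      apply PrimeSpectrum.ext
      rw [PrimeSpectrum.comap_asIdeal, hmax]
      exact ((local_hom_TFAE ι).out 0 4).mp hloc
  obtain ⟨yh, hyh⟩ := hex
  have h2 := hsh yh a b (by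
    have : PrimeSpectrum.comap (ι.comp φ) yh = PrimeSpectrum.comap φ (PrimeSpectrum.comap ι yh) :=
      rfl
    rw [this, hyh]
    exact hab)
  rw [← hyh, PrimeSpectrum.comap_asIdeal, Ideal.mem_comap, map_sub, map_mul, hs]
  exact h2

end Groth.Agent.Lib.Helper71.SemiN2
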