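import Mathlib
import Groth.Agent.Lib.Helper9.PtFunRing
import Groth.Agent.Lib.Helper71.SemiN1

/-!
# Pointwise functions varying along DVRs on a seminormal Noetherian ring (ring-level core)

Same encoding as `Groth.Agent.Lib.Helper9.PtFunRing` (`Rel y a b` means "`f(y) · b(y) = a(y)`").
If `A` is Noetherian and seminormal (Swan's `x^3 = y^2` form) and the function is algebraic along
all DVRs, it comes from an element of `A`.
-/

universe u

set_option linter.unusedSectionVars false
set_option linter.style.haveILetI false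
set_option linter.overlappingInstances false

open Polynomial IsLocalRing

namespace Groth.Agent.Lib.Helper71.SemiN3

open Groth.Agent.Lib.Helper9.PtFunRing

variable {A : Type u} [CommRing A] [IsNoetherianRing A]
  (Rel : PrimeSpectrum A → A → A → Prop)
  (hR1 : ∀ y, ∃ a b, b ∉ y.asIdeal ∧ Rel y a b)
  (hR2 : ∀ y a b a' b', Rel y a b → b ∉ y.asIdeal →
    (Rel y a' b' ↔ a * b' - a' * b ∈ y.asIdeal))
  (hH : ∀ (R : Type u) [CommRing R] [IsDomain R] [IsDiscreteValuationRing R] (φ : A →+* R),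
    ∃ s : R, ∀ y' : PrimeSpectrum R, ∀ a b, Rel (PrimeSpectrum.comap φ y') a b →
      s * φ b - φ a ∈ y'.asIdeal)

include hH in
/-- one DVR step: a Noetherian domain `D` under `A`, a nonzero prime `P'` of `D`. -/
theorem dvr_step (D : Type u) [CommRing D] [IsDomain D] [IsNoetherianRing D] (ψ₀ : A →+* D)
    (P' : Ideal D) [hP'p : P'.IsPrime] (hP' : P' ≠ ⊥) :
    ∃ O : ValuationSubring (FractionRing D),
      (∀ d : D, O.valuation (algebraMap D (FractionRing D) d) ≤ 1) ∧
      (∀ d : D, O.valuation (algebraMap D (FractionRing D) d) < 1 ↔ d ∈ P') ∧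
      ∃ s₀ : FractionRing D,
        (∀ a b, Rel (PrimeSpectrum.comap ψ₀ ⟨⊥, Ideal.isPrime_bot⟩) a b →
          s₀ * algebraMap D (FractionRing D) (ψ₀ b) = algebraMap D (FractionRing D) (ψ₀ a)) ∧
        (∀ a b, Rel (PrimeSpectrum.comap ψ₀ ⟨P', hP'p⟩) a b →
          O.valuation (s₀ * algebraMap D (FractionRing D) (ψ₀ b) -
            algebraMap D (FractionRing D) (ψ₀ a)) < 1) := by
  obtain ⟨O, hdvr, hO, hcen⟩ := exists_dvr_center D (FractionRing D) P' hP'
  let ψ : A →+* FractionRing D := (algebraMap D (FractionRing D)).comp ψ₀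
  let ψO : A →+* O := ψ.codRestrict O.toSubring fun a => hO _
  obtain ⟨s₀, hs₀⟩ := hH O ψO
  refine ⟨O, fun d => (ValuationSubring.valuation_le_one_iff O _).2 (hO d), hcen,
    (s₀ : FractionRing D), ?_, ?_⟩
  · intro a b hab
    have hc : PrimeSpectrum.comap ψO ⟨⊥, Ideal.isPrime_bot⟩ =
        PrimeSpectrum.comap ψ₀ ⟨⊥, Ideal.isPrime_bot⟩ := by
      apply PrimeSpectrum.ext
      ext x
      change ψO x ∈ (⊥ : Ideal O) ↔ ψ₀ x ∈ (⊥ : Ideal D)
      rw [Ideal.mem_bot, Ideal.mem_bot]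
      constructor
      · intro h
        have h' : algebraMap D (FractionRing D) (ψ₀ x) = 0 := congrArg Subtype.val h
        exact (map_eq_zero_iff _ (IsFractionRing.injective D (FractionRing D))).1 h'
      · intro h
        apply Subtype.ext
        change algebraMap D (FractionRing D) (ψ₀ x) = 0
        rw [h, map_zero]
    have h1 := hs₀ ⟨⊥, Ideal.isPrime_bot⟩ a b (by rw [hc]; exact hab)
    change s₀ * ψO b - ψO a ∈ (⊥ : Ideal O) at h1
    rw [Ideal.mem_bot, sub_eq_zero] at h1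
    exact congrArg Subtype.val h1
  · intro a b hab
    have hc : PrimeSpectrum.comap ψO (closedPoint O) = PrimeSpectrum.comap ψ₀ ⟨P', hP'p⟩ := by
      apply PrimeSpectrum.ext
      ext x
      change ψO x ∈ maximalIdeal O ↔ ψ₀ x ∈ P'
      rw [ValuationSubring.valuation_lt_one_iff]
      exact hcen _
    have h2 := hs₀ (closedPoint O) a b (by rw [hc]; exact hab)
    change s₀ * ψO b - ψO a ∈ maximalIdeal O at h2
    rw [ValuationSubring.valuation_lt_one_iff] at h2
    exact h2

include hR1 hR2 hH in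
/-- propagate a value (with denominator) from a generization. -/
theorem rel_of_le' (p y : PrimeSpectrum A) (hpy : p.asIdeal ≤ y.asIdeal) (a s : A)
    (hp : Rel p a s) : Rel y a s := by
  by_cases hne : p = y
  · exact hne ▸ hp
  let P : Ideal (A ⧸ p.asIdeal) := y.asIdeal.map (Ideal.Quotient.mk p.asIdeal)
  haveI : P.IsPrime := Ideal.map_isPrime_of_surjective Ideal.Quotient.mk_surjective
    (by rw [Ideal.mk_ker]; exact hpy)
  have hPmem : ∀ a : A, Ideal.Quotient.mk p.asIdeal a ∈ P ↔ a ∈ y.asIdeal := fun a =>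
    Ideal.mem_quotient_iff_mem hpy
  have hP0 : P ≠ ⊥ := by
    intro h0
    apply hne
    apply PrimeSpectrum.ext
    apply le_antisymm hpy
    intro a ha
    have := (hPmem a).2 ha
    rw [h0, Ideal.mem_bot, Ideal.Quotient.eq_zero_iff_mem] at this
    exact this
  obtain ⟨O, hle, hcen, s₀, h1, h2⟩ :=
    dvr_step Rel hH (A ⧸ p.asIdeal) (Ideal.Quotient.mk p.asIdeal) P hP0
  have hc0 : PrimeSpectrum.comap (Ideal.Quotient.mk p.asIdeal) ⟨⊥, Ideal.isPrime_bot⟩ = p := by
    apply PrimeSpectrum.ext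
    ext x
    change Ideal.Quotient.mk p.asIdeal x ∈ (⊥ : Ideal (A ⧸ p.asIdeal)) ↔ _
    rw [Ideal.mem_bot, Ideal.Quotient.eq_zero_iff_mem]
  have hc1 : PrimeSpectrum.comap (Ideal.Quotient.mk p.asIdeal) ⟨P, inferInstance⟩ = y := by
    apply PrimeSpectrum.ext
    ext x
    exact hPmem x
  obtain ⟨a₁, b₁, hb₁, hrel₁⟩ := hR1 y
  have e1 := h1 a s (by rw [hc0]; exact hp)
  have e2 := h2 a₁ b₁ (by rw [hc1]; exact hrel₁)
  have e3 : algebraMap (A ⧸ p.asIdeal) (FractionRing (A ⧸ p.asIdeal))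
        (Ideal.Quotient.mk p.asIdeal (a * b₁ - s * a₁)) =
      algebraMap (A ⧸ p.asIdeal) (FractionRing (A ⧸ p.asIdeal)) (Ideal.Quotient.mk p.asIdeal s) *
        (s₀ * algebraMap (A ⧸ p.asIdeal) (FractionRing (A ⧸ p.asIdeal))
            (Ideal.Quotient.mk p.asIdeal b₁) -
          algebraMap (A ⧸ p.asIdeal) (FractionRing (A ⧸ p.asIdeal))
            (Ideal.Quotient.mk p.asIdeal a₁)) := by
    rw [map_sub, map_sub, map_mul, map_mul, map_mul, map_mul, ← e1]
    ring
  have e4 : O.valuation (algebraMap (A ⧸ p.asIdeal) (FractionRing (A ⧸ p.asIdeal))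
      (Ideal.Quotient.mk p.asIdeal (a * b₁ - s * a₁))) < 1 := by
    rw [e3, map_mul]
    calc _ ≤ 1 * O.valuation (s₀ * algebraMap (A ⧸ p.asIdeal) (FractionRing (A ⧸ p.asIdeal))
            (Ideal.Quotient.mk p.asIdeal b₁) -
          algebraMap (A ⧸ p.asIdeal) (FractionRing (A ⧸ p.asIdeal))
            (Ideal.Quotient.mk p.asIdeal a₁)) := by
          gcongr
          exact hle _
      _ = _ := one_mul _
      _ < 1 := e2
  have e5 : a * b₁ - s * a₁ ∈ y.asIdeal := (hPmem _).1 ((hcen _).1 e4)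
  rw [hR2 y a₁ b₁ a s hrel₁ hb₁]
  have : a₁ * s - a * b₁ = -(a * b₁ - s * a₁) := by ring
  rw [this]
  exact neg_mem e5

include hH in
/-- congruence of `q'` with `a₁ / b₁` modulo a prime `P` of an overring `B`, via a DVR on the
Noetherian domain quotient `D` of `B` by a smaller prime. -/
theorem cong_step {B : Type u} [CommRing B] (φ : A →+* B) (D : Type u) [CommRing D] [IsDomain D]
    [IsNoetherianRing D] (π : B →+* D) (hπ : Function.Surjective π) (P : Ideal B) [hP : P.IsPrime]
    (hkerP : RingHom.ker π ≤ P) (hne : P ≠ RingHom.ker π)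
    (a s a₁ b₁ : A) (q' : B) (hq's : φ s * q' = φ a) (hs : π (φ s) ≠ 0)
    (p₀ y : PrimeSpectrum A) (hp₀ : ∀ x, x ∈ p₀.asIdeal ↔ π (φ x) = 0)
    (hy : ∀ x, x ∈ y.asIdeal ↔ φ x ∈ P) (hrelp₀ : Rel p₀ a s) (hrel₁ : Rel y a₁ b₁) :
    φ a₁ - q' * φ b₁ ∈ P := by
  let P' : Ideal D := P.map π
  haveI : P'.IsPrime := Ideal.map_isPrime_of_surjective hπ hkerP
  have hP'mem : ∀ b : B, π b ∈ P' ↔ b ∈ P := by
    intro b
    constructor
    · intro h
      obtain ⟨x, hx, hxb⟩ := (Ideal.mem_map_iff_of_surjective π hπ).1 h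
      have : b - x ∈ RingHom.ker π := by rw [RingHom.mem_ker, map_sub, hxb, sub_self]
      have h2 := P.add_mem (hkerP this) hx
      rwa [sub_add_cancel] at h2
    · intro h
      exact Ideal.mem_map_of_mem π h
  have hP'0 : P' ≠ ⊥ := by
    intro h0
    apply hne
    apply le_antisymm _ hkerP
    intro b hb
    have := (hP'mem b).2 hb
    rw [h0, Ideal.mem_bot] at this
    exact this
  let ψ₀ : A →+* D := π.comp φ
  obtain ⟨O, hle, hcen, s₀, h1, h2⟩ := dvr_step Rel hH D ψ₀ P' hP'0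
  have hc0 : PrimeSpectrum.comap ψ₀ ⟨⊥, Ideal.isPrime_bot⟩ = p₀ := by
    apply PrimeSpectrum.ext
    ext x
    change π (φ x) ∈ (⊥ : Ideal D) ↔ x ∈ p₀.asIdeal
    rw [Ideal.mem_bot, hp₀]
  have hc1 : PrimeSpectrum.comap ψ₀ ⟨P', inferInstance⟩ = y := by
    apply PrimeSpectrum.ext
    ext x
    change π (φ x) ∈ P' ↔ x ∈ y.asIdeal
    rw [hP'mem, hy]
  have hιinj : Function.Injective (algebraMap D (FractionRing D)) :=
    IsFractionRing.injective D (FractionRing D)
  have e1 : s₀ * algebraMap D (FractionRing D) (ψ₀ s) = algebraMap D (FractionRing D) (ψ₀ a) :=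
    h1 a s (by rw [hc0]; exact hrelp₀)
  have e2 : O.valuation (s₀ * algebraMap D (FractionRing D) (ψ₀ b₁) -
      algebraMap D (FractionRing D) (ψ₀ a₁)) < 1 :=
    h2 a₁ b₁ (by rw [hc1]; exact hrel₁)
  have hιs : algebraMap D (FractionRing D) (ψ₀ s) ≠ 0 :=
    fun h => hs ((map_eq_zero_iff _ hιinj).1 h)
  have hqb : π q' * ψ₀ s = ψ₀ a := by
    change π q' * π (φ s) = π (φ a)
    rw [← map_mul, mul_comm, hq's]
  have hs₀ : s₀ = algebraMap D (FractionRing D) (π q') := by
    apply mul_right_cancel₀ hιs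
    rw [e1, ← map_mul, hqb]
  have e3 : s₀ * algebraMap D (FractionRing D) (ψ₀ b₁) - algebraMap D (FractionRing D) (ψ₀ a₁) =
      algebraMap D (FractionRing D) (π (q' * φ b₁ - φ a₁)) := by
    rw [hs₀, ← map_mul, ← map_sub]
    congr 1
    rw [map_sub, map_mul]
    rfl
  rw [e3] at e2
  have e4 : q' * φ b₁ - φ a₁ ∈ P := (hP'mem _).1 ((hcen _).1 e2)
  have : φ a₁ - q' * φ b₁ = -(q' * φ b₁ - φ a₁) := by ring
  rw [this]
  exact neg_mem e4

/-- a minimal prime as a point of the spectrum. -/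
def minPt (i : minimalPrimes A) : PrimeSpectrum A := ⟨i.1, i.2.1.1⟩

include hR1 hR2 hH in
/-- the generic values glue to an integral element `a / s` of the total ring of fractions. -/
theorem exists_frac [IsReduced A] :
    ∃ (a s : A) (hs : s ∈ nonZeroDivisors A), (∀ i : minimalPrimes A, s ∉ i.1) ∧
      (∀ i : minimalPrimes A, Rel (minPt i) a s) ∧
      IsIntegral A (IsLocalization.mk' (FractionRing A) a (⟨s, hs⟩ : nonZeroDivisors A)) := by
  classical
  have hfin : (minimalPrimes A).Finite := minimalPrimes.finite_of_isNoetherianRing A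
  haveI : Fintype (minimalPrimes A) := hfin.fintype
  choose a_ s_ hs_ hrel_ using fun i : minimalPrimes A => hR1 (minPt i)
  have ht : ∀ i : minimalPrimes A, ∃ t : A, t ∉ i.1 ∧ ∀ j : minimalPrimes A, j ≠ i → t ∈ j.1 := by
    intro i
    haveI : i.1.IsPrime := i.2.1.1
    by_contra hcon
    push Not at hcon
    have hle : (Finset.univ.erase i).inf (fun j : minimalPrimes A => j.1) ≤ i.1 := by
      intro t ht
      by_contra hti
      obtain ⟨j, hj, htj⟩ := hcon t hti
      exact htj ((Finset.inf_le (Finset.mem_erase.2 ⟨hj, Finset.mem_univ _⟩) :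
        (Finset.univ.erase i).inf (fun j : minimalPrimes A => j.1) ≤ j.1) ht)
    obtain ⟨j, hj, hji⟩ := (Ideal.IsPrime.inf_le' inferInstance).1 hle
    have : j = i := Subtype.ext (le_antisymm hji (i.2.2 j.2.1 hji))
    exact (Finset.mem_erase.1 hj).1 this
  choose t_ ht_ ht'_ using ht
  set s : A := ∑ i, t_ i * s_ i with hs
  set a : A := ∑ i, t_ i * a_ i with ha
  have hsmod : ∀ i : minimalPrimes A, s - t_ i * s_ i ∈ i.1 := by
    intro i
    rw [hs, ← Finset.add_sum_erase _ _ (Finset.mem_univ i), add_sub_cancel_left]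
    exact Ideal.sum_mem _ fun j hj =>
      Ideal.mul_mem_right _ _ (ht'_ j i (Finset.mem_erase.1 hj).1.symm)
  have hamod : ∀ i : minimalPrimes A, a - t_ i * a_ i ∈ i.1 := by
    intro i
    rw [ha, ← Finset.add_sum_erase _ _ (Finset.mem_univ i), add_sub_cancel_left]
    exact Ideal.sum_mem _ fun j hj =>
      Ideal.mul_mem_right _ _ (ht'_ j i (Finset.mem_erase.1 hj).1.symm)
  have hsnot : ∀ i : minimalPrimes A, s ∉ i.1 := by
    intro i hsi
    haveI : i.1.IsPrime := i.2.1.1
    have : t_ i * s_ i ∈ i.1 := by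
      have := i.1.sub_mem hsi (hsmod i)
      rwa [sub_sub_cancel] at this
    rcases Ideal.IsPrime.mem_or_mem inferInstance this with h | h
    · exact ht_ i h
    · exact hs_ i h
  have hzero : ∀ x : A, (∀ i : minimalPrimes A, x ∈ i.1) → x = 0 := by
    intro x hx
    have h1 : x ∈ sInf (minimalPrimes A) := by
      rw [Ideal.mem_sInf]
      intro p hp
      exact hx ⟨p, hp⟩
    rw [minimalPrimes, Ideal.sInf_minimalPrimes] at h1
    have h2 : IsNilpotent x := by
      rw [← mem_nilradical, nilradical]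
      exact h1
    exact h2.eq_zero
  have hsnzd : s ∈ nonZeroDivisors A := by
    rw [mem_nonZeroDivisors_iff_right]
    intro x hx
    apply hzero
    intro i
    haveI : i.1.IsPrime := i.2.1.1
    have : x * s ∈ i.1 := hx ▸ i.1.zero_mem
    exact (Ideal.IsPrime.mem_or_mem inferInstance this).resolve_right (hsnot i)
  have hP : ∀ i : minimalPrimes A, ∃ P : A[X], P.Monic ∧
      P.eval₂ (toK (minPt i)) (toK (minPt i) (a_ i) / toK (minPt i) (s_ i)) = 0 := by
    intro i
    obtain ⟨Pbar, hmon, hroot⟩ := isIntegral_val Rel hH (minPt i) (a_ i) (s_ i) (hs_ i) (hrel_ i)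
    obtain ⟨P, hPmap, -, hPmon⟩ := Polynomial.lifts_and_natDegree_eq_and_monic
      (f := Ideal.Quotient.mk (minPt i).asIdeal)
      ((Polynomial.mem_lifts _).2 (Polynomial.map_surjective _ Ideal.Quotient.mk_surjective Pbar))
      hmon
    refine ⟨P, hPmon, ?_⟩
    rw [toK, ← Polynomial.eval₂_map, hPmap]
    exact hroot
  choose P_ hPmon_ hProot_ using hP
  set P : A[X] := ∏ i, P_ i with hPdef
  have hPmon : P.Monic := Polynomial.monic_prod_of_monic _ _ fun i _ => hPmon_ i
  have hkey : (Polynomial.scaleRoots P s).eval a = 0 := by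
    apply hzero
    intro i
    change _ ∈ (minPt i).asIdeal
    rw [← toK_eq_zero_iff (minPt i), ← Polynomial.eval₂_at_apply]
    have hs0 : toK (minPt i) (s_ i) ≠ 0 := fun h => hs_ i ((toK_eq_zero_iff (minPt i) _).1 h)
    have ht0 : toK (minPt i) (t_ i) ≠ 0 := fun h => ht_ i ((toK_eq_zero_iff (minPt i) _).1 h)
    have hsK : toK (minPt i) s = toK (minPt i) (t_ i) * toK (minPt i) (s_ i) := by
      rw [← map_mul, ← sub_eq_zero, ← map_sub, toK_eq_zero_iff]
      exact hsmod i
    have haK : toK (minPt i) a = toK (minPt i) (t_ i) * toK (minPt i) (a_ i) := by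
      rw [← map_mul, ← sub_eq_zero, ← map_sub, toK_eq_zero_iff]
      exact hamod i
    have hac : toK (minPt i) a = toK (minPt i) s * (toK (minPt i) (a_ i) / toK (minPt i) (s_ i)) := by
      rw [hsK, haK]
      field_simp
    rw [hac, Polynomial.scaleRoots_eval₂_mul]
    have : P.eval₂ (toK (minPt i)) (toK (minPt i) (a_ i) / toK (minPt i) (s_ i)) = 0 := by
      rw [hPdef, Polynomial.eval₂_finsetProd]
      exact Finset.prod_eq_zero (Finset.mem_univ i) (hProot_ i)
    rw [this, mul_zero]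
  have hcint : IsIntegral A
      (IsLocalization.mk' (FractionRing A) a (⟨s, hsnzd⟩ : nonZeroDivisors A)) := by
    refine ⟨P, hPmon, ?_⟩
    have h1 := Polynomial.scaleRoots_eval₂_mul (p := P) (algebraMap A (FractionRing A))
      (IsLocalization.mk' (FractionRing A) a (⟨s, hsnzd⟩ : nonZeroDivisors A)) s
    rw [show algebraMap A (FractionRing A) s *
        IsLocalization.mk' (FractionRing A) a (⟨s, hsnzd⟩ : nonZeroDivisors A) =
        algebraMap A (FractionRing A) a from
      IsLocalization.mk'_spec' (FractionRing A) a (⟨s, hsnzd⟩ : nonZeroDivisors A),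
      Polynomial.eval₂_at_apply, hkey, map_zero] at h1
    have hu : IsUnit (algebraMap A (FractionRing A) s) :=
      IsLocalization.map_units _ (⟨s, hsnzd⟩ : nonZeroDivisors A)
    exact ((hu.pow _).mul_right_eq_zero).1 h1.symm
  refine ⟨a, s, hsnzd, hsnot, ?_, hcint⟩
  intro i
  rw [hR2 (minPt i) (a_ i) (s_ i) a s (hrel_ i) (hs_ i)]
  change _ ∈ i.1
  have : a_ i * s - a * s_ i = a_ i * (s - t_ i * s_ i) - (a - t_ i * a_ i) * s_ i := by ring
  rw [this]
  exact i.1.sub_mem (Ideal.mul_mem_left _ _ (hsmod i)) (Ideal.mul_mem_right _ _ (hamod i))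

include hR1 hR2 hH in
/-- the ring-level theorem for seminormal Noetherian rings. -/
theorem main (hsemi : ∀ x y : A, x ^ 3 = y ^ 2 → ∃! a : A, x = a ^ 2 ∧ y = a ^ 3) :
    ∃ a : A, ∀ y, Rel y a 1 := by
  classical
  haveI hred : IsReduced A := by
    rw [isReduced_iff_pow_one_lt 2 (by norm_num)]
    intro x hx
    obtain ⟨a₀, -, huniq⟩ := hsemi 0 0 (by ring)
    have h1 : x = a₀ := huniq x ⟨hx.symm, by rw [pow_succ, hx, zero_mul]⟩
    have h2 : (0 : A) = a₀ := huniq 0 ⟨by ring, by ring⟩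
    rw [h1, ← h2]
  obtain ⟨a, s, hsnzd, hsnot, hrelmin, hcint⟩ := exists_frac Rel hR1 hR2 hH
  obtain ⟨q, hqdef⟩ : ∃ q : FractionRing A,
      q = IsLocalization.mk' (FractionRing A) a (⟨s, hsnzd⟩ : nonZeroDivisors A) := ⟨_, rfl⟩
  rw [← hqdef] at hcint
  have hqs : algebraMap A (FractionRing A) s * q = algebraMap A (FractionRing A) a := by
    rw [hqdef]
    exact IsLocalization.mk'_spec' (FractionRing A) a (⟨s, hsnzd⟩ : nonZeroDivisors A)
  obtain ⟨B', hB'⟩ : ∃ B' : Subalgebra A (FractionRing A), B' = Algebra.adjoin A {q} := ⟨_, rfl⟩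
  have hqmem : q ∈ B' := by
    rw [hB']
    exact Algebra.subset_adjoin rfl
  obtain ⟨q', hq'⟩ : ∃ q' : B', (q' : FractionRing A) = q := ⟨⟨q, hqmem⟩, rfl⟩
  haveI hfinB : Module.Finite A B' := by
    rw [hB']
    exact Algebra.finite_adjoin_simple_of_isIntegral hcint
  haveI : IsNoetherianRing B' := IsNoetherianRing.of_finite A B'
  have hinjQ : Function.Injective (algebraMap A (FractionRing A)) :=
    IsFractionRing.injective A (FractionRing A)
  have hval : ∀ x : A, ((algebraMap A B' x : B') : FractionRing A) = algebraMap A (FractionRing A) x :=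
    fun x => rfl
  haveI : IsReduced B' := isReduced_of_injective B'.val Subtype.val_injective
  have hq's : algebraMap A B' s * q' = algebraMap A B' a := by
    apply Subtype.ext
    change algebraMap A (FractionRing A) s * (q' : FractionRing A) = algebraMap A (FractionRing A) a
    rw [hq']
    exact hqs
  -- seminormality of A in B'
  have hsn : ∀ b : B', b ^ 2 ∈ (algebraMap A B').range → b ^ 3 ∈ (algebraMap A B').range →
      b ∈ (algebraMap A B').range := by
    rintro b ⟨x, hx⟩ ⟨y, hy⟩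
    have hxy : x ^ 3 = y ^ 2 := by
      apply hinjQ
      rw [map_pow, map_pow, ← hval, ← hval, hx, hy]
      push_cast
      ring
    obtain ⟨a₀, ⟨hxa, hya⟩, -⟩ := hsemi x y hxy
    refine ⟨a₀, ?_⟩
    have h2 : (algebraMap A B' a₀) ^ 2 = b ^ 2 := by rw [← map_pow, ← hxa, hx]
    have h3 : (algebraMap A B' a₀) ^ 3 = b ^ 3 := by rw [← map_pow, ← hya, hy]
    have hnil : (algebraMap A B' a₀ - b) ^ 3 = 0 := by
      linear_combination 4 * h3 - (3 * b + 3 * algebraMap A B' a₀) * h2
    exact sub_eq_zero.1 (IsReduced.eq_zero _ ⟨3, hnil⟩)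
  have hadj : Algebra.adjoin A {q'} = ⊤ := by
    subst hB'
    have := Algebra.adjoin_adjoin_coe_preimage (R := A) (s := ({q} : Set (FractionRing A)))
    convert this using 2
    ext z
    simp only [Set.mem_singleton_iff, Set.mem_preimage]
    constructor
    · intro h
      rw [h]
      exact hq'
    · intro h
      apply Subtype.ext
      rw [h, hq']
  -- pointwise congruences
  have hpt : ∀ y : Ideal A, y.IsPrime → ∃ a₁ b₁ : A, b₁ ∉ y ∧ ∀ P : Ideal B', P.IsPrime →
      P.comap (algebraMap A B') = y → algebraMap A B' a₁ - q' * algebraMap A B' b₁ ∈ P := by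
    intro y hy
    obtain ⟨a₁, b₁, hb₁, hrel₁⟩ := hR1 ⟨y, hy⟩
    refine ⟨a₁, b₁, hb₁, fun P hP hPy => ?_⟩
    obtain ⟨P₀, hP₀min, hP₀P⟩ :=
      Ideal.exists_minimalPrimes_le (show (⊥ : Ideal B') ≤ P from bot_le)
    haveI hP₀ : P₀.IsPrime := hP₀min.1.1
    have hs'nzd : algebraMap A B' s ∈ nonZeroDivisors B' := by
      rw [mem_nonZeroDivisors_iff_right]
      intro x hx
      have h1 : (x : FractionRing A) * algebraMap A (FractionRing A) s = 0 := by
        have := congrArg Subtype.val hx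
        exact this
      have hu : IsUnit (algebraMap A (FractionRing A) s) :=
        IsLocalization.map_units _ (⟨s, hsnzd⟩ : nonZeroDivisors A)
      exact Subtype.ext ((hu.mul_left_eq_zero).1 h1)
    have hs'P₀ : algebraMap A B' s ∉ P₀ := fun h =>
      (Set.disjoint_left.1 (Ideal.disjoint_nonZeroDivisors_of_mem_minimalPrimes hP₀min)) h hs'nzd
    let p₀ : PrimeSpectrum A := ⟨P₀.comap (algebraMap A B'), inferInstance⟩
    obtain ⟨pi, hpi, hpip₀⟩ :=
      Ideal.exists_minimalPrimes_le (show (⊥ : Ideal A) ≤ p₀.asIdeal from bot_le)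
    have hrelp₀ : Rel p₀ a s :=
      rel_of_le' Rel hR1 hR2 hH (minPt ⟨pi, hpi⟩) p₀ hpip₀ a s (hrelmin ⟨pi, hpi⟩)
    have hyle : p₀.asIdeal ≤ y := by
      rw [← hPy]
      exact Ideal.comap_mono hP₀P
    have hrely : Rel ⟨y, hy⟩ a s := rel_of_le' Rel hR1 hR2 hH p₀ ⟨y, hy⟩ hyle a s hrelp₀
    by_cases hPP : P = P₀
    · have h1 : a₁ * s - a * b₁ ∈ y := (hR2 ⟨y, hy⟩ a₁ b₁ a s hrel₁ hb₁).1 hrely
      have h2 : algebraMap A B' (a₁ * s - a * b₁) ∈ P := by
        rw [← hPy] at h1
        exact h1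
      have h3 : algebraMap A B' (a₁ * s - a * b₁) =
          algebraMap A B' s * (algebraMap A B' a₁ - q' * algebraMap A B' b₁) := by
        rw [map_sub, map_mul, map_mul, ← hq's]
        ring
      rw [h3] at h2
      rcases hP.mem_or_mem h2 with h | h
      · exact absurd (hPP ▸ h) hs'P₀
      · exact h
    · have hker : RingHom.ker (Ideal.Quotient.mk P₀) = P₀ := Ideal.mk_ker
      exact cong_step Rel hH (algebraMap A B') (↥B' ⧸ P₀) (Ideal.Quotient.mk P₀)
        Ideal.Quotient.mk_surjective P (by rw [hker]; exact hP₀P) (by rw [hker]; exact hPP)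
        a s a₁ b₁ q' hq's (fun h => hs'P₀ (Ideal.Quotient.eq_zero_iff_mem.1 h))
        p₀ ⟨y, hy⟩ (fun x => by
          change algebraMap A B' x ∈ P₀ ↔ _
          rw [Ideal.Quotient.eq_zero_iff_mem])
        (fun x => by
          change x ∈ y ↔ _
          rw [← hPy]
          rfl)
        hrelp₀ hrel₁
  obtain ⟨a', ha'⟩ := Groth.Agent.Lib.Helper71.SemiN1.key hsn q' hadj hpt
  have ha's : a' * s = a := by
    apply hinjQ
    rw [map_mul, ← hqs, ← hval a', ha', hq', mul_comm]
  have hmin : ∀ i : minimalPrimes A, Rel (minPt i) a' 1 := by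
    intro i
    rw [hR2 (minPt i) a s a' 1 (hrelmin i) (hsnot i), mul_one, ha's, sub_self]
    exact Ideal.zero_mem _
  refine ⟨a', fun z => ?_⟩
  obtain ⟨p, hp, hpz⟩ := Ideal.exists_minimalPrimes_le (show (⊥ : Ideal A) ≤ z.asIdeal from bot_le)
  exact rel_of_le' Rel hR1 hR2 hH (minPt ⟨p, hp⟩) z hpz a' 1 (hmin ⟨p, hp⟩)

end Groth.Agent.Lib.Helper71.SemiN3
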