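import Mathlib
import Groth.Prelude.Def_W4c1hilbchowincPtFun
import Groth.Agent.Lib.Helper9.PtFunSpec
import Groth.Agent.Lib.Helper71.SemiN2
import Groth.Agent.Lib.Helper71.SemiN3

/-!
# Pointwise functions on `Spec A` varying along complete DVRs, for `A` seminormal Noetherian
-/

universe u

set_option linter.unusedSectionVars false
set_option linter.style.haveILetI false
set_option linter.overlappingInstances false

open CategoryTheory AlgebraicGeometry W4c1hilbchowinc

namespace Groth.Agent.Lib.Helper71.SemiN4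

open Groth.Agent.Lib.Helper9.PtFunSpec

variable (A : Type u) [CommRing A]

theorem main [IsNoetherianRing A]
    (hsemi : ∀ x y : A, x ^ 3 = y ^ 2 → ∃! a : A, x = a ^ 2 ∧ y = a ^ 3)
    (f : PtFun (Spec (CommRingCat.of A))) (hf : f.VariesAlongCompleteDVR) :
    ∃! a : Γ(Spec (CommRingCat.of A), ⊤), PtFun.ofSection (Spec (CommRingCat.of A)) a = f := by
  haveI hred : IsReduced A := by
    rw [isReduced_iff_pow_one_lt 2 (by norm_num)]
    intro x hx
    obtain ⟨a₀, -, huniq⟩ := hsemi 0 0 (by ring)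
    have h1 : x = a₀ := huniq x ⟨hx.symm, by rw [pow_succ, hx, zero_mul]⟩
    have h2 : (0 : A) = a₀ := huniq 0 ⟨by ring, by ring⟩
    rw [h1, ← h2]
  let Rel : PrimeSpectrum A → A → A → Prop := fun y a b => f y * ev A y b = ev A y a
  have hR1 : ∀ y, ∃ a b, b ∉ y.asIdeal ∧ Rel y a b := by
    intro y
    obtain ⟨a, s', hs', h⟩ := Groth.Agent.Lib.Helper20.Descend.exists_Γevaluation_mul_eq
      (X := Spec (CommRingCat.of A)) y (f y)
    refine ⟨(Scheme.ΓSpecIso (CommRingCat.of A)).hom a,
      (Scheme.ΓSpecIso (CommRingCat.of A)).hom s', ?_, ?_⟩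
    · rw [← ev_eq_zero_iff, ev_hom]
      exact hs'
    · show f y * ev A y _ = ev A y _
      rw [ev_hom, ev_hom, mul_comm]
      exact h
  have hR2 : ∀ y a b a' b', Rel y a b → b ∉ y.asIdeal →
      (Rel y a' b' ↔ a * b' - a' * b ∈ y.asIdeal) := by
    intro y a b a' b' hab hb
    have hb0 : ev A y b ≠ 0 := fun h => hb ((ev_eq_zero_iff A y b).1 h)
    rw [← ev_eq_zero_iff, map_sub, map_mul, map_mul, sub_eq_zero]
    change f y * ev A y b = ev A y a at hab
    change f y * ev A y b' = ev A y a' ↔ _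
    constructor
    · intro h'
      rw [← hab, ← h']
      ring
    · intro h'
      apply mul_right_cancel₀ hb0
      rw [← h', ← hab]
      ring
  have hHc : ∀ (R : Type u) [CommRing R] [IsDomain R] [IsDiscreteValuationRing R]
      [IsAdicComplete (IsLocalRing.maximalIdeal R) R] (φ : A →+* R),
      ∃ s : R, ∀ y' : PrimeSpectrum R, ∀ a b, Rel (PrimeSpectrum.comap φ y') a b →
        s * φ b - φ a ∈ y'.asIdeal := by
    intro R _ _ _ _ φ
    obtain ⟨s, hs⟩ := hf R (Spec.map (CommRingCat.ofHom φ))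
    refine ⟨(Scheme.ΓSpecIso (CommRingCat.of R)).hom s, fun y' a b hab => ?_⟩
    have hab' : f ((Spec.map (CommRingCat.ofHom φ)) y') *
        ev A ((Spec.map (CommRingCat.ofHom φ)) y') b =
        ev A ((Spec.map (CommRingCat.ofHom φ)) y') a := hab
    have hs' : ev R y' ((Scheme.ΓSpecIso (CommRingCat.of R)).hom s) =
        (Spec.map (CommRingCat.ofHom φ)).residueFieldMap y'
          (f ((Spec.map (CommRingCat.ofHom φ)) y')) := by
      rw [ev_hom]
      exact congrFun hs y'
    rw [← ev_eq_zero_iff R y', map_sub, map_mul, hs', ← residueFieldMap_ev, ← residueFieldMap_ev,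
      ← map_mul, ← map_sub, hab', sub_self, map_zero]
  have hH := Groth.Agent.Lib.Helper71.SemiN2.hH_of_complete Rel hR1 hHc
  obtain ⟨a₀, ha₀⟩ := Groth.Agent.Lib.Helper71.SemiN3.main Rel hR1 hR2 hH hsemi
  have hval : ∀ y : Spec (CommRingCat.of A), ev A y a₀ = f y := by
    intro y
    have := ha₀ y
    change f y * ev A y 1 = ev A y a₀ at this
    rw [map_one, mul_one] at this
    exact this.symm
  refine ⟨(Scheme.ΓSpecIso (CommRingCat.of A)).inv a₀, ?_, ?_⟩
  · funext y
    exact hval y
  · intro b hb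
    have hb' : ∀ y : Spec (CommRingCat.of A),
        ev A y ((Scheme.ΓSpecIso (CommRingCat.of A)).hom b) = f y := by
      intro y
      rw [ev_hom]
      exact congrFun hb y
    have hnil : IsNilpotent ((Scheme.ΓSpecIso (CommRingCat.of A)).hom b - a₀) := by
      rw [nilpotent_iff_mem_prime]
      intro J hJ
      have := (ev_eq_zero_iff A (⟨J, hJ⟩ : PrimeSpectrum A)
        ((Scheme.ΓSpecIso (CommRingCat.of A)).hom b - a₀)).1 (by
          rw [map_sub, hb', hval, sub_self])
      exact this
    have heq : (Scheme.ΓSpecIso (CommRingCat.of A)).hom b = a₀ := sub_eq_zero.1 hnil.eq_zero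
    rw [← heq]
    exact (Iso.hom_inv_id_apply (Scheme.ΓSpecIso (CommRingCat.of A)) b).symm

end Groth.Agent.Lib.Helper71.SemiN4
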