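import Mathlib
import Groth.Prelude.Def_FlatCA
import Groth.Prelude.Def_EGA4b
import Groth.Agent.Lib.Helper77.RegularCM
import Groth.Agent.Lib.Helper65.RegularSmooth
set_option autoImplicit false
universe u
open CategoryTheory CategoryTheory.Limits AlgebraicGeometry TensorProduct

namespace Groth.Agent.Lib.Helper71.SmFibCD

/-- (c) the fibre of a smooth algebra of relative dimension `n` is smooth of relative dimension `n`
over the residue field. -/
theorem smoothRelDim_fiber (A B : Type u) [CommRing A] [CommRing B] [Algebra A B] (n : ℕ)
    (hs : FlatCA.SmoothRelDim n A B) (p : Ideal A) [p.IsPrime] :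
    FlatCA.SmoothRelDim n p.ResidueField (p.Fiber B) := by
  let κ := p.ResidueField
  let f := Spec.map (CommRingCat.ofHom (algebraMap A B))
  let g := Spec.map (CommRingCat.ofHom (algebraMap A κ))
  have hf : SmoothOfRelativeDimension n f := hs
  have hst : MorphismProperty.IsStableUnderBaseChange (@SmoothOfRelativeDimension n) :=
    smoothOfRelativeDimension_isStableUnderBaseChange n
  have h1 : SmoothOfRelativeDimension n (pullback.fst g f) :=
    MorphismProperty.pullback_fst (P := @SmoothOfRelativeDimension n) g f hf
  let φ : Spec (CommRingCat.of (κ ⊗[A] B)) ⟶ Spec (CommRingCat.of κ) :=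
    Spec.map (CommRingCat.ofHom (algebraMap κ (κ ⊗[A] B)))
  have h2 : SmoothOfRelativeDimension n φ := by
    have e : φ = (pullbackSpecIso A κ B).inv ≫ pullback.fst g f :=
      (pullbackSpecIso_inv_fst' A κ B).symm
    rw [e]
    exact (MorphismProperty.cancel_left_of_respectsIso (@SmoothOfRelativeDimension n)
      (pullbackSpecIso A κ B).inv (pullback.fst g f)).2 h1
  exact h2

/-- (d) localizations of a smooth algebra over a field are regular, so depth = dimension. -/
theorem depth_eq_dim_of_smooth_field (k C : Type u) [Field k] [CommRing C] [Algebra k C] (n : ℕ)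
    (hs : FlatCA.SmoothRelDim n k C) (Q : Ideal C) [Q.IsPrime] :
    ((LocCoh.depth (Localization.AtPrime Q) (Localization.AtPrime Q) : ℕ∞) : WithBot ℕ∞) =
      ringKrullDim (Localization.AtPrime Q) := by
  have hsm : Smooth (Spec.map (CommRingCat.ofHom (algebraMap k C))) := by
    have : SmoothOfRelativeDimension n (Spec.map (CommRingCat.ofHom (algebraMap k C))) := hs
    exact this.smooth
  haveI : Algebra.Smooth k C :=
    RingHom.smooth_algebraMap.mp ((HasRingHomProperty.Spec_iff (P := @Smooth)).mp hsm)
  haveI : Algebra.FinitePresentation k C := Algebra.Smooth.finitePresentation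
  haveI : Algebra.FiniteType k C := inferInstance
  haveI : Algebra.FormallySmooth k C := Algebra.Smooth.formallySmooth
  haveI : Algebra.FormallySmooth k (Localization.AtPrime Q) :=
    inferInstanceAs (Algebra.FormallySmooth k (Localization Q.primeCompl))
  haveI : Algebra.EssFiniteType C (Localization.AtPrime Q) :=
    Algebra.EssFiniteType.of_isLocalization _ Q.primeCompl
  haveI : Algebra.EssFiniteType k (Localization.AtPrime Q) :=
    Algebra.EssFiniteType.comp k C (Localization.AtPrime Q)
  haveI := Groth.Agent.Lib.Helper65.RegularSmooth.isRegularLocalRing_of_formallySmooth k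
    (Localization.AtPrime Q)
  exact Groth.Agent.Lib.Helper77.RegularCM.depth_eq_dim (Localization.AtPrime Q)

end Groth.Agent.Lib.Helper71.SmFibCD
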