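import Mathlib
import Groth.Prelude.Def_FlatCA
import Groth.Prelude.Def_EGA4b
import Groth.Agent.Lib.Helper71.SmFibA
import Groth.Agent.Lib.Helper71.SmFibCD
import Groth.Agent.Lib.Helper85.SmFibBF
import Groth.Agent.Lib.Helper51.SmFibD1
import Groth.Agent.Lib.Helper64.DepthQuot

/-!
# [FD] for S11186: the depth of the fibre local ring of a smooth algebra

Assembly of the pieces (a) `Helper71.SmFibA`, (b)+(f) `Helper85.SmFibBF`, (c)+(d)
`Helper71.SmFibCD`, (D1) `Helper51.SmFibD1`.
-/

set_option autoImplicit false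
set_option linter.style.haveILetI false
universe u
open AlgebraicGeometry CategoryTheory

namespace Groth.Agent.Lib.Helper71.SmFibFD

theorem isNoetherianRing_of_smoothRelDim (A B : Type u) [CommRing A] [CommRing B] [Algebra A B]
    [IsNoetherianRing A] (n : ℕ) (hs : FlatCA.SmoothRelDim n A B) : IsNoetherianRing B := by
  have hsm : Smooth (Spec.map (CommRingCat.ofHom (algebraMap A B))) := by
    have : SmoothOfRelativeDimension n (Spec.map (CommRingCat.ofHom (algebraMap A B))) := hs
    exact this.smooth
  haveI : Algebra.Smooth A B :=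
    RingHom.smooth_algebraMap.mp ((HasRingHomProperty.Spec_iff (P := @Smooth)).mp hsm)
  haveI : Algebra.FinitePresentation A B := Algebra.Smooth.finitePresentation
  exact Algebra.FiniteType.isNoetherianRing A B

theorem depth_fibLoc_of_smooth (A B : Type u) [CommRing A] [CommRing B] [Algebra A B]
    [IsNoetherianRing A] (n : ℕ) (hs : FlatCA.SmoothRelDim n A B)
    (p : Ideal A) [p.IsPrime] (q : Ideal B) [q.IsPrime] [hq : q.LiesOver p] (t : ℕ)
    (ht : @Algebra.trdeg p.ResidueField q.ResidueField _ _
        (Ideal.ResidueField.mapₐ p q (Algebra.ofId A B) hq.over).toRingHom.toAlgebra =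
        (t : Cardinal.{u})) :
    t ≤ n ∧ LocCoh.depth (Localization.AtPrime q) (EGA4.FibLocMod A B q B) =
      ((n - t : ℕ) : ℕ∞) := by
  haveI : IsNoetherianRing B := isNoetherianRing_of_smoothRelDim A B n hs
  obtain ⟨Q, hQ, ⟨e⟩, htr⟩ := Groth.Agent.Lib.Helper85.SmFibBF.exists_fiber_prime_data A B p q
  haveI := hQ
  have hsF : FlatCA.SmoothRelDim n p.ResidueField (p.Fiber B) :=
    Groth.Agent.Lib.Helper71.SmFibCD.smoothRelDim_fiber A B n hs p
  have htQ : @Algebra.trdeg p.ResidueField Q.ResidueField _ _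
      (IsLocalRing.ResidueField.algebra (Localization.AtPrime Q)) = (t : Cardinal.{u}) := by
    refine Eq.trans ?_ (htr.symm.trans ht)
    refine @Groth.Agent.Lib.Helper85.SmFibBF.trdeg_eq_of_ringHom_bijective p.ResidueField
      Q.ResidueField Q.ResidueField _ _ _
      (IsLocalRing.ResidueField.algebra (Localization.AtPrime Q))
      IsLocalRing.ResidueField.instAlgebra
      (RingHom.id Q.ResidueField) Function.bijective_id ?_
    apply Ideal.ResidueField.ringHom_ext
    ext a
    simp only [RingHom.comp_apply, RingHom.id_apply]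
    rw [← IsScalarTower.algebraMap_apply, ← IsScalarTower.algebraMap_apply]
  obtain ⟨hle, hdim⟩ :=
    Groth.Agent.Lib.Helper51.SmFibD1.ringKrullDim_atPrime_of_smooth_field p.ResidueField
      (p.Fiber B) n hsF Q t htQ
  refine ⟨hle, ?_⟩
  have hdep := Groth.Agent.Lib.Helper71.SmFibCD.depth_eq_dim_of_smooth_field p.ResidueField
    (p.Fiber B) n hsF Q
  rw [hdim] at hdep
  have hdep' : LocCoh.depth (Localization.AtPrime Q) (Localization.AtPrime Q) =
      ((n - t : ℕ) : ℕ∞) := by
    exact WithBot.coe_injective hdep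
  haveI : IsLocalRing (EGA4.FibLocRing A B q) := e.isLocalRing
  rw [Groth.Agent.Lib.Helper71.SmFibA.depth_fibLocMod_eq A B q,
    ← Groth.Agent.Lib.Helper64.DepthQuot.depth_self_of_ringEquiv
      (R := Localization.AtPrime Q) (S := EGA4.FibLocRing A B q) e, hdep']

end Groth.Agent.Lib.Helper71.SmFibFD
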