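import Groth.Agent.Lib.Helper71.TgtGen

/-! Degree-zero tangent vectors at the ideal `(x_a, x_a') · (x_a, x_a', x_j : j ∈ mid)` with one
further free variable `x_z`. (helper71) -/

set_option autoImplicit false
set_option linter.unusedSectionVars false
set_option linter.unusedVariables false

universe u

namespace Groth.Agent.Lib.Helper71.TgtBorel

open W4c1hilbpn MvPolynomial Groth.Agent.Lib.Helper44.TgtComp Groth.Agent.Lib.Helper71.TgtGen

variable {k : Type u} [Field k] {n : ℕ}

/-- configuration of the variables: two special ones `a a'`, one free `z`, the rest `mid` -/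
structure Cfg (a a' z : Fin n) (mid : Finset (Fin n)) : Prop where
  haa' : a ≠ a'
  haz : a ≠ z
  ha'z : a' ≠ z
  ham : a ∉ mid
  ha'm : a' ∉ mid
  hzm : z ∉ mid
  hall : ∀ i, i = a ∨ i = a' ∨ i = z ∨ i ∈ mid

theorem Cfg.symm {a a' z : Fin n} {mid : Finset (Fin n)} (h : Cfg a a' z mid) :
    Cfg a' a z mid where
  haa' := h.haa'.symm
  haz := h.ha'z
  ha'z := h.haz
  ham := h.ha'm
  ha'm := h.ham
  hzm := h.hzm
  hall i := by
    rcases h.hall i with h1 | h1 | h1 | h1
    · exact Or.inr (Or.inl h1)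
    · exact Or.inl h1
    · exact Or.inr (Or.inr (Or.inl h1))
    · exact Or.inr (Or.inr (Or.inr h1))

/-- the membership predicate of the exponent set -/
def Mp (a a' : Fin n) (mid : Finset (Fin n)) (γ : Fin n → ℤ) : Prop :=
  1 ≤ γ a + γ a' ∧ 2 ≤ γ a + γ a' + fs mid γ

theorem Mp_comm (a a' : Fin n) (mid : Finset (Fin n)) (γ : Fin n → ℤ) :
    Mp a a' mid γ ↔ Mp a' a mid γ := by
  unfold Mp
  rw [add_comm (γ a) (γ a')]

section

variable {a a' z : Fin n} {mid : Finset (Fin n)} (hc : Cfg a a' z mid)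
  {I : Ideal (MvPolynomial (Fin n) k)} (hI : IsMonomial I)
  (hM : ∀ β : Fin n →₀ ℕ, β ∈ exps I ↔ Mp a a' mid (ofN β))

theorem Cfg.ne_of_mem {a a' z : Fin n} {mid : Finset (Fin n)} (hc : Cfg a a' z mid)
    {j : Fin n} (hj : j ∈ mid) : j ≠ a ∧ j ≠ a' ∧ j ≠ z :=
  ⟨fun h => hc.ham (h ▸ hj), fun h => hc.ha'm (h ▸ hj), fun h => hc.hzm (h ▸ hj)⟩

theorem fs_univ_eq {a a' z : Fin n} {mid : Finset (Fin n)} (hc : Cfg a a' z mid)
    (γ : Fin n → ℤ) : fs Finset.univ γ = γ a + γ a' + γ z + fs mid γ := by
  classical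
  have hu : (Finset.univ : Finset (Fin n)) = insert a (insert a' (insert z mid)) := by
    ext i
    simp only [Finset.mem_univ, Finset.mem_insert, true_iff]
    exact hc.hall i
  unfold fs
  rw [hu, Finset.sum_insert, Finset.sum_insert, Finset.sum_insert hc.hzm]
  · ring
  · simp only [Finset.mem_insert, not_or]
    exact ⟨hc.ha'z, hc.ha'm⟩
  · simp only [Finset.mem_insert, not_or]
    exact ⟨hc.haa', hc.haz, hc.ham⟩

include hM in
theorem region_iff {α γ : Fin n → ℤ} :
    γ ∈ region I α ↔ (∀ l, α l ≤ γ l) ∧ 1 ≤ (γ a - α a) + (γ a' - α a') ∧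
      2 ≤ (γ a - α a) + (γ a' - α a') + (fs mid γ - fs mid α) ∧
      ¬ (Nonneg γ ∧ 1 ≤ γ a + γ a' ∧ 2 ≤ γ a + γ a' + fs mid γ) := by
  rw [mem_region_iff (M := Mp a a' mid) hM]
  unfold Mp
  rw [fs_sub]
  simp only [Pi.sub_apply]
  constructor
  · rintro ⟨⟨h1, h2, h3⟩, h4⟩
    refine ⟨fun l => ?_, h2, h3, h4⟩
    have := h1 l
    simp only [Pi.sub_apply] at this
    omega
  · rintro ⟨h1, h2, h3, h4⟩
    refine ⟨⟨fun l => ?_, h2, h3⟩, h4⟩
    have := h1 l
    simp only [Pi.sub_apply]
    omega

/-! ### Family (a): `α = e_a' + e_z - 2 e_a` -/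

include hc hI hM in
theorem famA :
    Module.finrank k ↥(tPiece I (ev a' + ev z - ev a - ev a)) = 1 ∧
      Module.Finite k ↥(tPiece I (ev a' + ev z - ev a - ev a)) := by
  have αa : (ev a' + ev z - ev a - ev a) a = -2 := by
    simp only [Pi.add_apply, Pi.sub_apply, ev_same, ev_ne hc.haa', ev_ne hc.haz]; omega
  have αa' : (ev a' + ev z - ev a - ev a) a' = 1 := by
    simp only [Pi.add_apply, Pi.sub_apply, ev_same, ev_ne hc.haa'.symm, ev_ne hc.ha'z]; omega
  have αz : (ev a' + ev z - ev a - ev a) z = 1 := by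
    simp only [Pi.add_apply, Pi.sub_apply, ev_same, ev_ne hc.haz.symm, ev_ne hc.ha'z.symm]; omega
  have αm : fs mid (ev a' + ev z - ev a - ev a) = 0 := by
    rw [fs_sub, fs_sub, fs_add, fs_ev_not_mem hc.ham, fs_ev_not_mem hc.ha'm, fs_ev_not_mem hc.hzm]
    omega
  have αl : ∀ l, l ∈ mid → (ev a' + ev z - ev a - ev a) l = 0 := by
    intro l hl
    obtain ⟨h1, h2, h3⟩ := hc.ne_of_mem hl
    simp only [Pi.add_apply, Pi.sub_apply, ev_ne h1, ev_ne h2, ev_ne h3]; omega
  have pa : (ev a' + ev z) a = 0 := by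
    simp only [Pi.add_apply, ev_ne hc.haa', ev_ne hc.haz]; omega
  have pa' : (ev a' + ev z) a' = 1 := by
    simp only [Pi.add_apply, ev_same, ev_ne hc.ha'z]; omega
  have pm : fs mid (ev a' + ev z) = 0 := by
    rw [fs_add, fs_ev_not_mem hc.ha'm, fs_ev_not_mem hc.hzm]; omega
  have hpt : ev a' + ev z ∈ region I (ev a' + ev z - ev a - ev a) := by
    rw [region_iff hM]
    refine ⟨fun l => ?_, ?_, ?_, ?_⟩
    · have := nonneg_ev a l
      simp only [Pi.add_apply, Pi.sub_apply]
      omega
    · rw [αa, αa', pa, pa']; omega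
    · rw [αa, αa', pa, pa', pm, αm]; omega
    · rintro ⟨_, _, h⟩
      rw [pa, pa', pm] at h; omega
  refine finrank_of_classifier hI _ (d := 1) (fun _ => ev a' + ev z) (fun _ => 0) ?_ ?_ ?_ ?_
  · intro t
    exact ⟨hpt, nonneg_add (nonneg_ev _) (nonneg_ev _), Subsingleton.elim _ _⟩
  · intro γ hγ i hγi hnni
    by_contra hneg
    obtain ⟨hi1, hi2⟩ := step_neg hnni hneg
    rw [region_iff hM] at hγ hγi
    obtain ⟨g1, g2, g3, _⟩ := hγ
    have hia : i = a := by
      have := g1 i
      rcases hc.hall i with h | h | h | h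
      · exact h
      · rw [h] at this hi1; omega
      · rw [h] at this hi1; omega
      · rw [αl i h] at this; omega
    subst hia
    rw [αa, αa'] at g2
    rw [αa, αa', αm] at g3
    apply hγi.2.2.2
    refine ⟨hnni, ?_, ?_⟩
    · simp only [Pi.add_apply, ev_same, ev_ne hc.haa'.symm]; omega
    · rw [fs_add, fs_ev_not_mem hc.ham]
      simp only [Pi.add_apply, ev_same, ev_ne hc.haa'.symm]; omega
  · intro γ _ i _ _
    exact Subsingleton.elim _ _
  · intro φ hφ γ hγ hγn
    refine (cf_le hI hφ hpt hγ ?_).symm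
    intro l
    have g1 := ((region_iff hM).mp hγ).1 l
    have := hγn l
    rcases hc.hall l with h | h | h | h
    · rw [h, pa]; rw [h] at this; exact this
    · rw [h, pa']; rw [h, αa'] at g1; exact g1
    · rw [h]; rw [h, αz] at g1
      simp only [Pi.add_apply, ev_same, ev_ne hc.ha'z.symm]; omega
    · obtain ⟨h1, h2, h3⟩ := hc.ne_of_mem h
      simp only [Pi.add_apply, ev_ne h2, ev_ne h3]; omega

/-! ### Family (d): `α = e_a' + e_z - e_a - e_j` -/

include hc hI hM in
theorem famD {j : Fin n} (hj : j ∈ mid) :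
    Module.finrank k ↥(tPiece I (ev a' + ev z - ev a - ev j)) = 1 ∧
      Module.Finite k ↥(tPiece I (ev a' + ev z - ev a - ev j)) := by
  obtain ⟨hja, hja', hjz⟩ := hc.ne_of_mem hj
  have αa : (ev a' + ev z - ev a - ev j) a = -1 := by
    simp only [Pi.add_apply, Pi.sub_apply, ev_same, ev_ne hc.haa', ev_ne hc.haz, ev_ne hja.symm]
    omega
  have αa' : (ev a' + ev z - ev a - ev j) a' = 1 := by
    simp only [Pi.add_apply, Pi.sub_apply, ev_same, ev_ne hc.haa'.symm, ev_ne hc.ha'z,
      ev_ne hja'.symm]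
    omega
  have αz : (ev a' + ev z - ev a - ev j) z = 1 := by
    simp only [Pi.add_apply, Pi.sub_apply, ev_same, ev_ne hc.haz.symm, ev_ne hc.ha'z.symm,
      ev_ne hjz.symm]
    omega
  have αm : fs mid (ev a' + ev z - ev a - ev j) = -1 := by
    rw [fs_sub, fs_sub, fs_add, fs_ev_not_mem hc.ham, fs_ev_not_mem hc.ha'm, fs_ev_not_mem hc.hzm,
      fs_ev_mem hj]
    omega
  have αl : ∀ l, l ∈ mid → l ≠ j → (ev a' + ev z - ev a - ev j) l = 0 := by
    intro l hl hlj
    obtain ⟨h1, h2, h3⟩ := hc.ne_of_mem hl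
    simp only [Pi.add_apply, Pi.sub_apply, ev_ne h1, ev_ne h2, ev_ne h3, ev_ne hlj]; omega
  have pa : (ev a' + ev z) a = 0 := by
    simp only [Pi.add_apply, ev_ne hc.haa', ev_ne hc.haz]; omega
  have pa' : (ev a' + ev z) a' = 1 := by
    simp only [Pi.add_apply, ev_same, ev_ne hc.ha'z]; omega
  have pm : fs mid (ev a' + ev z) = 0 := by
    rw [fs_add, fs_ev_not_mem hc.ha'm, fs_ev_not_mem hc.hzm]; omega
  have hpt : ev a' + ev z ∈ region I (ev a' + ev z - ev a - ev j) := by
    rw [region_iff hM]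
    refine ⟨fun l => ?_, ?_, ?_, ?_⟩
    · have := nonneg_ev a l
      have := nonneg_ev j l
      simp only [Pi.add_apply, Pi.sub_apply]
      omega
    · rw [αa, αa', pa, pa']; omega
    · rw [αa, αa', pa, pa', pm, αm]; omega
    · rintro ⟨_, _, h⟩
      rw [pa, pa', pm] at h; omega
  refine finrank_of_classifier hI _ (d := 1) (fun _ => ev a' + ev z) (fun _ => 0) ?_ ?_ ?_ ?_
  · intro t
    exact ⟨hpt, nonneg_add (nonneg_ev _) (nonneg_ev _), Subsingleton.elim _ _⟩
  · intro γ hγ i hγi hnni
    by_contra hneg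
    obtain ⟨hi1, hi2⟩ := step_neg hnni hneg
    rw [region_iff hM] at hγ hγi
    obtain ⟨g1, g2, g3, _⟩ := hγ
    rw [αa, αa'] at g2
    rw [αa, αa', αm] at g3
    have hia : i = a ∨ i = j := by
      have := g1 i
      rcases hc.hall i with h | h | h | h
      · exact Or.inl h
      · rw [h] at this hi1; omega
      · rw [h] at this hi1; omega
      · by_cases hij : i = j
        · exact Or.inr hij
        · rw [αl i h hij] at this; omega
    apply hγi.2.2.2
    refine ⟨hnni, ?_, ?_⟩
    · rcases hia with h | h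
      · subst h
        simp only [Pi.add_apply, ev_same, ev_ne hc.haa'.symm]; omega
      · subst h
        simp only [Pi.add_apply, ev_ne hja.symm, ev_ne hja'.symm]; omega
    · rcases hia with h | h
      · subst h
        have hm := fs_nonneg mid hnni
        rw [fs_add, fs_ev_not_mem hc.ham] at hm ⊢
        simp only [Pi.add_apply, ev_same, ev_ne hc.haa'.symm]; omega
      · subst h
        rw [fs_add, fs_ev_mem hj]
        simp only [Pi.add_apply, ev_ne hja.symm, ev_ne hja'.symm]; omega
  · intro γ _ i _ _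
    exact Subsingleton.elim _ _
  · intro φ hφ γ hγ hγn
    refine (cf_le hI hφ hpt hγ ?_).symm
    intro l
    have g1 := ((region_iff hM).mp hγ).1 l
    have := hγn l
    rcases hc.hall l with h | h | h | h
    · rw [h, pa]; rw [h] at this; exact this
    · rw [h, pa']; rw [h, αa'] at g1; exact g1
    · rw [h]; rw [h, αz] at g1
      simp only [Pi.add_apply, ev_same, ev_ne hc.ha'z.symm]; omega
    · obtain ⟨h1, h2, h3⟩ := hc.ne_of_mem h
      simp only [Pi.add_apply, ev_ne h2, ev_ne h3]; omega

/-! ### Family (c): `α = e_j - e_a` -/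

include hc hI hM in
theorem famC {j : Fin n} (hj : j ∈ mid) :
    Module.finrank k ↥(tPiece I (ev j - ev a)) = 1 ∧
      Module.Finite k ↥(tPiece I (ev j - ev a)) := by
  obtain ⟨hja, hja', hjz⟩ := hc.ne_of_mem hj
  have αa : (ev j - ev a) a = -1 := by
    simp only [Pi.sub_apply, ev_same, ev_ne hja.symm]; omega
  have αa' : (ev j - ev a) a' = 0 := by
    simp only [Pi.sub_apply, ev_ne hc.haa'.symm, ev_ne hja'.symm]; omega
  have αj : (ev j - ev a) j = 1 := by
    simp only [Pi.sub_apply, ev_same, ev_ne hja]; omega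
  have αm : fs mid (ev j - ev a) = 1 := by
    rw [fs_sub, fs_ev_not_mem hc.ham, fs_ev_mem hj]; omega
  have αl : ∀ l, l ≠ a → 0 ≤ (ev j - ev a) l := by
    intro l hl
    have := nonneg_ev j l
    simp only [Pi.sub_apply, ev_ne hl]; omega
  have pa : (ev j + ev j) a = 0 := by
    simp only [Pi.add_apply, ev_ne hja.symm]; omega
  have pa' : (ev j + ev j) a' = 0 := by
    simp only [Pi.add_apply, ev_ne hja'.symm]; omega
  have pm : fs mid (ev j + ev j) = 2 := by
    rw [fs_add, fs_ev_mem hj]; omega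
  have hpt : ev j + ev j ∈ region I (ev j - ev a) := by
    rw [region_iff hM]
    refine ⟨fun l => ?_, ?_, ?_, ?_⟩
    · have := nonneg_ev a l
      have := nonneg_ev j l
      simp only [Pi.add_apply, Pi.sub_apply]
      omega
    · rw [αa, αa', pa, pa']; omega
    · rw [αa, αa', pa, pa', pm, αm]; omega
    · rintro ⟨_, h, _⟩
      rw [pa, pa'] at h; omega
  refine finrank_of_classifier hI _ (d := 1) (fun _ => ev j + ev j) (fun _ => 0) ?_ ?_ ?_ ?_
  · intro t
    exact ⟨hpt, nonneg_add (nonneg_ev _) (nonneg_ev _), Subsingleton.elim _ _⟩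
  · intro γ hγ i hγi hnni
    by_contra hneg
    obtain ⟨hi1, hi2⟩ := step_neg hnni hneg
    rw [region_iff hM] at hγ hγi
    obtain ⟨g1, g2, g3, _⟩ := hγ
    rw [αa, αa'] at g2
    rw [αa, αa', αm] at g3
    have hia : i = a := by
      by_contra hia
      have := g1 i
      have := αl i hia
      omega
    subst hia
    apply hγi.2.2.2
    refine ⟨hnni, ?_, ?_⟩
    · simp only [Pi.add_apply, ev_same, ev_ne hc.haa'.symm]; omega
    · rw [fs_add, fs_ev_not_mem hc.ham]
      simp only [Pi.add_apply, ev_same, ev_ne hc.haa'.symm]; omega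
  · intro γ _ i _ _
    exact Subsingleton.elim _ _
  · intro φ hφ γ hγ hγn
    have hγ' := (region_iff hM).mp hγ
    obtain ⟨g1, g2, g3, g4⟩ := hγ'
    rw [αa, αa'] at g2
    rw [αa, αa', αm] at g3
    have hu : γ a + γ a' ≤ 0 := by
      by_contra hu
      exact g4 ⟨hγn, by omega, by omega⟩
    have hγa := hγn a
    have hγa' := hγn a'
    have hτ : γ + ev j ∈ region I (ev j - ev a) := by
      rw [region_iff hM]
      refine ⟨fun l => ?_, ?_, ?_, ?_⟩
      · have := g1 l
        have := nonneg_ev j l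
        simp only [Pi.add_apply] at this ⊢
        omega
      · rw [αa, αa']
        simp only [Pi.add_apply, ev_ne hja.symm, ev_ne hja'.symm]; omega
      · rw [αa, αa', αm, fs_add, fs_ev_mem hj]
        simp only [Pi.add_apply, ev_ne hja.symm, ev_ne hja'.symm]; omega
      · rintro ⟨_, h, _⟩
        simp only [Pi.add_apply, ev_ne hja.symm, ev_ne hja'.symm] at h; omega
    refine cf_eq_of_top hI hφ hγ hpt hτ ?_ ?_
    · intro l
      have := nonneg_ev j l
      simp only [Pi.add_apply]; omega
    · intro l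
      have h1 := g1 l
      have h2 := hγn l
      by_cases hlj : l = j
      · rw [hlj, αj] at h1
        rw [hlj]
        simp only [Pi.add_apply, ev_same]; omega
      · simp only [Pi.add_apply, ev_ne hlj]; omega

/-! ### Family (e): `α = e_z - e_j` -/

/-- classifier for family (e) -/
def cE (a : Fin n) (γ : Fin n → ℤ) : Fin 2 := if 1 ≤ γ a then 0 else 1

include hc hI hM in
theorem famE {j : Fin n} (hj : j ∈ mid) :
    Module.finrank k ↥(tPiece I (ev z - ev j)) = 2 ∧
      Module.Finite k ↥(tPiece I (ev z - ev j)) := by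
  obtain ⟨hja, hja', hjz⟩ := hc.ne_of_mem hj
  have αa : (ev z - ev j) a = 0 := by
    simp only [Pi.sub_apply, ev_ne hc.haz, ev_ne hja.symm]; omega
  have αa' : (ev z - ev j) a' = 0 := by
    simp only [Pi.sub_apply, ev_ne hc.ha'z, ev_ne hja'.symm]; omega
  have αz : (ev z - ev j) z = 1 := by
    simp only [Pi.sub_apply, ev_same, ev_ne hjz.symm]; omega
  have αm : fs mid (ev z - ev j) = -1 := by
    rw [fs_sub, fs_ev_not_mem hc.hzm, fs_ev_mem hj]; omega
  have αl : ∀ l, l ≠ j → 0 ≤ (ev z - ev j) l := by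
    intro l hl
    have := nonneg_ev z l
    simp only [Pi.sub_apply, ev_ne hl]; omega
  have p0a : (ev a + ev z) a = 1 := by
    simp only [Pi.add_apply, ev_same, ev_ne hc.haz]; omega
  have p0a' : (ev a + ev z) a' = 0 := by
    simp only [Pi.add_apply, ev_ne hc.haa'.symm, ev_ne hc.ha'z]; omega
  have p0m : fs mid (ev a + ev z) = 0 := by
    rw [fs_add, fs_ev_not_mem hc.ham, fs_ev_not_mem hc.hzm]; omega
  have p1a : (ev a' + ev z) a = 0 := by
    simp only [Pi.add_apply, ev_ne hc.haa', ev_ne hc.haz]; omega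
  have p1a' : (ev a' + ev z) a' = 1 := by
    simp only [Pi.add_apply, ev_same, ev_ne hc.ha'z]; omega
  have p1m : fs mid (ev a' + ev z) = 0 := by
    rw [fs_add, fs_ev_not_mem hc.ha'm, fs_ev_not_mem hc.hzm]; omega
  have hpt0 : ev a + ev z ∈ region I (ev z - ev j) := by
    rw [region_iff hM]
    refine ⟨fun l => ?_, ?_, ?_, ?_⟩
    · have := nonneg_ev a l
      have := nonneg_ev j l
      simp only [Pi.add_apply, Pi.sub_apply]
      omega
    · rw [αa, αa', p0a, p0a']; omega
    · rw [αa, αa', p0a, p0a', p0m, αm]; omega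
    · rintro ⟨_, _, h⟩
      rw [p0a, p0a', p0m] at h; omega
  have hpt1 : ev a' + ev z ∈ region I (ev z - ev j) := by
    rw [region_iff hM]
    refine ⟨fun l => ?_, ?_, ?_, ?_⟩
    · have := nonneg_ev a' l
      have := nonneg_ev j l
      simp only [Pi.add_apply, Pi.sub_apply]
      omega
    · rw [αa, αa', p1a, p1a']; omega
    · rw [αa, αa', p1a, p1a', p1m, αm]; omega
    · rintro ⟨_, _, h⟩
      rw [p1a, p1a', p1m] at h; omega
  refine finrank_of_classifier hI _ (d := 2) ![ev a + ev z, ev a' + ev z] (cE a) ?_ ?_ ?_ ?_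
  · intro t
    match t with
    | ⟨0, _⟩ =>
      refine ⟨hpt0, nonneg_add (nonneg_ev _) (nonneg_ev _), ?_⟩
      show cE a (ev a + ev z) = 0
      unfold cE
      rw [if_pos (by rw [p0a])]
    | ⟨1, _⟩ =>
      refine ⟨hpt1, nonneg_add (nonneg_ev _) (nonneg_ev _), ?_⟩
      show cE a (ev a' + ev z) = 1
      unfold cE
      rw [if_neg (by rw [p1a]; omega)]
  · intro γ hγ i hγi hnni
    by_contra hneg
    obtain ⟨hi1, hi2⟩ := step_neg hnni hneg
    rw [region_iff hM] at hγ hγi
    obtain ⟨g1, g2, g3, _⟩ := hγ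
    rw [αa, αa'] at g2
    rw [αa, αa', αm] at g3
    have hia : i = j := by
      by_contra hia
      have := g1 i
      have := αl i hia
      omega
    subst hia
    apply hγi.2.2.2
    refine ⟨hnni, ?_, ?_⟩
    · simp only [Pi.add_apply, ev_ne hja.symm, ev_ne hja'.symm]; omega
    · rw [fs_add, fs_ev_mem hj]
      simp only [Pi.add_apply, ev_ne hja.symm, ev_ne hja'.symm]; omega
  · intro γ hγ i hγi hγn
    unfold cE
    by_cases hia : i = a
    · subst hia
      have h1 : 1 ≤ γ i := by
        by_contra h1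
        have h0 := hγn i
        have h0' := hγn a'
        have hm := fs_nonneg mid hγn
        rw [region_iff hM] at hγ hγi
        obtain ⟨g1, g2, g3, _⟩ := hγ
        rw [αa, αa'] at g2
        apply hγi.2.2.2
        refine ⟨nonneg_add hγn (nonneg_ev _), ?_, ?_⟩
        · simp only [Pi.add_apply, ev_same, ev_ne hc.haa'.symm]; omega
        · rw [fs_add, fs_ev_not_mem hc.ham]
          simp only [Pi.add_apply, ev_same, ev_ne hc.haa'.symm]; omega
      rw [if_pos h1, if_pos (by simp only [Pi.add_apply, ev_same]; omega)]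
    · have : (γ + ev i) a = γ a := by
        simp only [Pi.add_apply, ev_ne (Ne.symm hia)]; omega
      rw [this]
  · intro φ hφ γ hγ hγn
    have hγ' := (region_iff hM).mp hγ
    obtain ⟨g1, g2, g3, g4⟩ := hγ'
    rw [αa, αa'] at g2
    have hz := g1 z
    rw [αz] at hz
    unfold cE
    by_cases h1 : 1 ≤ γ a
    · rw [if_pos h1]
      show cf I _ φ γ = cf I _ φ (ev a + ev z)
      refine (cf_le hI hφ hpt0 hγ ?_).symm
      intro l
      have := hγn l
      rcases hc.hall l with h | h | h | h
      · rw [h, p0a]; exact h1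
      · rw [h, p0a']; rw [h] at this; exact this
      · rw [h]
        simp only [Pi.add_apply, ev_same, ev_ne hc.haz.symm]; omega
      · obtain ⟨h1, h2, h3⟩ := hc.ne_of_mem h
        simp only [Pi.add_apply, ev_ne h1, ev_ne h3]; omega
    · rw [if_neg h1]
      show cf I _ φ γ = cf I _ φ (ev a' + ev z)
      refine (cf_le hI hφ hpt1 hγ ?_).symm
      intro l
      have := hγn l
      rcases hc.hall l with h | h | h | h
      · rw [h, p1a]; rw [h] at this; exact this
      · rw [h, p1a']; omega
      · rw [h]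
        simp only [Pi.add_apply, ev_same, ev_ne hc.ha'z.symm]; omega
      · obtain ⟨h1, h2, h3⟩ := hc.ne_of_mem h
        simp only [Pi.add_apply, ev_ne h2, ev_ne h3]; omega

/-! ### Family (b): `α = e_z - e_a` -/

/-- classifier for family (b) -/
def cB (a a' : Fin n) (γ : Fin n → ℤ) : Fin 3 :=
  if 1 ≤ γ a then 1 else if 1 ≤ γ a' then 2 else 0

include hc hI hM in
theorem famB {j0 : Fin n} (hj0 : j0 ∈ mid) :
    Module.finrank k ↥(tPiece I (ev z - ev a)) = 3 ∧
      Module.Finite k ↥(tPiece I (ev z - ev a)) := by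
  obtain ⟨hja, hja', hjz⟩ := hc.ne_of_mem hj0
  have αa : (ev z - ev a) a = -1 := by
    simp only [Pi.sub_apply, ev_same, ev_ne hc.haz]; omega
  have αa' : (ev z - ev a) a' = 0 := by
    simp only [Pi.sub_apply, ev_ne hc.ha'z, ev_ne hc.haa'.symm]; omega
  have αz : (ev z - ev a) z = 1 := by
    simp only [Pi.sub_apply, ev_same, ev_ne hc.haz.symm]; omega
  have αm : fs mid (ev z - ev a) = 0 := by
    rw [fs_sub, fs_ev_not_mem hc.hzm, fs_ev_not_mem hc.ham]; omega
  have αl : ∀ l, l ≠ a → 0 ≤ (ev z - ev a) l := by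
    intro l hl
    have := nonneg_ev z l
    simp only [Pi.sub_apply, ev_ne hl]; omega
  have p0a : (ev j0 + ev z) a = 0 := by
    simp only [Pi.add_apply, ev_ne hja.symm, ev_ne hc.haz]; omega
  have p0a' : (ev j0 + ev z) a' = 0 := by
    simp only [Pi.add_apply, ev_ne hja'.symm, ev_ne hc.ha'z]; omega
  have p0m : fs mid (ev j0 + ev z) = 1 := by
    rw [fs_add, fs_ev_mem hj0, fs_ev_not_mem hc.hzm]; omega
  have p1a : (ev a + ev z) a = 1 := by
    simp only [Pi.add_apply, ev_same, ev_ne hc.haz]; omega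
  have p1a' : (ev a + ev z) a' = 0 := by
    simp only [Pi.add_apply, ev_ne hc.haa'.symm, ev_ne hc.ha'z]; omega
  have p1m : fs mid (ev a + ev z) = 0 := by
    rw [fs_add, fs_ev_not_mem hc.ham, fs_ev_not_mem hc.hzm]; omega
  have p2a : (ev a' + ev z) a = 0 := by
    simp only [Pi.add_apply, ev_ne hc.haa', ev_ne hc.haz]; omega
  have p2a' : (ev a' + ev z) a' = 1 := by
    simp only [Pi.add_apply, ev_same, ev_ne hc.ha'z]; omega
  have p2m : fs mid (ev a' + ev z) = 0 := by
    rw [fs_add, fs_ev_not_mem hc.ha'm, fs_ev_not_mem hc.hzm]; omega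
  have hpt0 : ev j0 + ev z ∈ region I (ev z - ev a) := by
    rw [region_iff hM]
    refine ⟨fun l => ?_, ?_, ?_, ?_⟩
    · have := nonneg_ev a l
      have := nonneg_ev j0 l
      simp only [Pi.add_apply, Pi.sub_apply]
      omega
    · rw [αa, αa', p0a, p0a']; omega
    · rw [αa, αa', p0a, p0a', p0m, αm]; omega
    · rintro ⟨_, h, _⟩
      rw [p0a, p0a'] at h; omega
  have hpt1 : ev a + ev z ∈ region I (ev z - ev a) := by
    rw [region_iff hM]
    refine ⟨fun l => ?_, ?_, ?_, ?_⟩
    · have := nonneg_ev a l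
      simp only [Pi.add_apply, Pi.sub_apply]
      omega
    · rw [αa, αa', p1a, p1a']; omega
    · rw [αa, αa', p1a, p1a', p1m, αm]; omega
    · rintro ⟨_, _, h⟩
      rw [p1a, p1a', p1m] at h; omega
  have hpt2 : ev a' + ev z ∈ region I (ev z - ev a) := by
    rw [region_iff hM]
    refine ⟨fun l => ?_, ?_, ?_, ?_⟩
    · have := nonneg_ev a l
      have := nonneg_ev a' l
      simp only [Pi.add_apply, Pi.sub_apply]
      omega
    · rw [αa, αa', p2a, p2a']; omega
    · rw [αa, αa', p2a, p2a', p2m, αm]; omega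
    · rintro ⟨_, _, h⟩
      rw [p2a, p2a', p2m] at h; omega
  refine finrank_of_classifier hI _ (d := 3) ![ev j0 + ev z, ev a + ev z, ev a' + ev z]
    (cB a a') ?_ ?_ ?_ ?_
  · intro t
    match t with
    | ⟨0, _⟩ =>
      refine ⟨hpt0, nonneg_add (nonneg_ev _) (nonneg_ev _), ?_⟩
      show cB a a' (ev j0 + ev z) = 0
      unfold cB
      rw [if_neg (by rw [p0a]; omega), if_neg (by rw [p0a']; omega)]
    | ⟨1, _⟩ =>
      refine ⟨hpt1, nonneg_add (nonneg_ev _) (nonneg_ev _), ?_⟩
      show cB a a' (ev a + ev z) = 1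
      unfold cB
      rw [if_pos (by rw [p1a])]
    | ⟨2, _⟩ =>
      refine ⟨hpt2, nonneg_add (nonneg_ev _) (nonneg_ev _), ?_⟩
      show cB a a' (ev a' + ev z) = 2
      unfold cB
      rw [if_neg (by rw [p2a]; omega), if_pos (by rw [p2a'])]
  · intro γ hγ i hγi hnni
    by_contra hneg
    obtain ⟨hi1, hi2⟩ := step_neg hnni hneg
    rw [region_iff hM] at hγ hγi
    obtain ⟨g1, g2, g3, _⟩ := hγ
    rw [αa, αa'] at g2
    rw [αa, αa', αm] at g3
    have hia : i = a := by
      by_contra hia
      have := g1 i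
      have := αl i hia
      omega
    subst hia
    apply hγi.2.2.2
    refine ⟨hnni, ?_, ?_⟩
    · simp only [Pi.add_apply, ev_same, ev_ne hc.haa'.symm]; omega
    · rw [fs_add, fs_ev_not_mem hc.ham]
      simp only [Pi.add_apply, ev_same, ev_ne hc.haa'.symm]; omega
  · intro γ hγ i hγi hγn
    have h0 := hγn a
    have h0' := hγn a'
    have hm := fs_nonneg mid hγn
    have hγ' := (region_iff hM).mp hγ
    obtain ⟨g1, g2, g3, _⟩ := hγ'
    rw [αa, αa'] at g2
    rw [αa, αa', αm] at g3
    have hγi' := ((region_iff hM).mp hγi).2.2.2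
    unfold cB
    by_cases hia : i = a
    · subst hia
      have h1 : 1 ≤ γ i := by
        by_contra h1
        apply hγi'
        refine ⟨nonneg_add hγn (nonneg_ev _), ?_, ?_⟩
        · simp only [Pi.add_apply, ev_same, ev_ne hc.haa'.symm]; omega
        · rw [fs_add, fs_ev_not_mem hc.ham]
          simp only [Pi.add_apply, ev_same, ev_ne hc.haa'.symm]; omega
      rw [if_pos h1, if_pos (by simp only [Pi.add_apply, ev_same]; omega)]
    · have e1 : (γ + ev i) a = γ a := by
        simp only [Pi.add_apply, ev_ne (Ne.symm hia)]; omega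
      rw [e1]
      by_cases h1 : 1 ≤ γ a
      · rw [if_pos h1, if_pos h1]
      · rw [if_neg h1, if_neg h1]
        by_cases hia' : i = a'
        · subst hia'
          have h2 : 1 ≤ γ i := by
            by_contra h2
            apply hγi'
            refine ⟨nonneg_add hγn (nonneg_ev _), ?_, ?_⟩
            · simp only [Pi.add_apply, ev_same, ev_ne hc.haa']; omega
            · rw [fs_add, fs_ev_not_mem hc.ha'm]
              simp only [Pi.add_apply, ev_same, ev_ne hc.haa']; omega
          rw [if_pos h2, if_pos (by simp only [Pi.add_apply, ev_same]; omega)]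
        · have e2 : (γ + ev i) a' = γ a' := by
            simp only [Pi.add_apply, ev_ne (Ne.symm hia')]; omega
          rw [e2]
  · intro φ hφ γ hγ hγn
    have hγ' := (region_iff hM).mp hγ
    obtain ⟨g1, g2, g3, g4⟩ := hγ'
    rw [αa, αa'] at g2
    rw [αa, αa', αm] at g3
    have hz := g1 z
    rw [αz] at hz
    unfold cB
    by_cases h1 : 1 ≤ γ a
    · rw [if_pos h1]
      show cf I _ φ γ = cf I _ φ (ev a + ev z)
      refine (cf_le hI hφ hpt1 hγ ?_).symm
      intro l
      have := hγn l
      rcases hc.hall l with h | h | h | h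
      · rw [h, p1a]; exact h1
      · rw [h, p1a']; rw [h] at this; exact this
      · rw [h]
        simp only [Pi.add_apply, ev_same, ev_ne hc.haz.symm]; omega
      · obtain ⟨h1, h2, h3⟩ := hc.ne_of_mem h
        simp only [Pi.add_apply, ev_ne h1, ev_ne h3]; omega
    · rw [if_neg h1]
      by_cases h2 : 1 ≤ γ a'
      · rw [if_pos h2]
        show cf I _ φ γ = cf I _ φ (ev a' + ev z)
        refine (cf_le hI hφ hpt2 hγ ?_).symm
        intro l
        have := hγn l
        rcases hc.hall l with h | h | h | h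
        · rw [h, p2a]; rw [h] at this; exact this
        · rw [h, p2a']; exact h2
        · rw [h]
          simp only [Pi.add_apply, ev_same, ev_ne hc.ha'z.symm]; omega
        · obtain ⟨h1, h2, h3⟩ := hc.ne_of_mem h
          simp only [Pi.add_apply, ev_ne h2, ev_ne h3]; omega
      · rw [if_neg h2]
        show cf I _ φ γ = cf I _ φ (ev j0 + ev z)
        have hγa := hγn a
        have hγa' := hγn a'
        have hτ : γ + ev j0 ∈ region I (ev z - ev a) := by
          rw [region_iff hM]
          refine ⟨fun l => ?_, ?_, ?_, ?_⟩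
          · have := g1 l
            have := nonneg_ev j0 l
            simp only [Pi.add_apply] at this ⊢
            omega
          · rw [αa, αa']
            simp only [Pi.add_apply, ev_ne hja.symm, ev_ne hja'.symm]; omega
          · rw [αa, αa', αm, fs_add, fs_ev_mem hj0]
            simp only [Pi.add_apply, ev_ne hja.symm, ev_ne hja'.symm]; omega
          · rintro ⟨_, h, _⟩
            simp only [Pi.add_apply, ev_ne hja.symm, ev_ne hja'.symm] at h; omega
        refine cf_eq_of_top hI hφ hγ hpt0 hτ ?_ ?_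
        · intro l
          have := nonneg_ev j0 l
          simp only [Pi.add_apply]; omega
        · intro l
          have h2 := hγn l
          by_cases hlz : l = z
          · rw [hlz]
            simp only [Pi.add_apply, ev_same]; omega
          · simp only [Pi.add_apply, ev_ne hlz]; omega

/-! ### Generators and vanishing of all other pieces -/

/-- the generators -/
def gens (a a' : Fin n) (mid : Finset (Fin n)) : Set (Fin n →₀ ℕ) :=
  {g | ∃ b, (b = a ∨ b = a') ∧ ∃ i, (i = a ∨ i = a' ∨ i ∈ mid) ∧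
    g = Finsupp.single b 1 + Finsupp.single i 1}

include hc in
theorem gens_iff (β : Fin n →₀ ℕ) :
    (∃ g ∈ gens a a' mid, g ≤ β) ↔ Mp a a' mid (ofN β) := by
  unfold Mp
  simp only [ofN_apply]
  have hmn := fs_nonneg mid (nonneg_ofN β)
  constructor
  · rintro ⟨g, ⟨b, hb, i, hi, rfl⟩, hle⟩
    have h1 := hle b
    have h2 := hle i
    simp only [Finsupp.add_apply, Finsupp.single_apply, if_true] at h1 h2
    rcases hb with rfl | rfl
    · rcases hi with rfl | rfl | hi
      · simp only [if_true] at h1; omega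
      · rw [if_neg hc.haa'.symm] at h1; rw [if_neg hc.haa'] at h2; omega
      · have := le_fs (nonneg_ofN β) hi
        simp only [ofN_apply] at this
        obtain ⟨e1, _, _⟩ := hc.ne_of_mem hi
        rw [if_neg e1] at h1; omega
    · rcases hi with rfl | rfl | hi
      · rw [if_neg hc.haa'] at h1; rw [if_neg hc.haa'.symm] at h2; omega
      · simp only [if_true] at h1; omega
      · have := le_fs (nonneg_ofN β) hi
        simp only [ofN_apply] at this
        obtain ⟨_, e1, _⟩ := hc.ne_of_mem hi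
        rw [if_neg e1] at h1; omega
  · rintro ⟨h1, h2⟩
    by_cases ha : 1 ≤ β a
    · by_cases ha2 : 2 ≤ β a
      · exact ⟨_, ⟨a, Or.inl rfl, a, Or.inl rfl, rfl⟩, two_single_le ha2⟩
      · by_cases ha' : 1 ≤ β a'
        · exact ⟨_, ⟨a, Or.inl rfl, a', Or.inr (Or.inl rfl), rfl⟩,
            pair_single_le hc.haa' ha ha'⟩
        · have hm : 1 ≤ fs mid (ofN β) := by omega
          obtain ⟨j, hj, hj1⟩ := (fs_pos_iff (nonneg_ofN β)).mp hm
          simp only [ofN_apply] at hj1
          exact ⟨_, ⟨a, Or.inl rfl, j, Or.inr (Or.inr hj), rfl⟩,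
            pair_single_le (hc.ne_of_mem hj).1.symm ha (by omega)⟩
    · have ha' : 1 ≤ β a' := by omega
      by_cases ha2 : 2 ≤ β a'
      · exact ⟨_, ⟨a', Or.inr rfl, a', Or.inr (Or.inl rfl), rfl⟩, two_single_le ha2⟩
      · have hm : 1 ≤ fs mid (ofN β) := by omega
        obtain ⟨j, hj, hj1⟩ := (fs_pos_iff (nonneg_ofN β)).mp hm
        simp only [ofN_apply] at hj1
        exact ⟨_, ⟨a', Or.inr rfl, j, Or.inr (Or.inr hj), rfl⟩,
          pair_single_le (hc.ne_of_mem hj).2.1.symm ha' (by omega)⟩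

include hI hM in
/-- a general killing lemma -/
theorem kill {α γ : Fin n → ℤ} {φ : Tgt I} (hφ : φ ∈ tPiece I α) (hγ : γ ∈ region I α)
    {p i : Fin n} (hτ : ¬ Mp a a' mid (γ + ev p)) (hγi : γ i = 0) (hpi : p ≠ i)
    (hδ1 : Nonneg (γ + ev p - ev i - α)) (hδ2 : Mp a a' mid (γ + ev p - ev i - α)) :
    cf I α φ γ = 0 := by
  have hτr : γ + ev p ∈ region I α := by
    refine region_add_ev hγ p ?_
    rintro ⟨h1, h2⟩
    exact hτ ((toN_mem_iff (M := Mp a a' mid) hM h1).mp h2)
  have hδn : ¬ Nonneg (γ + ev p - ev i) := by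
    intro h
    have := h i
    simp only [Pi.add_apply, Pi.sub_apply, ev_same, ev_ne hpi.symm, hγi] at this
    omega
  have hδr : γ + ev p - ev i ∈ region I α := by
    rw [mem_region_iff (M := Mp a a' mid) hM]
    exact ⟨⟨hδ1, hδ2⟩, fun h => hδn h.1⟩
  refine cf_eq_zero_of_top hI hφ hγ hδr hτr ?_ ?_ hδn
  · intro l
    have := nonneg_ev p l
    simp only [Pi.add_apply]; omega
  · intro l
    have := nonneg_ev i l
    simp only [Pi.add_apply, Pi.sub_apply]; omega

/-- the degrees attached to the special variable `a` -/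
def InU (a a' z : Fin n) (mid : Finset (Fin n)) (α : Fin n → ℤ) : Prop :=
  α = ev a' + ev z - ev a - ev a ∨ α = ev z - ev a ∨ (∃ j ∈ mid, α = ev j - ev a) ∨
    (∃ j ∈ mid, α = ev a' + ev z - ev a - ev j)

/-- the degrees `e_z - e_j` -/
def InE (z : Fin n) (mid : Finset (Fin n)) (α : Fin n → ℤ) : Prop :=
  ∃ j ∈ mid, α = ev z - ev j

include hc in
/-- case (ii): the shifted generator is `e_a + e_z` -/
theorem case_ii {α : Fin n → ℤ} {b i : Fin n} (hb : b = a ∨ b = a')
    (hi : i = a ∨ i = a' ∨ i ∈ mid) (hγ : ev b + ev i + α = ev a + ev z) :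
    InU a a' z mid α ∨ InU a' a z mid α ∨ InE z mid α := by
  have hα : α = ev a + ev z - ev b - ev i := by
    rw [← hγ]; abel
  rcases hb with rfl | rfl
  · rcases hi with rfl | rfl | hi
    · left; right; left
      rw [hα]; abel
    · right; left; right; left
      rw [hα]; abel
    · right; right
      exact ⟨i, hi, by rw [hα]; abel⟩
  · rcases hi with rfl | rfl | hi
    · right; left; right; left
      rw [hα]; abel
    · right; left; left
      rw [hα]
    · right; left; right; right; right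
      exact ⟨i, hi, by rw [hα]⟩

include hc hI hM in
theorem vanish {α : Fin n → ℤ} (hα : fs Finset.univ α = 0) {φ : Tgt I} (hφ : φ ∈ tPiece I α)
    (hne : φ ≠ 0) {j0 : Fin n} (hj0 : j0 ∈ mid) :
    InU a a' z mid α ∨ InU a' a z mid α ∨ InE z mid α := by
  have hG : ∀ β, β ∈ exps I ↔ ∃ g ∈ gens a a' mid, g ≤ β :=
    fun β => (hM β).trans (gens_iff hc β).symm
  have hex2 : ∃ g ∈ gens a a' mid, Nonneg (ofN g + α) ∧ toN (ofN g + α) ∉ exps I ∧
      cf I α φ (ofN g + α) ≠ 0 := by
    by_contra hcon
    push Not at hcon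
    exact hne (eq_zero_of_gens hI hG hφ hcon)
  obtain ⟨g, hg, hnn, hout, hcf⟩ := hex2
  have hgI : g ∈ exps I := (hG g).mpr ⟨g, hg, le_refl _⟩
  have hγr : ofN g + α ∈ region I α := mem_region_of hgI (fun h => hout h.2)
  obtain ⟨b, hb, i, hi, rfl⟩ := hg
  rw [ofN_add, ofN_single, ofN_single] at hnn hout hcf hγr
  rw [toN_mem_iff (M := Mp a a' mid) hM hnn] at hout
  have hsum : fs Finset.univ (ev b + ev i + α) = 2 := by
    rw [fs_add, fs_add, fs_univ_ev, fs_univ_ev, hα]; omega
  rw [fs_univ_eq hc] at hsum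
  have hγa := hnn a
  have hγa' := hnn a'
  have hγz := hnn z
  have hγm := fs_nonneg mid hnn
  have hbU : (ev b) a + (ev b) a' = 1 := by
    rcases hb with rfl | rfl
    · rw [ev_same, ev_ne hc.haa'.symm]; omega
    · rw [ev_same, ev_ne hc.haa']; omega
  have hbm : fs mid (ev b) = 0 := by
    rcases hb with rfl | rfl
    · exact fs_ev_not_mem hc.ham
    · exact fs_ev_not_mem hc.ha'm
  by_cases hu : 1 ≤ (ev b + ev i + α) a + (ev b + ev i + α) a'
  · -- case (ii)
    have hw : (ev b + ev i + α) a + (ev b + ev i + α) a' + fs mid (ev b + ev i + α) ≤ 1 := by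
      by_contra hw
      exact hout ⟨hu, by omega⟩
    have hm0 : fs mid (ev b + ev i + α) = 0 := by omega
    have hmid : ∀ l ∈ mid, (ev b + ev i + α) l = 0 :=
      fun l hl => eq_zero_of_fs_eq_zero hnn hm0 hl
    by_cases h1 : (ev b + ev i + α) a = 1
    · have hγ : ev b + ev i + α = ev a + ev z := by
        funext l
        rcases hc.hall l with h | h | h | h
        · rw [h, h1]; simp only [Pi.add_apply, ev_same, ev_ne hc.haz]; omega
        · rw [h]; simp only [Pi.add_apply (ev a) (ev z), ev_ne hc.haa'.symm, ev_ne hc.ha'z]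
          omega
        · rw [h]; simp only [Pi.add_apply (ev a) (ev z), ev_same, ev_ne hc.haz.symm]; omega
        · obtain ⟨e1, e2, e3⟩ := hc.ne_of_mem h
          rw [hmid l h]; simp only [Pi.add_apply, ev_ne e1, ev_ne e3]; omega
      exact case_ii hc hb hi hγ
    · have hγ : ev b + ev i + α = ev a' + ev z := by
        funext l
        rcases hc.hall l with h | h | h | h
        · rw [h]; simp only [Pi.add_apply (ev a') (ev z), ev_ne hc.haa', ev_ne hc.haz]; omega
        · rw [h]; simp only [Pi.add_apply (ev a') (ev z), ev_same, ev_ne hc.ha'z]; omega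
        · rw [h]; simp only [Pi.add_apply (ev a') (ev z), ev_same, ev_ne hc.ha'z.symm]; omega
        · obtain ⟨e1, e2, e3⟩ := hc.ne_of_mem h
          rw [hmid l h]; simp only [Pi.add_apply, ev_ne e2, ev_ne e3]; omega
      have hb' : b = a' ∨ b = a := hb.symm
      have hi' : i = a' ∨ i = a ∨ i ∈ mid := by
        rcases hi with h | h | h
        · exact Or.inr (Or.inl h)
        · exact Or.inl h
        · exact Or.inr (Or.inr h)
      rcases case_ii hc.symm hb' hi' hγ with h | h | h
      · exact Or.inr (Or.inl h)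
      · exact Or.inl h
      · exact Or.inr (Or.inr h)
  · -- case (i)
    have hua : (ev b + ev i + α) a = 0 := by omega
    have hua' : (ev b + ev i + α) a' = 0 := by omega
    have hkill : ∀ p, p ≠ i → (ev b + ev i + α) i = 0 →
        ¬ Mp a a' mid (ev b + ev i + α + ev p) → Mp a a' mid (ev b + ev p) → False := by
      intro p hpi hγi hτ hδ
      apply hcf
      have e : ev b + ev i + α + ev p - ev i - α = ev b + ev p := by abel
      refine kill hI hM hφ hγr hτ hγi hpi ?_ ?_
      · rw [e]; exact nonneg_add (nonneg_ev _) (nonneg_ev _)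
      · rw [e]; exact hδ
    have hkillU : (i = a ∨ i = a') → False := by
      intro hiU
      have hγi : (ev b + ev i + α) i = 0 := by
        rcases hiU with h | h
        · rw [h] at hua ⊢; exact hua
        · rw [h] at hua' ⊢; exact hua'
      obtain ⟨e1, e2, e3⟩ := hc.ne_of_mem hj0
      have hj0i : j0 ≠ i := by
        rcases hiU with h | h
        · rw [h]; exact e1
        · rw [h]; exact e2
      refine hkill j0 hj0i hγi ?_ ?_
      · rintro ⟨h, _⟩
        simp only [Pi.add_apply (ev b + ev i + α) (ev j0), ev_ne e1.symm, ev_ne e2.symm] at h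
        omega
      · unfold Mp
        rw [fs_add, hbm, fs_ev_mem hj0]
        simp only [Pi.add_apply (ev b) (ev j0), ev_ne e1.symm, ev_ne e2.symm]
        omega
    rcases hi with hi | hi | hi
    · exact (hkillU (Or.inl hi)).elim
    · exact (hkillU (Or.inr hi)).elim
    · obtain ⟨hia, hia', hiz⟩ := hc.ne_of_mem hi
      by_cases hγi : 1 ≤ (ev b + ev i + α) i
      · rw [← fs_univ_eq hc] at hsum
        obtain ⟨q, hq⟩ := eq_ev_add_of_sum_two hnn hsum hγi
        have hαq : α = ev q - ev b := by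
          have : α = ev b + ev i + α - ev b - ev i := by abel
          rw [this, hq]; abel
        have hqa : q ≠ a := by
          intro h
          rw [hq, h] at hua
          simp only [Pi.add_apply, ev_same, ev_ne hia.symm] at hua
          omega
        have hqa' : q ≠ a' := by
          intro h
          rw [hq, h] at hua'
          simp only [Pi.add_apply, ev_same, ev_ne hia'.symm] at hua'
          omega
        have hqz : q = z ∨ q ∈ mid := by
          rcases hc.hall q with h | h | h | h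
          · exact (hqa h).elim
          · exact (hqa' h).elim
          · exact Or.inl h
          · exact Or.inr h
        rcases hb with rfl | rfl
        · left
          rcases hqz with h | h
          · right; left; rw [hαq, h]
          · right; right; left; exact ⟨q, h, hαq⟩
        · right; left
          rcases hqz with h | h
          · right; left; rw [hαq, h]
          · right; right; left; exact ⟨q, h, hαq⟩
      · exfalso
        have hγi0 : (ev b + ev i + α) i = 0 := by
          have := hnn i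
          omega
        by_cases hm1 : 1 ≤ fs mid (ev b + ev i + α)
        · obtain ⟨p, hp, hp1⟩ := (fs_pos_iff hnn).mp hm1
          have hpi : p ≠ i := by
            intro h
            rw [h] at hp1
            omega
          obtain ⟨e1, e2, e3⟩ := hc.ne_of_mem hp
          refine hkill p hpi hγi0 ?_ ?_
          · rintro ⟨h, _⟩
            simp only [Pi.add_apply (ev b + ev i + α) (ev p), ev_ne e1.symm, ev_ne e2.symm] at h
            omega
          · unfold Mp
            rw [fs_add, hbm, fs_ev_mem hp]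
            simp only [Pi.add_apply (ev b) (ev p), ev_ne e1.symm, ev_ne e2.symm]
            omega
        · have hbi : b ≠ i := by
            rcases hb with rfl | rfl
            · exact hia.symm
            · exact hia'.symm
          refine hkill b hbi hγi0 ?_ ?_
          · rintro ⟨_, h⟩
            rw [fs_add, hbm] at h
            simp only [Pi.add_apply (ev b + ev i + α) (ev b)] at h
            omega
          · unfold Mp
            rw [fs_add, hbm]
            simp only [Pi.add_apply (ev b) (ev b)]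
            omega

/-! ### The finite sets of degrees -/

include hc in
theorem valsA : (ev a' + ev z - ev a - ev a) a = -2 ∧ (ev a' + ev z - ev a - ev a) a' = 1 ∧
    (ev a' + ev z - ev a - ev a) z = 1 := by
  refine ⟨?_, ?_, ?_⟩
  · simp only [Pi.add_apply, Pi.sub_apply, ev_same, ev_ne hc.haa', ev_ne hc.haz]; omega
  · simp only [Pi.add_apply, Pi.sub_apply, ev_same, ev_ne hc.haa'.symm, ev_ne hc.ha'z]; omega
  · simp only [Pi.add_apply, Pi.sub_apply, ev_same, ev_ne hc.haz.symm, ev_ne hc.ha'z.symm]; omega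

include hc in
theorem valsB : (ev z - ev a) a = -1 ∧ (ev z - ev a) a' = 0 ∧ (ev z - ev a) z = 1 := by
  refine ⟨?_, ?_, ?_⟩
  · simp only [Pi.sub_apply, ev_same, ev_ne hc.haz]; omega
  · simp only [Pi.sub_apply, ev_ne hc.ha'z, ev_ne hc.haa'.symm]; omega
  · simp only [Pi.sub_apply, ev_same, ev_ne hc.haz.symm]; omega

include hc in
theorem valsC {j : Fin n} (hj : j ∈ mid) :
    (ev j - ev a) a = -1 ∧ (ev j - ev a) a' = 0 ∧ (ev j - ev a) z = 0 := by
  obtain ⟨e1, e2, e3⟩ := hc.ne_of_mem hj
  refine ⟨?_, ?_, ?_⟩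
  · simp only [Pi.sub_apply, ev_same, ev_ne e1.symm]; omega
  · simp only [Pi.sub_apply, ev_ne e2.symm, ev_ne hc.haa'.symm]; omega
  · simp only [Pi.sub_apply, ev_ne e3.symm, ev_ne hc.haz.symm]; omega

include hc in
theorem valsD {j : Fin n} (hj : j ∈ mid) :
    (ev a' + ev z - ev a - ev j) a = -1 ∧ (ev a' + ev z - ev a - ev j) a' = 1 ∧
      (ev a' + ev z - ev a - ev j) z = 1 := by
  obtain ⟨e1, e2, e3⟩ := hc.ne_of_mem hj
  refine ⟨?_, ?_, ?_⟩
  · simp only [Pi.add_apply, Pi.sub_apply, ev_same, ev_ne hc.haa', ev_ne hc.haz, ev_ne e1.symm]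
    omega
  · simp only [Pi.add_apply, Pi.sub_apply, ev_same, ev_ne hc.haa'.symm, ev_ne hc.ha'z,
      ev_ne e2.symm]
    omega
  · simp only [Pi.add_apply, Pi.sub_apply, ev_same, ev_ne hc.haz.symm, ev_ne hc.ha'z.symm,
      ev_ne e3.symm]
    omega

include hc in
theorem valsE {j : Fin n} (hj : j ∈ mid) :
    (ev z - ev j) a = 0 ∧ (ev z - ev j) a' = 0 := by
  obtain ⟨e1, e2, e3⟩ := hc.ne_of_mem hj
  refine ⟨?_, ?_⟩
  · simp only [Pi.sub_apply, ev_ne hc.haz, ev_ne e1.symm]; omega
  · simp only [Pi.sub_apply, ev_ne hc.ha'z, ev_ne e2.symm]; omega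

include hc in
theorem InU_vals {α : Fin n → ℤ} (h : InU a a' z mid α) : α a ≤ -1 ∧ 0 ≤ α a' := by
  rcases h with rfl | rfl | ⟨j, hj, rfl⟩ | ⟨j, hj, rfl⟩
  · obtain ⟨h1, h2, _⟩ := valsA hc; omega
  · obtain ⟨h1, h2, _⟩ := valsB hc; omega
  · obtain ⟨h1, h2, _⟩ := valsC hc hj; omega
  · obtain ⟨h1, h2, _⟩ := valsD hc hj; omega

theorem ev_inj {j j' : Fin n} (h : ev j = ev j') : j = j' := by
  by_contra hne
  have := congrFun h j
  rw [ev_same, ev_ne hne] at this
  omega

open Classical in
/-- finite set of degrees attached to `a` -/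
noncomputable def famU (a a' z : Fin n) (mid : Finset (Fin n)) : Finset (Fin n → ℤ) :=
  (({ev a' + ev z - ev a - ev a} ∪ {ev z - ev a}) ∪ mid.image (fun j => ev j - ev a)) ∪
    mid.image (fun j => ev a' + ev z - ev a - ev j)

open Classical in
/-- finite set of degrees `e_z - e_j` -/
noncomputable def famEs (z : Fin n) (mid : Finset (Fin n)) : Finset (Fin n → ℤ) :=
  mid.image (fun j => ev z - ev j)

theorem mem_famU {α : Fin n → ℤ} : α ∈ famU a a' z mid ↔ InU a a' z mid α := by
  classical
  unfold famU InU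
  simp only [Finset.mem_union, Finset.mem_singleton, Finset.mem_image]
  constructor
  · rintro (((h | h) | ⟨j, hj, h⟩) | ⟨j, hj, h⟩)
    · exact Or.inl h
    · exact Or.inr (Or.inl h)
    · exact Or.inr (Or.inr (Or.inl ⟨j, hj, h.symm⟩))
    · exact Or.inr (Or.inr (Or.inr ⟨j, hj, h.symm⟩))
  · rintro (h | h | ⟨j, hj, h⟩ | ⟨j, hj, h⟩)
    · exact Or.inl (Or.inl (Or.inl h))
    · exact Or.inl (Or.inl (Or.inr h))
    · exact Or.inl (Or.inr ⟨j, hj, h.symm⟩)
    · exact Or.inr ⟨j, hj, h.symm⟩

theorem mem_famEs {α : Fin n → ℤ} : α ∈ famEs z mid ↔ InE z mid α := by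
  classical
  unfold famEs InE
  simp only [Finset.mem_image]
  constructor
  · rintro ⟨j, hj, h⟩; exact ⟨j, hj, h.symm⟩
  · rintro ⟨j, hj, h⟩; exact ⟨j, hj, h.symm⟩

include hc in
theorem sum_famU (f : (Fin n → ℤ) → ℕ) (hA : f (ev a' + ev z - ev a - ev a) = 1)
    (hB : f (ev z - ev a) = 3) (hC : ∀ j ∈ mid, f (ev j - ev a) = 1)
    (hD : ∀ j ∈ mid, f (ev a' + ev z - ev a - ev j) = 1) :
    ∑ α ∈ famU a a' z mid, f α = 4 + 2 * mid.card := by
  classical
  unfold famU
  have d1 : Disjoint ({ev a' + ev z - ev a - ev a} : Finset (Fin n → ℤ)) {ev z - ev a} := by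
    rw [Finset.disjoint_singleton]
    intro h
    have := congrFun h a
    rw [(valsA hc).1, (valsB hc).1] at this
    omega
  have d2 : Disjoint (({ev a' + ev z - ev a - ev a} : Finset (Fin n → ℤ)) ∪ {ev z - ev a})
      (mid.image (fun j => ev j - ev a)) := by
    rw [Finset.disjoint_left]
    intro α h1 h2
    rw [Finset.mem_image] at h2
    obtain ⟨j, hj, rfl⟩ := h2
    rw [Finset.mem_union, Finset.mem_singleton, Finset.mem_singleton] at h1
    rcases h1 with h | h
    · have := congrFun h z
      rw [(valsA hc).2.2, (valsC hc hj).2.2] at this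
      omega
    · have := congrFun h z
      rw [(valsB hc).2.2, (valsC hc hj).2.2] at this
      omega
  have d3 : Disjoint ((({ev a' + ev z - ev a - ev a} : Finset (Fin n → ℤ)) ∪ {ev z - ev a}) ∪
      mid.image (fun j => ev j - ev a)) (mid.image (fun j => ev a' + ev z - ev a - ev j)) := by
    rw [Finset.disjoint_left]
    intro α h1 h2
    rw [Finset.mem_image] at h2
    obtain ⟨j, hj, rfl⟩ := h2
    rw [Finset.mem_union, Finset.mem_union, Finset.mem_singleton, Finset.mem_singleton,
      Finset.mem_image] at h1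
    rcases h1 with (h | h) | ⟨j', hj', h⟩
    · have := congrFun h a
      rw [(valsA hc).1, (valsD hc hj).1] at this
      omega
    · have := congrFun h a'
      rw [(valsB hc).2.1, (valsD hc hj).2.1] at this
      omega
    · have := congrFun h a'
      rw [(valsC hc hj').2.1, (valsD hc hj).2.1] at this
      omega
  have i1 : Set.InjOn (fun j => ev j - ev a) (mid : Set (Fin n)) := by
    intro j _ j' _ h
    exact ev_inj (sub_left_inj.mp h)
  have i2 : Set.InjOn (fun j => ev a' + ev z - ev a - ev j) (mid : Set (Fin n)) := by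
    intro j _ j' _ h
    exact ev_inj (sub_right_inj.mp h)
  rw [Finset.sum_union d3, Finset.sum_union d2, Finset.sum_union d1, Finset.sum_singleton,
    Finset.sum_singleton, Finset.sum_image i1, Finset.sum_image i2, hA, hB,
    Finset.sum_congr rfl hC, Finset.sum_congr rfl hD, Finset.sum_const, smul_eq_mul, mul_one]
  omega

include hc in
theorem sum_famEs (f : (Fin n → ℤ) → ℕ) (hE : ∀ j ∈ mid, f (ev z - ev j) = 2) :
    ∑ α ∈ famEs z mid, f α = 2 * mid.card := by
  classical
  unfold famEs
  have i1 : Set.InjOn (fun j => ev z - ev j) (mid : Set (Fin n)) := by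
    intro j _ j' _ h
    exact ev_inj (sub_right_inj.mp h)
  rw [Finset.sum_image i1, Finset.sum_congr rfl hE, Finset.sum_const, smul_eq_mul, mul_comm]

include hc hI hM in
theorem main_abstract (hmid : mid.Nonempty) :
    Module.finrank k ↥(⨆ α : {α : Fin n → ℤ // ∑ i, α i = 0}, tPiece I α.1) =
      8 + 6 * mid.card := by
  classical
  obtain ⟨j0, hj0⟩ := hmid
  have hM' : ∀ β : Fin n →₀ ℕ, β ∈ exps I ↔ Mp a' a mid (ofN β) :=
    fun β => (hM β).trans (Mp_comm a a' mid _)
  have hU : ∀ α, InU a a' z mid α → fs Finset.univ α = 0 ∧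
      Module.Finite k ↥(tPiece I α) := by
    rintro α (rfl | rfl | ⟨j, hj, rfl⟩ | ⟨j, hj, rfl⟩)
    · refine ⟨?_, (famA hc hI hM).2⟩
      rw [fs_sub, fs_sub, fs_add, fs_univ_ev, fs_univ_ev, fs_univ_ev]; omega
    · refine ⟨?_, (famB hc hI hM hj0).2⟩
      rw [fs_sub, fs_univ_ev, fs_univ_ev]; omega
    · refine ⟨?_, (famC hc hI hM hj).2⟩
      rw [fs_sub, fs_univ_ev, fs_univ_ev]; omega
    · refine ⟨?_, (famD hc hI hM hj).2⟩
      rw [fs_sub, fs_sub, fs_add, fs_univ_ev, fs_univ_ev, fs_univ_ev, fs_univ_ev]; omega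
  have hU' : ∀ α, InU a' a z mid α → fs Finset.univ α = 0 ∧
      Module.Finite k ↥(tPiece I α) := by
    rintro α (rfl | rfl | ⟨j, hj, rfl⟩ | ⟨j, hj, rfl⟩)
    · refine ⟨?_, (famA hc.symm hI hM').2⟩
      rw [fs_sub, fs_sub, fs_add, fs_univ_ev, fs_univ_ev, fs_univ_ev]; omega
    · refine ⟨?_, (famB hc.symm hI hM' hj0).2⟩
      rw [fs_sub, fs_univ_ev, fs_univ_ev]; omega
    · refine ⟨?_, (famC hc.symm hI hM' hj).2⟩
      rw [fs_sub, fs_univ_ev, fs_univ_ev]; omega
    · refine ⟨?_, (famD hc.symm hI hM' hj).2⟩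
      rw [fs_sub, fs_sub, fs_add, fs_univ_ev, fs_univ_ev, fs_univ_ev, fs_univ_ev]; omega
  have hE : ∀ α, InE z mid α → fs Finset.univ α = 0 ∧
      Module.Finite k ↥(tPiece I α) := by
    rintro α ⟨j, hj, rfl⟩
    refine ⟨?_, (famE hc hI hM hj).2⟩
    rw [fs_sub, fs_univ_ev, fs_univ_ev]; omega
  have hmem : ∀ α, α ∈ famU a a' z mid ∪ famU a' a z mid ∪ famEs z mid ↔
      (InU a a' z mid α ∨ InU a' a z mid α ∨ InE z mid α) := by
    intro α
    rw [Finset.mem_union, Finset.mem_union, mem_famU, mem_famU, mem_famEs, or_assoc]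
  rw [finrank_iSup_eq hI (fun α => ∑ i, α i = 0)
    (famU a a' z mid ∪ famU a' a z mid ∪ famEs z mid) ?_ ?_ ?_]
  · have d1 : Disjoint (famU a a' z mid) (famU a' a z mid) := by
      rw [Finset.disjoint_left]
      intro α h1 h2
      rw [mem_famU] at h1 h2
      have := InU_vals hc h1
      have := InU_vals hc.symm h2
      omega
    have d2 : Disjoint (famU a a' z mid ∪ famU a' a z mid) (famEs z mid) := by
      rw [Finset.disjoint_left]
      intro α h1 h2
      rw [Finset.mem_union, mem_famU, mem_famU] at h1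
      rw [mem_famEs] at h2
      obtain ⟨j, hj, rfl⟩ := h2
      have := valsE hc hj
      rcases h1 with h1 | h1
      · have := InU_vals hc h1
        omega
      · have := InU_vals hc.symm h1
        omega
    rw [Finset.sum_union d2, Finset.sum_union d1,
      sum_famU hc (fun α => Module.finrank k ↥(tPiece I α)) (famA hc hI hM).1
        (famB hc hI hM hj0).1 (fun j hj => (famC hc hI hM hj).1)
        (fun j hj => (famD hc hI hM hj).1),
      sum_famU hc.symm (fun α => Module.finrank k ↥(tPiece I α)) (famA hc.symm hI hM').1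
        (famB hc.symm hI hM' hj0).1 (fun j hj => (famC hc.symm hI hM' hj).1)
        (fun j hj => (famD hc.symm hI hM' hj).1),
      sum_famEs hc (fun α => Module.finrank k ↥(tPiece I α))
        (fun j hj => (famE hc hI hM hj).1)]
    omega
  · intro α hα
    rw [hmem] at hα
    show fs Finset.univ α = 0
    rcases hα with h | h | h
    · exact (hU α h).1
    · exact (hU' α h).1
    · exact (hE α h).1
  · intro α hα hns
    rw [Submodule.eq_bot_iff]
    intro φ hφ
    by_contra hne
    apply hns
    rw [hmem]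
    exact vanish hc hI hM hα hφ hne hj0
  · intro α hα
    rw [hmem] at hα
    rcases hα with h | h | h
    · exact (hU α h).2
    · exact (hU' α h).2
    · exact (hE α h).2

end

/-! ### The concrete ideal `x_0 (x_0, …, x_{n-1}) + x_1 (x_1, …, x_{n-1})` -/

theorem borel_n11 (k : Type u) [Field k] (n : ℕ) (hn : 3 ≤ n) :
    Module.finrank k ↥(⨆ α : {α : Fin (n + 1) → ℤ // ∑ i, α i = 0},
      tPiece (Ideal.span ({f : MvPolynomial (Fin (n + 1)) k | ∃ i : Fin (n + 1),
        i.val + 1 ≤ n ∧ f = MvPolynomial.X 0 * MvPolynomial.X i} ∪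
        {f : MvPolynomial (Fin (n + 1)) k | ∃ i : Fin (n + 1), 1 ≤ i.val ∧ i.val ≤ n - 1 ∧
          f = MvPolynomial.X 1 * MvPolynomial.X i})) α.1) = 6 * n - 4 := by
  classical
  have h1 : ((1 : Fin (n + 1)) : ℕ) = 1 := by
    rw [Fin.val_one', Nat.mod_eq_of_lt (by omega)]
  have h0 : ((0 : Fin (n + 1)) : ℕ) = 0 := rfl
  have hl : ((Fin.last n : Fin (n + 1)) : ℕ) = n := rfl
  have hmem : ∀ i : Fin (n + 1),
      i ∈ Finset.univ.filter (fun i : Fin (n + 1) => 2 ≤ i.val ∧ i.val + 1 ≤ n) ↔
        (2 ≤ i.val ∧ i.val + 1 ≤ n) := by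
    intro i
    rw [Finset.mem_filter]
    exact ⟨fun h => h.2, fun h => ⟨Finset.mem_univ _, h⟩⟩
  have hc : Cfg (0 : Fin (n + 1)) 1 (Fin.last n)
      (Finset.univ.filter (fun i : Fin (n + 1) => 2 ≤ i.val ∧ i.val + 1 ≤ n)) :=
    { haa' := fun h => by have := congrArg Fin.val h; rw [h0, h1] at this; omega
      haz := fun h => by have := congrArg Fin.val h; rw [h0, hl] at this; omega
      ha'z := fun h => by have := congrArg Fin.val h; rw [h1, hl] at this; omega
      ham := fun h => by rw [hmem, h0] at h; omega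
      ha'm := fun h => by rw [hmem, h1] at h; omega
      hzm := fun h => by rw [hmem, hl] at h; omega
      hall := fun i => by
        by_cases e0 : i.val = 0
        · exact Or.inl (Fin.ext (by rw [e0, h0]))
        · by_cases e1 : i.val = 1
          · exact Or.inr (Or.inl (Fin.ext (by rw [e1, h1])))
          · by_cases e2 : i.val = n
            · exact Or.inr (Or.inr (Or.inl (Fin.ext (by rw [e2, hl]))))
            · refine Or.inr (Or.inr (Or.inr ?_))
              rw [hmem]
              have := i.isLt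
              omega }
  have hXX : ∀ b i : Fin (n + 1), (monomial (Finsupp.single b 1 + Finsupp.single i 1) (1 : k) :
      MvPolynomial (Fin (n + 1)) k) = MvPolynomial.X b * MvPolynomial.X i := by
    intro b i
    show monomial _ 1 = monomial (Finsupp.single b 1) 1 * monomial (Finsupp.single i 1) 1
    rw [monomial_mul, one_mul]
  have hId : Ideal.span ({f : MvPolynomial (Fin (n + 1)) k | ∃ i : Fin (n + 1),
        i.val + 1 ≤ n ∧ f = MvPolynomial.X 0 * MvPolynomial.X i} ∪
        {f : MvPolynomial (Fin (n + 1)) k | ∃ i : Fin (n + 1), 1 ≤ i.val ∧ i.val ≤ n - 1 ∧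
          f = MvPolynomial.X 1 * MvPolynomial.X i}) =
      mI k (gens (0 : Fin (n + 1)) 1
        (Finset.univ.filter (fun i : Fin (n + 1) => 2 ≤ i.val ∧ i.val + 1 ≤ n))) := by
    unfold mI
    congr 1
    ext f
    simp only [Set.mem_union, Set.mem_setOf_eq, Set.mem_image, gens]
    constructor
    · rintro (⟨i, hi, rfl⟩ | ⟨i, hi1, hi2, rfl⟩)
      · refine ⟨_, ⟨0, Or.inl rfl, i, ?_, rfl⟩, hXX 0 i⟩
        rcases hc.hall i with h | h | h | h
        · exact Or.inl h
        · exact Or.inr (Or.inl h)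
        · rw [h, hl] at hi; omega
        · exact Or.inr (Or.inr h)
      · refine ⟨_, ⟨1, Or.inr rfl, i, ?_, rfl⟩, hXX 1 i⟩
        rcases hc.hall i with h | h | h | h
        · rw [h, h0] at hi1; omega
        · exact Or.inr (Or.inl h)
        · rw [h, hl] at hi2; omega
        · exact Or.inr (Or.inr h)
    · rintro ⟨g, ⟨b, hb, i, hi, rfl⟩, rfl⟩
      rcases hb with rfl | rfl
      · left
        refine ⟨i, ?_, hXX 0 i⟩
        rcases hi with rfl | rfl | hi
        · rw [h0]; omega
        · rw [h1]; omega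
        · rw [hmem] at hi; omega
      · rcases hi with rfl | rfl | hi
        · left
          refine ⟨1, by rw [h1]; omega, ?_⟩
          rw [hXX 1 0, mul_comm]
        · right
          exact ⟨1, by rw [h1], by rw [h1]; omega, hXX 1 1⟩
        · right
          rw [hmem] at hi
          exact ⟨i, by omega, by omega, hXX 1 i⟩
  have hcard : (Finset.univ.filter (fun i : Fin (n + 1) => 2 ≤ i.val ∧ i.val + 1 ≤ n)).card =
      n - 2 := by
    have := fs_univ_eq hc (fun _ => (1 : ℤ))
    unfold fs at this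
    simp only [Finset.sum_const, Finset.card_univ, Fintype.card_fin, nsmul_eq_mul, mul_one]
      at this
    push_cast at this
    omega
  have hne : (Finset.univ.filter (fun i : Fin (n + 1) => 2 ≤ i.val ∧ i.val + 1 ≤ n)).Nonempty :=
    ⟨⟨2, by omega⟩, by rw [hmem]; constructor <;> simp <;> omega⟩
  rw [hId, main_abstract hc (isMonomial_mI _)
    (fun β => (mem_exps_mI).trans (gens_iff hc β)) hne, hcard]
  omega

end Groth.Agent.Lib.Helper71.TgtBorel
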