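import Groth.Agent.Lib.Helper44.TgtSum

/-! General tools for computing graded pieces of `T(I)` for monomial ideals that need not have
finite colength: generators, monotonicity of coefficient functions, point evaluation, sums.
(helper71, on top of helper44's `TgtComp`.) -/

set_option autoImplicit false
set_option linter.unusedSectionVars false
set_option linter.unusedVariables false

universe u

namespace Groth.Agent.Lib.Helper71.TgtGen

open W4c1hilbpn MvPolynomial Groth.Agent.Lib.Helper44.TgtComp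

variable {k : Type u} [Field k] {n : ℕ}

local notation "S" => MvPolynomial (Fin n) k

/-! ### Monomial ideals given by generators -/

/-- the monomial ideal generated by the monomials with exponents in `G` -/
noncomputable def mI (k : Type u) [Field k] {n : ℕ} (G : Set (Fin n →₀ ℕ)) :
    Ideal (MvPolynomial (Fin n) k) :=
  Ideal.span ((fun s => monomial s (1 : k)) '' G)

theorem mem_exps_mI {G : Set (Fin n →₀ ℕ)} {β : Fin n →₀ ℕ} :
    β ∈ exps (mI k G) ↔ ∃ g ∈ G, g ≤ β := by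
  classical
  show monomial β (1 : k) ∈ Ideal.span _ ↔ _
  rw [mem_ideal_span_monomial_image]
  constructor
  · intro h
    exact h β (by rw [support_monomial, if_neg one_ne_zero]; exact Finset.mem_singleton_self _)
  · intro h xi hxi
    rw [support_monomial, if_neg one_ne_zero, Finset.mem_singleton] at hxi
    rw [hxi]; exact h

theorem isMonomial_mI (G : Set (Fin n →₀ ℕ)) : IsMonomial (mI k G) := by
  intro p hp β hβ
  have h1 := (mem_ideal_span_monomial_image (R := k)).mp hp β hβ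
  exact mem_exps_mI.mpr h1

/-! ### Nonnegativity helpers -/

theorem ev_same (i : Fin n) : ev i i = 1 := by rw [ev_apply, if_pos rfl]

theorem ev_ne {i j : Fin n} (h : j ≠ i) : ev i j = 0 := by rw [ev_apply, if_neg h]

theorem nonneg_ev (i : Fin n) : Nonneg (ev i) := by
  intro j
  rw [ev_apply]
  split_ifs <;> omega

theorem nonneg_add {γ δ : Fin n → ℤ} (h1 : Nonneg γ) (h2 : Nonneg δ) : Nonneg (γ + δ) := by
  intro j
  have := h1 j
  have := h2 j
  simp only [Pi.add_apply]
  omega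

theorem nonneg_zero : Nonneg (0 : Fin n → ℤ) := fun _ => le_refl _

theorem nonneg_ofN (β : Fin n →₀ ℕ) : Nonneg (ofN β) := fun i => by
  simp only [ofN_apply]; omega

theorem ofN_single (i : Fin n) : ofN (Finsupp.single i 1) = ev i := by
  have := ofN_add_single (0 : Fin n →₀ ℕ) i
  rw [zero_add] at this
  rw [this]
  funext j
  simp [ofN_apply]

theorem ofN_add (β β' : Fin n →₀ ℕ) : ofN (β + β') = ofN β + ofN β' := by
  funext j
  simp [ofN_apply]

/-! ### Sums of entries over a set of indices -/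

/-- the sum of the entries indexed by `A` -/
def fs (A : Finset (Fin n)) (γ : Fin n → ℤ) : ℤ := ∑ i ∈ A, γ i

theorem fs_add (A : Finset (Fin n)) (γ δ : Fin n → ℤ) : fs A (γ + δ) = fs A γ + fs A δ := by
  unfold fs
  simp only [Pi.add_apply]
  exact Finset.sum_add_distrib

theorem fs_sub (A : Finset (Fin n)) (γ δ : Fin n → ℤ) : fs A (γ - δ) = fs A γ - fs A δ := by
  unfold fs
  simp only [Pi.sub_apply]
  exact Finset.sum_sub_distrib _ _

theorem fs_neg (A : Finset (Fin n)) (γ : Fin n → ℤ) : fs A (-γ) = - fs A γ := by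
  unfold fs
  simp only [Pi.neg_apply]
  exact Finset.sum_neg_distrib _

theorem fs_zero (A : Finset (Fin n)) : fs A (0 : Fin n → ℤ) = 0 := by
  unfold fs
  simp

theorem fs_ev (A : Finset (Fin n)) (i : Fin n) : fs A (ev i) = if i ∈ A then 1 else 0 := by
  unfold fs
  simp only [ev_apply]
  rw [Finset.sum_ite_eq' A i]

theorem fs_ev_mem {A : Finset (Fin n)} {i : Fin n} (h : i ∈ A) : fs A (ev i) = 1 := by
  rw [fs_ev, if_pos h]

theorem fs_ev_not_mem {A : Finset (Fin n)} {i : Fin n} (h : i ∉ A) : fs A (ev i) = 0 := by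
  rw [fs_ev, if_neg h]

theorem fs_nonneg (A : Finset (Fin n)) {γ : Fin n → ℤ} (h : Nonneg γ) : 0 ≤ fs A γ :=
  Finset.sum_nonneg fun i _ => h i

theorem le_fs {A : Finset (Fin n)} {γ : Fin n → ℤ} (h : Nonneg γ) {i : Fin n} (hi : i ∈ A) :
    γ i ≤ fs A γ :=
  Finset.single_le_sum (f := γ) (fun j _ => h j) hi

theorem fs_pos_iff {A : Finset (Fin n)} {γ : Fin n → ℤ} (h : Nonneg γ) :
    1 ≤ fs A γ ↔ ∃ i ∈ A, 1 ≤ γ i := by
  constructor
  · intro h1
    by_contra hcon
    push Not at hcon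
    have : fs A γ = 0 := by
      unfold fs
      apply Finset.sum_eq_zero
      intro i hi
      have := hcon i hi
      have := h i
      omega
    omega
  · rintro ⟨i, hi, h1⟩
    exact le_trans h1 (le_fs h hi)

theorem eq_zero_of_fs_eq_zero {A : Finset (Fin n)} {γ : Fin n → ℤ} (h : Nonneg γ)
    (h0 : fs A γ = 0) {i : Fin n} (hi : i ∈ A) : γ i = 0 := by
  have := le_fs h hi
  have := h i
  omega

theorem fs_univ_ev (i : Fin n) : fs Finset.univ (ev i) = 1 := fs_ev_mem (Finset.mem_univ _)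

/-- a nonnegative integer vector with entry sum `1` is a unit vector -/
theorem eq_ev_of_sum_one {δ : Fin n → ℤ} (h : Nonneg δ) (hs : fs Finset.univ δ = 1) :
    ∃ j, δ = ev j := by
  obtain ⟨j, _, hj⟩ := (fs_pos_iff h).mp (le_of_eq hs.symm)
  refine ⟨j, ?_⟩
  have hsplit : fs Finset.univ δ = δ j + ∑ i ∈ Finset.univ.erase j, δ i := by
    unfold fs
    rw [Finset.add_sum_erase _ _ (Finset.mem_univ j)]
  have hrest : 0 ≤ ∑ i ∈ Finset.univ.erase j, δ i := Finset.sum_nonneg fun i _ => h i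
  have hrest0 : ∑ i ∈ Finset.univ.erase j, δ i = 0 := by omega
  have hj1 : δ j = 1 := by omega
  have hz := (Finset.sum_eq_zero_iff_of_nonneg (fun i _ => h i)).mp hrest0
  funext i
  rw [ev_apply]
  by_cases hij : i = j
  · rw [if_pos hij, hij, hj1]
  · rw [if_neg hij]
    exact hz i (Finset.mem_erase.mpr ⟨hij, Finset.mem_univ _⟩)

/-! ### Region membership through a membership predicate -/

section Pred

variable {I : Ideal (MvPolynomial (Fin n) k)} {M : (Fin n → ℤ) → Prop}
  (hM : ∀ β : Fin n →₀ ℕ, β ∈ exps I ↔ M (ofN β))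
include hM

theorem toN_mem_iff {γ : Fin n → ℤ} (h : Nonneg γ) : toN γ ∈ exps I ↔ M γ := by
  rw [hM, ofN_toN h]

theorem uform_iff {α γ : Fin n → ℤ} :
    (∃ β ∈ exps I, γ = ofN β + α) ↔ Nonneg (γ - α) ∧ M (γ - α) := by
  constructor
  · rintro ⟨β, hβ, rfl⟩
    rw [add_sub_cancel_right]
    exact ⟨nonneg_ofN β, (hM β).mp hβ⟩
  · rintro ⟨h1, h2⟩
    refine ⟨toN (γ - α), (toN_mem_iff hM h1).mpr h2, ?_⟩
    rw [ofN_toN h1]; abel

theorem mem_region_iff {α γ : Fin n → ℤ} :
    γ ∈ region I α ↔ (Nonneg (γ - α) ∧ M (γ - α)) ∧ ¬ (Nonneg γ ∧ M γ) := by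
  rw [mem_region, uform_iff hM]
  constructor
  · rintro ⟨h1, h2⟩
    exact ⟨h1, fun h => h2 ⟨h.1, (toN_mem_iff hM h.1).mpr h.2⟩⟩
  · rintro ⟨h1, h2⟩
    exact ⟨h1, fun h => h2 ⟨h.1, (toN_mem_iff hM h.1).mp h.2⟩⟩

end Pred

/-! ### Monotonicity of the coefficient function inside the region -/

theorem region_between {I : Ideal S} {α γ γ' δ : Fin n → ℤ} (hγ : γ ∈ region I α)
    (hγ' : γ' ∈ region I α) (h1 : ∀ i, γ i ≤ δ i) (h2 : ∀ i, δ i ≤ γ' i) : δ ∈ region I α := by
  rw [mem_region] at hγ hγ' ⊢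
  refine ⟨uform_mono hγ.1 h1, ?_⟩
  rintro ⟨hnn, hin⟩
  apply hγ'.2
  have hnn' : Nonneg γ' := fun i => le_trans (hnn i) (h2 i)
  refine ⟨hnn', exps_of_le hin ?_⟩
  intro i
  have := h2 i
  have := hnn i
  simp only [toN_apply]
  omega

theorem cf_le_aux {I : Ideal S} (hI : IsMonomial I) {α : Fin n → ℤ} {φ : Tgt I}
    (hφ : φ ∈ tPiece I α) (m : ℕ) : ∀ γ γ' : Fin n → ℤ, γ ∈ region I α → γ' ∈ region I α →
      (∀ i, γ i ≤ γ' i) → (∑ i, (γ' i - γ i)).toNat = m → cf I α φ γ = cf I α φ γ' := by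
  induction m with
  | zero =>
    intro γ γ' hγ hγ' hle hm
    have hs : 0 ≤ ∑ i, (γ' i - γ i) := Finset.sum_nonneg fun i _ => by have := hle i; omega
    have hs0 : ∑ i, (γ' i - γ i) = 0 := by omega
    have hz := (Finset.sum_eq_zero_iff_of_nonneg
      (fun i _ => by have := hle i; omega)).mp hs0
    have : γ = γ' := by
      funext i
      have := hz i (Finset.mem_univ _)
      omega
    rw [this]
  | succ m ih =>
    intro γ γ' hγ hγ' hle hm
    have hs : 0 ≤ ∑ i, (γ' i - γ i) := Finset.sum_nonneg fun i _ => by have := hle i; omega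
    have hpos : ∃ i, γ i < γ' i := by
      by_contra hcon
      push Not at hcon
      have : ∑ i, (γ' i - γ i) = 0 := by
        apply Finset.sum_eq_zero
        intro i _
        have := hcon i
        have := hle i
        omega
      omega
    obtain ⟨i, hi⟩ := hpos
    have hle' : ∀ j, (γ + ev i) j ≤ γ' j := by
      intro j
      have := hle j
      simp only [Pi.add_apply, ev_apply]
      split_ifs with hj
      · subst hj; omega
      · omega
    have hmem : γ + ev i ∈ region I α := by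
      refine region_between hγ hγ' ?_ hle'
      intro j
      simp only [Pi.add_apply, ev_apply]
      split_ifs <;> omega
    rw [← cf_add_ev hI hφ hγ i hmem]
    apply ih _ _ hmem hγ' hle'
    have hsum : ∑ j, (γ' j - (γ + ev i) j) = ∑ j, (γ' j - γ j) - 1 := by
      have : ∀ j, γ' j - (γ + ev i) j = (γ' j - γ j) - ev i j := by
        intro j; simp only [Pi.add_apply]; ring
      simp only [this]
      rw [Finset.sum_sub_distrib]
      have h1 : ∑ j, ev i j = 1 := fs_univ_ev i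
      rw [h1]
    rw [hsum]
    omega

/-- the coefficient function is monotone-invariant inside the region -/
theorem cf_le {I : Ideal S} (hI : IsMonomial I) {α : Fin n → ℤ} {φ : Tgt I}
    (hφ : φ ∈ tPiece I α) {γ γ' : Fin n → ℤ} (hγ : γ ∈ region I α) (hγ' : γ' ∈ region I α)
    (hle : ∀ i, γ i ≤ γ' i) : cf I α φ γ = cf I α φ γ' :=
  cf_le_aux hI hφ _ γ γ' hγ hγ' hle rfl

/-- two region points below a common region point have the same coefficient -/
theorem cf_eq_of_top {I : Ideal S} (hI : IsMonomial I) {α : Fin n → ℤ} {φ : Tgt I}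
    (hφ : φ ∈ tPiece I α) {γ γ' τ : Fin n → ℤ} (hγ : γ ∈ region I α) (hγ' : γ' ∈ region I α)
    (hτ : τ ∈ region I α) (h1 : ∀ i, γ i ≤ τ i) (h2 : ∀ i, γ' i ≤ τ i) :
    cf I α φ γ = cf I α φ γ' := by
  rw [cf_le hI hφ hγ hτ h1, cf_le hI hφ hγ' hτ h2]

/-- a region point below a region point that also dominates a non-nonnegative region point has
zero coefficient -/
theorem cf_eq_zero_of_top {I : Ideal S} (hI : IsMonomial I) {α : Fin n → ℤ} {φ : Tgt I}
    (hφ : φ ∈ tPiece I α) {γ δ τ : Fin n → ℤ} (hγ : γ ∈ region I α) (hδ : δ ∈ region I α)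
    (hτ : τ ∈ region I α) (h1 : ∀ i, γ i ≤ τ i) (h2 : ∀ i, δ i ≤ τ i) (hneg : ¬ Nonneg δ) :
    cf I α φ γ = 0 := by
  rw [cf_eq_of_top hI hφ hγ hδ hτ h1 h2]
  exact cf_of_not_nonneg φ hneg

/-! ### Vanishing through generators -/

theorem eq_zero_of_gens {I : Ideal S} (hI : IsMonomial I) {G : Set (Fin n →₀ ℕ)}
    (hG : ∀ β, β ∈ exps I ↔ ∃ g ∈ G, g ≤ β) {α : Fin n → ℤ} {φ : Tgt I}
    (hφ : φ ∈ tPiece I α)
    (h : ∀ g ∈ G, Nonneg (ofN g + α) → toN (ofN g + α) ∉ exps I →
      cf I α φ (ofN g + α) = 0) : φ = 0 := by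
  apply tgt_ext hI
  intro β hβ
  rw [LinearMap.zero_apply]
  obtain ⟨g, hg, hle⟩ := (hG β).mp hβ
  have hg' : g ∈ exps I := (hG g).mpr ⟨g, hg, le_refl _⟩
  have hmon : (⟨monomial β 1, hβ⟩ : ↥I) =
      (monomial (β - g) (1 : k) : S) • ⟨monomial g 1, hg'⟩ := by
    apply Subtype.ext
    show monomial β (1 : k) = monomial (β - g) 1 * monomial g 1
    rw [monomial_mul, one_mul, tsub_add_cancel_of_le hle]
  rw [hmon, map_smul]
  have hz : φ ⟨monomial g 1, hg'⟩ = 0 := by
    by_cases hnn : Nonneg (ofN g + α)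
    · rw [cf_spec hI hφ hg' hnn]
      by_cases hin : toN (ofN g + α) ∈ exps I
      · rw [mk_monomial_eq_zero hin, smul_zero]
      · rw [h g hg hnn hin, zero_smul]
    · exact apply_eq_zero_of_neg hφ hg' hnn
  rw [hz, smul_zero]

/-! ### Dimension through point evaluation -/

/-- evaluation of the coefficient function at finitely many points -/
noncomputable def evPts {I : Ideal S} (hI : IsMonomial I) (α : Fin n → ℤ) {d : ℕ}
    (pt : Fin d → (Fin n → ℤ)) : ↥(tPiece I α) →ₗ[k] (Fin d → k) where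
  toFun φ t := cf I α φ.1 (pt t)
  map_add' φ ψ := by
    funext t
    rw [Pi.add_apply, Submodule.coe_add, cf_add hI]
  map_smul' c φ := by
    funext t
    rw [Pi.smul_apply, Submodule.coe_smul, cf_smul hI, RingHom.id_apply, smul_eq_mul]

theorem evPts_apply {I : Ideal S} (hI : IsMonomial I) (α : Fin n → ℤ) {d : ℕ}
    (pt : Fin d → (Fin n → ℤ)) (φ : ↥(tPiece I α)) (t : Fin d) :
    evPts hI α pt φ t = cf I α φ.1 (pt t) := rfl

theorem finrank_of_points {I : Ideal S} (hI : IsMonomial I) (α : Fin n → ℤ) {d : ℕ}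
    (pt : Fin d → (Fin n → ℤ))
    (hinj : ∀ φ ∈ tPiece I α, (∀ t, cf I α φ (pt t) = 0) → φ = 0)
    (hsurj : ∀ t, ∃ φ ∈ tPiece I α, ∀ s, cf I α φ (pt s) = if s = t then 1 else 0) :
    Module.finrank k ↥(tPiece I α) = d ∧ Module.Finite k ↥(tPiece I α) := by
  classical
  have hi : Function.Injective (evPts hI α pt) := by
    intro φ ψ h
    have hmem : φ.1 + (-1 : k) • ψ.1 ∈ tPiece I α :=
      Submodule.add_mem _ φ.2 (Submodule.smul_mem _ _ ψ.2)
    have h0 := hinj _ hmem (fun t => by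
      rw [cf_add hI, cf_smul hI]
      have := congrFun h t
      rw [evPts_apply, evPts_apply] at this
      rw [this]; ring)
    apply Subtype.ext
    apply LinearMap.ext
    intro x
    have h1 := LinearMap.congr_fun h0 x
    rw [LinearMap.add_apply, LinearMap.smul_apply, LinearMap.zero_apply] at h1
    have h2 : (-1 : k) • ψ.1 x = - ψ.1 x := neg_one_smul k _
    rw [h2] at h1
    exact add_neg_eq_zero.mp h1
  have hsj : Function.Surjective (evPts hI α pt) := by
    intro f
    choose ψ hψ1 hψ2 using hsurj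
    refine ⟨∑ t, f t • (⟨ψ t, hψ1 t⟩ : ↥(tPiece I α)), ?_⟩
    funext s
    rw [map_sum, Finset.sum_apply]
    have : ∀ t, (evPts hI α pt (f t • (⟨ψ t, hψ1 t⟩ : ↥(tPiece I α)))) s =
        if s = t then f t else 0 := by
      intro t
      rw [map_smul, Pi.smul_apply, evPts_apply]
      show f t • cf I α (ψ t) (pt s) = _
      rw [hψ2 t s]
      split_ifs <;> simp
    simp only [this]
    rw [Finset.sum_ite_eq Finset.univ s]
    simp
  refine ⟨?_, Module.Finite.of_injective (evPts hI α pt) hi⟩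
  have e : ↥(tPiece I α) ≃ₗ[k] (Fin d → k) :=
    LinearEquiv.ofBijective (evPts hI α pt) ⟨hi, hsj⟩
  rw [e.finrank_eq, Module.finrank_fintype_fun_eq_card, Fintype.card_fin]

/-! ### Construction from a union of all-nonnegative components -/

theorem compat_ind {I : Ideal S} {α : Fin n → ℤ} (Q : (Fin n → ℤ) → Prop) [DecidablePred Q]
    (hstep : ∀ γ ∈ region I α, ∀ i, γ + ev i ∈ region I α → (Q γ ↔ Q (γ + ev i)))
    (hneg : ∀ γ ∈ region I α, Q γ → Nonneg γ) :
    Compat I α (fun γ => if Q γ then (1 : k) else 0) where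
  step γ hγ i hγ' := by
    by_cases hq : Q γ
    · rw [if_pos hq, if_pos ((hstep γ hγ i hγ').mp hq)]
    · rw [if_neg hq, if_neg (fun h => hq ((hstep γ hγ i hγ').mpr h))]
  neg γ hγ hn := by
    rw [if_neg]
    exact fun h => hn (hneg γ hγ h)

theorem exists_of_good {I : Ideal S} (hI : IsMonomial I) {α : Fin n → ℤ}
    (Q : (Fin n → ℤ) → Prop)
    (hstep : ∀ γ ∈ region I α, ∀ i, γ + ev i ∈ region I α → (Q γ ↔ Q (γ + ev i)))
    (hneg : ∀ γ ∈ region I α, Q γ → Nonneg γ) :
    ∃ φ ∈ tPiece I α, ∀ γ ∈ region I α, Nonneg γ →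
      ((Q γ → cf I α φ γ = 1) ∧ (¬ Q γ → cf I α φ γ = 0)) := by
  classical
  have hc := compat_ind (k := k) Q hstep hneg
  refine ⟨phiOf hI hc, phiOf_mem hI hc, ?_⟩
  intro γ hγ hnn
  rw [cf_phiOf hI hc hγ hnn]
  constructor
  · intro h; rw [if_pos h]
  · intro h; rw [if_neg h]

/-! ### Sums of pieces -/

theorem finrank_biSup {I : Ideal S} (hI : IsMonomial I) (s : Finset (Fin n → ℤ))
    (hfin : ∀ α ∈ s, Module.Finite k ↥(tPiece I α)) :
    Module.Finite k ↥(⨆ α ∈ s, tPiece I α) ∧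
    Module.finrank k ↥(⨆ α ∈ s, tPiece I α) = ∑ α ∈ s, Module.finrank k ↥(tPiece I α) := by
  classical
  induction s using Finset.induction_on with
  | empty =>
    have h0 : (⨆ α ∈ (∅ : Finset (Fin n → ℤ)), tPiece I α) = ⊥ := by simp
    rw [h0, Finset.sum_empty]
    exact ⟨inferInstance, finrank_bot k _⟩
  | insert a s ha ih =>
    have ih' := ih fun α hα => hfin α (Finset.mem_insert_of_mem hα)
    haveI := ih'.1
    haveI := hfin a (Finset.mem_insert_self a s)
    rw [Finset.iSup_insert, Finset.sum_insert ha, ← ih'.2]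
    refine ⟨inferInstance, ?_⟩
    have h1 := Submodule.finrank_sup_add_finrank_inf_eq (tPiece I a) (⨆ α ∈ s, tPiece I α)
    rw [(disjoint_tPiece_biSup hI s ha).eq_bot, finrank_bot, add_zero] at h1
    exact h1

theorem finrank_iSup_eq {I : Ideal S} (hI : IsMonomial I) (P : (Fin n → ℤ) → Prop)
    (s : Finset (Fin n → ℤ)) (hs : ∀ α ∈ s, P α)
    (hbot : ∀ α, P α → α ∉ s → tPiece I α = ⊥)
    (hfin : ∀ α ∈ s, Module.Finite k ↥(tPiece I α)) :
    Module.finrank k ↥(⨆ α : {α : Fin n → ℤ // P α}, tPiece I α.1) =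
      ∑ α ∈ s, Module.finrank k ↥(tPiece I α) := by
  have h : (⨆ α : {α : Fin n → ℤ // P α}, tPiece I α.1) = ⨆ α ∈ s, tPiece I α := by
    apply le_antisymm
    · refine iSup_le fun α => ?_
      by_cases hα : α.1 ∈ s
      · exact le_biSup (fun α => tPiece I α) hα
      · rw [hbot α.1 α.2 hα]; exact bot_le
    · refine iSup₂_le fun α hα => ?_
      exact le_iSup (fun α : {α : Fin n → ℤ // P α} => tPiece I α.1) ⟨α, hs α hα⟩
  rw [h]
  exact (finrank_biSup hI s hfin).2


/-! ### Vanishing through region points, classifier form of the dimension count -/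

theorem eq_zero_of_region {I : Ideal S} (hI : IsMonomial I) {α : Fin n → ℤ} {φ : Tgt I}
    (hφ : φ ∈ tPiece I α)
    (h : ∀ γ ∈ region I α, Nonneg γ → cf I α φ γ = 0) : φ = 0 := by
  apply tgt_ext hI
  intro β hβ
  rw [LinearMap.zero_apply]
  by_cases hnn : Nonneg (ofN β + α)
  · rw [cf_spec hI hφ hβ hnn]
    by_cases hin : toN (ofN β + α) ∈ exps I
    · rw [mk_monomial_eq_zero hin, smul_zero]
    · rw [h _ (mem_region_of hβ fun h' => hin h'.2) hnn, zero_smul]
  · exact apply_eq_zero_of_neg hφ hβ hnn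

theorem step_neg {γ : Fin n → ℤ} {i : Fin n} (h1 : Nonneg (γ + ev i)) (h2 : ¬ Nonneg γ) :
    γ i = -1 ∧ ∀ l, l ≠ i → 0 ≤ γ l := by
  unfold Nonneg at h2
  push Not at h2
  obtain ⟨l, hl⟩ := h2
  have hli : l = i := by
    by_contra hli
    have := h1 l
    simp only [Pi.add_apply, ev_ne hli] at this
    omega
  subst hli
  constructor
  · have := h1 l
    simp only [Pi.add_apply, ev_same] at this
    omega
  · intro l' hl'
    have := h1 l'
    simp only [Pi.add_apply, ev_ne hl'] at this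
    omega

theorem finrank_of_classifier {I : Ideal S} (hI : IsMonomial I) (α : Fin n → ℤ) {d : ℕ}
    (pt : Fin d → (Fin n → ℤ)) (c : (Fin n → ℤ) → Fin d)
    (hpt : ∀ t, pt t ∈ region I α ∧ Nonneg (pt t) ∧ c (pt t) = t)
    (hnn : ∀ γ ∈ region I α, ∀ i, γ + ev i ∈ region I α → Nonneg (γ + ev i) → Nonneg γ)
    (hc : ∀ γ ∈ region I α, ∀ i, γ + ev i ∈ region I α → Nonneg γ → c (γ + ev i) = c γ)
    (hconn : ∀ φ ∈ tPiece I α, ∀ γ ∈ region I α, Nonneg γ →
      cf I α φ γ = cf I α φ (pt (c γ))) :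
    Module.finrank k ↥(tPiece I α) = d ∧ Module.Finite k ↥(tPiece I α) := by
  refine finrank_of_points hI α pt ?_ ?_
  · intro φ hφ h0
    apply eq_zero_of_region hI hφ
    intro γ hγ hγn
    rw [hconn φ hφ γ hγ hγn, h0]
  · intro t
    obtain ⟨φ, hφ, hφ2⟩ := exists_of_good hI (α := α) (fun γ => Nonneg γ ∧ c γ = t)
      (by
        intro γ hγ i hγi
        constructor
        · rintro ⟨h1, h2⟩
          exact ⟨nonneg_add h1 (nonneg_ev i), by rw [hc γ hγ i hγi h1, h2]⟩
        · rintro ⟨h1, h2⟩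
          have h3 := hnn γ hγ i hγi h1
          exact ⟨h3, by rw [← hc γ hγ i hγi h3, h2]⟩)
      (fun γ _ h => h.1)
    refine ⟨φ, hφ, fun s => ?_⟩
    obtain ⟨h1, h2, h3⟩ := hpt s
    by_cases hst : s = t
    · rw [if_pos hst]
      exact (hφ2 _ h1 h2).1 ⟨h2, by rw [h3, hst]⟩
    · rw [if_neg hst]
      exact (hφ2 _ h1 h2).2 (fun h => hst (by rw [← h3, h.2]))

theorem fs_mono {A B : Finset (Fin n)} (hAB : A ⊆ B) {γ : Fin n → ℤ} (h : Nonneg γ) :
    fs A γ ≤ fs B γ :=
  Finset.sum_le_sum_of_subset_of_nonneg hAB fun i _ _ => h i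

theorem two_single_le {β : Fin n →₀ ℕ} {i : Fin n} (h : 2 ≤ β i) :
    Finsupp.single i 1 + Finsupp.single i 1 ≤ β := by
  intro l
  simp only [Finsupp.add_apply, Finsupp.single_apply]
  by_cases hl : i = l
  · rw [if_pos hl, ← hl]; omega
  · rw [if_neg hl]; omega

theorem pair_single_le {β : Fin n →₀ ℕ} {i j : Fin n} (hij : i ≠ j) (hi : 1 ≤ β i)
    (hj : 1 ≤ β j) : Finsupp.single i 1 + Finsupp.single j 1 ≤ β := by
  intro l
  simp only [Finsupp.add_apply, Finsupp.single_apply]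
  by_cases h1 : i = l
  · have h2 : ¬ j = l := fun h => hij (h1.trans h.symm)
    rw [if_pos h1, if_neg h2, ← h1]; omega
  · by_cases h2 : j = l
    · rw [if_neg h1, if_pos h2, ← h2]; omega
    · rw [if_neg h1, if_neg h2]; omega

/-- a nonnegative integer vector with entry sum `2` and a positive entry at `p` is `e_p + e_q` -/
theorem eq_ev_add_of_sum_two {γ : Fin n → ℤ} (h : Nonneg γ) (hs : fs Finset.univ γ = 2)
    {p : Fin n} (hp : 1 ≤ γ p) : ∃ q, γ = ev p + ev q := by
  have hδ : Nonneg (γ - ev p) := by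
    intro i
    have := h i
    simp only [Pi.sub_apply, ev_apply]
    by_cases hip : i = p
    · rw [if_pos hip, hip]; omega
    · rw [if_neg hip]; omega
  have hsum : fs Finset.univ (γ - ev p) = 1 := by
    rw [fs_sub, fs_univ_ev, hs]; omega
  obtain ⟨q, hq⟩ := eq_ev_of_sum_one hδ hsum
  refine ⟨q, ?_⟩
  rw [← hq]; abel


theorem fs_smul (A : Finset (Fin n)) (c : ℤ) (γ : Fin n → ℤ) : fs A (c • γ) = c * fs A γ := by
  unfold fs
  simp only [Pi.smul_apply, smul_eq_mul]
  rw [Finset.mul_sum]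

theorem nonneg_smul {c : ℤ} (hc : 0 ≤ c) {γ : Fin n → ℤ} (h : Nonneg γ) : Nonneg (c • γ) := by
  intro i
  simp only [Pi.smul_apply, smul_eq_mul]
  exact mul_nonneg hc (h i)

/-- classifier form with a distinguished set of good (all-nonnegative) components -/
theorem finrank_of_good {I : Ideal S} (hI : IsMonomial I) (α : Fin n → ℤ) {d : ℕ}
    (pt : Fin d → (Fin n → ℤ)) (c : (Fin n → ℤ) → Fin d) (Good : (Fin n → ℤ) → Prop)
    (hgn : ∀ γ, Good γ → Nonneg γ)
    (hpt : ∀ t, pt t ∈ region I α ∧ Good (pt t) ∧ c (pt t) = t)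
    (hstep : ∀ γ ∈ region I α, ∀ i, γ + ev i ∈ region I α → (Good γ ↔ Good (γ + ev i)))
    (hbad : ∀ φ ∈ tPiece I α, ∀ γ ∈ region I α, Nonneg γ → ¬ Good γ → cf I α φ γ = 0)
    (hc : ∀ γ ∈ region I α, ∀ i, γ + ev i ∈ region I α → Good γ → c (γ + ev i) = c γ)
    (hconn : ∀ φ ∈ tPiece I α, ∀ γ ∈ region I α, Good γ →
      cf I α φ γ = cf I α φ (pt (c γ))) :
    Module.finrank k ↥(tPiece I α) = d ∧ Module.Finite k ↥(tPiece I α) := by
  refine finrank_of_points hI α pt ?_ ?_
  · intro φ hφ h0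
    apply eq_zero_of_region hI hφ
    intro γ hγ hγn
    by_cases hg : Good γ
    · rw [hconn φ hφ γ hγ hg, h0]
    · exact hbad φ hφ γ hγ hγn hg
  · intro t
    obtain ⟨φ, hφ, hφ2⟩ := exists_of_good hI (α := α) (fun γ => Good γ ∧ c γ = t)
      (by
        intro γ hγ i hγi
        constructor
        · rintro ⟨h1, h2⟩
          exact ⟨(hstep γ hγ i hγi).mp h1, by rw [hc γ hγ i hγi h1, h2]⟩
        · rintro ⟨h1, h2⟩
          have h3 := (hstep γ hγ i hγi).mpr h1
          exact ⟨h3, by rw [← hc γ hγ i hγi h3, h2]⟩)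
      (fun γ _ h => hgn γ h.1)
    refine ⟨φ, hφ, fun s => ?_⟩
    obtain ⟨h1, h2, h3⟩ := hpt s
    by_cases hst : s = t
    · rw [if_pos hst]
      exact (hφ2 _ h1 (hgn _ h2)).1 ⟨h2, by rw [h3, hst]⟩
    · rw [if_neg hst]
      exact (hφ2 _ h1 (hgn _ h2)).2 (fun h => hst (by rw [← h3, h.2]))


theorem fs_le_fs (A : Finset (Fin n)) {x y : Fin n → ℤ} (h : ∀ l, x l ≤ y l) : fs A x ≤ fs A y :=
  Finset.sum_le_sum fun l _ => h l


/-- a general killing lemma: the coefficient at `γ` vanishes if some upper neighbour `γ + e_p`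
stays in the region and dominates a non-nonnegative region point `γ + e_p - e_i` -/
theorem kill_gen {I : Ideal S} (hI : IsMonomial I) {M : (Fin n → ℤ) → Prop}
    (hM : ∀ β : Fin n →₀ ℕ, β ∈ exps I ↔ M (ofN β)) {α γ : Fin n → ℤ} {φ : Tgt I}
    (hφ : φ ∈ tPiece I α) (hγ : γ ∈ region I α)
    {p i : Fin n} (hτ : ¬ M (γ + ev p)) (hγi : γ i = 0) (hpi : p ≠ i)
    (hδ1 : Nonneg (γ + ev p - ev i - α)) (hδ2 : M (γ + ev p - ev i - α)) :
    cf I α φ γ = 0 := by
  have hτr : γ + ev p ∈ region I α := by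
    refine region_add_ev hγ p ?_
    rintro ⟨h1, h2⟩
    exact hτ ((toN_mem_iff (M := M) hM h1).mp h2)
  have hδn : ¬ Nonneg (γ + ev p - ev i) := by
    intro h
    have := h i
    simp only [Pi.add_apply, Pi.sub_apply, ev_same, ev_ne hpi.symm, hγi] at this
    omega
  have hδr : γ + ev p - ev i ∈ region I α := by
    rw [mem_region_iff (M := M) hM]
    exact ⟨⟨hδ1, hδ2⟩, fun h => hδn h.1⟩
  refine cf_eq_zero_of_top hI hφ hγ hδr hτr ?_ ?_ hδn
  · intro l
    have := nonneg_ev p l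
    simp only [Pi.add_apply]; omega
  · intro l
    have := nonneg_ev i l
    simp only [Pi.add_apply, Pi.sub_apply]; omega

theorem ofN_single_nat (i : Fin n) (c : ℕ) : ofN (Finsupp.single i c) = (c : ℤ) • ev i := by
  funext j
  simp only [ofN_apply, Finsupp.single_apply, Pi.smul_apply, smul_eq_mul, ev_apply]
  by_cases h : i = j
  · rw [if_pos h, if_pos h.symm, mul_one]
  · rw [if_neg h, if_neg (fun e => h e.symm), mul_zero]; rfl

theorem qpair_single_le {β : Fin n →₀ ℕ} {i j : Fin n} {c : ℕ} (hij : i ≠ j) (hi : c ≤ β i)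
    (hj : 1 ≤ β j) : Finsupp.single i c + Finsupp.single j 1 ≤ β := by
  intro l
  simp only [Finsupp.add_apply, Finsupp.single_apply]
  by_cases h1 : i = l
  · have h2 : ¬ j = l := fun h => hij (h1.trans h.symm)
    rw [if_pos h1, if_neg h2, ← h1]; omega
  · by_cases h2 : j = l
    · rw [if_neg h1, if_pos h2, ← h2]; omega
    · rw [if_neg h1, if_neg h2]; omega

theorem qtwo_single_le {β : Fin n →₀ ℕ} {i : Fin n} {c : ℕ} (h : c + 1 ≤ β i) :
    Finsupp.single i c + Finsupp.single i 1 ≤ β := by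
  intro l
  simp only [Finsupp.add_apply, Finsupp.single_apply]
  by_cases hl : i = l
  · simp only [if_pos hl]; rw [← hl]; omega
  · simp only [if_neg hl]; omega

end Groth.Agent.Lib.Helper71.TgtGen
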