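import Groth.Agent.Lib.Helper71.TgtGen

/-! Degree-zero tangent vectors at the ideal of two transverse coordinate linear spaces. (helper71) -/

set_option autoImplicit false
set_option linter.unusedSectionVars false
set_option linter.unusedVariables false

universe u

namespace Groth.Agent.Lib.Helper71.TgtPlanes

open W4c1hilbpn MvPolynomial Groth.Agent.Lib.Helper44.TgtComp Groth.Agent.Lib.Helper71.TgtGen

variable {k : Type u} [Field k] {n : ℕ}

section TwoSets

variable {I : Ideal (MvPolynomial (Fin n) k)} (hI : IsMonomial I) {A B : Finset (Fin n)}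
  (hAB : Disjoint A B)
  (hM : ∀ β : Fin n →₀ ℕ, β ∈ exps I ↔ (1 ≤ fs A (ofN β) ∧ 1 ≤ fs B (ofN β)))

/-- the generators -/
def gens (A B : Finset (Fin n)) : Set (Fin n →₀ ℕ) :=
  {g | ∃ a ∈ A, ∃ b ∈ B, g = Finsupp.single a 1 + Finsupp.single b 1}

theorem gens_iff {A B : Finset (Fin n)} (hAB : Disjoint A B) (β : Fin n →₀ ℕ) :
    (∃ g ∈ gens A B, g ≤ β) ↔ (1 ≤ fs A (ofN β) ∧ 1 ≤ fs B (ofN β)) := by
  constructor
  · rintro ⟨g, ⟨a, ha, b, hb, rfl⟩, hle⟩
    have h1 := hle a
    have h2 := hle b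
    simp only [Finsupp.add_apply, Finsupp.single_apply, if_true] at h1 h2
    constructor
    · refine (fs_pos_iff (nonneg_ofN β)).mpr ⟨a, ha, ?_⟩
      simp only [ofN_apply]; omega
    · refine (fs_pos_iff (nonneg_ofN β)).mpr ⟨b, hb, ?_⟩
      simp only [ofN_apply]; omega
  · rintro ⟨h1, h2⟩
    obtain ⟨a, ha, ha1⟩ := (fs_pos_iff (nonneg_ofN β)).mp h1
    obtain ⟨b, hb, hb1⟩ := (fs_pos_iff (nonneg_ofN β)).mp h2
    refine ⟨_, ⟨a, ha, b, hb, rfl⟩, ?_⟩
    have hab : a ≠ b := fun h => Finset.disjoint_left.mp hAB ha (h ▸ hb)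
    intro i
    simp only [ofN_apply] at ha1 hb1
    simp only [Finsupp.add_apply, Finsupp.single_apply]
    by_cases h1 : a = i
    · have h2 : ¬ b = i := fun h => hab (h1.trans h.symm)
      rw [if_pos h1, if_neg h2, ← h1]; omega
    · by_cases h2 : b = i
      · rw [if_neg h1, if_pos h2, ← h2]; omega
      · rw [if_neg h1, if_neg h2]; omega

include hAB hM

theorem ofN_gen (a b : Fin n) :
    ofN (Finsupp.single a 1 + Finsupp.single b 1) = ev a + ev b := by
  rw [ofN_add, ofN_single, ofN_single]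

theorem hG (β : Fin n →₀ ℕ) : β ∈ exps I ↔ ∃ g ∈ gens A B, g ≤ β := by
  rw [hM]
  exact (gens_iff hAB β).symm

theorem regionM {α γ : Fin n → ℤ} :
    γ ∈ region I α ↔ (Nonneg (γ - α) ∧ (1 ≤ fs A (γ - α) ∧ 1 ≤ fs B (γ - α))) ∧
      ¬ (Nonneg γ ∧ (1 ≤ fs A γ ∧ 1 ≤ fs B γ)) :=
  mem_region_iff (M := fun γ => 1 ≤ fs A γ ∧ 1 ≤ fs B γ) hM

include hI

/-- the piece of degree `e_j - e_a` (`a ∈ A`, `j ∉ A`) is one-dimensional -/
theorem fam_finrank {a j b0 : Fin n} (ha : a ∈ A) (hj : j ∉ A) (hb0 : b0 ∈ B) :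
    Module.finrank k ↥(tPiece I (ev j - ev a)) = 1 ∧
      Module.Finite k ↥(tPiece I (ev j - ev a)) := by
  have hb0A : b0 ∉ A := Finset.disjoint_right.mp hAB hb0
  have haB : a ∉ B := Finset.disjoint_left.mp hAB ha
  have hja : j ≠ a := fun h => hj (h ▸ ha)
  have hpt : ev j + ev b0 ∈ region I (ev j - ev a) := by
    rw [regionM hAB hM]
    have e : ev j + ev b0 - (ev j - ev a) = ev a + ev b0 := by abel
    rw [e]
    refine ⟨⟨nonneg_add (nonneg_ev _) (nonneg_ev _), ?_, ?_⟩, ?_⟩
    · rw [fs_add, fs_ev_mem ha, fs_ev_not_mem hb0A]; omega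
    · rw [fs_add, fs_ev_not_mem haB, fs_ev_mem hb0]; omega
    · rintro ⟨_, h1, _⟩
      rw [fs_add, fs_ev_not_mem hj, fs_ev_not_mem hb0A] at h1
      omega
  refine finrank_of_points hI (ev j - ev a) (d := 1) (fun _ => ev j + ev b0) ?_ ?_
  · intro φ hφ h0
    have h0' := h0 0
    apply eq_zero_of_gens hI (hG hAB hM) hφ
    rintro g ⟨a', ha', b, hb, rfl⟩ hnn hout
    rw [ofN_gen hAB hM] at hnn hout ⊢
    have hbA : b ∉ A := Finset.disjoint_right.mp hAB hb
    have hba : b ≠ a := fun h => hbA (h ▸ ha)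
    have haa : a' = a := by
      by_contra hne
      have := hnn a
      simp only [Pi.add_apply, Pi.sub_apply, ev_same, ev_ne (Ne.symm hne), ev_ne (Ne.symm hba),
        ev_ne (Ne.symm hja)] at this
      omega
    subst haa
    have e1 : ev a' + ev b + (ev j - ev a') = ev j + ev b := by abel
    rw [e1]
    have hγ : ev j + ev b ∈ region I (ev j - ev a') := by
      rw [regionM hAB hM]
      have e : ev j + ev b - (ev j - ev a') = ev a' + ev b := by abel
      rw [e]
      refine ⟨⟨nonneg_add (nonneg_ev _) (nonneg_ev _), ?_, ?_⟩, ?_⟩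
      · rw [fs_add, fs_ev_mem ha, fs_ev_not_mem hbA]; omega
      · rw [fs_add, fs_ev_not_mem haB, fs_ev_mem hb]; omega
      · rintro ⟨_, h1, _⟩
        rw [fs_add, fs_ev_not_mem hj, fs_ev_not_mem hbA] at h1
        omega
    have hτ : ev j + ev b + ev b0 ∈ region I (ev j - ev a') := by
      rw [regionM hAB hM]
      have e : ev j + ev b + ev b0 - (ev j - ev a') = ev a' + ev b + ev b0 := by abel
      rw [e]
      refine ⟨⟨nonneg_add (nonneg_add (nonneg_ev _) (nonneg_ev _)) (nonneg_ev _), ?_, ?_⟩, ?_⟩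
      · rw [fs_add, fs_add, fs_ev_mem ha, fs_ev_not_mem hbA, fs_ev_not_mem hb0A]; omega
      · rw [fs_add, fs_add, fs_ev_not_mem haB, fs_ev_mem hb, fs_ev_mem hb0]; omega
      · rintro ⟨_, h1, _⟩
        rw [fs_add, fs_add, fs_ev_not_mem hj, fs_ev_not_mem hbA, fs_ev_not_mem hb0A] at h1
        omega
    have hle1 : ∀ i, (ev j + ev b) i ≤ (ev j + ev b + ev b0) i := by
      intro i
      simp only [Pi.add_apply, ev_apply]
      split_ifs <;> omega
    have hle2 : ∀ i, (ev j + ev b0) i ≤ (ev j + ev b + ev b0) i := by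
      intro i
      simp only [Pi.add_apply, ev_apply]
      split_ifs <;> omega
    rw [cf_eq_of_top hI hφ hγ hpt hτ hle1 hle2, h0']
  · intro t
    have hstep : ∀ γ ∈ region I (ev j - ev a), ∀ i, γ + ev i ∈ region I (ev j - ev a) →
        (Nonneg γ ↔ Nonneg (γ + ev i)) := by
      intro γ hγ i hγi
      constructor
      · intro h; exact nonneg_add h (nonneg_ev i)
      · intro hnn
        by_contra hneg
        rw [regionM hAB hM] at hγ hγi
        obtain ⟨⟨hγ1, hγ2, hγ3⟩, _⟩ := hγ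
        rw [fs_sub, fs_sub, fs_ev_not_mem hj, fs_ev_mem ha] at hγ2
        rw [fs_sub, fs_sub, fs_ev_not_mem haB] at hγ3
        have hjB : 0 ≤ fs B (ev j) := fs_nonneg B (nonneg_ev j)
        apply hγi.2
        refine ⟨hnn, ?_, ?_⟩
        · -- the negative entry is at `a`, and `i = a`
          unfold Nonneg at hneg
          push Not at hneg
          obtain ⟨l, hl⟩ := hneg
          have h1 := hγ1 l
          simp only [Pi.sub_apply, ev_apply] at h1
          have hla : l = a := by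
            by_contra hla
            rw [if_neg hla] at h1
            split_ifs at h1 <;> omega
          have h2 := hnn l
          simp only [Pi.add_apply, ev_apply] at h2
          have hli : l = i := by
            by_contra hli
            rw [if_neg hli] at h2
            omega
          rw [fs_add, ← hli, hla, fs_ev_mem ha]
          omega
        · rw [fs_add]
          have := fs_nonneg B (nonneg_ev i)
          omega
    obtain ⟨φ, hφ, hφ2⟩ := exists_of_good hI (α := ev j - ev a) (fun γ => Nonneg γ) hstep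
      (fun γ _ h => h)
    refine ⟨φ, hφ, fun s => ?_⟩
    rw [if_pos (Subsingleton.elim s t)]
    exact (hφ2 _ hpt (nonneg_add (nonneg_ev _) (nonneg_ev _))).1
      (nonneg_add (nonneg_ev _) (nonneg_ev _))

/-- the key vanishing step -/
theorem half {α : Fin n → ℤ} {φ : Tgt I} (hφ : φ ∈ tPiece I α) (hα : fs Finset.univ α = 0)
    {a b : Fin n} (ha : a ∈ A) (hb : b ∈ B) (hB2 : ∃ b' ∈ B, b' ≠ b)
    (hnn : Nonneg (ev a + ev b + α)) (hA0 : fs A (ev a + ev b + α) = 0)
    (hne : cf I α φ (ev a + ev b + α) ≠ 0) : ∃ j, j ∉ A ∧ α = ev j - ev a := by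
  have hbA : b ∉ A := Finset.disjoint_right.mp hAB hb
  have haB : a ∉ B := Finset.disjoint_left.mp hAB ha
  by_cases hb1 : 1 ≤ (ev a + ev b + α) b
  · have hδ : Nonneg (ev a + ev b + α - ev b) := by
      intro i
      have := hnn i
      simp only [Pi.sub_apply, ev_apply]
      by_cases hib : i = b
      · rw [if_pos hib, hib]; omega
      · rw [if_neg hib]; omega
    have hsum : fs Finset.univ (ev a + ev b + α - ev b) = 1 := by
      rw [fs_sub, fs_add, fs_add, fs_univ_ev, fs_univ_ev, hα]; omega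
    obtain ⟨j, hj⟩ := eq_ev_of_sum_one hδ hsum
    refine ⟨j, ?_, ?_⟩
    · intro hjA
      have e : ev a + ev b + α = ev j + ev b := by rw [← hj]; abel
      rw [e, fs_add, fs_ev_mem hjA, fs_ev_not_mem hbA] at hA0
      omega
    · have e : α = (ev a + ev b + α - ev b) - ev a := by abel
      rw [e, hj]
  · exfalso
    obtain ⟨b', hb', hbb'⟩ := hB2
    have hb'A : b' ∉ A := Finset.disjoint_right.mp hAB hb'
    have hγb : (ev a + ev b + α) b = 0 := by
      have := hnn b
      omega
    apply hne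
    have hγ : ev a + ev b + α ∈ region I α := by
      rw [regionM hAB hM]
      rw [add_sub_cancel_right]
      refine ⟨⟨nonneg_add (nonneg_ev _) (nonneg_ev _), ?_, ?_⟩, ?_⟩
      · rw [fs_add, fs_ev_mem ha, fs_ev_not_mem hbA]; omega
      · rw [fs_add, fs_ev_not_mem haB, fs_ev_mem hb]; omega
      · rintro ⟨_, h1, _⟩
        omega
    have hτ : ev a + ev b + α + ev b' ∈ region I α := by
      rw [regionM hAB hM]
      have e : ev a + ev b + α + ev b' - α = ev a + ev b + ev b' := by abel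
      rw [e]
      refine ⟨⟨nonneg_add (nonneg_add (nonneg_ev _) (nonneg_ev _)) (nonneg_ev _), ?_, ?_⟩, ?_⟩
      · rw [fs_add, fs_add, fs_ev_mem ha, fs_ev_not_mem hbA, fs_ev_not_mem hb'A]; omega
      · rw [fs_add, fs_add, fs_ev_not_mem haB, fs_ev_mem hb, fs_ev_mem hb']; omega
      · rintro ⟨_, h1, _⟩
        rw [fs_add, hA0, fs_ev_not_mem hb'A] at h1
        omega
    have hδn : ¬ Nonneg (ev a + ev b + α + ev b' - ev b) := by
      intro h
      have := h b
      simp only [Pi.sub_apply, Pi.add_apply, ev_same] at this hγb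
      rw [ev_ne (Ne.symm hbb')] at this
      omega
    have hδ : ev a + ev b + α + ev b' - ev b ∈ region I α := by
      rw [regionM hAB hM]
      have e : ev a + ev b + α + ev b' - ev b - α = ev a + ev b' := by abel
      rw [e]
      refine ⟨⟨nonneg_add (nonneg_ev _) (nonneg_ev _), ?_, ?_⟩, ?_⟩
      · rw [fs_add, fs_ev_mem ha, fs_ev_not_mem hb'A]; omega
      · rw [fs_add, fs_ev_not_mem haB, fs_ev_mem hb']; omega
      · rintro ⟨h1, _⟩
        exact hδn h1
    refine cf_eq_zero_of_top hI hφ hγ hδ hτ ?_ ?_ hδn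
    · intro i
      simp only [Pi.add_apply, ev_apply]
      split_ifs <;> omega
    · intro i
      simp only [Pi.add_apply, Pi.sub_apply, ev_apply]
      split_ifs <;> omega

end TwoSets


/-! ### Assembly -/

theorem ev_sub_inj {a j a' j' : Fin n} (h1 : a ≠ j) (h2 : a' ≠ j')
    (h : ev j - ev a = ev j' - ev a') : a = a' ∧ j = j' := by
  have ha := congrFun h a
  have hj := congrFun h j
  simp only [Pi.sub_apply, ev_same, ev_ne h1, ev_ne (Ne.symm h1)] at ha hj
  rw [ev_apply, ev_apply] at ha hj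
  constructor
  · by_contra hne
    rw [if_neg hne] at ha
    split_ifs at ha <;> omega
  · by_contra hne
    rw [if_neg hne] at hj
    split_ifs at hj <;> omega

/-- the finite set of degrees `e_j - e_a`, `a ∈ A`, `j ∉ A` -/
noncomputable def degs (A : Finset (Fin n)) : Finset (Fin n → ℤ) :=
  (A ×ˢ Aᶜ).image (fun p => ev p.2 - ev p.1)

theorem mem_degs {A : Finset (Fin n)} {α : Fin n → ℤ} :
    α ∈ degs A ↔ ∃ a ∈ A, ∃ j, j ∉ A ∧ α = ev j - ev a := by
  unfold degs
  rw [Finset.mem_image]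
  constructor
  · rintro ⟨⟨a, j⟩, hp, rfl⟩
    rw [Finset.mem_product, Finset.mem_compl] at hp
    exact ⟨a, hp.1, j, hp.2, rfl⟩
  · rintro ⟨a, ha, j, hj, rfl⟩
    exact ⟨⟨a, j⟩, Finset.mem_product.mpr ⟨ha, Finset.mem_compl.mpr hj⟩, rfl⟩

theorem card_degs (A : Finset (Fin n)) : (degs A).card = A.card * (n - A.card) := by
  unfold degs
  rw [Finset.card_image_of_injOn, Finset.card_product, Finset.card_compl, Fintype.card_fin]
  rintro ⟨a, j⟩ hp ⟨a', j'⟩ hp' h
  simp only [Finset.coe_product, Set.mem_prod, Finset.mem_coe, Finset.mem_compl] at hp hp'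
  have h1 : a ≠ j := fun e => hp.2 (e ▸ hp.1)
  have h2 : a' ≠ j' := fun e => hp'.2 (e ▸ hp'.1)
  obtain ⟨e1, e2⟩ := ev_sub_inj h1 h2 h
  rw [e1, e2]

theorem main_abstract {I : Ideal (MvPolynomial (Fin n) k)} (hI : IsMonomial I)
    {A B : Finset (Fin n)} (hAB : Disjoint A B)
    (hM : ∀ β : Fin n →₀ ℕ, β ∈ exps I ↔ (1 ≤ fs A (ofN β) ∧ 1 ≤ fs B (ofN β)))
    (hA2 : 2 ≤ A.card) (hB2 : 2 ≤ B.card) :
    Module.finrank k ↥(⨆ α : {α : Fin n → ℤ // ∑ i, α i = 0}, tPiece I α.1) =
      A.card * (n - A.card) + B.card * (n - B.card) := by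
  classical
  have hM' : ∀ β : Fin n →₀ ℕ, β ∈ exps I ↔ (1 ≤ fs B (ofN β) ∧ 1 ≤ fs A (ofN β)) :=
    fun β => (hM β).trans and_comm
  obtain ⟨a0, ha0⟩ : A.Nonempty := Finset.card_pos.mp (by omega)
  obtain ⟨b0, hb0⟩ : B.Nonempty := Finset.card_pos.mp (by omega)
  have hex : ∀ (X : Finset (Fin n)) (x : Fin n), 2 ≤ X.card → ∃ x' ∈ X, x' ≠ x := by
    intro X x hX
    by_contra hcon
    push Not at hcon
    have : X ⊆ {x} := fun y hy => Finset.mem_singleton.mpr (hcon y hy)
    have := Finset.card_le_card this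
    rw [Finset.card_singleton] at this
    omega
  have hfr : ∀ α ∈ degs A ∪ degs B, Module.finrank k ↥(tPiece I α) = 1 ∧
      Module.Finite k ↥(tPiece I α) := by
    intro α hα
    rw [Finset.mem_union, mem_degs, mem_degs] at hα
    rcases hα with ⟨a, ha, j, hj, rfl⟩ | ⟨b, hb, j, hj, rfl⟩
    · exact fam_finrank hI hAB hM ha hj hb0
    · exact fam_finrank hI hAB.symm hM' hb hj ha0
  rw [finrank_iSup_eq hI (fun α => ∑ i, α i = 0) (degs A ∪ degs B) ?_ ?_
    (fun α hα => (hfr α hα).2)]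
  · rw [Finset.sum_congr rfl (fun α hα => (hfr α hα).1), Finset.sum_const, smul_eq_mul, mul_one,
      Finset.card_union_of_disjoint, card_degs, card_degs]
    rw [Finset.disjoint_left]
    intro α h1 h2
    rw [mem_degs] at h1 h2
    obtain ⟨a, ha, j, hj, rfl⟩ := h1
    obtain ⟨b, hb, i, hi, h⟩ := h2
    have h1 : a ≠ j := fun e => hj (e ▸ ha)
    have h2 : b ≠ i := fun e => hi (e ▸ hb)
    obtain ⟨e1, _⟩ := ev_sub_inj h1 h2 h
    exact Finset.disjoint_left.mp hAB ha (e1 ▸ hb)
  · intro α hα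
    rw [Finset.mem_union, mem_degs, mem_degs] at hα
    show fs Finset.univ α = 0
    rcases hα with ⟨a, ha, j, hj, rfl⟩ | ⟨b, hb, j, hj, rfl⟩
    · rw [fs_sub, fs_univ_ev, fs_univ_ev]; omega
    · rw [fs_sub, fs_univ_ev, fs_univ_ev]; omega
  · intro α hα hns
    have hα' : fs Finset.univ α = 0 := hα
    rw [Submodule.eq_bot_iff]
    intro φ hφ
    by_contra hne
    apply hns
    have hex2 : ∃ g ∈ gens A B, Nonneg (ofN g + α) ∧ toN (ofN g + α) ∉ exps I ∧
        cf I α φ (ofN g + α) ≠ 0 := by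
      by_contra hcon
      push Not at hcon
      exact hne (eq_zero_of_gens hI (hG hAB hM) hφ hcon)
    obtain ⟨g, ⟨a, ha, b, hb, rfl⟩, hnn, hout, hcf⟩ := hex2
    rw [ofN_gen hAB hM] at hnn hout hcf
    rw [toN_mem_iff (M := fun γ => 1 ≤ fs A γ ∧ 1 ≤ fs B γ) hM hnn] at hout
    have hA0 := fs_nonneg A hnn
    have hB0 := fs_nonneg B hnn
    rw [Finset.mem_union, mem_degs, mem_degs]
    by_cases hA : fs A (ev a + ev b + α) = 0
    · left
      obtain ⟨j, hj, e⟩ := half hI hAB hM hφ hα' ha hb (hex B b hB2) hnn hA hcf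
      exact ⟨a, ha, j, hj, e⟩
    · right
      have hB : fs B (ev a + ev b + α) = 0 := by
        by_contra hB
        exact hout ⟨by omega, by omega⟩
      rw [add_comm (ev a) (ev b)] at hnn hB hcf
      obtain ⟨j, hj, e⟩ := half hI hAB.symm hM' hφ hα' hb ha (hex A a hA2) hnn hB hcf
      exact ⟨b, hb, j, hj, e⟩


theorem card_lo (N c : ℕ) (hc : c ≤ N) :
    (Finset.univ.filter (fun i : Fin N => i.val + 1 ≤ c)).card = c := by
  have : (Finset.univ.filter (fun i : Fin N => i.val + 1 ≤ c)) =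
      Finset.univ.filter (fun i : Fin N => (i : ℕ) < c) := by
    apply Finset.filter_congr
    intro i _
    omega
  rw [this, Fin.card_filter_val_lt, min_eq_right hc]

theorem card_hi (N d : ℕ) (hd : d ≤ N) :
    (Finset.univ.filter (fun j : Fin N => N ≤ j.val + d)).card = d := by
  have : (Finset.univ.filter (fun j : Fin N => N ≤ j.val + d)) =
      (Finset.univ.filter (fun j : Fin N => (j : ℕ) < N - d))ᶜ := by
    rw [Finset.compl_filter]
    apply Finset.filter_congr
    intro i _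
    omega
  rw [this, Finset.card_compl, Fintype.card_fin, Fin.card_filter_val_lt, min_eq_right (by omega)]
  omega

theorem planes_main (k : Type u) [Field k] (n c d : ℕ) (hc : 2 ≤ c) (hcd : c ≤ d)
    (hn : c + d ≤ n) :
    Module.finrank k ↥(⨆ α : {α : Fin (n + 1) → ℤ // ∑ i, α i = 0},
      tPiece (Ideal.span {f : MvPolynomial (Fin (n + 1)) k | ∃ i j : Fin (n + 1),
        i.val + 1 ≤ c ∧ n + 1 ≤ j.val + d ∧
        f = MvPolynomial.X i * MvPolynomial.X j}) α.1) = c * (n - c + 1) + d * (n - d + 1) := by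
  classical
  have hAB : Disjoint (Finset.univ.filter (fun i : Fin (n + 1) => i.val + 1 ≤ c))
      (Finset.univ.filter (fun j : Fin (n + 1) => n + 1 ≤ j.val + d)) := by
    rw [Finset.disjoint_left]
    intro i hi hi'
    rw [Finset.mem_filter] at hi hi'
    omega
  have hId : Ideal.span {f : MvPolynomial (Fin (n + 1)) k | ∃ i j : Fin (n + 1),
        i.val + 1 ≤ c ∧ n + 1 ≤ j.val + d ∧ f = MvPolynomial.X i * MvPolynomial.X j} =
      mI k (gens (Finset.univ.filter (fun i : Fin (n + 1) => i.val + 1 ≤ c))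
        (Finset.univ.filter (fun j : Fin (n + 1) => n + 1 ≤ j.val + d))) := by
    unfold mI
    congr 1
    ext f
    simp only [Set.mem_setOf_eq, Set.mem_image, gens, Finset.mem_filter, Finset.mem_univ, true_and]
    constructor
    · rintro ⟨i, j, hi, hj, rfl⟩
      refine ⟨_, ⟨i, hi, j, hj, rfl⟩, ?_⟩
      show monomial _ 1 = monomial (Finsupp.single i 1) 1 * monomial (Finsupp.single j 1) 1
      rw [monomial_mul, one_mul]
    · rintro ⟨g, ⟨i, hi, j, hj, rfl⟩, rfl⟩
      refine ⟨i, j, hi, hj, ?_⟩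
      show monomial _ 1 = monomial (Finsupp.single i 1) 1 * monomial (Finsupp.single j 1) 1
      rw [monomial_mul, one_mul]
  rw [hId, main_abstract (isMonomial_mI _) hAB
    (fun β => (mem_exps_mI).trans (gens_iff hAB β))
    (by rw [card_lo (n + 1) c (by omega)]; exact hc)
    (by rw [card_hi (n + 1) d (by omega)]; omega),
    card_lo (n + 1) c (by omega), card_hi (n + 1) d (by omega)]
  have h1 : n + 1 - c = n - c + 1 := by omega
  have h2 : n + 1 - d = n - d + 1 := by omega
  rw [h1, h2]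

end Groth.Agent.Lib.Helper71.TgtPlanes
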