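import Groth.Agent.Lib.Helper71.TgtGen

/-! Two-block Borel-fixed ideals `x_a (x_a, x_b, M1, M2) + x_b^q (x_b, M1)` with one free variable
`x_z`: set-up and first families of graded pieces. (helper71) -/

set_option autoImplicit false
set_option linter.unusedSectionVars false
set_option linter.unusedVariables false

universe u

namespace Groth.Agent.Lib.Helper71.TgtTB

open W4c1hilbpn MvPolynomial Groth.Agent.Lib.Helper44.TgtComp Groth.Agent.Lib.Helper71.TgtGen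

variable {k : Type u} [Field k] {n : ℕ}

/-- configuration of the variables -/
structure Cfg2 (a b z : Fin n) (M1 M2 : Finset (Fin n)) : Prop where
  hab : a ≠ b
  haz : a ≠ z
  hbz : b ≠ z
  ha1 : a ∉ M1
  ha2 : a ∉ M2
  hb1 : b ∉ M1
  hb2 : b ∉ M2
  hz1 : z ∉ M1
  hz2 : z ∉ M2
  h12 : Disjoint M1 M2
  hall : ∀ i, i = a ∨ i = b ∨ i = z ∨ i ∈ M1 ∨ i ∈ M2

/-- the membership predicate of the exponent set -/
def Mp (a b : Fin n) (M1 M2 : Finset (Fin n)) (q : ℕ) (γ : Fin n → ℤ) : Prop :=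
  (1 ≤ γ a ∧ 2 ≤ γ a + γ b + fs M1 γ + fs M2 γ) ∨
    ((q : ℤ) ≤ γ b ∧ (q : ℤ) + 1 ≤ γ b + fs M1 γ)

section

variable {a b z : Fin n} {M1 M2 : Finset (Fin n)} (hc : Cfg2 a b z M1 M2)

include hc

theorem Cfg2.cA : ev a a = 1 ∧ ev a b = 0 ∧ ev a z = 0 ∧ fs M1 (ev a) = 0 ∧ fs M2 (ev a) = 0 :=
  ⟨ev_same a, ev_ne hc.hab.symm, ev_ne hc.haz.symm, fs_ev_not_mem hc.ha1, fs_ev_not_mem hc.ha2⟩

theorem Cfg2.cB : ev b a = 0 ∧ ev b b = 1 ∧ ev b z = 0 ∧ fs M1 (ev b) = 0 ∧ fs M2 (ev b) = 0 :=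
  ⟨ev_ne hc.hab, ev_same b, ev_ne hc.hbz.symm, fs_ev_not_mem hc.hb1, fs_ev_not_mem hc.hb2⟩

theorem Cfg2.cZ : ev z a = 0 ∧ ev z b = 0 ∧ ev z z = 1 ∧ fs M1 (ev z) = 0 ∧ fs M2 (ev z) = 0 :=
  ⟨ev_ne hc.haz, ev_ne hc.hbz, ev_same z, fs_ev_not_mem hc.hz1, fs_ev_not_mem hc.hz2⟩

theorem Cfg2.ne1 {j : Fin n} (hj : j ∈ M1) : j ≠ a ∧ j ≠ b ∧ j ≠ z ∧ j ∉ M2 :=
  ⟨fun h => hc.ha1 (h ▸ hj), fun h => hc.hb1 (h ▸ hj), fun h => hc.hz1 (h ▸ hj),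
    Finset.disjoint_left.mp hc.h12 hj⟩

theorem Cfg2.ne2 {j : Fin n} (hj : j ∈ M2) : j ≠ a ∧ j ≠ b ∧ j ≠ z ∧ j ∉ M1 :=
  ⟨fun h => hc.ha2 (h ▸ hj), fun h => hc.hb2 (h ▸ hj), fun h => hc.hz2 (h ▸ hj),
    Finset.disjoint_right.mp hc.h12 hj⟩

theorem Cfg2.c1 {j : Fin n} (hj : j ∈ M1) :
    ev j a = 0 ∧ ev j b = 0 ∧ ev j z = 0 ∧ fs M1 (ev j) = 1 ∧ fs M2 (ev j) = 0 := by
  obtain ⟨h1, h2, h3, h4⟩ := hc.ne1 hj
  exact ⟨ev_ne h1.symm, ev_ne h2.symm, ev_ne h3.symm, fs_ev_mem hj, fs_ev_not_mem h4⟩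

theorem Cfg2.c2 {j : Fin n} (hj : j ∈ M2) :
    ev j a = 0 ∧ ev j b = 0 ∧ ev j z = 0 ∧ fs M1 (ev j) = 0 ∧ fs M2 (ev j) = 1 := by
  obtain ⟨h1, h2, h3, h4⟩ := hc.ne2 hj
  exact ⟨ev_ne h1.symm, ev_ne h2.symm, ev_ne h3.symm, fs_ev_not_mem h4, fs_ev_mem hj⟩

theorem fs_univ_eq2 (γ : Fin n → ℤ) :
    fs Finset.univ γ = γ a + γ b + γ z + fs M1 γ + fs M2 γ := by
  classical
  have hu : (Finset.univ : Finset (Fin n)) = insert a (insert b (insert z (M1 ∪ M2))) := by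
    ext i
    simp only [Finset.mem_univ, Finset.mem_insert, Finset.mem_union, true_iff]
    exact hc.hall i
  unfold fs
  rw [hu, Finset.sum_insert, Finset.sum_insert, Finset.sum_insert, Finset.sum_union hc.h12]
  · ring
  · simp only [Finset.mem_union, not_or]
    exact ⟨hc.hz1, hc.hz2⟩
  · simp only [Finset.mem_insert, Finset.mem_union, not_or]
    exact ⟨hc.hbz, hc.hb1, hc.hb2⟩
  · simp only [Finset.mem_insert, Finset.mem_union, not_or]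
    exact ⟨hc.hab, hc.haz, hc.ha1, hc.ha2⟩

/-- effect of a unit step on the four coordinates -/
theorem Cfg2.step (γ : Fin n → ℤ) (i : Fin n) :
    (i = a ∧ (γ + ev i) a = γ a + 1 ∧ (γ + ev i) b = γ b ∧ fs M1 (γ + ev i) = fs M1 γ ∧
        fs M2 (γ + ev i) = fs M2 γ) ∨
    (i = b ∧ (γ + ev i) a = γ a ∧ (γ + ev i) b = γ b + 1 ∧ fs M1 (γ + ev i) = fs M1 γ ∧
        fs M2 (γ + ev i) = fs M2 γ) ∨
    (i = z ∧ (γ + ev i) a = γ a ∧ (γ + ev i) b = γ b ∧ fs M1 (γ + ev i) = fs M1 γ ∧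
        fs M2 (γ + ev i) = fs M2 γ) ∨
    (i ∈ M1 ∧ (γ + ev i) a = γ a ∧ (γ + ev i) b = γ b ∧ fs M1 (γ + ev i) = fs M1 γ + 1 ∧
        fs M2 (γ + ev i) = fs M2 γ) ∨
    (i ∈ M2 ∧ (γ + ev i) a = γ a ∧ (γ + ev i) b = γ b ∧ fs M1 (γ + ev i) = fs M1 γ ∧
        fs M2 (γ + ev i) = fs M2 γ + 1) := by
  rcases hc.hall i with h | h | h | h | h
  · left
    subst h
    obtain ⟨a1, a2, a3, a4, a5⟩ := hc.cA
    refine ⟨rfl, ?_, ?_, ?_, ?_⟩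
    · simp only [Pi.add_apply, a1]
    · simp only [Pi.add_apply, a2, add_zero]
    · rw [fs_add, a4, add_zero]
    · rw [fs_add, a5, add_zero]
  · right; left
    subst h
    obtain ⟨a1, a2, a3, a4, a5⟩ := hc.cB
    refine ⟨rfl, ?_, ?_, ?_, ?_⟩
    · simp only [Pi.add_apply, a1, add_zero]
    · simp only [Pi.add_apply, a2]
    · rw [fs_add, a4, add_zero]
    · rw [fs_add, a5, add_zero]
  · right; right; left
    subst h
    obtain ⟨a1, a2, a3, a4, a5⟩ := hc.cZ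
    refine ⟨rfl, ?_, ?_, ?_, ?_⟩
    · simp only [Pi.add_apply, a1, add_zero]
    · simp only [Pi.add_apply, a2, add_zero]
    · rw [fs_add, a4, add_zero]
    · rw [fs_add, a5, add_zero]
  · right; right; right; left
    obtain ⟨a1, a2, a3, a4, a5⟩ := hc.c1 h
    refine ⟨h, ?_, ?_, ?_, ?_⟩
    · simp only [Pi.add_apply, a1, add_zero]
    · simp only [Pi.add_apply, a2, add_zero]
    · rw [fs_add, a4]
    · rw [fs_add, a5, add_zero]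
  · right; right; right; right
    obtain ⟨a1, a2, a3, a4, a5⟩ := hc.c2 h
    refine ⟨h, ?_, ?_, ?_, ?_⟩
    · simp only [Pi.add_apply, a1, add_zero]
    · simp only [Pi.add_apply, a2, add_zero]
    · rw [fs_add, a4, add_zero]
    · rw [fs_add, a5]

end

/-! ### Points with two or three unit-vector summands -/

theorem pt2_le {γ : Fin n → ℤ} (hγ : Nonneg γ) {i1 i2 : Fin n} {c1 c2 : ℤ} (h12 : i1 ≠ i2)
    (h1 : c1 ≤ γ i1) (h2 : c2 ≤ γ i2) : ∀ l, (c1 • ev i1 + c2 • ev i2) l ≤ γ l := by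
  intro l
  simp only [Pi.add_apply, Pi.smul_apply, smul_eq_mul]
  by_cases e1 : l = i1
  · subst e1
    rw [ev_same, ev_ne h12, mul_one, mul_zero, add_zero]; exact h1
  · by_cases e2 : l = i2
    · subst e2
      rw [ev_same, ev_ne e1, mul_one, mul_zero, zero_add]; exact h2
    · rw [ev_ne e1, ev_ne e2, mul_zero, mul_zero, add_zero]; exact hγ l

theorem pt3_le {γ : Fin n → ℤ} (hγ : Nonneg γ) {i1 i2 i3 : Fin n} {c1 c2 c3 : ℤ}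
    (h12 : i1 ≠ i2) (h13 : i1 ≠ i3) (h23 : i2 ≠ i3)
    (h1 : c1 ≤ γ i1) (h2 : c2 ≤ γ i2) (h3 : c3 ≤ γ i3) :
    ∀ l, (c1 • ev i1 + c2 • ev i2 + c3 • ev i3) l ≤ γ l := by
  intro l
  simp only [Pi.add_apply, Pi.smul_apply, smul_eq_mul]
  by_cases e1 : l = i1
  · subst e1
    rw [ev_same, ev_ne h12, ev_ne h13, mul_one, mul_zero, mul_zero, add_zero, add_zero]; exact h1
  · by_cases e2 : l = i2
    · subst e2
      rw [ev_same, ev_ne e1, ev_ne h23, mul_one, mul_zero, mul_zero, zero_add, add_zero]; exact h2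
    · by_cases e3 : l = i3
      · subst e3
        rw [ev_same, ev_ne e1, ev_ne e2, mul_one, mul_zero, mul_zero, zero_add, zero_add]
        exact h3
      · rw [ev_ne e1, ev_ne e2, ev_ne e3, mul_zero, mul_zero, mul_zero, add_zero, add_zero]
        exact hγ l

theorem le_add_ev (γ : Fin n → ℤ) (i : Fin n) : ∀ l, γ l ≤ (γ + ev i) l := by
  intro l
  have := nonneg_ev i l
  simp only [Pi.add_apply]; omega

theorem mul_ev_nonneg {c : ℤ} (hc : 0 ≤ c) (i l : Fin n) : 0 ≤ c * ev i l :=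
  mul_nonneg hc (nonneg_ev i l)

section

variable {a b z : Fin n} {M1 M2 : Finset (Fin n)} (hc : Cfg2 a b z M1 M2) {q : ℕ}
  {I : Ideal (MvPolynomial (Fin n) k)} (hI : IsMonomial I)
  (hM : ∀ β : Fin n →₀ ℕ, β ∈ exps I ↔ Mp a b M1 M2 q (ofN β))

include hM in
theorem region_iff {α γ : Fin n → ℤ} :
    γ ∈ region I α ↔ (∀ l, α l ≤ γ l) ∧
      ((1 ≤ γ a - α a ∧
          2 ≤ (γ a - α a) + (γ b - α b) + (fs M1 γ - fs M1 α) + (fs M2 γ - fs M2 α)) ∨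
        ((q : ℤ) ≤ γ b - α b ∧ (q : ℤ) + 1 ≤ (γ b - α b) + (fs M1 γ - fs M1 α))) ∧
      ¬ (Nonneg γ ∧ Mp a b M1 M2 q γ) := by
  rw [mem_region_iff (M := Mp a b M1 M2 q) hM]
  unfold Mp
  rw [fs_sub, fs_sub]
  simp only [Pi.sub_apply]
  constructor
  · rintro ⟨⟨h1, h2⟩, h4⟩
    refine ⟨fun l => ?_, h2, h4⟩
    have := h1 l
    simp only [Pi.sub_apply] at this
    omega
  · rintro ⟨h1, h2, h4⟩
    refine ⟨⟨fun l => ?_, h2⟩, h4⟩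
    have := h1 l
    simp only [Pi.sub_apply]
    omega

end


section

variable {a b z : Fin n} {M1 M2 : Finset (Fin n)} (hc : Cfg2 a b z M1 M2)

include hc

theorem Cfg2.stepA (γ : Fin n → ℤ) : (γ + ev a) a = γ a + 1 ∧ (γ + ev a) b = γ b ∧
    fs M1 (γ + ev a) = fs M1 γ ∧ fs M2 (γ + ev a) = fs M2 γ := by
  obtain ⟨a1, a2, a3, a4, a5⟩ := hc.cA
  refine ⟨?_, ?_, ?_, ?_⟩
  · simp only [Pi.add_apply, a1]
  · simp only [Pi.add_apply, a2, add_zero]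
  · rw [fs_add, a4, add_zero]
  · rw [fs_add, a5, add_zero]

theorem Cfg2.stepB (γ : Fin n → ℤ) : (γ + ev b) a = γ a ∧ (γ + ev b) b = γ b + 1 ∧
    fs M1 (γ + ev b) = fs M1 γ ∧ fs M2 (γ + ev b) = fs M2 γ := by
  obtain ⟨a1, a2, a3, a4, a5⟩ := hc.cB
  refine ⟨?_, ?_, ?_, ?_⟩
  · simp only [Pi.add_apply, a1, add_zero]
  · simp only [Pi.add_apply, a2]
  · rw [fs_add, a4, add_zero]
  · rw [fs_add, a5, add_zero]

theorem Cfg2.stepZ (γ : Fin n → ℤ) : (γ + ev z) a = γ a ∧ (γ + ev z) b = γ b ∧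
    fs M1 (γ + ev z) = fs M1 γ ∧ fs M2 (γ + ev z) = fs M2 γ := by
  obtain ⟨a1, a2, a3, a4, a5⟩ := hc.cZ
  refine ⟨?_, ?_, ?_, ?_⟩
  · simp only [Pi.add_apply, a1, add_zero]
  · simp only [Pi.add_apply, a2, add_zero]
  · rw [fs_add, a4, add_zero]
  · rw [fs_add, a5, add_zero]

theorem Cfg2.step1 {j : Fin n} (hj : j ∈ M1) (γ : Fin n → ℤ) :
    (γ + ev j) a = γ a ∧ (γ + ev j) b = γ b ∧
    fs M1 (γ + ev j) = fs M1 γ + 1 ∧ fs M2 (γ + ev j) = fs M2 γ := by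
  obtain ⟨a1, a2, a3, a4, a5⟩ := hc.c1 hj
  refine ⟨?_, ?_, ?_, ?_⟩
  · simp only [Pi.add_apply, a1, add_zero]
  · simp only [Pi.add_apply, a2, add_zero]
  · rw [fs_add, a4]
  · rw [fs_add, a5, add_zero]

theorem Cfg2.step2 {j : Fin n} (hj : j ∈ M2) (γ : Fin n → ℤ) :
    (γ + ev j) a = γ a ∧ (γ + ev j) b = γ b ∧
    fs M1 (γ + ev j) = fs M1 γ ∧ fs M2 (γ + ev j) = fs M2 γ + 1 := by
  obtain ⟨a1, a2, a3, a4, a5⟩ := hc.c2 hj
  refine ⟨?_, ?_, ?_, ?_⟩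
  · simp only [Pi.add_apply, a1, add_zero]
  · simp only [Pi.add_apply, a2, add_zero]
  · rw [fs_add, a4, add_zero]
  · rw [fs_add, a5]

end

theorem co2 (a b : Fin n) (M1 M2 : Finset (Fin n)) (c1 c2 : ℤ) (i1 i2 : Fin n) :
    (c1 • ev i1 + c2 • ev i2) a = c1 * ev i1 a + c2 * ev i2 a ∧
    (c1 • ev i1 + c2 • ev i2) b = c1 * ev i1 b + c2 * ev i2 b ∧
    fs M1 (c1 • ev i1 + c2 • ev i2) = c1 * fs M1 (ev i1) + c2 * fs M1 (ev i2) ∧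
    fs M2 (c1 • ev i1 + c2 • ev i2) = c1 * fs M2 (ev i1) + c2 * fs M2 (ev i2) := by
  refine ⟨?_, ?_, ?_, ?_⟩
  · simp only [Pi.add_apply, Pi.smul_apply, smul_eq_mul]
  · simp only [Pi.add_apply, Pi.smul_apply, smul_eq_mul]
  · rw [fs_add, fs_smul, fs_smul]
  · rw [fs_add, fs_smul, fs_smul]

theorem co3 (a b : Fin n) (M1 M2 : Finset (Fin n)) (c1 c2 c3 : ℤ) (i1 i2 i3 : Fin n) :
    (c1 • ev i1 + c2 • ev i2 + c3 • ev i3) a = c1 * ev i1 a + c2 * ev i2 a + c3 * ev i3 a ∧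
    (c1 • ev i1 + c2 • ev i2 + c3 • ev i3) b = c1 * ev i1 b + c2 * ev i2 b + c3 * ev i3 b ∧
    fs M1 (c1 • ev i1 + c2 • ev i2 + c3 • ev i3) =
      c1 * fs M1 (ev i1) + c2 * fs M1 (ev i2) + c3 * fs M1 (ev i3) ∧
    fs M2 (c1 • ev i1 + c2 • ev i2 + c3 • ev i3) =
      c1 * fs M2 (ev i1) + c2 * fs M2 (ev i2) + c3 * fs M2 (ev i3) := by
  refine ⟨?_, ?_, ?_, ?_⟩
  · simp only [Pi.add_apply, Pi.smul_apply, smul_eq_mul]
  · simp only [Pi.add_apply, Pi.smul_apply, smul_eq_mul]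
  · rw [fs_add, fs_add, fs_smul, fs_smul, fs_smul]
  · rw [fs_add, fs_add, fs_smul, fs_smul, fs_smul]

theorem nonneg_pt2 {c1 c2 : ℤ} (h1 : 0 ≤ c1) (h2 : 0 ≤ c2) (i1 i2 : Fin n) :
    Nonneg (c1 • ev i1 + c2 • ev i2) :=
  nonneg_add (nonneg_smul h1 (nonneg_ev _)) (nonneg_smul h2 (nonneg_ev _))

theorem nonneg_pt3 {c1 c2 c3 : ℤ} (h1 : 0 ≤ c1) (h2 : 0 ≤ c2) (h3 : 0 ≤ c3) (i1 i2 i3 : Fin n) :
    Nonneg (c1 • ev i1 + c2 • ev i2 + c3 • ev i3) :=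
  nonneg_add (nonneg_add (nonneg_smul h1 (nonneg_ev _)) (nonneg_smul h2 (nonneg_ev _)))
    (nonneg_smul h3 (nonneg_ev _))

end Groth.Agent.Lib.Helper71.TgtTB
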