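import Groth.Agent.Lib.Helper71.TgtTB9

/-! Two-block Borel-fixed ideals: the concrete ideal
`x_0 (x_0, …, x_{n-1}) + x_1^q (x_1, …, x_{n-r-1})`. (helper71) -/

set_option autoImplicit false
set_option linter.unusedSectionVars false
set_option linter.unusedVariables false

universe u

namespace Groth.Agent.Lib.Helper71.TgtTB

open W4c1hilbpn MvPolynomial Groth.Agent.Lib.Helper44.TgtComp Groth.Agent.Lib.Helper71.TgtGen

theorem two_block (k : Type u) [Field k] (n q r : ℕ) (hn : 4 ≤ n)
    (hq : 1 ≤ q) (hr : r + 3 ≤ n) (hcase : 2 ≤ r ∨ (r = 1 ∧ 3 ≤ q)) :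
    Module.finrank k ↥(⨆ α : {α : Fin (n + 1) → ℤ // ∑ i, α i = 0},
      tPiece (Ideal.span ({f : MvPolynomial (Fin (n + 1)) k | ∃ i : Fin (n + 1),
        i.val + 1 ≤ n ∧ f = MvPolynomial.X 0 * MvPolynomial.X i} ∪
        {f : MvPolynomial (Fin (n + 1)) k | ∃ i : Fin (n + 1), 1 ≤ i.val ∧ i.val ≤ n - r - 1 ∧
          f = MvPolynomial.X 1 ^ q * MvPolynomial.X i})) α.1) =
      3 * n - 1 + (n - r - 2) * (r + 1) + Nat.choose (n + q - 1) (n - 1) := by
  classical
  have hr1 : 1 ≤ r := by omega
  have h1 : ((1 : Fin (n + 1)) : ℕ) = 1 := by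
    rw [Fin.val_one', Nat.mod_eq_of_lt (by omega)]
  have h0 : ((0 : Fin (n + 1)) : ℕ) = 0 := rfl
  have hl : ((Fin.last n : Fin (n + 1)) : ℕ) = n := rfl
  let M1 : Finset (Fin (n + 1)) :=
    Finset.Icc (⟨2, by omega⟩ : Fin (n + 1)) (⟨n - r - 1, by omega⟩ : Fin (n + 1))
  let M2 : Finset (Fin (n + 1)) :=
    Finset.Icc (⟨n - r, by omega⟩ : Fin (n + 1)) (⟨n - 1, by omega⟩ : Fin (n + 1))
  have hmem1 : ∀ i : Fin (n + 1), i ∈ M1 ↔ (2 ≤ i.val ∧ i.val ≤ n - r - 1) := by
    intro i
    show i ∈ Finset.Icc _ _ ↔ _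
    rw [Finset.mem_Icc]
    exact Iff.rfl
  have hmem2 : ∀ i : Fin (n + 1), i ∈ M2 ↔ (n - r ≤ i.val ∧ i.val ≤ n - 1) := by
    intro i
    show i ∈ Finset.Icc _ _ ↔ _
    rw [Finset.mem_Icc]
    exact Iff.rfl
  have hcard1 : M1.card = n - r - 2 := by
    show (Finset.Icc _ _).card = _
    rw [Fin.card_Icc]
    show n - r - 1 + 1 - 2 = n - r - 2
    omega
  have hcard2 : M2.card = r := by
    show (Finset.Icc _ _).card = _
    rw [Fin.card_Icc]
    show n - 1 + 1 - (n - r) = r
    omega
  have hc : Cfg2 (0 : Fin (n + 1)) 1 (Fin.last n) M1 M2 :=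
    { hab := fun h => by have := congrArg Fin.val h; rw [h0, h1] at this; omega
      haz := fun h => by have := congrArg Fin.val h; rw [h0, hl] at this; omega
      hbz := fun h => by have := congrArg Fin.val h; rw [h1, hl] at this; omega
      ha1 := fun h => by rw [hmem1, h0] at h; omega
      ha2 := fun h => by rw [hmem2, h0] at h; omega
      hb1 := fun h => by rw [hmem1, h1] at h; omega
      hb2 := fun h => by rw [hmem2, h1] at h; omega
      hz1 := fun h => by rw [hmem1, hl] at h; omega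
      hz2 := fun h => by rw [hmem2, hl] at h; omega
      h12 := Finset.disjoint_left.mpr (fun i i1 i2 => by
        rw [hmem1] at i1; rw [hmem2] at i2; omega)
      hall := fun i => by
        by_cases e0 : i.val = 0
        · exact Or.inl (Fin.ext (by rw [e0, h0]))
        · by_cases e1 : i.val = 1
          · exact Or.inr (Or.inl (Fin.ext (by rw [e1, h1])))
          · by_cases e2 : i.val = n
            · exact Or.inr (Or.inr (Or.inl (Fin.ext (by rw [e2, hl]))))
            · by_cases e3 : i.val ≤ n - r - 1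
              · refine Or.inr (Or.inr (Or.inr (Or.inl ?_)))
                rw [hmem1]
                omega
              · refine Or.inr (Or.inr (Or.inr (Or.inr ?_)))
                rw [hmem2]
                have := i.isLt
                omega }
  have hXX : ∀ i : Fin (n + 1), (monomial (Finsupp.single 0 1 + Finsupp.single i 1) (1 : k) :
      MvPolynomial (Fin (n + 1)) k) = MvPolynomial.X 0 * MvPolynomial.X i := by
    intro i
    show monomial _ 1 = monomial (Finsupp.single 0 1) 1 * monomial (Finsupp.single i 1) 1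
    rw [monomial_mul, one_mul]
  have hXq : ∀ i : Fin (n + 1), (monomial (Finsupp.single 1 q + Finsupp.single i 1) (1 : k) :
      MvPolynomial (Fin (n + 1)) k) = MvPolynomial.X 1 ^ q * MvPolynomial.X i := by
    intro i
    rw [X_pow_eq_monomial]
    show monomial _ 1 = monomial (Finsupp.single 1 q) 1 * monomial (Finsupp.single i 1) 1
    rw [monomial_mul, one_mul]
  have hId : Ideal.span ({f : MvPolynomial (Fin (n + 1)) k | ∃ i : Fin (n + 1),
        i.val + 1 ≤ n ∧ f = MvPolynomial.X 0 * MvPolynomial.X i} ∪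
        {f : MvPolynomial (Fin (n + 1)) k | ∃ i : Fin (n + 1), 1 ≤ i.val ∧ i.val ≤ n - r - 1 ∧
          f = MvPolynomial.X 1 ^ q * MvPolynomial.X i}) =
      mI k (gens (0 : Fin (n + 1)) 1 M1 M2 q) := by
    unfold mI
    congr 1
    ext f
    simp only [Set.mem_union, Set.mem_setOf_eq, Set.mem_image, gens]
    constructor
    · rintro (⟨i, hi, rfl⟩ | ⟨i, hi1, hi2, rfl⟩)
      · refine ⟨_, Or.inl ⟨i, ?_, rfl⟩, hXX i⟩
        rcases hc.hall i with h | h | h | h | h
        · exact Or.inl h
        · exact Or.inr (Or.inl h)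
        · rw [h, hl] at hi; omega
        · exact Or.inr (Or.inr (Or.inl h))
        · exact Or.inr (Or.inr (Or.inr h))
      · refine ⟨_, Or.inr ⟨i, ?_, rfl⟩, hXq i⟩
        rcases hc.hall i with h | h | h | h | h
        · rw [h, h0] at hi1; omega
        · exact Or.inl h
        · rw [h, hl] at hi2; omega
        · exact Or.inr h
        · rw [hmem2] at h; omega
    · rintro ⟨g, (⟨i, hi, rfl⟩ | ⟨i, hi, rfl⟩), rfl⟩
      · left
        refine ⟨i, ?_, hXX i⟩
        rcases hi with h | h | h | h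
        · rw [h, h0]; omega
        · rw [h, h1]; omega
        · rw [hmem1] at h; omega
        · rw [hmem2] at h; omega
      · right
        refine ⟨i, ?_, ?_, hXq i⟩
        · rcases hi with h | h
          · rw [h, h1]
          · rw [hmem1] at h; omega
        · rcases hi with h | h
          · rw [h, h1]; omega
          · rw [hmem1] at h; omega
  have hr' : 2 ≤ M2.card ∨ 3 ≤ q := by
    rw [hcard2]
    rcases hcase with h | ⟨_, h⟩
    · exact Or.inl h
    · exact Or.inr h
  have hj1 : (⟨2, by omega⟩ : Fin (n + 1)) ∈ M1 := by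
    rw [hmem1]
    show 2 ≤ 2 ∧ 2 ≤ n - r - 1
    omega
  have hj2 : (⟨n - 1, by omega⟩ : Fin (n + 1)) ∈ M2 := by
    rw [hmem2]
    show n - r ≤ n - 1 ∧ n - 1 ≤ n - 1
    omega
  rw [hId]
  have hmain := main_abstract (k := k) (I := mI k (gens (0 : Fin (n + 1)) 1 M1 M2 q)) hc
    (isMonomial_mI _) (fun β => (mem_exps_mI).trans (gens_iff hc β)) hq hr' hj1 hj2
  rw [hcard1, hcard2] at hmain
  have hch : (n + 1 - 1 + q - 1).choose q = (n + q - 1).choose (n - 1) := by
    have e : n + 1 - 1 + q - 1 = n + q - 1 := by omega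
    rw [e]
    exact Nat.choose_symm_of_eq_add (by omega)
  rw [hch] at hmain
  have hmul : (n - r - 2) * (r + 1) = (n - r - 2) * r + (n - r - 2) := by
    rw [Nat.mul_add, Nat.mul_one]
  rw [hmul]
  omega

end Groth.Agent.Lib.Helper71.TgtTB
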