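import Groth.Agent.Lib.Helper71.TgtTB1

/-! Two-block Borel-fixed ideals: graded pieces of degree `e_* - e_a` and `e_* - e_b`. (helper71) -/

set_option autoImplicit false
set_option linter.unusedSectionVars false
set_option linter.unusedVariables false

universe u

namespace Groth.Agent.Lib.Helper71.TgtTB

open W4c1hilbpn MvPolynomial Groth.Agent.Lib.Helper44.TgtComp Groth.Agent.Lib.Helper71.TgtGen

variable {k : Type u} [Field k] {n : ℕ}

variable {a b z : Fin n} {M1 M2 : Finset (Fin n)} (hc : Cfg2 a b z M1 M2) {q : ℕ}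
  {I : Ideal (MvPolynomial (Fin n) k)} (hI : IsMonomial I)
  (hM : ∀ β : Fin n →₀ ℕ, β ∈ exps I ↔ Mp a b M1 M2 q (ofN β)) (hq : 1 ≤ q)

/-! ### Family 1: `α = e_z - e_a` -/

/-- classifier: is the `a`-entry positive? -/
def cA2 (a : Fin n) (γ : Fin n → ℤ) : Fin 2 := if 1 ≤ γ a then 0 else 1

include hc hI hM hq in
theorem fam1 {j2 : Fin n} (hj2 : j2 ∈ M2) :
    Module.finrank k ↥(tPiece I (ev z - ev a)) = 2 ∧
      Module.Finite k ↥(tPiece I (ev z - ev a)) := by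
  obtain ⟨a1, a2, a3, a4, a5⟩ := hc.cA
  obtain ⟨z1, z2, z3, z4, z5⟩ := hc.cZ
  obtain ⟨j1, j2', j3, j4, j5⟩ := hc.c2 hj2
  obtain ⟨nj1, nj2, nj3, nj4⟩ := hc.ne2 hj2
  have αa : (ev z - ev a) a = -1 := by simp only [Pi.sub_apply, z1, a1]; omega
  have αb : (ev z - ev a) b = 0 := by simp only [Pi.sub_apply, z2, a2]; omega
  have αz : (ev z - ev a) z = 1 := by simp only [Pi.sub_apply, z3, a3]; omega
  have α1 : fs M1 (ev z - ev a) = 0 := by rw [fs_sub, z4, a4]; omega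
  have α2 : fs M2 (ev z - ev a) = 0 := by rw [fs_sub, z5, a5]; omega
  have αl : ∀ l, l ≠ a → 0 ≤ (ev z - ev a) l := by
    intro l hl
    have := nonneg_ev z l
    simp only [Pi.sub_apply, ev_ne hl]; omega
  -- the points
  obtain ⟨p0a, p0b, p01, p02⟩ := co2 a b M1 M2 1 1 a z
  rw [a1, z1] at p0a; rw [a2, z2] at p0b; rw [a4, z4] at p01; rw [a5, z5] at p02
  obtain ⟨p1a, p1b, p11, p12⟩ := co2 a b M1 M2 1 1 j2 z
  rw [j1, z1] at p1a; rw [j2', z2] at p1b; rw [j4, z4] at p11; rw [j5, z5] at p12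
  have hp0 : (1 : ℤ) • ev a + (1 : ℤ) • ev z ∈ region I (ev z - ev a) := by
    rw [region_iff hM, αa, αb, α1, α2, p0a, p0b, p01, p02]
    refine ⟨fun l => ?_, ?_, ?_⟩
    · have := nonneg_ev a l
      simp only [Pi.sub_apply, Pi.add_apply, Pi.smul_apply, smul_eq_mul, one_mul]; omega
    · omega
    · rintro ⟨_, h⟩
      unfold Mp at h
      rw [p0a, p0b, p01, p02] at h; omega
  have hp1 : (1 : ℤ) • ev j2 + (1 : ℤ) • ev z ∈ region I (ev z - ev a) := by
    rw [region_iff hM, αa, αb, α1, α2, p1a, p1b, p11, p12]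
    refine ⟨fun l => ?_, ?_, ?_⟩
    · have := nonneg_ev a l
      have := nonneg_ev j2 l
      simp only [Pi.sub_apply, Pi.add_apply, Pi.smul_apply, smul_eq_mul, one_mul]; omega
    · omega
    · rintro ⟨_, h⟩
      unfold Mp at h
      rw [p1a, p1b, p11, p12] at h; omega
  refine finrank_of_classifier hI _ (d := 2)
    ![(1 : ℤ) • ev a + (1 : ℤ) • ev z, (1 : ℤ) • ev j2 + (1 : ℤ) • ev z] (cA2 a) ?_ ?_ ?_ ?_
  · intro t
    match t with
    | ⟨0, _⟩ =>
      refine ⟨hp0, nonneg_pt2 (by omega) (by omega) _ _, ?_⟩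
      show cA2 a ((1 : ℤ) • ev a + (1 : ℤ) • ev z) = 0
      unfold cA2
      rw [if_pos (by rw [p0a]; omega)]
    | ⟨1, _⟩ =>
      refine ⟨hp1, nonneg_pt2 (by omega) (by omega) _ _, ?_⟩
      show cA2 a ((1 : ℤ) • ev j2 + (1 : ℤ) • ev z) = 1
      unfold cA2
      rw [if_neg (by rw [p1a]; omega)]
  · intro γ hγ i hγi hnni
    by_contra hneg
    obtain ⟨hi1, hi2⟩ := step_neg hnni hneg
    rw [region_iff hM, αa, αb, α1, α2] at hγ hγi
    obtain ⟨g1, g2, _⟩ := hγ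
    have g1i := g1 i
    apply hγi.2.2
    refine ⟨hnni, ?_⟩
    unfold Mp
    rcases hc.step γ i with ⟨h, s1, s2, s3, s4⟩ | ⟨h, _⟩ | ⟨h, _⟩ | ⟨h, _⟩ | ⟨h, _⟩
    · rw [h] at hi1
      omega
    · exfalso; rw [h] at hi1 g1i; rw [αb] at g1i; omega
    · exfalso; rw [h] at hi1 g1i; rw [αz] at g1i; omega
    · exfalso; have := αl i (hc.ne1 h).1; omega
    · exfalso; have := αl i (hc.ne2 h).1; omega
  · intro γ hγ i hγi hγn
    have hA := hγn a
    have hB := hγn b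
    have h1 := fs_nonneg M1 hγn
    have h2 := fs_nonneg M2 hγn
    rw [region_iff hM, αa, αb, α1, α2] at hγ hγi
    obtain ⟨g1, g2, g3⟩ := hγ
    have g3i : ¬ Mp a b M1 M2 q (γ + ev i) := fun h => hγi.2.2 ⟨nonneg_add hγn (nonneg_ev i), h⟩
    unfold Mp at g3i
    unfold cA2
    rcases hc.step γ i with ⟨h, s1, s2, s3, s4⟩ | ⟨h, s1, _⟩ | ⟨h, s1, _⟩ | ⟨h, s1, _⟩ | ⟨h, s1, _⟩
    · have h1' : 1 ≤ γ a := by
        by_contra hcon
        omega
      rw [if_pos h1', if_pos (by omega)]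
    · rw [s1]
    · rw [s1]
    · rw [s1]
    · rw [s1]
  · intro φ hφ γ hγ hγn
    have hγ' := hγ
    rw [region_iff hM, αa, αb, α1, α2] at hγ'
    obtain ⟨g1, g2, g3⟩ := hγ'
    have g3' : ¬ Mp a b M1 M2 q γ := fun h => g3 ⟨hγn, h⟩
    unfold Mp at g3'
    have hz := g1 z
    rw [αz] at hz
    unfold cA2
    by_cases h1 : 1 ≤ γ a
    · rw [if_pos h1]
      show cf I _ φ γ = cf I _ φ ((1 : ℤ) • ev a + (1 : ℤ) • ev z)
      exact (cf_le hI hφ hp0 hγ (pt2_le hγn hc.haz h1 hz)).symm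
    · rw [if_neg h1]
      show cf I _ φ γ = cf I _ φ ((1 : ℤ) • ev j2 + (1 : ℤ) • ev z)
      have hA := hγn a
      obtain ⟨s1, s2, s3, s4⟩ := hc.step2 hj2 γ
      have hτn : Nonneg (γ + ev j2) := nonneg_add hγn (nonneg_ev _)
      have hτ : γ + ev j2 ∈ region I (ev z - ev a) := by
        rw [region_iff hM, αa, αb, α1, α2]
        refine ⟨fun l => le_trans (g1 l) (le_add_ev γ j2 l), ?_, ?_⟩
        · omega
        · rintro ⟨_, h⟩
          unfold Mp at h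
          omega
      refine cf_eq_of_top hI hφ hγ hp1 hτ (le_add_ev γ j2) (pt2_le hτn nj3 ?_ ?_)
      · have := hγn j2
        simp only [Pi.add_apply, ev_same]; omega
      · simp only [Pi.add_apply, j3]; omega


/-! ### Family 2: `α = e_j - e_a`, `j ∈ {b} ∪ M1 ∪ M2` -/

include hc in
theorem Cfg2.cW {j : Fin n} (hj : j = b ∨ j ∈ M1 ∨ j ∈ M2) :
    ∃ xb x1 x2 : ℤ, ev j a = 0 ∧ ev j b = xb ∧ ev j z = 0 ∧ fs M1 (ev j) = x1 ∧
      fs M2 (ev j) = x2 ∧ 0 ≤ xb ∧ 0 ≤ x1 ∧ 0 ≤ x2 ∧ xb + x1 + x2 = 1 ∧ j ≠ a := by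
  rcases hj with h | h | h
  · subst h
    obtain ⟨b1, b2, b3, b4, b5⟩ := hc.cB
    exact ⟨1, 0, 0, b1, b2, b3, b4, b5, by omega, by omega, by omega, by omega, hc.hab.symm⟩
  · obtain ⟨b1, b2, b3, b4, b5⟩ := hc.c1 h
    exact ⟨0, 1, 0, b1, b2, b3, b4, b5, by omega, by omega, by omega, by omega, (hc.ne1 h).1⟩
  · obtain ⟨b1, b2, b3, b4, b5⟩ := hc.c2 h
    exact ⟨0, 0, 1, b1, b2, b3, b4, b5, by omega, by omega, by omega, by omega, (hc.ne2 h).1⟩

include hc hI hM hq in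
theorem fam2 {j j2 : Fin n} (hj : j = b ∨ j ∈ M1 ∨ j ∈ M2) (hj2 : j2 ∈ M2) :
    Module.finrank k ↥(tPiece I (ev j - ev a)) = 1 ∧
      Module.Finite k ↥(tPiece I (ev j - ev a)) := by
  obtain ⟨a1, a2, a3, a4, a5⟩ := hc.cA
  obtain ⟨xb, x1, x2, w1, w2, w3, w4, w5, xb0, x10, x20, xs, hja⟩ := hc.cW hj
  obtain ⟨j1, j2', j3, j4, j5⟩ := hc.c2 hj2
  have αa : (ev j - ev a) a = -1 := by simp only [Pi.sub_apply, w1, a1]; omega
  have αb : (ev j - ev a) b = xb := by simp only [Pi.sub_apply, w2, a2]; omega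
  have α1 : fs M1 (ev j - ev a) = x1 := by rw [fs_sub, w4, a4]; omega
  have α2 : fs M2 (ev j - ev a) = x2 := by rw [fs_sub, w5, a5]; omega
  have αl : ∀ l, l ≠ a → 0 ≤ (ev j - ev a) l := by
    intro l hl
    have := nonneg_ev j l
    simp only [Pi.sub_apply, ev_ne hl]; omega
  obtain ⟨pa, pb, p1, p2⟩ := co2 a b M1 M2 1 1 j2 j
  rw [j1, w1] at pa; rw [j2', w2] at pb; rw [j4, w4] at p1; rw [j5, w5] at p2
  have hp : (1 : ℤ) • ev j2 + (1 : ℤ) • ev j ∈ region I (ev j - ev a) := by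
    rw [region_iff hM, αa, αb, α1, α2, pa, pb, p1, p2]
    refine ⟨fun l => ?_, ?_, ?_⟩
    · have := nonneg_ev a l
      have := nonneg_ev j2 l
      simp only [Pi.sub_apply, Pi.add_apply, Pi.smul_apply, smul_eq_mul, one_mul]; omega
    · omega
    · rintro ⟨_, h⟩
      unfold Mp at h
      rw [pa, pb, p1, p2] at h; omega
  refine finrank_of_classifier hI _ (d := 1) (fun _ => (1 : ℤ) • ev j2 + (1 : ℤ) • ev j)
    (fun _ => 0) ?_ ?_ ?_ ?_
  · intro t
    exact ⟨hp, nonneg_pt2 (by omega) (by omega) _ _, Subsingleton.elim _ _⟩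
  · intro γ hγ i hγi hnni
    by_contra hneg
    obtain ⟨hi1, hi2⟩ := step_neg hnni hneg
    rw [region_iff hM, αa, αb, α1, α2] at hγ hγi
    obtain ⟨g1, g2, _⟩ := hγ
    have g1i := g1 i
    apply hγi.2.2
    refine ⟨hnni, ?_⟩
    unfold Mp
    rcases hc.step γ i with ⟨h, s1, s2, s3, s4⟩ | ⟨h, _⟩ | ⟨h, _⟩ | ⟨h, _⟩ | ⟨h, _⟩
    · rw [h] at hi1
      omega
    · exfalso; have := αl i (by rw [h]; exact hc.hab.symm); omega
    · exfalso; have := αl i (by rw [h]; exact hc.haz.symm); omega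
    · exfalso; have := αl i (hc.ne1 h).1; omega
    · exfalso; have := αl i (hc.ne2 h).1; omega
  · intro γ _ i _ _
    exact Subsingleton.elim _ _
  · intro φ hφ γ hγ hγn
    have hγ' := hγ
    rw [region_iff hM, αa, αb, α1, α2] at hγ'
    obtain ⟨g1, g2, g3⟩ := hγ'
    have g3' : ¬ Mp a b M1 M2 q γ := fun h => g3 ⟨hγn, h⟩
    unfold Mp at g3'
    have hA := hγn a
    have hB := hγn b
    have hm1 := fs_nonneg M1 hγn
    have hm2 := fs_nonneg M2 hγn
    obtain ⟨s1, s2, s3, s4⟩ := hc.step2 hj2 γ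
    have hτ : γ + ev j2 ∈ region I (ev j - ev a) := by
      rw [region_iff hM, αa, αb, α1, α2]
      refine ⟨fun l => le_trans (g1 l) (le_add_ev γ j2 l), ?_, ?_⟩
      · omega
      · rintro ⟨_, h⟩
        unfold Mp at h
        omega
    refine cf_eq_of_top hI hφ hγ hp hτ (le_add_ev γ j2) ?_
    intro l
    have h1 := g1 l
    have h2 := hγn l
    simp only [Pi.sub_apply] at h1
    simp only [Pi.add_apply, Pi.smul_apply, smul_eq_mul, one_mul]
    by_cases hla : l = a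
    · rw [hla, w1]; rw [hla] at h2
      have := nonneg_ev j2 a
      omega
    · rw [ev_ne hla] at h1
      omega

/-! ### Family 3: `α = e_z - e_b` -/

/-- classifier for the families with three or two classes governed by the `a`- and `b`-entries -/
def cAB (a b : Fin n) (q : ℕ) (γ : Fin n → ℤ) : Fin 3 :=
  if 1 ≤ γ a then 0 else if (q : ℤ) ≤ γ b then 1 else 2

include hc hI hM hq in
theorem fam3 {j1 : Fin n} (hj1 : j1 ∈ M1) :
    Module.finrank k ↥(tPiece I (ev z - ev b)) = 3 ∧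
      Module.Finite k ↥(tPiece I (ev z - ev b)) := by
  obtain ⟨a1, a2, a3, a4, a5⟩ := hc.cA
  obtain ⟨b1, b2, b3, b4, b5⟩ := hc.cB
  obtain ⟨z1, z2, z3, z4, z5⟩ := hc.cZ
  obtain ⟨j1a, j1b, j1z, j11, j12⟩ := hc.c1 hj1
  obtain ⟨nj1, nj2, nj3, nj4⟩ := hc.ne1 hj1
  have hq0 : (0 : ℤ) ≤ (q : ℤ) := Int.natCast_nonneg q
  have hq1 : (1 : ℤ) ≤ (q : ℤ) := by exact_mod_cast hq
  have αa : (ev z - ev b) a = 0 := by simp only [Pi.sub_apply, z1, b1]; omega
  have αb : (ev z - ev b) b = -1 := by simp only [Pi.sub_apply, z2, b2]; omega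
  have αz : (ev z - ev b) z = 1 := by simp only [Pi.sub_apply, z3, b3]; omega
  have α1 : fs M1 (ev z - ev b) = 0 := by rw [fs_sub, z4, b4]; omega
  have α2 : fs M2 (ev z - ev b) = 0 := by rw [fs_sub, z5, b5]; omega
  have αl : ∀ l, l ≠ b → 0 ≤ (ev z - ev b) l := by
    intro l hl
    have := nonneg_ev z l
    simp only [Pi.sub_apply, ev_ne hl]; omega
  obtain ⟨p0a, p0b, p01, p02⟩ := co2 a b M1 M2 1 1 a z
  rw [a1, z1] at p0a; rw [a2, z2] at p0b; rw [a4, z4] at p01; rw [a5, z5] at p02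
  obtain ⟨p1a, p1b, p11, p12⟩ := co2 a b M1 M2 (q : ℤ) 1 b z
  rw [b1, z1] at p1a; rw [b2, z2] at p1b; rw [b4, z4] at p11; rw [b5, z5] at p12
  obtain ⟨p2a, p2b, p21, p22⟩ := co3 a b M1 M2 ((q : ℤ) - 1) 1 1 b j1 z
  rw [b1, j1a, z1] at p2a; rw [b2, j1b, z2] at p2b; rw [b4, j11, z4] at p21
  rw [b5, j12, z5] at p22
  have hp0 : (1 : ℤ) • ev a + (1 : ℤ) • ev z ∈ region I (ev z - ev b) := by
    rw [region_iff hM, αa, αb, α1, α2, p0a, p0b, p01, p02]
    refine ⟨fun l => ?_, ?_, ?_⟩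
    · have := nonneg_ev a l
      have := nonneg_ev b l
      simp only [Pi.sub_apply, Pi.add_apply, Pi.smul_apply, smul_eq_mul, one_mul]; omega
    · omega
    · rintro ⟨_, h⟩
      unfold Mp at h
      rw [p0a, p0b, p01, p02] at h; omega
  have hp1 : (q : ℤ) • ev b + (1 : ℤ) • ev z ∈ region I (ev z - ev b) := by
    rw [region_iff hM, αa, αb, α1, α2, p1a, p1b, p11, p12]
    refine ⟨fun l => ?_, ?_, ?_⟩
    · have := nonneg_ev b l
      have := mul_ev_nonneg hq0 b l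
      simp only [Pi.sub_apply, Pi.add_apply, Pi.smul_apply, smul_eq_mul, one_mul]; omega
    · omega
    · rintro ⟨_, h⟩
      unfold Mp at h
      rw [p1a, p1b, p11, p12] at h; omega
  have hp2 : ((q : ℤ) - 1) • ev b + (1 : ℤ) • ev j1 + (1 : ℤ) • ev z ∈
      region I (ev z - ev b) := by
    rw [region_iff hM, αa, αb, α1, α2, p2a, p2b, p21, p22]
    refine ⟨fun l => ?_, ?_, ?_⟩
    · have := nonneg_ev b l
      have := nonneg_ev j1 l
      have := mul_ev_nonneg (c := (q : ℤ) - 1) (by omega) b l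
      simp only [Pi.sub_apply, Pi.add_apply, Pi.smul_apply, smul_eq_mul, one_mul]; omega
    · omega
    · rintro ⟨_, h⟩
      unfold Mp at h
      rw [p2a, p2b, p21, p22] at h; omega
  refine finrank_of_classifier hI _ (d := 3)
    ![(1 : ℤ) • ev a + (1 : ℤ) • ev z, (q : ℤ) • ev b + (1 : ℤ) • ev z,
      ((q : ℤ) - 1) • ev b + (1 : ℤ) • ev j1 + (1 : ℤ) • ev z] (cAB a b q) ?_ ?_ ?_ ?_
  · intro t
    match t with
    | ⟨0, _⟩ =>
      refine ⟨hp0, nonneg_pt2 (by omega) (by omega) _ _, ?_⟩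
      show cAB a b q ((1 : ℤ) • ev a + (1 : ℤ) • ev z) = 0
      unfold cAB
      rw [if_pos (by rw [p0a]; omega)]
    | ⟨1, _⟩ =>
      refine ⟨hp1, nonneg_pt2 hq0 (by omega) _ _, ?_⟩
      show cAB a b q ((q : ℤ) • ev b + (1 : ℤ) • ev z) = 1
      unfold cAB
      rw [if_neg (by rw [p1a]; omega), if_pos (by rw [p1b]; omega)]
    | ⟨2, _⟩ =>
      refine ⟨hp2, nonneg_pt3 (by omega) (by omega) (by omega) _ _ _, ?_⟩
      show cAB a b q (((q : ℤ) - 1) • ev b + (1 : ℤ) • ev j1 + (1 : ℤ) • ev z) = 2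
      unfold cAB
      rw [if_neg (by rw [p2a]; omega), if_neg (by rw [p2b]; omega)]
  · intro γ hγ i hγi hnni
    by_contra hneg
    obtain ⟨hi1, hi2⟩ := step_neg hnni hneg
    rw [region_iff hM, αa, αb, α1, α2] at hγ hγi
    obtain ⟨g1, g2, _⟩ := hγ
    have g1i := g1 i
    apply hγi.2.2
    refine ⟨hnni, ?_⟩
    unfold Mp
    rcases hc.step γ i with ⟨h, _⟩ | ⟨h, s1, s2, s3, s4⟩ | ⟨h, _⟩ | ⟨h, _⟩ | ⟨h, _⟩
    · exfalso; have := αl i (by rw [h]; exact hc.hab); omega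
    · rw [h] at hi1
      omega
    · exfalso; have := αl i (by rw [h]; exact hc.hbz.symm); omega
    · exfalso; have := αl i (hc.ne1 h).2.1; omega
    · exfalso; have := αl i (hc.ne2 h).2.1; omega
  · intro γ hγ i hγi hγn
    have hA := hγn a
    have hB := hγn b
    have h1 := fs_nonneg M1 hγn
    have h2 := fs_nonneg M2 hγn
    rw [region_iff hM, αa, αb, α1, α2] at hγ hγi
    obtain ⟨g1, g2, g3⟩ := hγ
    have g3' : ¬ Mp a b M1 M2 q γ := fun h => g3 ⟨hγn, h⟩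
    have g3i : ¬ Mp a b M1 M2 q (γ + ev i) := fun h => hγi.2.2 ⟨nonneg_add hγn (nonneg_ev i), h⟩
    unfold Mp at g3i g3'
    unfold cAB
    rcases hc.step γ i with ⟨h, s1, s2, s3, s4⟩ | ⟨h, s1, s2, s3, s4⟩ | ⟨h, s1, s2, _⟩ |
      ⟨h, s1, s2, _⟩ | ⟨h, s1, s2, _⟩
    · have h1' : 1 ≤ γ a := by
        by_contra hcon
        omega
      rw [if_pos h1', if_pos (by omega)]
    · rw [s1, s2]
      by_cases hA1 : 1 ≤ γ a
      · rw [if_pos hA1, if_pos hA1]
      · exfalso; omega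
    · rw [s1, s2]
    · rw [s1, s2]
    · rw [s1, s2]
  · intro φ hφ γ hγ hγn
    have hγ' := hγ
    rw [region_iff hM, αa, αb, α1, α2] at hγ'
    obtain ⟨g1, g2, g3⟩ := hγ'
    have g3' : ¬ Mp a b M1 M2 q γ := fun h => g3 ⟨hγn, h⟩
    unfold Mp at g3'
    have hz := g1 z
    rw [αz] at hz
    unfold cAB
    by_cases h1 : 1 ≤ γ a
    · rw [if_pos h1]
      show cf I _ φ γ = cf I _ φ ((1 : ℤ) • ev a + (1 : ℤ) • ev z)
      exact (cf_le hI hφ hp0 hγ (pt2_le hγn hc.haz h1 hz)).symm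
    · rw [if_neg h1]
      by_cases h2 : (q : ℤ) ≤ γ b
      · rw [if_pos h2]
        show cf I _ φ γ = cf I _ φ ((q : ℤ) • ev b + (1 : ℤ) • ev z)
        exact (cf_le hI hφ hp1 hγ (pt2_le hγn hc.hbz h2 hz)).symm
      · rw [if_neg h2]
        show cf I _ φ γ = cf I _ φ (((q : ℤ) - 1) • ev b + (1 : ℤ) • ev j1 + (1 : ℤ) • ev z)
        have hA := hγn a
        obtain ⟨s1, s2, s3, s4⟩ := hc.step1 hj1 γ
        have hτn : Nonneg (γ + ev j1) := nonneg_add hγn (nonneg_ev _)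
        have hτ : γ + ev j1 ∈ region I (ev z - ev b) := by
          rw [region_iff hM, αa, αb, α1, α2]
          refine ⟨fun l => le_trans (g1 l) (le_add_ev γ j1 l), ?_, ?_⟩
          · omega
          · rintro ⟨_, h⟩
            unfold Mp at h
            omega
        refine cf_eq_of_top hI hφ hγ hp2 hτ (le_add_ev γ j1)
          (pt3_le hτn nj2.symm hc.hbz nj3 ?_ ?_ ?_)
        · rw [s2]; omega
        · have := hγn j1
          simp only [Pi.add_apply, ev_same]; omega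
        · simp only [Pi.add_apply, j1z]; omega


/-! ### Family 4: `α = e_j - e_b`, `j ∈ M2` -/

/-- classifier: is the `b`-entry at least `q`? -/
def cB2 (b : Fin n) (q : ℕ) (γ : Fin n → ℤ) : Fin 2 := if (q : ℤ) ≤ γ b then 0 else 1

include hc hI hM hq in
theorem fam4 {j j1 : Fin n} (hj : j ∈ M2) (hj1 : j1 ∈ M1) :
    Module.finrank k ↥(tPiece I (ev j - ev b)) = 2 ∧
      Module.Finite k ↥(tPiece I (ev j - ev b)) := by
  obtain ⟨b1, b2, b3, b4, b5⟩ := hc.cB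
  obtain ⟨ja, jb, jz, jm1, jm2⟩ := hc.c2 hj
  obtain ⟨j1a, j1b, j1z, j11, j12⟩ := hc.c1 hj1
  obtain ⟨nj1, nj2, nj3, nj4⟩ := hc.ne1 hj1
  obtain ⟨mj1, mj2, mj3, mj4⟩ := hc.ne2 hj
  have hjj1 : j1 ≠ j := fun h => nj4 (h ▸ hj)
  have hq0 : (0 : ℤ) ≤ (q : ℤ) := Int.natCast_nonneg q
  have hq1 : (1 : ℤ) ≤ (q : ℤ) := by exact_mod_cast hq
  have αa : (ev j - ev b) a = 0 := by simp only [Pi.sub_apply, ja, b1]; omega
  have αb : (ev j - ev b) b = -1 := by simp only [Pi.sub_apply, jb, b2]; omega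
  have αj : (ev j - ev b) j = 1 := by simp only [Pi.sub_apply, ev_same, ev_ne mj2]; omega
  have α1 : fs M1 (ev j - ev b) = 0 := by rw [fs_sub, jm1, b4]; omega
  have α2 : fs M2 (ev j - ev b) = 1 := by rw [fs_sub, jm2, b5]; omega
  have αl : ∀ l, l ≠ b → 0 ≤ (ev j - ev b) l := by
    intro l hl
    have := nonneg_ev j l
    simp only [Pi.sub_apply, ev_ne hl]; omega
  obtain ⟨p0a, p0b, p01, p02⟩ := co2 a b M1 M2 (q : ℤ) 1 b j
  rw [b1, ja] at p0a; rw [b2, jb] at p0b; rw [b4, jm1] at p01; rw [b5, jm2] at p02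
  obtain ⟨p1a, p1b, p11, p12⟩ := co3 a b M1 M2 ((q : ℤ) - 1) 1 1 b j1 j
  rw [b1, j1a, ja] at p1a; rw [b2, j1b, jb] at p1b; rw [b4, j11, jm1] at p11
  rw [b5, j12, jm2] at p12
  have hp0 : (q : ℤ) • ev b + (1 : ℤ) • ev j ∈ region I (ev j - ev b) := by
    rw [region_iff hM, αa, αb, α1, α2, p0a, p0b, p01, p02]
    refine ⟨fun l => ?_, ?_, ?_⟩
    · have := nonneg_ev b l
      have := mul_ev_nonneg hq0 b l
      simp only [Pi.sub_apply, Pi.add_apply, Pi.smul_apply, smul_eq_mul, one_mul]; omega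
    · omega
    · rintro ⟨_, h⟩
      unfold Mp at h
      rw [p0a, p0b, p01, p02] at h; omega
  have hp1 : ((q : ℤ) - 1) • ev b + (1 : ℤ) • ev j1 + (1 : ℤ) • ev j ∈
      region I (ev j - ev b) := by
    rw [region_iff hM, αa, αb, α1, α2, p1a, p1b, p11, p12]
    refine ⟨fun l => ?_, ?_, ?_⟩
    · have := nonneg_ev b l
      have := nonneg_ev j1 l
      have := mul_ev_nonneg (c := (q : ℤ) - 1) (by omega) b l
      simp only [Pi.sub_apply, Pi.add_apply, Pi.smul_apply, smul_eq_mul, one_mul]; omega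
    · omega
    · rintro ⟨_, h⟩
      unfold Mp at h
      rw [p1a, p1b, p11, p12] at h; omega
  refine finrank_of_classifier hI _ (d := 2)
    ![(q : ℤ) • ev b + (1 : ℤ) • ev j,
      ((q : ℤ) - 1) • ev b + (1 : ℤ) • ev j1 + (1 : ℤ) • ev j] (cB2 b q) ?_ ?_ ?_ ?_
  · intro t
    match t with
    | ⟨0, _⟩ =>
      refine ⟨hp0, nonneg_pt2 hq0 (by omega) _ _, ?_⟩
      show cB2 b q ((q : ℤ) • ev b + (1 : ℤ) • ev j) = 0
      unfold cB2
      rw [if_pos (by rw [p0b]; omega)]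
    | ⟨1, _⟩ =>
      refine ⟨hp1, nonneg_pt3 (by omega) (by omega) (by omega) _ _ _, ?_⟩
      show cB2 b q (((q : ℤ) - 1) • ev b + (1 : ℤ) • ev j1 + (1 : ℤ) • ev j) = 1
      unfold cB2
      rw [if_neg (by rw [p1b]; omega)]
  · intro γ hγ i hγi hnni
    by_contra hneg
    obtain ⟨hi1, hi2⟩ := step_neg hnni hneg
    rw [region_iff hM, αa, αb, α1, α2] at hγ hγi
    obtain ⟨g1, g2, _⟩ := hγ
    have g1i := g1 i
    apply hγi.2.2
    refine ⟨hnni, ?_⟩
    unfold Mp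
    rcases hc.step γ i with ⟨h, _⟩ | ⟨h, s1, s2, s3, s4⟩ | ⟨h, _⟩ | ⟨h, _⟩ | ⟨h, _⟩
    · exfalso; have := αl i (by rw [h]; exact hc.hab); omega
    · rw [h] at hi1
      omega
    · exfalso; have := αl i (by rw [h]; exact hc.hbz.symm); omega
    · exfalso; have := αl i (hc.ne1 h).2.1; omega
    · exfalso; have := αl i (hc.ne2 h).2.1; omega
  · intro γ hγ i hγi hγn
    have hA := hγn a
    have hB := hγn b
    have h1 := fs_nonneg M1 hγn
    have h2 := le_fs hγn hj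
    rw [region_iff hM, αa, αb, α1, α2] at hγ hγi
    obtain ⟨g1, g2, g3⟩ := hγ
    have g1j := g1 j
    rw [αj] at g1j
    have g3' : ¬ Mp a b M1 M2 q γ := fun h => g3 ⟨hγn, h⟩
    have g3i : ¬ Mp a b M1 M2 q (γ + ev i) := fun h => hγi.2.2 ⟨nonneg_add hγn (nonneg_ev i), h⟩
    unfold Mp at g3i g3'
    unfold cB2
    rcases hc.step γ i with ⟨h, s1, s2, s3, s4⟩ | ⟨h, s1, s2, s3, s4⟩ | ⟨h, s1, s2, _⟩ |
      ⟨h, s1, s2, _⟩ | ⟨h, s1, s2, _⟩
    · rw [s2]
    · exfalso; omega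
    · rw [s2]
    · rw [s2]
    · rw [s2]
  · intro φ hφ γ hγ hγn
    have hγ' := hγ
    rw [region_iff hM, αa, αb, α1, α2] at hγ'
    obtain ⟨g1, g2, g3⟩ := hγ'
    have g3' : ¬ Mp a b M1 M2 q γ := fun h => g3 ⟨hγn, h⟩
    unfold Mp at g3'
    have g1j := g1 j
    rw [αj] at g1j
    have hA := hγn a
    have hB := hγn b
    have h1 := fs_nonneg M1 hγn
    have h2 := le_fs hγn hj
    unfold cB2
    by_cases hb : (q : ℤ) ≤ γ b
    · rw [if_pos hb]
      show cf I _ φ γ = cf I _ φ ((q : ℤ) • ev b + (1 : ℤ) • ev j)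
      exact (cf_le hI hφ hp0 hγ (pt2_le hγn mj2.symm hb g1j)).symm
    · rw [if_neg hb]
      show cf I _ φ γ = cf I _ φ (((q : ℤ) - 1) • ev b + (1 : ℤ) • ev j1 + (1 : ℤ) • ev j)
      obtain ⟨s1, s2, s3, s4⟩ := hc.step1 hj1 γ
      have hτn : Nonneg (γ + ev j1) := nonneg_add hγn (nonneg_ev _)
      have hτ : γ + ev j1 ∈ region I (ev j - ev b) := by
        rw [region_iff hM, αa, αb, α1, α2]
        refine ⟨fun l => le_trans (g1 l) (le_add_ev γ j1 l), ?_, ?_⟩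
        · omega
        · rintro ⟨_, h⟩
          unfold Mp at h
          omega
      refine cf_eq_of_top hI hφ hγ hp1 hτ (le_add_ev γ j1)
        (pt3_le hτn nj2.symm mj2.symm hjj1 ?_ ?_ ?_)
      · rw [s2]; omega
      · have := hγn j1
        simp only [Pi.add_apply, ev_same]; omega
      · simp only [Pi.add_apply, ev_ne hjj1.symm]; omega

/-! ### Family 5: `α = e_j - e_b`, `j ∈ M1` -/

include hc hI hM hq in
theorem fam5 {j : Fin n} (hj : j ∈ M1) :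
    Module.finrank k ↥(tPiece I (ev j - ev b)) = 1 ∧
      Module.Finite k ↥(tPiece I (ev j - ev b)) := by
  obtain ⟨b1, b2, b3, b4, b5⟩ := hc.cB
  obtain ⟨ja, jb, jz, jm1, jm2⟩ := hc.c1 hj
  obtain ⟨mj1, mj2, mj3, mj4⟩ := hc.ne1 hj
  have hq0 : (0 : ℤ) ≤ (q : ℤ) := Int.natCast_nonneg q
  have hq1 : (1 : ℤ) ≤ (q : ℤ) := by exact_mod_cast hq
  have αa : (ev j - ev b) a = 0 := by simp only [Pi.sub_apply, ja, b1]; omega
  have αb : (ev j - ev b) b = -1 := by simp only [Pi.sub_apply, jb, b2]; omega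
  have αj : (ev j - ev b) j = 1 := by simp only [Pi.sub_apply, ev_same, ev_ne mj2]; omega
  have α1 : fs M1 (ev j - ev b) = 1 := by rw [fs_sub, jm1, b4]; omega
  have α2 : fs M2 (ev j - ev b) = 0 := by rw [fs_sub, jm2, b5]; omega
  have αl : ∀ l, l ≠ b → 0 ≤ (ev j - ev b) l := by
    intro l hl
    have := nonneg_ev j l
    simp only [Pi.sub_apply, ev_ne hl]; omega
  obtain ⟨pa, pb, p1, p2⟩ := co2 a b M1 M2 ((q : ℤ) - 1) 2 b j
  rw [b1, ja] at pa; rw [b2, jb] at pb; rw [b4, jm1] at p1; rw [b5, jm2] at p2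
  have hp : ((q : ℤ) - 1) • ev b + (2 : ℤ) • ev j ∈ region I (ev j - ev b) := by
    rw [region_iff hM, αa, αb, α1, α2, pa, pb, p1, p2]
    refine ⟨fun l => ?_, ?_, ?_⟩
    · have := nonneg_ev b l
      have := nonneg_ev j l
      have := mul_ev_nonneg (c := (q : ℤ) - 1) (by omega) b l
      simp only [Pi.sub_apply, Pi.add_apply, Pi.smul_apply, smul_eq_mul]; omega
    · omega
    · rintro ⟨_, h⟩
      unfold Mp at h
      rw [pa, pb, p1, p2] at h; omega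
  refine finrank_of_classifier hI _ (d := 1) (fun _ => ((q : ℤ) - 1) • ev b + (2 : ℤ) • ev j)
    (fun _ => 0) ?_ ?_ ?_ ?_
  · intro t
    exact ⟨hp, nonneg_pt2 (by omega) (by omega) _ _, Subsingleton.elim _ _⟩
  · intro γ hγ i hγi hnni
    by_contra hneg
    obtain ⟨hi1, hi2⟩ := step_neg hnni hneg
    rw [region_iff hM, αa, αb, α1, α2] at hγ hγi
    obtain ⟨g1, g2, _⟩ := hγ
    have g1i := g1 i
    apply hγi.2.2
    refine ⟨hnni, ?_⟩
    unfold Mp
    rcases hc.step γ i with ⟨h, _⟩ | ⟨h, s1, s2, s3, s4⟩ | ⟨h, _⟩ | ⟨h, _⟩ | ⟨h, _⟩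
    · exfalso; have := αl i (by rw [h]; exact hc.hab); omega
    · rw [h] at hi1
      omega
    · exfalso; have := αl i (by rw [h]; exact hc.hbz.symm); omega
    · exfalso; have := αl i (hc.ne1 h).2.1; omega
    · exfalso; have := αl i (hc.ne2 h).2.1; omega
  · intro γ _ i _ _
    exact Subsingleton.elim _ _
  · intro φ hφ γ hγ hγn
    have hγ' := hγ
    rw [region_iff hM, αa, αb, α1, α2] at hγ'
    obtain ⟨g1, g2, g3⟩ := hγ'
    have g3' : ¬ Mp a b M1 M2 q γ := fun h => g3 ⟨hγn, h⟩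
    unfold Mp at g3'
    have g1j := g1 j
    rw [αj] at g1j
    have hA := hγn a
    have hB := hγn b
    have h1 := le_fs hγn hj
    have h2 := fs_nonneg M2 hγn
    obtain ⟨s1, s2, s3, s4⟩ := hc.step1 hj γ
    have hτn : Nonneg (γ + ev j) := nonneg_add hγn (nonneg_ev _)
    have hτ : γ + ev j ∈ region I (ev j - ev b) := by
      rw [region_iff hM, αa, αb, α1, α2]
      refine ⟨fun l => le_trans (g1 l) (le_add_ev γ j l), ?_, ?_⟩
      · omega
      · rintro ⟨_, h⟩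
        unfold Mp at h
        omega
    refine cf_eq_of_top hI hφ hγ hp hτ (le_add_ev γ j) (pt2_le hτn mj2.symm ?_ ?_)
    · rw [s2]; omega
    · simp only [Pi.add_apply, ev_same]; omega

end Groth.Agent.Lib.Helper71.TgtTB
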