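import Groth.Agent.Lib.Helper71.TgtTB2

/-! Two-block Borel-fixed ideals: the remaining families of graded pieces. (helper71) -/

set_option autoImplicit false
set_option linter.unusedSectionVars false
set_option linter.unusedVariables false

universe u

namespace Groth.Agent.Lib.Helper71.TgtTB

open W4c1hilbpn MvPolynomial Groth.Agent.Lib.Helper44.TgtComp Groth.Agent.Lib.Helper71.TgtGen

variable {k : Type u} [Field k] {n : ℕ}

variable {a b z : Fin n} {M1 M2 : Finset (Fin n)} (hc : Cfg2 a b z M1 M2) {q : ℕ}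
  {I : Ideal (MvPolynomial (Fin n) k)} (hI : IsMonomial I)
  (hM : ∀ β : Fin n →₀ ℕ, β ∈ exps I ↔ Mp a b M1 M2 q (ofN β)) (hq : 1 ≤ q)

/-! ### Family 6: `α = e_z - e_j`, `j ∈ M1` -/

include hc hI hM hq in
theorem fam6 {j : Fin n} (hj : j ∈ M1) :
    Module.finrank k ↥(tPiece I (ev z - ev j)) = 2 ∧
      Module.Finite k ↥(tPiece I (ev z - ev j)) := by
  obtain ⟨a1, a2, a3, a4, a5⟩ := hc.cA
  obtain ⟨b1, b2, b3, b4, b5⟩ := hc.cB
  obtain ⟨z1, z2, z3, z4, z5⟩ := hc.cZ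
  obtain ⟨ja, jb, jz, jm1, jm2⟩ := hc.c1 hj
  obtain ⟨mj1, mj2, mj3, mj4⟩ := hc.ne1 hj
  have hq0 : (0 : ℤ) ≤ (q : ℤ) := Int.natCast_nonneg q
  have hq1 : (1 : ℤ) ≤ (q : ℤ) := by exact_mod_cast hq
  have αa : (ev z - ev j) a = 0 := by simp only [Pi.sub_apply, z1, ja]; omega
  have αb : (ev z - ev j) b = 0 := by simp only [Pi.sub_apply, z2, jb]; omega
  have αz : (ev z - ev j) z = 1 := by simp only [Pi.sub_apply, z3, jz]; omega
  have α1 : fs M1 (ev z - ev j) = -1 := by rw [fs_sub, z4, jm1]; omega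
  have α2 : fs M2 (ev z - ev j) = 0 := by rw [fs_sub, z5, jm2]; omega
  have αl : ∀ l, l ≠ j → 0 ≤ (ev z - ev j) l := by
    intro l hl
    have := nonneg_ev z l
    simp only [Pi.sub_apply, ev_ne hl]; omega
  obtain ⟨p0a, p0b, p01, p02⟩ := co2 a b M1 M2 1 1 a z
  rw [a1, z1] at p0a; rw [a2, z2] at p0b; rw [a4, z4] at p01; rw [a5, z5] at p02
  obtain ⟨p1a, p1b, p11, p12⟩ := co2 a b M1 M2 (q : ℤ) 1 b z
  rw [b1, z1] at p1a; rw [b2, z2] at p1b; rw [b4, z4] at p11; rw [b5, z5] at p12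
  have hp0 : (1 : ℤ) • ev a + (1 : ℤ) • ev z ∈ region I (ev z - ev j) := by
    rw [region_iff hM, αa, αb, α1, α2, p0a, p0b, p01, p02]
    refine ⟨fun l => ?_, ?_, ?_⟩
    · have := nonneg_ev a l
      have := nonneg_ev j l
      simp only [Pi.sub_apply, Pi.add_apply, Pi.smul_apply, smul_eq_mul, one_mul]; omega
    · omega
    · rintro ⟨_, h⟩
      unfold Mp at h
      rw [p0a, p0b, p01, p02] at h; omega
  have hp1 : (q : ℤ) • ev b + (1 : ℤ) • ev z ∈ region I (ev z - ev j) := by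
    rw [region_iff hM, αa, αb, α1, α2, p1a, p1b, p11, p12]
    refine ⟨fun l => ?_, ?_, ?_⟩
    · have := nonneg_ev j l
      have := mul_ev_nonneg hq0 b l
      simp only [Pi.sub_apply, Pi.add_apply, Pi.smul_apply, smul_eq_mul, one_mul]; omega
    · omega
    · rintro ⟨_, h⟩
      unfold Mp at h
      rw [p1a, p1b, p11, p12] at h; omega
  refine finrank_of_classifier hI _ (d := 2)
    ![(1 : ℤ) • ev a + (1 : ℤ) • ev z, (q : ℤ) • ev b + (1 : ℤ) • ev z] (cA2 a) ?_ ?_ ?_ ?_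
  · intro t
    match t with
    | ⟨0, _⟩ =>
      refine ⟨hp0, nonneg_pt2 (by omega) (by omega) _ _, ?_⟩
      show cA2 a ((1 : ℤ) • ev a + (1 : ℤ) • ev z) = 0
      unfold cA2
      rw [if_pos (by rw [p0a]; omega)]
    | ⟨1, _⟩ =>
      refine ⟨hp1, nonneg_pt2 hq0 (by omega) _ _, ?_⟩
      show cA2 a ((q : ℤ) • ev b + (1 : ℤ) • ev z) = 1
      unfold cA2
      rw [if_neg (by rw [p1a]; omega)]
  · intro γ hγ i hγi hnni
    by_contra hneg
    obtain ⟨hi1, hi2⟩ := step_neg hnni hneg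
    rw [region_iff hM, αa, αb, α1, α2] at hγ hγi
    obtain ⟨g1, g2, _⟩ := hγ
    have g1i := g1 i
    apply hγi.2.2
    refine ⟨hnni, ?_⟩
    unfold Mp
    rcases hc.step γ i with ⟨h, _⟩ | ⟨h, _⟩ | ⟨h, _⟩ | ⟨h, s1, s2, s3, s4⟩ | ⟨h, _⟩
    · exfalso; have := αl i (by rw [h]; exact mj1.symm); omega
    · exfalso; have := αl i (by rw [h]; exact mj2.symm); omega
    · exfalso; have := αl i (by rw [h]; exact mj3.symm); omega
    · omega
    · exfalso; have := αl i (fun e => mj4 (e ▸ h)); omega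
  · intro γ hγ i hγi hγn
    have hA := hγn a
    have hB := hγn b
    have h1 := fs_nonneg M1 hγn
    have h2 := fs_nonneg M2 hγn
    rw [region_iff hM, αa, αb, α1, α2] at hγ hγi
    obtain ⟨g1, g2, g3⟩ := hγ
    have g3i : ¬ Mp a b M1 M2 q (γ + ev i) := fun h => hγi.2.2 ⟨nonneg_add hγn (nonneg_ev i), h⟩
    unfold Mp at g3i
    unfold cA2
    rcases hc.step γ i with ⟨h, s1, s2, s3, s4⟩ | ⟨h, s1, _⟩ | ⟨h, s1, _⟩ | ⟨h, s1, _⟩ | ⟨h, s1, _⟩
    · have h1' : 1 ≤ γ a := by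
        by_contra hcon
        omega
      rw [if_pos h1', if_pos (by omega)]
    · rw [s1]
    · rw [s1]
    · rw [s1]
    · rw [s1]
  · intro φ hφ γ hγ hγn
    have hγ' := hγ
    rw [region_iff hM, αa, αb, α1, α2] at hγ'
    obtain ⟨g1, g2, g3⟩ := hγ'
    have hz := g1 z
    rw [αz] at hz
    unfold cA2
    by_cases h1 : 1 ≤ γ a
    · rw [if_pos h1]
      show cf I _ φ γ = cf I _ φ ((1 : ℤ) • ev a + (1 : ℤ) • ev z)
      exact (cf_le hI hφ hp0 hγ (pt2_le hγn hc.haz h1 hz)).symm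
    · rw [if_neg h1]
      show cf I _ φ γ = cf I _ φ ((q : ℤ) • ev b + (1 : ℤ) • ev z)
      exact (cf_le hI hφ hp1 hγ (pt2_le hγn hc.hbz (by omega) hz)).symm

/-! ### Family 7: `α = e_j' - e_j`, `j ∈ M1`, `j' ∈ M2` -/

include hc hI hM hq in
theorem fam7 {j j' : Fin n} (hj : j ∈ M1) (hj' : j' ∈ M2) :
    Module.finrank k ↥(tPiece I (ev j' - ev j)) = 1 ∧
      Module.Finite k ↥(tPiece I (ev j' - ev j)) := by
  obtain ⟨b1, b2, b3, b4, b5⟩ := hc.cB
  obtain ⟨ja, jb, jz, jm1, jm2⟩ := hc.c1 hj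
  obtain ⟨ka, kb, kz, km1, km2⟩ := hc.c2 hj'
  obtain ⟨mj1, mj2, mj3, mj4⟩ := hc.ne1 hj
  obtain ⟨mk1, mk2, mk3, mk4⟩ := hc.ne2 hj'
  have hjj' : j' ≠ j := fun e => mj4 (e ▸ hj')
  have hq0 : (0 : ℤ) ≤ (q : ℤ) := Int.natCast_nonneg q
  have αa : (ev j' - ev j) a = 0 := by simp only [Pi.sub_apply, ka, ja]; omega
  have αb : (ev j' - ev j) b = 0 := by simp only [Pi.sub_apply, kb, jb]; omega
  have αk : (ev j' - ev j) j' = 1 := by simp only [Pi.sub_apply, ev_same, ev_ne hjj']; omega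
  have α1 : fs M1 (ev j' - ev j) = -1 := by rw [fs_sub, km1, jm1]; omega
  have α2 : fs M2 (ev j' - ev j) = 1 := by rw [fs_sub, km2, jm2]; omega
  have αl : ∀ l, l ≠ j → 0 ≤ (ev j' - ev j) l := by
    intro l hl
    have := nonneg_ev j' l
    simp only [Pi.sub_apply, ev_ne hl]; omega
  obtain ⟨pa, pb, p1, p2⟩ := co2 a b M1 M2 (q : ℤ) 1 b j'
  rw [b1, ka] at pa; rw [b2, kb] at pb; rw [b4, km1] at p1; rw [b5, km2] at p2
  have hp : (q : ℤ) • ev b + (1 : ℤ) • ev j' ∈ region I (ev j' - ev j) := by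
    rw [region_iff hM, αa, αb, α1, α2, pa, pb, p1, p2]
    refine ⟨fun l => ?_, ?_, ?_⟩
    · have := nonneg_ev j l
      have := mul_ev_nonneg hq0 b l
      simp only [Pi.sub_apply, Pi.add_apply, Pi.smul_apply, smul_eq_mul, one_mul]; omega
    · omega
    · rintro ⟨_, h⟩
      unfold Mp at h
      rw [pa, pb, p1, p2] at h; omega
  refine finrank_of_classifier hI _ (d := 1) (fun _ => (q : ℤ) • ev b + (1 : ℤ) • ev j')
    (fun _ => 0) ?_ ?_ ?_ ?_
  · intro t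
    exact ⟨hp, nonneg_pt2 hq0 (by omega) _ _, Subsingleton.elim _ _⟩
  · intro γ hγ i hγi hnni
    by_contra hneg
    obtain ⟨hi1, hi2⟩ := step_neg hnni hneg
    rw [region_iff hM, αa, αb, α1, α2] at hγ hγi
    obtain ⟨g1, g2, _⟩ := hγ
    have g1i := g1 i
    apply hγi.2.2
    refine ⟨hnni, ?_⟩
    unfold Mp
    rcases hc.step γ i with ⟨h, _⟩ | ⟨h, _⟩ | ⟨h, _⟩ | ⟨h, s1, s2, s3, s4⟩ | ⟨h, _⟩
    · exfalso; have := αl i (by rw [h]; exact mj1.symm); omega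
    · exfalso; have := αl i (by rw [h]; exact mj2.symm); omega
    · exfalso; have := αl i (by rw [h]; exact mj3.symm); omega
    · omega
    · exfalso; have := αl i (fun e => mj4 (e ▸ h)); omega
  · intro γ _ i _ _
    exact Subsingleton.elim _ _
  · intro φ hφ γ hγ hγn
    have hγ' := hγ
    rw [region_iff hM, αa, αb, α1, α2] at hγ'
    obtain ⟨g1, g2, g3⟩ := hγ'
    have g3' : ¬ Mp a b M1 M2 q γ := fun h => g3 ⟨hγn, h⟩
    unfold Mp at g3'
    have g1k := g1 j'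
    rw [αk] at g1k
    have hA := hγn a
    have hB := hγn b
    have h1 := fs_nonneg M1 hγn
    have h2 := le_fs hγn hj'
    exact (cf_le hI hφ hp hγ (pt2_le hγn mk2.symm (by omega) g1k)).symm

/-! ### Family 8: `α = e_z - e_j`, `j ∈ M2` -/

include hc hI hM hq in
theorem fam8 {j : Fin n} (hj : j ∈ M2) :
    Module.finrank k ↥(tPiece I (ev z - ev j)) = 1 ∧
      Module.Finite k ↥(tPiece I (ev z - ev j)) := by
  obtain ⟨a1, a2, a3, a4, a5⟩ := hc.cA
  obtain ⟨z1, z2, z3, z4, z5⟩ := hc.cZ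
  obtain ⟨ja, jb, jz, jm1, jm2⟩ := hc.c2 hj
  obtain ⟨mj1, mj2, mj3, mj4⟩ := hc.ne2 hj
  have hq1 : (1 : ℤ) ≤ (q : ℤ) := by exact_mod_cast hq
  have αa : (ev z - ev j) a = 0 := by simp only [Pi.sub_apply, z1, ja]; omega
  have αb : (ev z - ev j) b = 0 := by simp only [Pi.sub_apply, z2, jb]; omega
  have αz : (ev z - ev j) z = 1 := by simp only [Pi.sub_apply, z3, jz]; omega
  have α1 : fs M1 (ev z - ev j) = 0 := by rw [fs_sub, z4, jm1]; omega
  have α2 : fs M2 (ev z - ev j) = -1 := by rw [fs_sub, z5, jm2]; omega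
  have αl : ∀ l, l ≠ j → 0 ≤ (ev z - ev j) l := by
    intro l hl
    have := nonneg_ev z l
    simp only [Pi.sub_apply, ev_ne hl]; omega
  obtain ⟨pa, pb, p1, p2⟩ := co2 a b M1 M2 1 1 a z
  rw [a1, z1] at pa; rw [a2, z2] at pb; rw [a4, z4] at p1; rw [a5, z5] at p2
  have hp : (1 : ℤ) • ev a + (1 : ℤ) • ev z ∈ region I (ev z - ev j) := by
    rw [region_iff hM, αa, αb, α1, α2, pa, pb, p1, p2]
    refine ⟨fun l => ?_, ?_, ?_⟩
    · have := nonneg_ev a l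
      have := nonneg_ev j l
      simp only [Pi.sub_apply, Pi.add_apply, Pi.smul_apply, smul_eq_mul, one_mul]; omega
    · omega
    · rintro ⟨_, h⟩
      unfold Mp at h
      rw [pa, pb, p1, p2] at h; omega
  refine finrank_of_classifier hI _ (d := 1) (fun _ => (1 : ℤ) • ev a + (1 : ℤ) • ev z)
    (fun _ => 0) ?_ ?_ ?_ ?_
  · intro t
    exact ⟨hp, nonneg_pt2 (by omega) (by omega) _ _, Subsingleton.elim _ _⟩
  · intro γ hγ i hγi hnni
    by_contra hneg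
    obtain ⟨hi1, hi2⟩ := step_neg hnni hneg
    rw [region_iff hM, αa, αb, α1, α2] at hγ hγi
    obtain ⟨g1, g2, _⟩ := hγ
    have g1i := g1 i
    apply hγi.2.2
    refine ⟨hnni, ?_⟩
    unfold Mp
    rcases hc.step γ i with ⟨h, _⟩ | ⟨h, _⟩ | ⟨h, _⟩ | ⟨h, _⟩ | ⟨h, s1, s2, s3, s4⟩
    · exfalso; have := αl i (by rw [h]; exact mj1.symm); omega
    · exfalso; have := αl i (by rw [h]; exact mj2.symm); omega
    · exfalso; have := αl i (by rw [h]; exact mj3.symm); omega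
    · exfalso; have := αl i (fun e => mj4 (e ▸ h)); omega
    · omega
  · intro γ _ i _ _
    exact Subsingleton.elim _ _
  · intro φ hφ γ hγ hγn
    have hγ' := hγ
    rw [region_iff hM, αa, αb, α1, α2] at hγ'
    obtain ⟨g1, g2, g3⟩ := hγ'
    have g3' : ¬ Mp a b M1 M2 q γ := fun h => g3 ⟨hγn, h⟩
    unfold Mp at g3'
    have hz := g1 z
    rw [αz] at hz
    exact (cf_le hI hφ hp hγ (pt2_le hγn hc.haz (by omega) hz)).symm

end Groth.Agent.Lib.Helper71.TgtTB
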