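import Groth.Agent.Lib.Helper71.TgtTB3

/-! Two-block Borel-fixed ideals: families 9-11. (helper71) -/

set_option autoImplicit false
set_option linter.unusedSectionVars false
set_option linter.unusedVariables false

universe u

namespace Groth.Agent.Lib.Helper71.TgtTB

open W4c1hilbpn MvPolynomial Groth.Agent.Lib.Helper44.TgtComp Groth.Agent.Lib.Helper71.TgtGen

variable {k : Type u} [Field k] {n : ℕ}

variable {a b z : Fin n} {M1 M2 : Finset (Fin n)} (hc : Cfg2 a b z M1 M2) {q : ℕ}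
  {I : Ideal (MvPolynomial (Fin n) k)} (hI : IsMonomial I)
  (hM : ∀ β : Fin n →₀ ℕ, β ∈ exps I ↔ Mp a b M1 M2 q (ofN β)) (hq : 1 ≤ q)

/-! ### Family 9: `α = μ - m e_b` -/

include hc hI hM hq in
theorem fam9 {μ : Fin n → ℤ} (hμ : Nonneg μ) (hμa : μ a = 0) (hμb : μ b = 0) {m : ℕ}
    (hm2 : 2 ≤ m) (hmq : m ≤ q) (hμs : fs Finset.univ μ = m) :
    Module.finrank k ↥(tPiece I (μ - (m : ℤ) • ev b)) = 1 ∧
      Module.Finite k ↥(tPiece I (μ - (m : ℤ) • ev b)) := by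
  obtain ⟨b1, b2, b3, b4, b5⟩ := hc.cB
  have hq0 : (0 : ℤ) ≤ (q : ℤ) := Int.natCast_nonneg q
  have hm0 : (0 : ℤ) ≤ (m : ℤ) := Int.natCast_nonneg m
  have hm2' : (2 : ℤ) ≤ (m : ℤ) := by exact_mod_cast hm2
  have hmq' : (m : ℤ) ≤ (q : ℤ) := by exact_mod_cast hmq
  have hu1 := fs_nonneg M1 hμ
  have hu2 := fs_nonneg M2 hμ
  have hμz := hμ z
  have hsum := fs_univ_eq2 hc μ
  rw [hμs, hμa, hμb] at hsum
  have αa : (μ - (m : ℤ) • ev b) a = 0 := by
    simp only [Pi.sub_apply, Pi.smul_apply, smul_eq_mul, b1, hμa]; ring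
  have αb : (μ - (m : ℤ) • ev b) b = -(m : ℤ) := by
    simp only [Pi.sub_apply, Pi.smul_apply, smul_eq_mul, b2, hμb]; ring
  have α1 : fs M1 (μ - (m : ℤ) • ev b) = fs M1 μ := by rw [fs_sub, fs_smul, b4]; ring
  have α2 : fs M2 (μ - (m : ℤ) • ev b) = fs M2 μ := by rw [fs_sub, fs_smul, b5]; ring
  have αl : ∀ l, l ≠ b → (μ - (m : ℤ) • ev b) l = μ l := by
    intro l hl
    simp only [Pi.sub_apply, Pi.smul_apply, smul_eq_mul, ev_ne hl]; ring
  have pa : (((q : ℤ) - m + 1) • ev b + μ) a = 0 := by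
    simp only [Pi.add_apply, Pi.smul_apply, smul_eq_mul, b1, hμa]; ring
  have pb : (((q : ℤ) - m + 1) • ev b + μ) b = (q : ℤ) - m + 1 := by
    simp only [Pi.add_apply, Pi.smul_apply, smul_eq_mul, b2, hμb]; ring
  have p1 : fs M1 (((q : ℤ) - m + 1) • ev b + μ) = fs M1 μ := by
    rw [fs_add, fs_smul, b4]; ring
  have p2 : fs M2 (((q : ℤ) - m + 1) • ev b + μ) = fs M2 μ := by
    rw [fs_add, fs_smul, b5]; ring
  have hpn : Nonneg (((q : ℤ) - m + 1) • ev b + μ) :=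
    nonneg_add (nonneg_smul (by omega) (nonneg_ev _)) hμ
  have hp : ((q : ℤ) - m + 1) • ev b + μ ∈ region I (μ - (m : ℤ) • ev b) := by
    rw [region_iff hM, αa, αb, α1, α2, pa, pb, p1, p2]
    refine ⟨fun l => ?_, ?_, ?_⟩
    · have h1 := mul_ev_nonneg hm0 b l
      have h2 := mul_ev_nonneg (c := (q : ℤ) - m + 1) (by omega) b l
      simp only [Pi.sub_apply, Pi.add_apply, Pi.smul_apply, smul_eq_mul]; omega
    · omega
    · rintro ⟨_, h⟩
      unfold Mp at h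
      rw [pa, pb, p1, p2] at h; omega
  refine finrank_of_good hI _ (d := 1) (fun _ => ((q : ℤ) - m + 1) • ev b + μ)
    (fun _ => 0) (fun γ => Nonneg γ ∧ γ a = 0) (fun γ h => h.1) ?_ ?_ ?_ ?_ ?_
  · intro t
    exact ⟨hp, ⟨hpn, pa⟩, Subsingleton.elim _ _⟩
  · -- good points are closed under steps inside the region
    intro γ hγ i hγi
    rw [region_iff hM, αa, αb, α1, α2] at hγ hγi
    obtain ⟨g1, g2, g3⟩ := hγ
    constructor
    · rintro ⟨hγn, hγa⟩
      refine ⟨nonneg_add hγn (nonneg_ev i), ?_⟩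
      have hB := hγn b
      have h1 := fs_nonneg M1 hγn
      have h2 := fs_nonneg M2 hγn
      have g3i : ¬ Mp a b M1 M2 q (γ + ev i) :=
        fun h => hγi.2.2 ⟨nonneg_add hγn (nonneg_ev i), h⟩
      unfold Mp at g3i
      have hle1 : fs M1 μ ≤ fs M1 γ := by
        rw [← α1]; exact fs_le_fs M1 g1
      rcases hc.step γ i with ⟨h, s1, s2, s3, s4⟩ | ⟨h, s1, _⟩ | ⟨h, s1, _⟩ | ⟨h, s1, _⟩ |
        ⟨h, s1, _⟩
      · exfalso; omega
      · rw [s1]; exact hγa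
      · rw [s1]; exact hγa
      · rw [s1]; exact hγa
      · rw [s1]; exact hγa
    · rintro ⟨hnni, hia⟩
      have hγn : Nonneg γ := by
        by_contra hneg
        obtain ⟨hi1, hi2⟩ := step_neg hnni hneg
        have g1i := g1 i
        rcases hc.step γ i with ⟨h, _⟩ | ⟨h, s1, s2, s3, s4⟩ | ⟨h, _⟩ | ⟨h, _⟩ | ⟨h, _⟩
        · have := hμ i
          rw [αl i (by rw [h]; exact hc.hab)] at g1i; omega
        · rw [h] at hi1
          omega
        · have := hμ i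
          rw [αl i (by rw [h]; exact hc.hbz.symm)] at g1i; omega
        · have := hμ i
          rw [αl i (hc.ne1 h).2.1] at g1i; omega
        · have := hμ i
          rw [αl i (hc.ne2 h).2.1] at g1i; omega
      refine ⟨hγn, ?_⟩
      have hA := hγn a
      rcases hc.step γ i with ⟨h, s1, _⟩ | ⟨h, s1, _⟩ | ⟨h, s1, _⟩ | ⟨h, s1, _⟩ | ⟨h, s1, _⟩
      · omega
      · omega
      · omega
      · omega
      · omega
  · -- bad nonnegative points have vanishing coefficient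
    intro φ hφ γ hγ hγn hbad
    have hγ' := hγ
    rw [region_iff hM, αa, αb, α1, α2] at hγ'
    obtain ⟨g1, g2, g3⟩ := hγ'
    have g3' : ¬ Mp a b M1 M2 q γ := fun h => g3 ⟨hγn, h⟩
    unfold Mp at g3'
    have hA := hγn a
    have hB := hγn b
    have h1 := fs_nonneg M1 hγn
    have h2 := fs_nonneg M2 hγn
    have hA1 : 1 ≤ γ a := by
      by_contra hcon
      exact hbad ⟨hγn, by omega⟩
    have hle1 : fs M1 μ ≤ fs M1 γ := by
      rw [← α1]; exact fs_le_fs M1 g1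
    have hle2 : fs M2 μ ≤ fs M2 γ := by
      rw [← α2]; exact fs_le_fs M2 g1
    have hδn : ¬ Nonneg (γ - ev b) := by
      intro h
      have := h b
      simp only [Pi.sub_apply, b2] at this
      omega
    have hδ : γ - ev b ∈ region I (μ - (m : ℤ) • ev b) := by
      rw [region_iff hM, αa, αb, α1, α2]
      refine ⟨fun l => ?_, ?_, fun h => hδn h.1⟩
      · have := g1 l
        by_cases hl : l = b
        · rw [hl, αb]
          simp only [Pi.sub_apply, b2]; omega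
        · rw [αl l hl] at this ⊢
          simp only [Pi.sub_apply, ev_ne hl]; omega
      · rw [fs_sub, fs_sub, b4, b5]
        simp only [Pi.sub_apply, b1, b2]
        omega
    rw [← cf_le hI hφ hδ hγ (fun l => by
      have := nonneg_ev b l
      simp only [Pi.sub_apply]; omega)]
    exact cf_of_not_nonneg φ hδn
  · intro γ _ i _ _
    exact Subsingleton.elim _ _
  · intro φ hφ γ hγ hgood
    obtain ⟨hγn, hγa⟩ := hgood
    have hγ' := hγ
    rw [region_iff hM, αa, αb, α1, α2] at hγ'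
    obtain ⟨g1, g2, g3⟩ := hγ'
    have hB := hγn b
    by_cases hcase : (q : ℤ) - m + 1 ≤ γ b
    · refine (cf_le hI hφ hp hγ ?_).symm
      intro l
      by_cases hl : l = b
      · rw [hl, pb]; exact hcase
      · have := g1 l
        rw [αl l hl] at this
        simp only [Pi.add_apply, Pi.smul_apply, smul_eq_mul, ev_ne hl, mul_zero, zero_add]
        exact this
    · obtain ⟨s1, s2, s3, s4⟩ := hc.stepB γ
      have hτ : γ + ev b ∈ region I (μ - (m : ℤ) • ev b) := by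
        rw [region_iff hM, αa, αb, α1, α2]
        refine ⟨fun l => le_trans (g1 l) (le_add_ev γ b l), ?_, ?_⟩
        · omega
        · rintro ⟨_, h⟩
          unfold Mp at h
          omega
      refine cf_eq_of_top hI hφ hγ hp hτ (le_add_ev γ b) ?_
      intro l
      by_cases hl : l = b
      · rw [hl, pb, s2]; omega
      · have := g1 l
        rw [αl l hl] at this
        simp only [Pi.add_apply, Pi.smul_apply, smul_eq_mul, ev_ne hl, mul_zero, zero_add,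
          add_zero]
        exact this

/-! ### Family 10: `α = e_a + q e_z - (q+1) e_b` -/

include hc hI hM hq in
theorem fam10 :
    Module.finrank k ↥(tPiece I ((1 : ℤ) • ev a + (q : ℤ) • ev z - ((q : ℤ) + 1) • ev b)) = 1 ∧
      Module.Finite k ↥(tPiece I ((1 : ℤ) • ev a + (q : ℤ) • ev z - ((q : ℤ) + 1) • ev b)) := by
  obtain ⟨a1, a2, a3, a4, a5⟩ := hc.cA
  obtain ⟨b1, b2, b3, b4, b5⟩ := hc.cB
  obtain ⟨z1, z2, z3, z4, z5⟩ := hc.cZ
  have hq0 : (0 : ℤ) ≤ (q : ℤ) := Int.natCast_nonneg q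
  have hq1 : (1 : ℤ) ≤ (q : ℤ) := by exact_mod_cast hq
  have αa : ((1 : ℤ) • ev a + (q : ℤ) • ev z - ((q : ℤ) + 1) • ev b) a = 1 := by
    simp only [Pi.sub_apply, Pi.add_apply, Pi.smul_apply, smul_eq_mul, a1, z1, b1]; ring
  have αb : ((1 : ℤ) • ev a + (q : ℤ) • ev z - ((q : ℤ) + 1) • ev b) b = -((q : ℤ) + 1) := by
    simp only [Pi.sub_apply, Pi.add_apply, Pi.smul_apply, smul_eq_mul, a2, z2, b2]; ring
  have αz : ((1 : ℤ) • ev a + (q : ℤ) • ev z - ((q : ℤ) + 1) • ev b) z = q := by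
    simp only [Pi.sub_apply, Pi.add_apply, Pi.smul_apply, smul_eq_mul, a3, z3, b3]; ring
  have α1 : fs M1 ((1 : ℤ) • ev a + (q : ℤ) • ev z - ((q : ℤ) + 1) • ev b) = 0 := by
    rw [fs_sub, fs_add, fs_smul, fs_smul, fs_smul, a4, z4, b4]; ring
  have α2 : fs M2 ((1 : ℤ) • ev a + (q : ℤ) • ev z - ((q : ℤ) + 1) • ev b) = 0 := by
    rw [fs_sub, fs_add, fs_smul, fs_smul, fs_smul, a5, z5, b5]; ring
  have αl : ∀ l, l ≠ b → 0 ≤ ((1 : ℤ) • ev a + (q : ℤ) • ev z - ((q : ℤ) + 1) • ev b) l := by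
    intro l hl
    have := nonneg_ev a l
    have := mul_ev_nonneg hq0 z l
    simp only [Pi.sub_apply, Pi.add_apply, Pi.smul_apply, smul_eq_mul, ev_ne hl]; omega
  obtain ⟨pa, pb, p1, p2⟩ := co2 a b M1 M2 1 (q : ℤ) a z
  rw [a1, z1] at pa; rw [a2, z2] at pb; rw [a4, z4] at p1; rw [a5, z5] at p2
  have hp : (1 : ℤ) • ev a + (q : ℤ) • ev z ∈
      region I ((1 : ℤ) • ev a + (q : ℤ) • ev z - ((q : ℤ) + 1) • ev b) := by
    rw [region_iff hM, αa, αb, α1, α2, pa, pb, p1, p2]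
    refine ⟨fun l => ?_, ?_, ?_⟩
    · have := mul_ev_nonneg (c := (q : ℤ) + 1) (by omega) b l
      simp only [Pi.sub_apply, Pi.add_apply, Pi.smul_apply, smul_eq_mul]; omega
    · omega
    · rintro ⟨_, h⟩
      unfold Mp at h
      rw [pa, pb, p1, p2] at h; omega
  refine finrank_of_classifier hI _ (d := 1) (fun _ => (1 : ℤ) • ev a + (q : ℤ) • ev z)
    (fun _ => 0) ?_ ?_ ?_ ?_
  · intro t
    exact ⟨hp, nonneg_pt2 (by omega) hq0 _ _, Subsingleton.elim _ _⟩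
  · intro γ hγ i hγi hnni
    by_contra hneg
    obtain ⟨hi1, hi2⟩ := step_neg hnni hneg
    rw [region_iff hM, αa, αb, α1, α2] at hγ hγi
    obtain ⟨g1, g2, _⟩ := hγ
    have g1i := g1 i
    have g1a := g1 a
    rw [αa] at g1a
    have hm1 := fs_nonneg M1 hnni
    have hm2 := fs_nonneg M2 hnni
    apply hγi.2.2
    refine ⟨hnni, ?_⟩
    unfold Mp
    rcases hc.step γ i with ⟨h, _⟩ | ⟨h, s1, s2, s3, s4⟩ | ⟨h, _⟩ | ⟨h, _⟩ | ⟨h, _⟩
    · exfalso; have := αl i (by rw [h]; exact hc.hab); omega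
    · rw [h] at hi1
      omega
    · exfalso; have := αl i (by rw [h]; exact hc.hbz.symm); omega
    · exfalso; have := αl i (hc.ne1 h).2.1; omega
    · exfalso; have := αl i (hc.ne2 h).2.1; omega
  · intro γ _ i _ _
    exact Subsingleton.elim _ _
  · intro φ hφ γ hγ hγn
    have hγ' := hγ
    rw [region_iff hM, αa, αb, α1, α2] at hγ'
    obtain ⟨g1, g2, g3⟩ := hγ'
    have g1a := g1 a
    rw [αa] at g1a
    have g1z := g1 z
    rw [αz] at g1z
    exact (cf_le hI hφ hp hγ (pt2_le hγn hc.haz g1a g1z)).symm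

/-! ### Family 11: `α = e_a + q e_z - q e_b - e_j`, `j ∈ M1` -/

include hc hI hM hq in
theorem fam11 {j : Fin n} (hj : j ∈ M1) :
    Module.finrank k
        ↥(tPiece I ((1 : ℤ) • ev a + (q : ℤ) • ev z - (q : ℤ) • ev b - ev j)) = 1 ∧
      Module.Finite k ↥(tPiece I ((1 : ℤ) • ev a + (q : ℤ) • ev z - (q : ℤ) • ev b - ev j)) := by
  obtain ⟨a1, a2, a3, a4, a5⟩ := hc.cA
  obtain ⟨b1, b2, b3, b4, b5⟩ := hc.cB
  obtain ⟨z1, z2, z3, z4, z5⟩ := hc.cZ
  obtain ⟨ja, jb, jz, jm1, jm2⟩ := hc.c1 hj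
  obtain ⟨mj1, mj2, mj3, mj4⟩ := hc.ne1 hj
  have hq0 : (0 : ℤ) ≤ (q : ℤ) := Int.natCast_nonneg q
  have hq1 : (1 : ℤ) ≤ (q : ℤ) := by exact_mod_cast hq
  have αa : ((1 : ℤ) • ev a + (q : ℤ) • ev z - (q : ℤ) • ev b - ev j) a = 1 := by
    simp only [Pi.sub_apply, Pi.add_apply, Pi.smul_apply, smul_eq_mul, a1, z1, b1, ja]; ring
  have αb : ((1 : ℤ) • ev a + (q : ℤ) • ev z - (q : ℤ) • ev b - ev j) b = -(q : ℤ) := by
    simp only [Pi.sub_apply, Pi.add_apply, Pi.smul_apply, smul_eq_mul, a2, z2, b2, jb]; ring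
  have αz : ((1 : ℤ) • ev a + (q : ℤ) • ev z - (q : ℤ) • ev b - ev j) z = q := by
    simp only [Pi.sub_apply, Pi.add_apply, Pi.smul_apply, smul_eq_mul, a3, z3, b3, jz]; ring
  have α1 : fs M1 ((1 : ℤ) • ev a + (q : ℤ) • ev z - (q : ℤ) • ev b - ev j) = -1 := by
    rw [fs_sub, fs_sub, fs_add, fs_smul, fs_smul, fs_smul, a4, z4, b4, jm1]; ring
  have α2 : fs M2 ((1 : ℤ) • ev a + (q : ℤ) • ev z - (q : ℤ) • ev b - ev j) = 0 := by
    rw [fs_sub, fs_sub, fs_add, fs_smul, fs_smul, fs_smul, a5, z5, b5, jm2]; ring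
  have αl : ∀ l, l ≠ b → l ≠ j →
      0 ≤ ((1 : ℤ) • ev a + (q : ℤ) • ev z - (q : ℤ) • ev b - ev j) l := by
    intro l hl hl'
    have := nonneg_ev a l
    have := mul_ev_nonneg hq0 z l
    simp only [Pi.sub_apply, Pi.add_apply, Pi.smul_apply, smul_eq_mul, ev_ne hl, ev_ne hl']
    omega
  obtain ⟨pa, pb, p1, p2⟩ := co2 a b M1 M2 1 (q : ℤ) a z
  rw [a1, z1] at pa; rw [a2, z2] at pb; rw [a4, z4] at p1; rw [a5, z5] at p2
  have hp : (1 : ℤ) • ev a + (q : ℤ) • ev z ∈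
      region I ((1 : ℤ) • ev a + (q : ℤ) • ev z - (q : ℤ) • ev b - ev j) := by
    rw [region_iff hM, αa, αb, α1, α2, pa, pb, p1, p2]
    refine ⟨fun l => ?_, ?_, ?_⟩
    · have := mul_ev_nonneg hq0 b l
      have := nonneg_ev j l
      simp only [Pi.sub_apply, Pi.add_apply, Pi.smul_apply, smul_eq_mul]; omega
    · omega
    · rintro ⟨_, h⟩
      unfold Mp at h
      rw [pa, pb, p1, p2] at h; omega
  refine finrank_of_classifier hI _ (d := 1) (fun _ => (1 : ℤ) • ev a + (q : ℤ) • ev z)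
    (fun _ => 0) ?_ ?_ ?_ ?_
  · intro t
    exact ⟨hp, nonneg_pt2 (by omega) hq0 _ _, Subsingleton.elim _ _⟩
  · intro γ hγ i hγi hnni
    by_contra hneg
    obtain ⟨hi1, hi2⟩ := step_neg hnni hneg
    rw [region_iff hM, αa, αb, α1, α2] at hγ hγi
    obtain ⟨g1, g2, _⟩ := hγ
    have g1i := g1 i
    have g1a := g1 a
    rw [αa] at g1a
    have hm1 := fs_nonneg M1 hnni
    have hm2 := fs_nonneg M2 hnni
    apply hγi.2.2
    refine ⟨hnni, ?_⟩
    unfold Mp
    rcases hc.step γ i with ⟨h, _⟩ | ⟨h, s1, s2, s3, s4⟩ | ⟨h, _⟩ | ⟨h, s1, s2, s3, s4⟩ | ⟨h, _⟩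
    · exfalso; have := αl i (by rw [h]; exact hc.hab) (by rw [h]; exact mj1.symm); omega
    · rw [h] at hi1
      omega
    · exfalso; have := αl i (by rw [h]; exact hc.hbz.symm) (by rw [h]; exact mj3.symm); omega
    · have hB := hi2 b (hc.ne1 h).2.1.symm
      omega
    · exfalso; have := αl i (hc.ne2 h).2.1 (fun e => mj4 (e ▸ h)); omega
  · intro γ _ i _ _
    exact Subsingleton.elim _ _
  · intro φ hφ γ hγ hγn
    have hγ' := hγ
    rw [region_iff hM, αa, αb, α1, α2] at hγ'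
    obtain ⟨g1, g2, g3⟩ := hγ'
    have g1a := g1 a
    rw [αa] at g1a
    have g1z := g1 z
    rw [αz] at g1z
    exact (cf_le hI hφ hp hγ (pt2_le hγn hc.haz g1a g1z)).symm

end Groth.Agent.Lib.Helper71.TgtTB
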