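import Groth.Agent.Lib.Helper71.TgtTB4

/-! Two-block Borel-fixed ideals: generators and vanishing of all other pieces. (helper71) -/

set_option autoImplicit false
set_option linter.unusedSectionVars false
set_option linter.unusedVariables false

universe u

namespace Groth.Agent.Lib.Helper71.TgtTB

open W4c1hilbpn MvPolynomial Groth.Agent.Lib.Helper44.TgtComp Groth.Agent.Lib.Helper71.TgtGen

variable {k : Type u} [Field k] {n : ℕ}

/-- the generators -/
def gens (a b : Fin n) (M1 M2 : Finset (Fin n)) (q : ℕ) : Set (Fin n →₀ ℕ) :=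
  {g | (∃ i, (i = a ∨ i = b ∨ i ∈ M1 ∨ i ∈ M2) ∧ g = Finsupp.single a 1 + Finsupp.single i 1) ∨
    (∃ i, (i = b ∨ i ∈ M1) ∧ g = Finsupp.single b q + Finsupp.single i 1)}

/-- the list of degrees with nonzero graded piece -/
inductive InList (a b z : Fin n) (M1 M2 : Finset (Fin n)) (q : ℕ) : (Fin n → ℤ) → Prop
  | f1 : InList a b z M1 M2 q (ev z - ev a)
  | f2 (j : Fin n) (hj : j = b ∨ j ∈ M1 ∨ j ∈ M2) : InList a b z M1 M2 q (ev j - ev a)
  | f3 : InList a b z M1 M2 q (ev z - ev b)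
  | f4 (j : Fin n) (hj : j ∈ M2) : InList a b z M1 M2 q (ev j - ev b)
  | f5 (j : Fin n) (hj : j ∈ M1) : InList a b z M1 M2 q (ev j - ev b)
  | f6 (j : Fin n) (hj : j ∈ M1) : InList a b z M1 M2 q (ev z - ev j)
  | f7 (j j' : Fin n) (hj : j ∈ M1) (hj' : j' ∈ M2) : InList a b z M1 M2 q (ev j' - ev j)
  | f8 (j : Fin n) (hj : j ∈ M2) : InList a b z M1 M2 q (ev z - ev j)
  | f9 (μ : Fin n → ℤ) (m : ℕ) (hμ : Nonneg μ) (hμa : μ a = 0) (hμb : μ b = 0) (hm2 : 2 ≤ m)
      (hmq : m ≤ q) (hμs : fs Finset.univ μ = m) : InList a b z M1 M2 q (μ - (m : ℤ) • ev b)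
  | f10 : InList a b z M1 M2 q ((1 : ℤ) • ev a + (q : ℤ) • ev z - ((q : ℤ) + 1) • ev b)
  | f11 (j : Fin n) (hj : j ∈ M1) :
      InList a b z M1 M2 q ((1 : ℤ) • ev a + (q : ℤ) • ev z - (q : ℤ) • ev b - ev j)

variable {a b z : Fin n} {M1 M2 : Finset (Fin n)} (hc : Cfg2 a b z M1 M2) {q : ℕ}
  {I : Ideal (MvPolynomial (Fin n) k)} (hI : IsMonomial I)
  (hM : ∀ β : Fin n →₀ ℕ, β ∈ exps I ↔ Mp a b M1 M2 q (ofN β)) (hq : 1 ≤ q)

include hc in
theorem gens_iff (β : Fin n →₀ ℕ) :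
    (∃ g ∈ gens a b M1 M2 q, g ≤ β) ↔ Mp a b M1 M2 q (ofN β) := by
  unfold Mp
  simp only [ofN_apply]
  have hm1 := fs_nonneg M1 (nonneg_ofN β)
  have hm2 := fs_nonneg M2 (nonneg_ofN β)
  constructor
  · rintro ⟨g, hg, hle⟩
    rcases hg with ⟨i, hi, rfl⟩ | ⟨i, hi, rfl⟩
    · left
      have h1 := hle a
      have h2 := hle i
      simp only [Finsupp.add_apply, Finsupp.single_apply, if_true] at h1 h2
      rcases hi with rfl | rfl | hi | hi
      · simp only [if_true] at h1; omega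
      · rw [if_neg hc.hab.symm] at h1; rw [if_neg hc.hab] at h2; omega
      · have := le_fs (nonneg_ofN β) hi
        simp only [ofN_apply] at this
        rw [if_neg (hc.ne1 hi).1] at h1; omega
      · have := le_fs (nonneg_ofN β) hi
        simp only [ofN_apply] at this
        rw [if_neg (hc.ne2 hi).1] at h1; omega
    · right
      have h1 := hle b
      have h2 := hle i
      simp only [Finsupp.add_apply, Finsupp.single_apply, if_true] at h1 h2
      rcases hi with rfl | hi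
      · simp only [if_true] at h1; omega
      · have := le_fs (nonneg_ofN β) hi
        simp only [ofN_apply] at this
        rw [if_neg (hc.ne1 hi).2.1] at h1; omega
  · rintro (⟨h1, h2⟩ | ⟨h1, h2⟩)
    · by_cases ha2 : 2 ≤ β a
      · exact ⟨_, Or.inl ⟨a, Or.inl rfl, rfl⟩, two_single_le ha2⟩
      · by_cases hb : 1 ≤ β b
        · exact ⟨_, Or.inl ⟨b, Or.inr (Or.inl rfl), rfl⟩,
            pair_single_le hc.hab (by omega) hb⟩
        · by_cases hm : 1 ≤ fs M1 (ofN β)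
          · obtain ⟨j, hj, hj1⟩ := (fs_pos_iff (nonneg_ofN β)).mp hm
            simp only [ofN_apply] at hj1
            exact ⟨_, Or.inl ⟨j, Or.inr (Or.inr (Or.inl hj)), rfl⟩,
              pair_single_le (hc.ne1 hj).1.symm (by omega) (by omega)⟩
          · have hm' : 1 ≤ fs M2 (ofN β) := by omega
            obtain ⟨j, hj, hj1⟩ := (fs_pos_iff (nonneg_ofN β)).mp hm'
            simp only [ofN_apply] at hj1
            exact ⟨_, Or.inl ⟨j, Or.inr (Or.inr (Or.inr hj)), rfl⟩,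
              pair_single_le (hc.ne2 hj).1.symm (by omega) (by omega)⟩
    · by_cases hb : q + 1 ≤ β b
      · exact ⟨_, Or.inr ⟨b, Or.inl rfl, rfl⟩, qtwo_single_le hb⟩
      · have hm : 1 ≤ fs M1 (ofN β) := by omega
        obtain ⟨j, hj, hj1⟩ := (fs_pos_iff (nonneg_ofN β)).mp hm
        simp only [ofN_apply] at hj1
        exact ⟨_, Or.inr ⟨j, Or.inr hj, rfl⟩,
          qpair_single_le (hc.ne1 hj).2.1.symm (by omega) (by omega)⟩

include hc in
/-- a nonnegative vector without `M1`- and `M2`-entries -/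
theorem vec_eq3 {γ : Fin n → ℤ} (hγ : Nonneg γ) (h1 : fs M1 γ = 0) (h2 : fs M2 γ = 0) :
    γ = (γ a) • ev a + (γ b) • ev b + (γ z) • ev z := by
  obtain ⟨a1, a2, a3, a4, a5⟩ := hc.cA
  obtain ⟨b1, b2, b3, b4, b5⟩ := hc.cB
  obtain ⟨z1, z2, z3, z4, z5⟩ := hc.cZ
  funext l
  simp only [Pi.add_apply, Pi.smul_apply, smul_eq_mul]
  rcases hc.hall l with h | h | h | h | h
  · rw [h, a1, b1, z1]; ring
  · rw [h, a2, b2, z2]; ring
  · rw [h, a3, b3, z3]; ring
  · obtain ⟨e1, e2, e3, _⟩ := hc.ne1 h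
    rw [eq_zero_of_fs_eq_zero hγ h1 h, ev_ne e1, ev_ne e2, ev_ne e3]; ring
  · obtain ⟨e1, e2, e3, _⟩ := hc.ne2 h
    rw [eq_zero_of_fs_eq_zero hγ h2 h, ev_ne e1, ev_ne e2, ev_ne e3]; ring

include hc in
/-- removing the `b`-entry -/
theorem strip_b {γ : Fin n → ℤ} (hγ : Nonneg γ) :
    Nonneg (γ - (γ b) • ev b) ∧ (γ - (γ b) • ev b) a = γ a ∧ (γ - (γ b) • ev b) b = 0 ∧
      fs M1 (γ - (γ b) • ev b) = fs M1 γ ∧ fs M2 (γ - (γ b) • ev b) = fs M2 γ ∧
      fs Finset.univ (γ - (γ b) • ev b) = fs Finset.univ γ - γ b := by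
  obtain ⟨b1, b2, b3, b4, b5⟩ := hc.cB
  refine ⟨?_, ?_, ?_, ?_, ?_, ?_⟩
  · intro l
    have := hγ l
    simp only [Pi.sub_apply, Pi.smul_apply, smul_eq_mul]
    by_cases hl : l = b
    · rw [hl, b2]; omega
    · rw [ev_ne hl]; omega
  · simp only [Pi.sub_apply, Pi.smul_apply, smul_eq_mul, b1]; ring
  · simp only [Pi.sub_apply, Pi.smul_apply, smul_eq_mul, b2]; ring
  · rw [fs_sub, fs_smul, b4]; ring
  · rw [fs_sub, fs_smul, b5]; ring
  · rw [fs_sub, fs_smul, fs_univ_ev]; ring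

include hc in
/-- a unit vector without `a`-, `b`-entries -/
theorem ev_cases {μ : Fin n → ℤ} {s : Fin n} (hs : μ = ev s) (hμa : μ a = 0) (hμb : μ b = 0) :
    s = z ∨ s ∈ M1 ∨ s ∈ M2 := by
  rcases hc.hall s with h | h | h | h | h
  · exfalso; rw [hs, h, ev_same] at hμa; omega
  · exfalso; rw [hs, h, ev_same] at hμb; omega
  · exact Or.inl h
  · exact Or.inr (Or.inl h)
  · exact Or.inr (Or.inr h)

end Groth.Agent.Lib.Helper71.TgtTB
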