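import Groth.Agent.Lib.Helper71.TgtTB5

/-! Two-block Borel-fixed ideals: the vanishing theorem. (helper71) -/

set_option autoImplicit false
set_option linter.unusedSectionVars false
set_option linter.unusedVariables false

universe u

namespace Groth.Agent.Lib.Helper71.TgtTB

open W4c1hilbpn MvPolynomial Groth.Agent.Lib.Helper44.TgtComp Groth.Agent.Lib.Helper71.TgtGen

variable {k : Type u} [Field k] {n : ℕ}

variable {a b z : Fin n} {M1 M2 : Finset (Fin n)} (hc : Cfg2 a b z M1 M2) {q : ℕ}
  {I : Ideal (MvPolynomial (Fin n) k)} (hI : IsMonomial I)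
  (hM : ∀ β : Fin n →₀ ℕ, β ∈ exps I ↔ Mp a b M1 M2 q (ofN β)) (hq : 1 ≤ q)

include hc in
theorem Mp_a_m2 {j : Fin n} (hj : j ∈ M2) : Mp a b M1 M2 q (ev a + ev j) := by
  obtain ⟨a1, a2, a3, a4, a5⟩ := hc.cA
  obtain ⟨j1, j2, j3, j4, j5⟩ := hc.c2 hj
  unfold Mp
  left
  rw [fs_add, fs_add, a4, a5, j4, j5]
  simp only [Pi.add_apply, a1, a2, j1, j2]
  omega

include hc in
theorem Mp_a_b : Mp a b M1 M2 q (ev a + ev b) := by
  obtain ⟨a1, a2, a3, a4, a5⟩ := hc.cA
  obtain ⟨j1, j2, j3, j4, j5⟩ := hc.cB
  unfold Mp
  left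
  rw [fs_add, fs_add, a4, a5, j4, j5]
  simp only [Pi.add_apply, a1, a2, j1, j2]
  omega

include hc in
theorem Mp_qb_m1 {j : Fin n} (hj : j ∈ M1) : Mp a b M1 M2 q ((q : ℤ) • ev b + ev j) := by
  obtain ⟨a1, a2, a3, a4, a5⟩ := hc.cB
  obtain ⟨j1, j2, j3, j4, j5⟩ := hc.c1 hj
  unfold Mp
  right
  rw [fs_add, fs_smul, a4, j4]
  simp only [Pi.add_apply, Pi.smul_apply, smul_eq_mul, a2, j2]
  omega

include hc in
theorem Mp_qb_b : Mp a b M1 M2 q ((q : ℤ) • ev b + ev b) := by
  obtain ⟨a1, a2, a3, a4, a5⟩ := hc.cB
  unfold Mp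
  right
  rw [fs_add, fs_smul, a4]
  simp only [Pi.add_apply, Pi.smul_apply, smul_eq_mul, a2]
  omega

include hc hI hM hq in
theorem vanish (hr : 2 ≤ M2.card ∨ 3 ≤ q) {α : Fin n → ℤ} (hα : fs Finset.univ α = 0)
    {φ : Tgt I} (hφ : φ ∈ tPiece I α) (hne : φ ≠ 0) {j1 j2 : Fin n} (hj1 : j1 ∈ M1)
    (hj2 : j2 ∈ M2) : InList a b z M1 M2 q α := by
  obtain ⟨a1, a2, a3, a4, a5⟩ := hc.cA
  obtain ⟨b1, b2, b3, b4, b5⟩ := hc.cB
  obtain ⟨z1, z2, z3, z4, z5⟩ := hc.cZ
  have hq1 : (1 : ℤ) ≤ (q : ℤ) := by exact_mod_cast hq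
  have hG : ∀ β, β ∈ exps I ↔ ∃ g ∈ gens a b M1 M2 q, g ≤ β :=
    fun β => (hM β).trans (gens_iff hc β).symm
  have hex2 : ∃ g ∈ gens a b M1 M2 q, Nonneg (ofN g + α) ∧ toN (ofN g + α) ∉ exps I ∧
      cf I α φ (ofN g + α) ≠ 0 := by
    by_contra hcon
    push Not at hcon
    exact hne (eq_zero_of_gens hI hG hφ hcon)
  obtain ⟨g, hg, hnn, hout, hcf⟩ := hex2
  have hgI : g ∈ exps I := (hG g).mpr ⟨g, hg, le_refl _⟩
  have hγr : ofN g + α ∈ region I α := mem_region_of hgI (fun h => hout h.2)
  rw [toN_mem_iff (M := Mp a b M1 M2 q) hM hnn] at hout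
  unfold Mp at hout
  rcases hg with ⟨i, hi, rfl⟩ | ⟨i, hi | hi, rfl⟩
  · ---------------- type I : g = e_a + e_i
    rw [ofN_add, ofN_single, ofN_single] at hnn hout hcf hγr
    have hA := hnn a
    have hB := hnn b
    have hZ := hnn z
    have hm1 := fs_nonneg M1 hnn
    have hm2 := fs_nonneg M2 hnn
    have hsum : fs Finset.univ (ev a + ev i + α) = 2 := by
      rw [fs_add, fs_add, fs_univ_ev, fs_univ_ev, hα]; omega
    have hsum' := hsum
    rw [fs_univ_eq2 hc] at hsum'
    by_cases hA1 : 1 ≤ (ev a + ev i + α) a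
    · have e1 : fs M1 (ev a + ev i + α) = 0 := by omega
      have e2 : fs M2 (ev a + ev i + α) = 0 := by omega
      have ea : (ev a + ev i + α) a = 1 := by omega
      have eb : (ev a + ev i + α) b = 0 := by omega
      have ez : (ev a + ev i + α) z = 1 := by omega
      have hγeq := vec_eq3 hc hnn e1 e2
      rw [ea, eb, ez] at hγeq
      have hαeq : α = ev z - ev i := by
        have : α = (ev a + ev i + α) - ev a - ev i := by abel
        rw [this, hγeq, one_smul, zero_smul, one_smul]; abel
      rw [hαeq]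
      rcases hi with rfl | rfl | hi | hi
      · exact InList.f1
      · exact InList.f3
      · exact InList.f6 i hi
      · exact InList.f8 i hi
    · have hA0 : (ev a + ev i + α) a = 0 := by omega
      by_cases hia : i = a
      · exfalso
        apply hcf
        have e : ev a + ev i + α + ev j2 - ev a - α = ev i + ev j2 := by abel
        obtain ⟨s1, s2, s3, s4⟩ := hc.step2 hj2 (ev a + ev i + α)
        refine kill_gen hI hM hφ hγr (p := j2) (i := a) ?_ hA0 (hc.ne2 hj2).1 ?_ ?_
        · unfold Mp; omega
        · rw [e]; exact nonneg_add (nonneg_ev _) (nonneg_ev _)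
        · rw [e, hia]; exact Mp_a_m2 hc hj2
      · have hi' : i = b ∨ i ∈ M1 ∨ i ∈ M2 := by
          rcases hi with h | h | h | h
          · exact absurd h hia
          · exact Or.inl h
          · exact Or.inr (Or.inl h)
          · exact Or.inr (Or.inr h)
        by_cases hγi : 1 ≤ (ev a + ev i + α) i
        · obtain ⟨s, hs⟩ := eq_ev_add_of_sum_two hnn hsum hγi
          have hαeq : α = ev s - ev a := by
            have : α = (ev a + ev i + α) - ev a - ev i := by abel
            rw [this, hs]; abel
          have hsa : s ≠ a := by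
            intro h
            rw [hs, h] at hA0
            have := nonneg_ev i a
            simp only [Pi.add_apply, ev_same] at hA0
            omega
          rw [hαeq]
          rcases hc.hall s with h | h | h | h | h
          · exact absurd h hsa
          · exact InList.f2 s (Or.inl h)
          · rw [h]; exact InList.f1
          · exact InList.f2 s (Or.inr (Or.inl h))
          · exact InList.f2 s (Or.inr (Or.inr h))
        · have hγi0 : (ev a + ev i + α) i = 0 := by
            have := hnn i
            omega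
          exfalso
          apply hcf
          by_cases hex : ∃ j', j' ∈ M2 ∧ j' ≠ i
          · obtain ⟨j', hj', hj'i⟩ := hex
            have e : ev a + ev i + α + ev j' - ev i - α = ev a + ev j' := by abel
            obtain ⟨s1, s2, s3, s4⟩ := hc.step2 hj' (ev a + ev i + α)
            refine kill_gen hI hM hφ hγr (p := j') (i := i) ?_ hγi0 hj'i ?_ ?_
            · unfold Mp; omega
            · rw [e]; exact nonneg_add (nonneg_ev _) (nonneg_ev _)
            · rw [e]; exact Mp_a_m2 hc hj'
          · push Not at hex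
            have hij2 : j2 = i := hex j2 hj2
            have hcard : M2.card ≤ 1 :=
              Finset.card_le_one.mpr (fun x hx y hy => (hex x hx).trans (hex y hy).symm)
            have hq3 : (3 : ℤ) ≤ (q : ℤ) := by
              rcases hr with h | h
              · omega
              · exact_mod_cast h
            have hbi : b ≠ i := by rw [← hij2]; exact (hc.ne2 hj2).2.1.symm
            have e : ev a + ev i + α + ev b - ev i - α = ev a + ev b := by abel
            obtain ⟨s1, s2, s3, s4⟩ := hc.stepB (ev a + ev i + α)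
            refine kill_gen hI hM hφ hγr (p := b) (i := i) ?_ hγi0 hbi ?_ ?_
            · unfold Mp; omega
            · rw [e]; exact nonneg_add (nonneg_ev _) (nonneg_ev _)
            · rw [e]; exact Mp_a_b hc
  · ---------------- type II with i = b : g = (q+1) e_b
    rw [ofN_add, ofN_single_nat, ofN_single, hi] at hnn hout hcf hγr
    have hA := hnn a
    have hB := hnn b
    have hZ := hnn z
    have hm1 := fs_nonneg M1 hnn
    have hm2 := fs_nonneg M2 hnn
    have hsum : fs Finset.univ ((q : ℤ) • ev b + ev b + α) = (q : ℤ) + 1 := by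
      rw [fs_add, fs_add, fs_smul, fs_univ_ev, hα]; ring
    have hsum' := hsum
    rw [fs_univ_eq2 hc] at hsum'
    have hαγ : α = ((q : ℤ) • ev b + ev b + α) - (q : ℤ) • ev b - ev b := by abel
    by_cases hA1 : 1 ≤ ((q : ℤ) • ev b + ev b + α) a
    · have e1 : fs M1 ((q : ℤ) • ev b + ev b + α) = 0 := by omega
      have e2 : fs M2 ((q : ℤ) • ev b + ev b + α) = 0 := by omega
      have ea : ((q : ℤ) • ev b + ev b + α) a = 1 := by omega
      have eb : ((q : ℤ) • ev b + ev b + α) b = 0 := by omega
      have ez : ((q : ℤ) • ev b + ev b + α) z = (q : ℤ) := by omega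
      have hγeq := vec_eq3 hc hnn e1 e2
      rw [ea, eb, ez] at hγeq
      have hαeq : α = (1 : ℤ) • ev a + (q : ℤ) • ev z - ((q : ℤ) + 1) • ev b := by
        rw [hαγ, hγeq]
        funext l
        simp only [Pi.sub_apply, Pi.add_apply, Pi.smul_apply, smul_eq_mul]
        ring
      rw [hαeq]
      exact InList.f10
    · have hA0 : ((q : ℤ) • ev b + ev b + α) a = 0 := by omega
      by_cases hB0 : ((q : ℤ) • ev b + ev b + α) b = 0
      · exfalso
        apply hcf
        have e : (q : ℤ) • ev b + ev b + α + ev j1 - ev b - α = (q : ℤ) • ev b + ev j1 := by abel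
        obtain ⟨s1, s2, s3, s4⟩ := hc.step1 hj1 ((q : ℤ) • ev b + ev b + α)
        refine kill_gen hI hM hφ hγr (p := j1) (i := b) ?_ hB0 (hc.ne1 hj1).2.1 ?_ ?_
        · unfold Mp; omega
        · rw [e]
          exact nonneg_add (nonneg_smul (Int.natCast_nonneg q) (nonneg_ev _)) (nonneg_ev _)
        · rw [e]; exact Mp_qb_m1 hc hj1
      · obtain ⟨hμn, hμa, hμb, hμ1, hμ2, hμs⟩ := strip_b hc hnn
        rw [hsum] at hμs
        rw [hA0] at hμa
        have hαeq : α = (((q : ℤ) • ev b + ev b + α) -
            (((q : ℤ) • ev b + ev b + α) b) • ev b) -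
            ((q : ℤ) + 1 - ((q : ℤ) • ev b + ev b + α) b) • ev b := by
          funext l
          simp only [Pi.sub_apply, Pi.add_apply, Pi.smul_apply, smul_eq_mul]
          ring
        by_cases hBq : ((q : ℤ) • ev b + ev b + α) b = (q : ℤ)
        · have hμs1 : fs Finset.univ (((q : ℤ) • ev b + ev b + α) -
              (((q : ℤ) • ev b + ev b + α) b) • ev b) = 1 := by rw [hμs, hBq]; ring
          obtain ⟨s, hs⟩ := eq_ev_of_sum_one hμn hμs1
          have hone : (q : ℤ) + 1 - ((q : ℤ) • ev b + ev b + α) b = 1 := by rw [hBq]; ring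
          rw [hαeq, hone, one_smul, hs]
          rcases ev_cases hc hs hμa hμb with h | h | h
          · rw [h]; exact InList.f3
          · exfalso
            rw [hs, fs_ev_mem h] at hμ1
            omega
          · exact InList.f4 s h
        · obtain ⟨m, hm⟩ : ∃ m : ℕ, (m : ℤ) = (q : ℤ) + 1 - ((q : ℤ) • ev b + ev b + α) b :=
            ⟨((q : ℤ) + 1 - ((q : ℤ) • ev b + ev b + α) b).toNat,
              Int.toNat_of_nonneg (by omega)⟩
          rw [hαeq, ← hm]
          refine InList.f9 _ m hμn hμa hμb (by omega) (by omega) ?_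
          rw [hμs, hm]
  · ---------------- type II with i ∈ M1 : g = q e_b + e_i
    rw [ofN_add, ofN_single_nat, ofN_single] at hnn hout hcf hγr
    obtain ⟨ia, ib, iz, im1, im2⟩ := hc.c1 hi
    obtain ⟨ni1, ni2, ni3, ni4⟩ := hc.ne1 hi
    have hA := hnn a
    have hB := hnn b
    have hZ := hnn z
    have hm1 := fs_nonneg M1 hnn
    have hm2 := fs_nonneg M2 hnn
    have hsum : fs Finset.univ ((q : ℤ) • ev b + ev i + α) = (q : ℤ) + 1 := by
      rw [fs_add, fs_add, fs_smul, fs_univ_ev, fs_univ_ev, hα]; ring
    have hsum' := hsum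
    rw [fs_univ_eq2 hc] at hsum'
    have hαγ : α = ((q : ℤ) • ev b + ev i + α) - (q : ℤ) • ev b - ev i := by abel
    by_cases hA1 : 1 ≤ ((q : ℤ) • ev b + ev i + α) a
    · have e1 : fs M1 ((q : ℤ) • ev b + ev i + α) = 0 := by omega
      have e2 : fs M2 ((q : ℤ) • ev b + ev i + α) = 0 := by omega
      have ea : ((q : ℤ) • ev b + ev i + α) a = 1 := by omega
      have eb : ((q : ℤ) • ev b + ev i + α) b = 0 := by omega
      have ez : ((q : ℤ) • ev b + ev i + α) z = (q : ℤ) := by omega
      have hγeq := vec_eq3 hc hnn e1 e2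
      rw [ea, eb, ez] at hγeq
      have hαeq : α = (1 : ℤ) • ev a + (q : ℤ) • ev z - (q : ℤ) • ev b - ev i := by
        rw [hαγ, hγeq]
        funext l
        simp only [Pi.sub_apply, Pi.add_apply, Pi.smul_apply, smul_eq_mul]
        ring
      rw [hαeq]
      exact InList.f11 i hi
    · have hA0 : ((q : ℤ) • ev b + ev i + α) a = 0 := by omega
      by_cases hγi : 1 ≤ ((q : ℤ) • ev b + ev i + α) i
      · -- ν = γ - e_i
        have hile := le_fs hnn hi
        have hνn : Nonneg ((q : ℤ) • ev b + ev i + α - ev i) := by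
          intro l
          have := hnn l
          simp only [Pi.sub_apply]
          by_cases hl : l = i
          · rw [hl, ev_same]; omega
          · rw [ev_ne hl]; omega
        have hνa : ((q : ℤ) • ev b + ev i + α - ev i) a = 0 := by
          simp only [Pi.sub_apply (_ + _ + α) (ev i), ia]; omega
        have hνb : ((q : ℤ) • ev b + ev i + α - ev i) b = ((q : ℤ) • ev b + ev i + α) b := by
          simp only [Pi.sub_apply (_ + _ + α) (ev i), ib]; omega
        have hνs : fs Finset.univ ((q : ℤ) • ev b + ev i + α - ev i) = (q : ℤ) := by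
          rw [fs_sub, hsum, fs_univ_ev]; ring
        obtain ⟨hμn, hμa, hμb, hμ1, hμ2, hμs0⟩ := strip_b hc hνn
        have hμs : fs Finset.univ (((q : ℤ) • ev b + ev i + α - ev i) -
            (((q : ℤ) • ev b + ev i + α - ev i) b) • ev b) =
            (q : ℤ) - ((q : ℤ) • ev b + ev i + α) b := by
          rw [hμs0, hνs, hνb]
        rw [hνa] at hμa
        have hαeq : α = (((q : ℤ) • ev b + ev i + α - ev i) -
            (((q : ℤ) • ev b + ev i + α - ev i) b) • ev b) -
            ((q : ℤ) - ((q : ℤ) • ev b + ev i + α) b) • ev b := by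
          rw [hνb]
          funext l
          simp only [Pi.sub_apply, Pi.add_apply, Pi.smul_apply, smul_eq_mul]
          ring
        by_cases hBq : ((q : ℤ) • ev b + ev i + α) b = (q : ℤ) - 1
        · have hμs1 : fs Finset.univ (((q : ℤ) • ev b + ev i + α - ev i) -
              (((q : ℤ) • ev b + ev i + α - ev i) b) • ev b) = 1 := by rw [hμs, hBq]; ring
          obtain ⟨s, hs⟩ := eq_ev_of_sum_one hμn hμs1
          have hone : (q : ℤ) - ((q : ℤ) • ev b + ev i + α) b = 1 := by rw [hBq]; ring
          rw [hαeq, hone, one_smul, hs]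
          rcases ev_cases hc hs hμa hμb with h | h | h
          · rw [h]; exact InList.f3
          · exact InList.f5 s h
          · exact InList.f4 s h
        · obtain ⟨m, hm⟩ : ∃ m : ℕ, (m : ℤ) = (q : ℤ) - ((q : ℤ) • ev b + ev i + α) b :=
            ⟨((q : ℤ) - ((q : ℤ) • ev b + ev i + α) b).toNat,
              Int.toNat_of_nonneg (by omega)⟩
          rw [hαeq, ← hm]
          refine InList.f9 _ m hμn hμa hμb (by omega) (by omega) ?_
          rw [hμs, hm]
      · have hγi0 : ((q : ℤ) • ev b + ev i + α) i = 0 := by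
          have := hnn i
          omega
        by_cases hBq : (q : ℤ) ≤ ((q : ℤ) • ev b + ev i + α) b
        · have hBq' : ((q : ℤ) • ev b + ev i + α) b = (q : ℤ) := by omega
          have hm10 : fs M1 ((q : ℤ) • ev b + ev i + α) = 0 := by omega
          obtain ⟨hμn, hμa, hμb, hμ1, hμ2, hμs0⟩ := strip_b hc hnn
          rw [hA0] at hμa
          rw [hm10] at hμ1
          have hμs1 : fs Finset.univ (((q : ℤ) • ev b + ev i + α) -
              (((q : ℤ) • ev b + ev i + α) b) • ev b) = 1 := by rw [hμs0, hsum, hBq']; ring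
          obtain ⟨s, hs⟩ := eq_ev_of_sum_one hμn hμs1
          have hαeq : α = (((q : ℤ) • ev b + ev i + α) -
              (((q : ℤ) • ev b + ev i + α) b) • ev b) - ev i := by
            rw [hBq']
            funext l
            simp only [Pi.sub_apply, Pi.add_apply, Pi.smul_apply, smul_eq_mul]
            ring
          rw [hαeq, hs]
          rcases ev_cases hc hs hμa hμb with h | h | h
          · rw [h]; exact InList.f6 i hi
          · exfalso
            rw [hs, fs_ev_mem h] at hμ1
            omega
          · exact InList.f7 i s hi h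
        · exfalso
          apply hcf
          by_cases hm1' : 1 ≤ fs M1 ((q : ℤ) • ev b + ev i + α)
          · obtain ⟨s, hs, hs1⟩ := (fs_pos_iff hnn).mp hm1'
            have hsi : s ≠ i := by
              intro h
              rw [h] at hs1
              omega
            have e : (q : ℤ) • ev b + ev i + α + ev s - ev i - α = (q : ℤ) • ev b + ev s := by
              abel
            obtain ⟨s1, s2, s3, s4⟩ := hc.step1 hs ((q : ℤ) • ev b + ev i + α)
            refine kill_gen hI hM hφ hγr (p := s) (i := i) ?_ hγi0 hsi ?_ ?_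
            · unfold Mp; omega
            · rw [e]
              exact nonneg_add (nonneg_smul (Int.natCast_nonneg q) (nonneg_ev _)) (nonneg_ev _)
            · rw [e]; exact Mp_qb_m1 hc hs
          · have e : (q : ℤ) • ev b + ev i + α + ev b - ev i - α = (q : ℤ) • ev b + ev b := by
              abel
            obtain ⟨s1, s2, s3, s4⟩ := hc.stepB ((q : ℤ) • ev b + ev i + α)
            refine kill_gen hI hM hφ hγr (p := b) (i := i) ?_ hγi0 ni2.symm ?_ ?_
            · unfold Mp; omega
            · rw [e]
              exact nonneg_add (nonneg_smul (Int.natCast_nonneg q) (nonneg_ev _)) (nonneg_ev _)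
            · rw [e]; exact Mp_qb_b hc

end Groth.Agent.Lib.Helper71.TgtTB
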