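import Groth.Agent.Lib.Helper71.TgtTB6

/-! Two-block Borel-fixed ideals: the finite set of degrees of the family `F9`. (helper71) -/

set_option autoImplicit false
set_option linter.unusedSectionVars false
set_option linter.unusedVariables false

universe u

namespace Groth.Agent.Lib.Helper71.TgtTB

open W4c1hilbpn MvPolynomial Groth.Agent.Lib.Helper44.TgtComp Groth.Agent.Lib.Helper71.TgtGen

variable {k : Type u} [Field k] {n : ℕ}

open Classical in
/-- exponents with zero `a`-entry and entry sum `q` -/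
noncomputable def T0 (a : Fin n) (q : ℕ) : Finset (Fin n →₀ ℕ) :=
  (Finset.univ.erase a).finsuppAntidiag q

theorem fs_univ_ofN (β : Fin n →₀ ℕ) : fs Finset.univ (ofN β) = ((∑ i, β i : ℕ) : ℤ) := by
  unfold fs
  rw [Nat.cast_sum]
  rfl

theorem mem_T0 {a : Fin n} {q : ℕ} {β : Fin n →₀ ℕ} :
    β ∈ T0 a q ↔ β a = 0 ∧ fs Finset.univ (ofN β) = (q : ℤ) := by
  classical
  unfold T0
  rw [Finset.mem_finsuppAntidiag, fs_univ_ofN]
  have hsplit := Finset.add_sum_erase Finset.univ (fun i => β i) (Finset.mem_univ a)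
  constructor
  · rintro ⟨h1, h2⟩
    have ha : β a = 0 := by
      by_contra hne
      have h3 : a ∈ β.support := Finsupp.mem_support_iff.mpr hne
      have h4 := h2 h3
      rw [Finset.mem_erase] at h4
      exact h4.1 rfl
    refine ⟨ha, ?_⟩
    rw [← hsplit, ha, zero_add, h1]
  · rintro ⟨ha, h2⟩
    have h3 : ∑ i, β i = q := by exact_mod_cast h2
    constructor
    · rw [ha, zero_add] at hsplit
      rw [hsplit, h3]
    · intro i hi
      rw [Finset.mem_erase]
      refine ⟨?_, Finset.mem_univ _⟩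
      intro h
      rw [h] at hi
      exact (Finsupp.mem_support_iff.mp hi) ha

theorem card_T0 (a : Fin n) (q : ℕ) : (T0 a q).card = (n - 1 + q - 1).choose q := by
  classical
  unfold T0
  rw [Finset.card_finsuppAntidiag_nat_eq_choose, Finset.card_erase_of_mem (Finset.mem_univ a),
    Finset.card_univ, Fintype.card_fin]

theorem ofN_injective : Function.Injective (ofN : (Fin n →₀ ℕ) → Fin n → ℤ) := by
  intro β β' h
  rw [← toN_ofN β, ← toN_ofN β', h]

theorem filter_not_T0 {a b : Fin n} (hab : a ≠ b) {q : ℕ} (hq : 1 ≤ q) :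
    (T0 a q).filter (fun β => ¬ (β b + 2 ≤ q)) =
      (Finset.univ.erase a).image (fun j => Finsupp.single b (q - 1) + Finsupp.single j 1) := by
  classical
  have hcast : ((q - 1 : ℕ) : ℤ) = (q : ℤ) - 1 := by
    rw [Nat.cast_sub hq]; norm_num
  ext β
  rw [Finset.mem_filter, mem_T0, Finset.mem_image]
  constructor
  · rintro ⟨⟨ha, hs⟩, hb⟩
    have hμn : Nonneg (ofN β - ((q : ℤ) - 1) • ev b) := by
      intro l
      have := nonneg_ofN β l
      simp only [Pi.sub_apply, Pi.smul_apply, smul_eq_mul]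
      by_cases hl : l = b
      · rw [hl, ev_same, ofN_apply]; omega
      · rw [ev_ne hl]; omega
    have hμs : fs Finset.univ (ofN β - ((q : ℤ) - 1) • ev b) = 1 := by
      rw [fs_sub, fs_smul, fs_univ_ev, hs]; ring
    obtain ⟨s, hs'⟩ := eq_ev_of_sum_one hμn hμs
    have hsa : s ≠ a := by
      intro h
      have h5 := congrFun hs' a
      simp only [Pi.sub_apply, Pi.smul_apply, smul_eq_mul] at h5
      rw [h, ev_same, ev_ne hab, ofN_apply, ha] at h5
      omega
    refine ⟨s, Finset.mem_erase.mpr ⟨hsa, Finset.mem_univ _⟩, ?_⟩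
    apply ofN_injective
    rw [ofN_add, ofN_single_nat, ofN_single, hcast, ← hs']
    abel
  · rintro ⟨j, hj, rfl⟩
    rw [Finset.mem_erase] at hj
    refine ⟨⟨?_, ?_⟩, ?_⟩
    · simp only [Finsupp.add_apply, Finsupp.single_apply]
      rw [if_neg hab.symm, if_neg hj.1]
      exact add_zero 0
    · rw [ofN_add, ofN_single_nat, ofN_single, fs_add, fs_smul, fs_univ_ev, fs_univ_ev, hcast]
      ring
    · simp only [Finsupp.add_apply, Finsupp.single_apply]
      split_ifs <;> omega

open Classical in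
/-- the degrees of the family `F9` -/
noncomputable def s9 (a b : Fin n) (q : ℕ) : Finset (Fin n → ℤ) :=
  ((T0 a q).filter (fun β => β b + 2 ≤ q)).image (fun β => ofN β - (q : ℤ) • ev b)

theorem card_s9 {a b : Fin n} (hab : a ≠ b) {q : ℕ} (hq : 1 ≤ q) :
    (s9 a b q).card + (n - 1) = (n - 1 + q - 1).choose q := by
  classical
  unfold s9
  rw [Finset.card_image_of_injective _
    (fun β β' h => ofN_injective (sub_left_injective h))]
  have h1 := Finset.card_filter_add_card_filter_not (s := T0 a q) (fun β => β b + 2 ≤ q)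
  rw [filter_not_T0 hab hq, Finset.card_image_of_injective _
    (fun j j' h => Finsupp.single_left_injective one_ne_zero (add_left_cancel h)),
    Finset.card_erase_of_mem (Finset.mem_univ a), Finset.card_univ, Fintype.card_fin,
    card_T0] at h1
  exact h1

variable {a b z : Fin n} {M1 M2 : Finset (Fin n)} (hc : Cfg2 a b z M1 M2) {q : ℕ}

include hc in
theorem mem_s9_of_f9 {μ : Fin n → ℤ} {m : ℕ} (hμ : Nonneg μ) (hμa : μ a = 0) (hμb : μ b = 0)
    (hm2 : 2 ≤ m) (hmq : m ≤ q) (hμs : fs Finset.univ μ = m) :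
    μ - (m : ℤ) • ev b ∈ s9 a b q := by
  classical
  obtain ⟨b1, b2, b3, b4, b5⟩ := hc.cB
  unfold s9
  rw [Finset.mem_image]
  have hnn : Nonneg (μ + ((q : ℤ) - (m : ℤ)) • ev b) := by
    refine nonneg_add hμ (nonneg_smul ?_ (nonneg_ev b))
    have : (m : ℤ) ≤ (q : ℤ) := by exact_mod_cast hmq
    omega
  refine ⟨toN (μ + ((q : ℤ) - (m : ℤ)) • ev b), ?_, ?_⟩
  · rw [Finset.mem_filter, mem_T0]
    have hb : ((toN (μ + ((q : ℤ) - (m : ℤ)) • ev b) b : ℕ) : ℤ) = (q : ℤ) - (m : ℤ) := by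
      rw [← ofN_apply, ofN_toN hnn]
      simp only [Pi.add_apply, Pi.smul_apply, smul_eq_mul, hμb, b2]; ring
    have ha : ((toN (μ + ((q : ℤ) - (m : ℤ)) • ev b) a : ℕ) : ℤ) = 0 := by
      rw [← ofN_apply, ofN_toN hnn]
      simp only [Pi.add_apply, Pi.smul_apply, smul_eq_mul, hμa, b1]; ring
    refine ⟨⟨by exact_mod_cast ha, ?_⟩, by omega⟩
    rw [ofN_toN hnn, fs_add, fs_smul, fs_univ_ev, hμs]; ring
  · rw [ofN_toN hnn]
    funext l
    simp only [Pi.sub_apply, Pi.add_apply, Pi.smul_apply, smul_eq_mul]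
    ring

include hc in
theorem f9_of_mem_s9 {α : Fin n → ℤ} (h : α ∈ s9 a b q) : InList a b z M1 M2 q α := by
  classical
  unfold s9 at h
  rw [Finset.mem_image] at h
  obtain ⟨β, hβ, rfl⟩ := h
  rw [Finset.mem_filter, mem_T0] at hβ
  obtain ⟨⟨ha, hs⟩, hb⟩ := hβ
  obtain ⟨hμn, hμa, hμb, hμ1, hμ2, hμs⟩ := strip_b hc (nonneg_ofN β)
  have hcast : ((q - β b : ℕ) : ℤ) = (q : ℤ) - (β b : ℤ) := by
    rw [Nat.cast_sub (by omega)]
  have e : ofN β - (q : ℤ) • ev b =
      (ofN β - (ofN β b) • ev b) - ((q - β b : ℕ) : ℤ) • ev b := by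
    rw [hcast]
    funext l
    simp only [Pi.sub_apply, Pi.smul_apply, smul_eq_mul, ofN_apply]
    ring
  rw [e]
  refine InList.f9 _ (q - β b) hμn ?_ hμb (by omega) (by omega) ?_
  · rw [hμa, ofN_apply, ha]; rfl
  · rw [hμs, hs, hcast, ofN_apply]

end Groth.Agent.Lib.Helper71.TgtTB
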