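import Groth.Agent.Lib.Helper71.TgtTB7

/-! Two-block Borel-fixed ideals: the finite set of all degrees and the dimension count.
(helper71) -/

set_option autoImplicit false
set_option linter.unusedSectionVars false
set_option linter.unusedVariables false

universe u

namespace Groth.Agent.Lib.Helper71.TgtTB

open W4c1hilbpn MvPolynomial Groth.Agent.Lib.Helper44.TgtComp Groth.Agent.Lib.Helper71.TgtGen

variable {k : Type u} [Field k] {n : ℕ}

theorem ev_inj {j j' : Fin n} (h : ev j = ev j') : j = j' := by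
  by_contra hne
  have := congrFun h j
  rw [ev_same, ev_ne hne] at this
  omega

variable {a b z : Fin n} {M1 M2 : Finset (Fin n)} (hc : Cfg2 a b z M1 M2) {q : ℕ}

/-! ### signatures of the families -/

include hc in
theorem sg1 : (ev z - ev a) a = -1 ∧ (ev z - ev a) z = 1 := by
  obtain ⟨a1, a2, a3, a4, a5⟩ := hc.cA
  obtain ⟨z1, z2, z3, z4, z5⟩ := hc.cZ
  refine ⟨?_, ?_⟩
  · simp only [Pi.sub_apply, z1, a1] <;> omega
  · simp only [Pi.sub_apply, z3, a3] <;> omega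

include hc in
theorem sg2 {j : Fin n} (hj : j = b ∨ j ∈ M1 ∨ j ∈ M2) :
    (ev j - ev a) a = -1 ∧ (ev j - ev a) z = 0 := by
  obtain ⟨a1, a2, a3, a4, a5⟩ := hc.cA
  obtain ⟨xb, x1, x2, w1, w2, w3, w4, w5, xb0, x10, x20, xs, hja⟩ := hc.cW hj
  refine ⟨?_, ?_⟩
  · simp only [Pi.sub_apply, w1, a1] <;> omega
  · simp only [Pi.sub_apply, w3, a3] <;> omega

include hc in
theorem sg3 : (ev z - ev b) a = 0 ∧ (ev z - ev b) b = -1 ∧ (ev z - ev b) z = 1 := by
  obtain ⟨b1, b2, b3, b4, b5⟩ := hc.cB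
  obtain ⟨z1, z2, z3, z4, z5⟩ := hc.cZ
  refine ⟨?_, ?_, ?_⟩
  · simp only [Pi.sub_apply, z1, b1] <;> omega
  · simp only [Pi.sub_apply, z2, b2] <;> omega
  · simp only [Pi.sub_apply, z3, b3] <;> omega

include hc in
theorem sg4 {j : Fin n} (hj : j ∈ M2) :
    (ev j - ev b) a = 0 ∧ (ev j - ev b) b = -1 ∧ (ev j - ev b) z = 0 ∧
      fs M2 (ev j - ev b) = 1 := by
  obtain ⟨b1, b2, b3, b4, b5⟩ := hc.cB
  obtain ⟨j1, j2, j3, j4, j5⟩ := hc.c2 hj
  refine ⟨?_, ?_, ?_, ?_⟩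
  · simp only [Pi.sub_apply, j1, b1] <;> omega
  · simp only [Pi.sub_apply, j2, b2] <;> omega
  · simp only [Pi.sub_apply, j3, b3] <;> omega
  · rw [fs_sub, j5, b5] <;> omega

include hc in
theorem sg5 {j : Fin n} (hj : j ∈ M1) :
    (ev j - ev b) a = 0 ∧ (ev j - ev b) b = -1 ∧ (ev j - ev b) z = 0 ∧
      fs M2 (ev j - ev b) = 0 := by
  obtain ⟨b1, b2, b3, b4, b5⟩ := hc.cB
  obtain ⟨j1, j2, j3, j4, j5⟩ := hc.c1 hj
  refine ⟨?_, ?_, ?_, ?_⟩
  · simp only [Pi.sub_apply, j1, b1] <;> omega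
  · simp only [Pi.sub_apply, j2, b2] <;> omega
  · simp only [Pi.sub_apply, j3, b3] <;> omega
  · rw [fs_sub, j5, b5] <;> omega

include hc in
theorem sg6 {j : Fin n} (hj : j ∈ M1) :
    (ev z - ev j) a = 0 ∧ (ev z - ev j) b = 0 ∧ (ev z - ev j) z = 1 ∧
      fs M1 (ev z - ev j) = -1 := by
  obtain ⟨z1, z2, z3, z4, z5⟩ := hc.cZ
  obtain ⟨j1, j2, j3, j4, j5⟩ := hc.c1 hj
  refine ⟨?_, ?_, ?_, ?_⟩
  · simp only [Pi.sub_apply, j1, z1] <;> omega
  · simp only [Pi.sub_apply, j2, z2] <;> omega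
  · simp only [Pi.sub_apply, j3, z3] <;> omega
  · rw [fs_sub, j4, z4] <;> omega

include hc in
theorem sg7 {j j' : Fin n} (hj : j ∈ M1) (hj' : j' ∈ M2) :
    (ev j' - ev j) a = 0 ∧ (ev j' - ev j) b = 0 ∧ (ev j' - ev j) z = 0 ∧
      fs M1 (ev j' - ev j) = -1 := by
  obtain ⟨k1, k2, k3, k4, k5⟩ := hc.c2 hj'
  obtain ⟨j1, j2, j3, j4, j5⟩ := hc.c1 hj
  refine ⟨?_, ?_, ?_, ?_⟩
  · simp only [Pi.sub_apply, j1, k1] <;> omega
  · simp only [Pi.sub_apply, j2, k2] <;> omega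
  · simp only [Pi.sub_apply, j3, k3] <;> omega
  · rw [fs_sub, j4, k4] <;> omega

include hc in
theorem sg8 {j : Fin n} (hj : j ∈ M2) :
    (ev z - ev j) a = 0 ∧ (ev z - ev j) b = 0 ∧ fs M1 (ev z - ev j) = 0 := by
  obtain ⟨z1, z2, z3, z4, z5⟩ := hc.cZ
  obtain ⟨j1, j2, j3, j4, j5⟩ := hc.c2 hj
  refine ⟨?_, ?_, ?_⟩
  · simp only [Pi.sub_apply, j1, z1] <;> omega
  · simp only [Pi.sub_apply, j2, z2] <;> omega
  · rw [fs_sub, j4, z4] <;> omega

include hc in
theorem sg9 {α : Fin n → ℤ} (h : α ∈ s9 a b q) : α a = 0 ∧ α b ≤ -2 := by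
  classical
  obtain ⟨b1, b2, b3, b4, b5⟩ := hc.cB
  unfold s9 at h
  rw [Finset.mem_image] at h
  obtain ⟨β, hβ, rfl⟩ := h
  rw [Finset.mem_filter, mem_T0] at hβ
  obtain ⟨⟨ha, hs⟩, hb⟩ := hβ
  refine ⟨?_, ?_⟩
  · simp only [Pi.sub_apply, Pi.smul_apply, smul_eq_mul, ofN_apply, b1, ha]
    norm_num
  · simp only [Pi.sub_apply, Pi.smul_apply, smul_eq_mul, ofN_apply, b2]
    omega

include hc in
theorem sg10 : ((1 : ℤ) • ev a + (q : ℤ) • ev z - ((q : ℤ) + 1) • ev b) a = 1 ∧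
    ((1 : ℤ) • ev a + (q : ℤ) • ev z - ((q : ℤ) + 1) • ev b) b = -((q : ℤ) + 1) := by
  obtain ⟨a1, a2, a3, a4, a5⟩ := hc.cA
  obtain ⟨b1, b2, b3, b4, b5⟩ := hc.cB
  obtain ⟨z1, z2, z3, z4, z5⟩ := hc.cZ
  refine ⟨?_, ?_⟩
  · simp only [Pi.sub_apply, Pi.add_apply, Pi.smul_apply, smul_eq_mul, a1, z1, b1]
    ring
  · simp only [Pi.sub_apply, Pi.add_apply, Pi.smul_apply, smul_eq_mul, a2, z2, b2]
    ring

include hc in
theorem sg11 {j : Fin n} (hj : j ∈ M1) :
    ((1 : ℤ) • ev a + (q : ℤ) • ev z - (q : ℤ) • ev b - ev j) a = 1 ∧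
    ((1 : ℤ) • ev a + (q : ℤ) • ev z - (q : ℤ) • ev b - ev j) b = -(q : ℤ) := by
  obtain ⟨a1, a2, a3, a4, a5⟩ := hc.cA
  obtain ⟨b1, b2, b3, b4, b5⟩ := hc.cB
  obtain ⟨z1, z2, z3, z4, z5⟩ := hc.cZ
  obtain ⟨j1, j2, j3, j4, j5⟩ := hc.c1 hj
  refine ⟨?_, ?_⟩
  · simp only [Pi.sub_apply, Pi.add_apply, Pi.smul_apply, smul_eq_mul, a1, z1, b1, j1]
    ring
  · simp only [Pi.sub_apply, Pi.add_apply, Pi.smul_apply, smul_eq_mul, a2, z2, b2, j2]
    ring

/-! ### the four groups of degrees -/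

open Classical in
/-- degrees with `a`-entry `-1` -/
noncomputable def gA (a b z : Fin n) (M1 M2 : Finset (Fin n)) : Finset (Fin n → ℤ) :=
  {ev z - ev a} ∪ (insert b (M1 ∪ M2)).image (fun j => ev j - ev a)

open Classical in
/-- degrees with `a`-entry `0` and negative `b`-entry -/
noncomputable def gB (a b z : Fin n) (M1 M2 : Finset (Fin n)) (q : ℕ) : Finset (Fin n → ℤ) :=
  (({ev z - ev b} ∪ M2.image (fun j => ev j - ev b)) ∪ M1.image (fun j => ev j - ev b)) ∪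
    s9 a b q

open Classical in
/-- degrees with `a`-, `b`-entries `0` -/
noncomputable def gC (z : Fin n) (M1 M2 : Finset (Fin n)) : Finset (Fin n → ℤ) :=
  (M1.image (fun j => ev z - ev j) ∪
    (M1 ×ˢ M2).image (fun p : Fin n × Fin n => ev p.2 - ev p.1)) ∪
    M2.image (fun j => ev z - ev j)

open Classical in
/-- degrees with `a`-entry `1` -/
noncomputable def gD (a b z : Fin n) (M1 : Finset (Fin n)) (q : ℕ) : Finset (Fin n → ℤ) :=
  {(1 : ℤ) • ev a + (q : ℤ) • ev z - ((q : ℤ) + 1) • ev b} ∪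
    M1.image (fun j => (1 : ℤ) • ev a + (q : ℤ) • ev z - (q : ℤ) • ev b - ev j)

theorem mem_gA {α : Fin n → ℤ} : α ∈ gA a b z M1 M2 ↔
    (α = ev z - ev a ∨ ∃ j, (j = b ∨ j ∈ M1 ∨ j ∈ M2) ∧ ev j - ev a = α) := by
  classical
  unfold gA
  simp only [Finset.mem_union, Finset.mem_singleton, Finset.mem_image, Finset.mem_insert]

theorem mem_gB {α : Fin n → ℤ} : α ∈ gB a b z M1 M2 q ↔
    (((α = ev z - ev b ∨ ∃ j, j ∈ M2 ∧ ev j - ev b = α) ∨ ∃ j, j ∈ M1 ∧ ev j - ev b = α) ∨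
      α ∈ s9 a b q) := by
  classical
  unfold gB
  simp only [Finset.mem_union, Finset.mem_singleton, Finset.mem_image]

theorem mem_gC {α : Fin n → ℤ} : α ∈ gC z M1 M2 ↔
    (((∃ j, j ∈ M1 ∧ ev z - ev j = α) ∨
      ∃ p : Fin n × Fin n, (p.1 ∈ M1 ∧ p.2 ∈ M2) ∧ ev p.2 - ev p.1 = α) ∨
      ∃ j, j ∈ M2 ∧ ev z - ev j = α) := by
  classical
  unfold gC
  simp only [Finset.mem_union, Finset.mem_image, Finset.mem_product]

theorem mem_gD {α : Fin n → ℤ} : α ∈ gD a b z M1 q ↔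
    (α = (1 : ℤ) • ev a + (q : ℤ) • ev z - ((q : ℤ) + 1) • ev b ∨
      ∃ j, j ∈ M1 ∧ (1 : ℤ) • ev a + (q : ℤ) • ev z - (q : ℤ) • ev b - ev j = α) := by
  classical
  unfold gD
  simp only [Finset.mem_union, Finset.mem_singleton, Finset.mem_image]

include hc in
theorem gA_inv {α : Fin n → ℤ} (h : α ∈ gA a b z M1 M2) : α a = -1 := by
  rw [mem_gA] at h
  rcases h with rfl | ⟨j, hj, rfl⟩
  · exact (sg1 hc).1
  · exact (sg2 hc hj).1

include hc in
theorem gB_inv {α : Fin n → ℤ} (h : α ∈ gB a b z M1 M2 q) : α a = 0 ∧ α b ≤ -1 := by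
  rw [mem_gB] at h
  rcases h with ((rfl | ⟨j, hj, rfl⟩) | ⟨j, hj, rfl⟩) | h
  · have := sg3 hc; omega
  · have := sg4 hc hj; omega
  · have := sg5 hc hj; omega
  · have := sg9 hc h; omega

include hc in
theorem gC_inv {α : Fin n → ℤ} (h : α ∈ gC z M1 M2) : α a = 0 ∧ α b = 0 := by
  rw [mem_gC] at h
  rcases h with (⟨j, hj, rfl⟩ | ⟨p, hp, rfl⟩) | ⟨j, hj, rfl⟩
  · have := sg6 hc hj; omega
  · have := sg7 hc hp.1 hp.2; omega
  · have := sg8 hc hj; omega

include hc in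
theorem gD_inv {α : Fin n → ℤ} (h : α ∈ gD a b z M1 q) : α a = 1 := by
  rw [mem_gD] at h
  rcases h with rfl | ⟨j, hj, rfl⟩
  · exact (sg10 hc).1
  · exact (sg11 hc hj).1

/-! ### the sums over the four groups -/

include hc in
theorem sum_gA (f : (Fin n → ℤ) → ℕ) (h1 : f (ev z - ev a) = 2)
    (h2 : ∀ j, (j = b ∨ j ∈ M1 ∨ j ∈ M2) → f (ev j - ev a) = 1) :
    ∑ α ∈ gA a b z M1 M2, f α = 3 + M1.card + M2.card := by
  classical
  unfold gA
  have d1 : Disjoint ({ev z - ev a} : Finset (Fin n → ℤ))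
      ((insert b (M1 ∪ M2)).image (fun j => ev j - ev a)) := by
    rw [Finset.disjoint_singleton_left, Finset.mem_image]
    rintro ⟨j, hj, h⟩
    rw [Finset.mem_insert, Finset.mem_union] at hj
    have := congrFun h z
    rw [(sg1 hc).2, (sg2 hc hj).2] at this
    omega
  have i1 : Set.InjOn (fun j => ev j - ev a)
      ((insert b (M1 ∪ M2) : Finset (Fin n)) : Set (Fin n)) := by
    intro j _ j' _ h
    exact ev_inj (sub_left_inj.mp h)
  have hb : b ∉ M1 ∪ M2 := by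
    rw [Finset.mem_union]
    exact fun h => h.elim hc.hb1 hc.hb2
  have hcard : (insert b (M1 ∪ M2)).card = 1 + M1.card + M2.card := by
    rw [Finset.card_insert_of_notMem hb, Finset.card_union_of_disjoint hc.h12]; omega
  have h2' : ∀ j ∈ insert b (M1 ∪ M2), f (ev j - ev a) = 1 := by
    intro j hj
    rw [Finset.mem_insert, Finset.mem_union] at hj
    exact h2 j hj
  rw [Finset.sum_union d1, Finset.sum_singleton, Finset.sum_image i1, h1,
    Finset.sum_congr rfl h2', Finset.sum_const, smul_eq_mul, mul_one, hcard]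
  omega

include hc in
theorem sum_gB (f : (Fin n → ℤ) → ℕ) (h3 : f (ev z - ev b) = 3)
    (h4 : ∀ j ∈ M2, f (ev j - ev b) = 2) (h5 : ∀ j ∈ M1, f (ev j - ev b) = 1)
    (h9 : ∀ α ∈ s9 a b q, f α = 1) :
    ∑ α ∈ gB a b z M1 M2 q, f α = 3 + 2 * M2.card + M1.card + (s9 a b q).card := by
  classical
  unfold gB
  have d1 : Disjoint ({ev z - ev b} : Finset (Fin n → ℤ))
      (M2.image (fun j => ev j - ev b)) := by
    rw [Finset.disjoint_singleton_left, Finset.mem_image]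
    rintro ⟨j, hj, h⟩
    have := congrFun h z
    rw [(sg3 hc).2.2, (sg4 hc hj).2.2.1] at this
    omega
  have d2 : Disjoint (({ev z - ev b} : Finset (Fin n → ℤ)) ∪
      M2.image (fun j => ev j - ev b)) (M1.image (fun j => ev j - ev b)) := by
    rw [Finset.disjoint_left]
    intro α h1 h2
    rw [Finset.mem_image] at h2
    obtain ⟨j, hj, rfl⟩ := h2
    rw [Finset.mem_union, Finset.mem_singleton, Finset.mem_image] at h1
    rcases h1 with h | ⟨j', hj', h⟩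
    · have := congrFun h z
      rw [(sg3 hc).2.2, (sg5 hc hj).2.2.1] at this
      omega
    · have := congrArg (fs M2) h
      rw [(sg4 hc hj').2.2.2, (sg5 hc hj).2.2.2] at this
      omega
  have d3 : Disjoint ((({ev z - ev b} : Finset (Fin n → ℤ)) ∪
      M2.image (fun j => ev j - ev b)) ∪ M1.image (fun j => ev j - ev b)) (s9 a b q) := by
    rw [Finset.disjoint_left]
    intro α h1 h2
    have h9' := (sg9 hc h2).2
    rw [Finset.mem_union, Finset.mem_union, Finset.mem_singleton, Finset.mem_image,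
      Finset.mem_image] at h1
    rcases h1 with (h | ⟨j, hj, h⟩) | ⟨j, hj, h⟩
    · rw [h, (sg3 hc).2.1] at h9'; omega
    · rw [← h, (sg4 hc hj).2.1] at h9'; omega
    · rw [← h, (sg5 hc hj).2.1] at h9'; omega
  have i4 : Set.InjOn (fun j => ev j - ev b) (M2 : Set (Fin n)) := by
    intro j _ j' _ h
    exact ev_inj (sub_left_inj.mp h)
  have i5 : Set.InjOn (fun j => ev j - ev b) (M1 : Set (Fin n)) := by
    intro j _ j' _ h
    exact ev_inj (sub_left_inj.mp h)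
  rw [Finset.sum_union d3, Finset.sum_union d2, Finset.sum_union d1, Finset.sum_singleton,
    Finset.sum_image i4, Finset.sum_image i5, h3, Finset.sum_congr rfl h4,
    Finset.sum_congr rfl h5, Finset.sum_congr rfl h9, Finset.sum_const, Finset.sum_const,
    Finset.sum_const, smul_eq_mul, smul_eq_mul, smul_eq_mul]
  omega

include hc in
theorem sum_gC (f : (Fin n → ℤ) → ℕ) (h6 : ∀ j ∈ M1, f (ev z - ev j) = 2)
    (h7 : ∀ p ∈ M1 ×ˢ M2, f (ev p.2 - ev p.1) = 1) (h8 : ∀ j ∈ M2, f (ev z - ev j) = 1) :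
    ∑ α ∈ gC z M1 M2, f α = 2 * M1.card + M1.card * M2.card + M2.card := by
  classical
  unfold gC
  have d1 : Disjoint (M1.image (fun j => ev z - ev j))
      ((M1 ×ˢ M2).image (fun p : Fin n × Fin n => ev p.2 - ev p.1)) := by
    rw [Finset.disjoint_left]
    intro α h1 h2
    rw [Finset.mem_image] at h1 h2
    obtain ⟨j, hj, rfl⟩ := h1
    obtain ⟨p, hp, h⟩ := h2
    rw [Finset.mem_product] at hp
    have := congrFun h z
    rw [(sg7 hc hp.1 hp.2).2.2.1, (sg6 hc hj).2.2.1] at this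
    omega
  have d2 : Disjoint (M1.image (fun j => ev z - ev j) ∪
      (M1 ×ˢ M2).image (fun p : Fin n × Fin n => ev p.2 - ev p.1))
      (M2.image (fun j => ev z - ev j)) := by
    rw [Finset.disjoint_left]
    intro α h1 h2
    rw [Finset.mem_image] at h2
    obtain ⟨j, hj, rfl⟩ := h2
    rw [Finset.mem_union, Finset.mem_image, Finset.mem_image] at h1
    rcases h1 with ⟨j', hj', h⟩ | ⟨p, hp, h⟩
    · have := congrArg (fs M1) h
      rw [(sg6 hc hj').2.2.2, (sg8 hc hj).2.2] at this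
      omega
    · rw [Finset.mem_product] at hp
      have := congrArg (fs M1) h
      rw [(sg7 hc hp.1 hp.2).2.2.2, (sg8 hc hj).2.2] at this
      omega
  have i6 : Set.InjOn (fun j => ev z - ev j) (M1 : Set (Fin n)) := by
    intro j _ j' _ h
    exact ev_inj (sub_right_inj.mp h)
  have i8 : Set.InjOn (fun j => ev z - ev j) (M2 : Set (Fin n)) := by
    intro j _ j' _ h
    exact ev_inj (sub_right_inj.mp h)
  have n12 : ∀ {x y : Fin n}, x ∈ M1 → y ∈ M2 → x ≠ y :=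
    fun hx hy hxy => (hc.ne1 hx).2.2.2 (hxy ▸ hy)
  have i7 : Set.InjOn (fun p : Fin n × Fin n => ev p.2 - ev p.1)
      ((M1 ×ˢ M2 : Finset (Fin n × Fin n)) : Set (Fin n × Fin n)) := by
    intro p hp p' hp' h
    rw [Finset.mem_coe, Finset.mem_product] at hp hp'
    have e1 := congrFun h p.1
    have e2 := congrFun h p.2
    simp only [Pi.sub_apply] at e1 e2
    rw [ev_same, ev_ne (n12 hp.1 hp.2), ev_ne (n12 hp.1 hp'.2)] at e1
    rw [ev_same, ev_ne (n12 hp.1 hp.2).symm, ev_ne (n12 hp'.1 hp.2).symm] at e2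
    have q1 : p.1 = p'.1 := by
      by_contra hne
      rw [ev_ne hne] at e1
      omega
    have q2 : p.2 = p'.2 := by
      by_contra hne
      rw [ev_ne hne] at e2
      omega
    exact Prod.ext q1 q2
  rw [Finset.sum_union d2, Finset.sum_union d1, Finset.sum_image i6, Finset.sum_image i7,
    Finset.sum_image i8, Finset.sum_congr rfl h6, Finset.sum_congr rfl h7,
    Finset.sum_congr rfl h8, Finset.sum_const, Finset.sum_const, Finset.sum_const, smul_eq_mul,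
    smul_eq_mul, smul_eq_mul, Finset.card_product]
  omega

include hc in
theorem sum_gD (f : (Fin n → ℤ) → ℕ)
    (h10 : f ((1 : ℤ) • ev a + (q : ℤ) • ev z - ((q : ℤ) + 1) • ev b) = 1)
    (h11 : ∀ j ∈ M1, f ((1 : ℤ) • ev a + (q : ℤ) • ev z - (q : ℤ) • ev b - ev j) = 1) :
    ∑ α ∈ gD a b z M1 q, f α = 1 + M1.card := by
  classical
  unfold gD
  have d1 : Disjoint
      ({(1 : ℤ) • ev a + (q : ℤ) • ev z - ((q : ℤ) + 1) • ev b} : Finset (Fin n → ℤ))
      (M1.image (fun j => (1 : ℤ) • ev a + (q : ℤ) • ev z - (q : ℤ) • ev b - ev j)) := by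
    rw [Finset.disjoint_singleton_left, Finset.mem_image]
    rintro ⟨j, hj, h⟩
    have := congrFun h b
    rw [(sg10 hc).2, (sg11 hc hj).2] at this
    omega
  have i11 : Set.InjOn
      (fun j => (1 : ℤ) • ev a + (q : ℤ) • ev z - (q : ℤ) • ev b - ev j) (M1 : Set (Fin n)) := by
    intro j _ j' _ h
    exact ev_inj (sub_right_inj.mp h)
  rw [Finset.sum_union d1, Finset.sum_singleton, Finset.sum_image i11, h10,
    Finset.sum_congr rfl h11, Finset.sum_const, smul_eq_mul, mul_one]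

end Groth.Agent.Lib.Helper71.TgtTB
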