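import Groth.Agent.Lib.Helper71.TgtTB8

/-! Two-block Borel-fixed ideals: the dimension of the degree-0 part of `T(I)`. (helper71) -/

set_option autoImplicit false
set_option linter.unusedSectionVars false
set_option linter.unusedVariables false

universe u

namespace Groth.Agent.Lib.Helper71.TgtTB

open W4c1hilbpn MvPolynomial Groth.Agent.Lib.Helper44.TgtComp Groth.Agent.Lib.Helper71.TgtGen

variable {k : Type u} [Field k] {n : ℕ}

open Classical in
/-- all degrees with nonzero graded piece -/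
noncomputable def famS (a b z : Fin n) (M1 M2 : Finset (Fin n)) (q : ℕ) : Finset (Fin n → ℤ) :=
  ((gA a b z M1 M2 ∪ gB a b z M1 M2 q) ∪ gC z M1 M2) ∪ gD a b z M1 q

variable {a b z : Fin n} {M1 M2 : Finset (Fin n)} (hc : Cfg2 a b z M1 M2) {q : ℕ}
  {I : Ideal (MvPolynomial (Fin n) k)} (hI : IsMonomial I)
  (hM : ∀ β : Fin n →₀ ℕ, β ∈ exps I ↔ Mp a b M1 M2 q (ofN β)) (hq : 1 ≤ q)

include hc in
theorem mem_famS {α : Fin n → ℤ} : α ∈ famS a b z M1 M2 q ↔ InList a b z M1 M2 q α := by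
  classical
  unfold famS
  rw [Finset.mem_union, Finset.mem_union, Finset.mem_union, mem_gA, mem_gB, mem_gC, mem_gD]
  constructor
  · rintro (((h | h) | h) | h)
    · rcases h with rfl | ⟨j, hj, rfl⟩
      · exact InList.f1
      · exact InList.f2 j hj
    · rcases h with ((rfl | ⟨j, hj, rfl⟩) | ⟨j, hj, rfl⟩) | h
      · exact InList.f3
      · exact InList.f4 j hj
      · exact InList.f5 j hj
      · exact f9_of_mem_s9 hc h
    · rcases h with (⟨j, hj, rfl⟩ | ⟨p, hp, rfl⟩) | ⟨j, hj, rfl⟩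
      · exact InList.f6 j hj
      · exact InList.f7 p.1 p.2 hp.1 hp.2
      · exact InList.f8 j hj
    · rcases h with rfl | ⟨j, hj, rfl⟩
      · exact InList.f10
      · exact InList.f11 j hj
  · intro h
    cases h with
    | f1 => exact Or.inl (Or.inl (Or.inl (Or.inl rfl)))
    | f2 j hj => exact Or.inl (Or.inl (Or.inl (Or.inr ⟨j, hj, rfl⟩)))
    | f3 => exact Or.inl (Or.inl (Or.inr (Or.inl (Or.inl (Or.inl rfl)))))
    | f4 j hj => exact Or.inl (Or.inl (Or.inr (Or.inl (Or.inl (Or.inr ⟨j, hj, rfl⟩)))))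
    | f5 j hj => exact Or.inl (Or.inl (Or.inr (Or.inl (Or.inr ⟨j, hj, rfl⟩))))
    | f6 j hj => exact Or.inl (Or.inr (Or.inl (Or.inl ⟨j, hj, rfl⟩)))
    | f7 j j' hj hj' => exact Or.inl (Or.inr (Or.inl (Or.inr ⟨(j, j'), ⟨hj, hj'⟩, rfl⟩)))
    | f8 j hj => exact Or.inl (Or.inr (Or.inr ⟨j, hj, rfl⟩))
    | f9 μ m hμ hμa hμb hm2 hmq hμs =>
      exact Or.inl (Or.inl (Or.inr (Or.inr (mem_s9_of_f9 hc hμ hμa hμb hm2 hmq hμs))))
    | f10 => exact Or.inr (Or.inl rfl)
    | f11 j hj => exact Or.inr (Or.inr ⟨j, hj, rfl⟩)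

include hc hI hM hq in
theorem inList_props {j1 j2 : Fin n} (hj1 : j1 ∈ M1) (hj2 : j2 ∈ M2) {α : Fin n → ℤ}
    (h : InList a b z M1 M2 q α) :
    fs Finset.univ α = 0 ∧ Module.Finite k ↥(tPiece I α) := by
  cases h with
  | f1 =>
    refine ⟨?_, (fam1 hc hI hM hq hj2).2⟩
    rw [fs_sub, fs_univ_ev, fs_univ_ev]; omega
  | f2 j hj =>
    refine ⟨?_, (fam2 hc hI hM hq hj hj2).2⟩
    rw [fs_sub, fs_univ_ev, fs_univ_ev]; omega
  | f3 =>
    refine ⟨?_, (fam3 hc hI hM hq hj1).2⟩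
    rw [fs_sub, fs_univ_ev, fs_univ_ev]; omega
  | f4 j hj =>
    refine ⟨?_, (fam4 hc hI hM hq hj hj1).2⟩
    rw [fs_sub, fs_univ_ev, fs_univ_ev]; omega
  | f5 j hj =>
    refine ⟨?_, (fam5 hc hI hM hq hj).2⟩
    rw [fs_sub, fs_univ_ev, fs_univ_ev]; omega
  | f6 j hj =>
    refine ⟨?_, (fam6 hc hI hM hq hj).2⟩
    rw [fs_sub, fs_univ_ev, fs_univ_ev]; omega
  | f7 j j' hj hj' =>
    refine ⟨?_, (fam7 hc hI hM hq hj hj').2⟩
    rw [fs_sub, fs_univ_ev, fs_univ_ev]; omega
  | f8 j hj =>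
    refine ⟨?_, (fam8 hc hI hM hq hj).2⟩
    rw [fs_sub, fs_univ_ev, fs_univ_ev]; omega
  | f9 μ m hμ hμa hμb hm2 hmq hμs =>
    refine ⟨?_, (fam9 hc hI hM hq hμ hμa hμb hm2 hmq hμs).2⟩
    rw [fs_sub, fs_smul, fs_univ_ev, hμs]; ring
  | f10 =>
    refine ⟨?_, (fam10 hc hI hM hq).2⟩
    rw [fs_sub, fs_add, fs_smul, fs_smul, fs_smul, fs_univ_ev, fs_univ_ev, fs_univ_ev]; ring
  | f11 j hj =>
    refine ⟨?_, (fam11 hc hI hM hq hj).2⟩
    rw [fs_sub, fs_sub, fs_add, fs_smul, fs_smul, fs_smul, fs_univ_ev, fs_univ_ev, fs_univ_ev,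
      fs_univ_ev]
    ring

include hc hI hM hq in
theorem main_abstract (hr : 2 ≤ M2.card ∨ 3 ≤ q) {j1 j2 : Fin n} (hj1 : j1 ∈ M1)
    (hj2 : j2 ∈ M2) :
    Module.finrank k ↥(⨆ α : {α : Fin n → ℤ // ∑ i, α i = 0}, tPiece I α.1) + (n - 1) =
      7 + 5 * M1.card + 4 * M2.card + M1.card * M2.card + (n - 1 + q - 1).choose q := by
  classical
  rw [finrank_iSup_eq hI (fun α => ∑ i, α i = 0) (famS a b z M1 M2 q) ?_ ?_ ?_]
  · have dB : Disjoint (gA a b z M1 M2) (gB a b z M1 M2 q) := by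
      rw [Finset.disjoint_left]
      intro α h1 h2
      have := gA_inv hc h1
      have := gB_inv hc h2
      omega
    have dC : Disjoint (gA a b z M1 M2 ∪ gB a b z M1 M2 q) (gC z M1 M2) := by
      rw [Finset.disjoint_left]
      intro α h1 h2
      have := gC_inv hc h2
      rw [Finset.mem_union] at h1
      rcases h1 with h1 | h1
      · have := gA_inv hc h1
        omega
      · have := gB_inv hc h1
        omega
    have dD : Disjoint ((gA a b z M1 M2 ∪ gB a b z M1 M2 q) ∪ gC z M1 M2)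
        (gD a b z M1 q) := by
      rw [Finset.disjoint_left]
      intro α h1 h2
      have := gD_inv hc h2
      rw [Finset.mem_union, Finset.mem_union] at h1
      rcases h1 with (h1 | h1) | h1
      · have := gA_inv hc h1
        omega
      · have := gB_inv hc h1
        omega
      · have := gC_inv hc h1
        omega
    unfold famS
    rw [Finset.sum_union dD, Finset.sum_union dC, Finset.sum_union dB,
      sum_gA hc (fun α => Module.finrank k ↥(tPiece I α)) (fam1 hc hI hM hq hj2).1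
        (fun j hj => (fam2 hc hI hM hq hj hj2).1),
      sum_gB hc (fun α => Module.finrank k ↥(tPiece I α)) (fam3 hc hI hM hq hj1).1
        (fun j hj => (fam4 hc hI hM hq hj hj1).1) (fun j hj => (fam5 hc hI hM hq hj).1) ?_,
      sum_gC hc (fun α => Module.finrank k ↥(tPiece I α)) (fun j hj => (fam6 hc hI hM hq hj).1)
        ?_ (fun j hj => (fam8 hc hI hM hq hj).1),
      sum_gD hc (fun α => Module.finrank k ↥(tPiece I α)) (fam10 hc hI hM hq).1
        (fun j hj => (fam11 hc hI hM hq hj).1)]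
    · have := card_s9 (n := n) hc.hab hq
      omega
    · intro p hp
      rw [Finset.mem_product] at hp
      exact (fam7 hc hI hM hq hp.1 hp.2).1
    · intro α hα
      have h := f9_of_mem_s9 (z := z) (M1 := M1) (M2 := M2) hc hα
      unfold s9 at hα
      rw [Finset.mem_image] at hα
      obtain ⟨β, hβ, rfl⟩ := hα
      rw [Finset.mem_filter, mem_T0] at hβ
      obtain ⟨⟨ha, hs⟩, hb⟩ := hβ
      obtain ⟨hμn, hμa, hμb, hμ1, hμ2, hμs⟩ := strip_b hc (nonneg_ofN β)
      have hcast : ((q - β b : ℕ) : ℤ) = (q : ℤ) - (β b : ℤ) := by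
        rw [Nat.cast_sub (by omega)]
      have e : ofN β - (q : ℤ) • ev b =
          (ofN β - (ofN β b) • ev b) - ((q - β b : ℕ) : ℤ) • ev b := by
        rw [hcast]
        funext l
        simp only [Pi.sub_apply, Pi.smul_apply, smul_eq_mul, ofN_apply]
        ring
      show Module.finrank k ↥(tPiece I (ofN β - (q : ℤ) • ev b)) = 1
      rw [e]
      refine (fam9 hc hI hM hq hμn ?_ hμb (m := q - β b) (by omega) (by omega) ?_).1
      · rw [hμa, ofN_apply, ha]; rfl
      · rw [hμs, hs, hcast, ofN_apply]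
  · intro α hα
    rw [mem_famS hc] at hα
    show fs Finset.univ α = 0
    exact (inList_props hc hI hM hq hj1 hj2 hα).1
  · intro α hα hns
    rw [Submodule.eq_bot_iff]
    intro φ hφ
    by_contra hne
    apply hns
    rw [mem_famS hc]
    exact vanish hc hI hM hq hr hα hφ hne hj1 hj2
  · intro α hα
    rw [mem_famS hc] at hα
    exact (inList_props hc hI hM hq hj1 hj2 hα).2

end Groth.Agent.Lib.Helper71.TgtTB
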