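import Mathlib

set_option autoImplicit false
set_option linter.style.haveILetI false
universe v
open CategoryTheory MonoidalCategory HomologicalComplex

noncomputable section
namespace Helper71.TotH1

variable {R : Type v} [CommRing R] (K L : ChainComplex (ModuleCat.{v} R) ℕ)

/-- inclusion of a summand of the tensor product of complexes. -/
abbrev ι (i j n : ℕ) (h : i + j = n) : K.X i ⊗ L.X j ⟶ (K ⊗ L).X n :=
  HomologicalComplex.ιTensorObj K L i j n h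

theorem ι_d (i j n n' : ℕ) (h : i + j = n) :
    ι K L i j n h ≫ (K ⊗ L).d n n' =
      mapBifunctor.d₁ K L (curriedTensor (ModuleCat.{v} R)) (ComplexShape.down ℕ) i j n' +
      mapBifunctor.d₂ K L (curriedTensor (ModuleCat.{v} R)) (ComplexShape.down ℕ) i j n' := by
  have := mapBifunctor.d_eq K L (curriedTensor (ModuleCat.{v} R)) (ComplexShape.down ℕ) n n'
  change ι K L i j n h ≫ (mapBifunctor K L (curriedTensor (ModuleCat.{v} R)) (ComplexShape.down ℕ)).d n n' = _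
  rw [this, Preadditive.comp_add]
  congr 1
  · exact mapBifunctor.ι_D₁ K L _ _ n n' i j h
  · exact mapBifunctor.ι_D₂ K L _ _ n n' i j h

theorem d₁_zero (j n : ℕ) :
    mapBifunctor.d₁ K L (curriedTensor (ModuleCat.{v} R)) (ComplexShape.down ℕ) 0 j n = 0 := by
  apply mapBifunctor.d₁_eq_zero
  simp

theorem d₂_zero (i n : ℕ) :
    mapBifunctor.d₂ K L (curriedTensor (ModuleCat.{v} R)) (ComplexShape.down ℕ) i 0 n = 0 := by
  apply mapBifunctor.d₂_eq_zero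
  simp

theorem d₁_succ (i j n : ℕ) (h : i + j = n) :
    mapBifunctor.d₁ K L (curriedTensor (ModuleCat.{v} R)) (ComplexShape.down ℕ) (i + 1) j n =
      (K.d (i + 1) i ▷ L.X j) ≫ ι K L i j n h := by
  rw [mapBifunctor.d₁_eq K L _ _ (show (ComplexShape.down ℕ).Rel (i + 1) i from rfl) j n h]
  simp

theorem d₂_succ (i j n : ℕ) (h : i + j = n) :
    mapBifunctor.d₂ K L (curriedTensor (ModuleCat.{v} R)) (ComplexShape.down ℕ) i (j + 1) n =
      ((-1 : ℤˣ) ^ i) • ((K.X i ◁ L.d (j + 1) j) ≫ ι K L i j n h) := by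
  rw [mapBifunctor.d₂_eq K L _ _ i (show (ComplexShape.down ℕ).Rel (j + 1) j from rfl) n h]
  simp


/-- the family defining the retraction of `ι i j`. -/
def retrFam (i j n : ℕ) (i' j' : ℕ)
    (_ : ComplexShape.π (ComplexShape.down ℕ) (ComplexShape.down ℕ) (ComplexShape.down ℕ)
      (i', j') = n) :
    ((curriedTensor (ModuleCat.{v} R)).obj (K.X i')).obj (L.X j') ⟶ K.X i ⊗ L.X j :=
  if h' : i' = i ∧ j' = j then eqToHom (by rw [h'.1, h'.2]; rfl) else 0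

instance ι_mono (i j n : ℕ) (h : i + j = n) : Mono (ι K L i j n h) := by
  have hr : ι K L i j n h ≫ mapBifunctorDesc (K₁ := K) (K₂ := L)
      (F := curriedTensor (ModuleCat.{v} R)) (c := ComplexShape.down ℕ) (j := n)
      (retrFam K L i j n) = 𝟙 _ := by
    rw [ι_mapBifunctorDesc]
    simp [retrFam]
  exact mono_of_mono_fac hr

theorem ι_injective (i j n : ℕ) (h : i + j = n) : Function.Injective (ι K L i j n h).hom :=
  (ModuleCat.mono_iff_injective _).mp (ι_mono K L i j n h)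

/-- joint surjectivity of the inclusions of the summands. -/
theorem span_ι (n : ℕ) :
    (⨆ (p : {p : ℕ × ℕ // p.1 + p.2 = n}), LinearMap.range (ι K L p.1.1 p.1.2 n p.2).hom) = ⊤ := by
  obtain ⟨N, hN⟩ : ∃ N : Submodule R ((K ⊗ L).X n), N = ⨆ (p : {p : ℕ × ℕ // p.1 + p.2 = n}),
    LinearMap.range (ι K L p.1.1 p.1.2 n p.2).hom := ⟨_, rfl⟩
  rw [← hN]
  obtain ⟨q, hqdef⟩ : ∃ q : (K ⊗ L).X n ⟶ ModuleCat.of R (((K ⊗ L).X n) ⧸ N),
      ∀ x, q.hom x = N.mkQ x := ⟨ModuleCat.ofHom N.mkQ, fun _ => rfl⟩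
  have key : ∀ (i j : ℕ) (h : i + j = n), ι K L i j n h ≫ q = 0 := by
    intro i j h
    apply ModuleCat.hom_ext
    apply LinearMap.ext
    intro x
    have hx : (ι K L i j n h).hom x ∈ N := by
      rw [hN]
      exact Submodule.mem_iSup_of_mem ⟨(i, j), h⟩ (LinearMap.mem_range_self _ x)
    rw [ModuleCat.hom_comp, LinearMap.comp_apply, hqdef, Submodule.mkQ_apply,
      (Submodule.Quotient.mk_eq_zero N).mpr hx]
    rfl
  have hq : q = 0 :=
    mapBifunctor.hom_ext (fun i j h => (key i j h).trans Limits.comp_zero.symm)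
  rw [eq_top_iff]
  intro x _
  have := congrArg (fun f => f.hom x) hq
  rw [hqdef, Submodule.mkQ_apply] at this
  exact (Submodule.Quotient.mk_eq_zero N).mp this

theorem ι_whiskerLeft (C P Q : ChainComplex (ModuleCat.{v} R) ℕ) (π : P ⟶ Q) (i j n : ℕ) (h : i + j = n) :
    HomologicalComplex.ιTensorObj C P i j n h ≫ (C ◁ π).f n =
      (C.X i ◁ π.f j) ≫ HomologicalComplex.ιTensorObj C Q i j n h := by
  have := HomologicalComplex.ι_mapBifunctorMap (𝟙 C) π (curriedTensor (ModuleCat.{v} R)) (ComplexShape.down ℕ) i j n h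
  dsimp at this
  rw [show (C ◁ π) = HomologicalComplex.tensorHom (𝟙 C) π from rfl]
  dsimp [HomologicalComplex.tensorHom, HomologicalComplex.ιTensorObj]
  rw [this]
  simp


theorem decomp_one (x : (K ⊗ L).X 1) :
    ∃ (a : (K.X 1 ⊗ L.X 0 : ModuleCat.{v} R)) (b : (K.X 0 ⊗ L.X 1 : ModuleCat.{v} R)),
      x = (ι K L 1 0 1 rfl).hom a + (ι K L 0 1 1 rfl).hom b := by
  have hx : x ∈ (⨆ (p : {p : ℕ × ℕ // p.1 + p.2 = 1}),
      LinearMap.range (ι K L p.1.1 p.1.2 1 p.2).hom) := by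
    rw [span_ι]; trivial
  induction hx using Submodule.iSup_induction' with
  | mem p x hx =>
    obtain ⟨⟨i, j⟩, h⟩ := p
    obtain ⟨a, rfl⟩ := hx
    have : (i = 1 ∧ j = 0) ∨ (i = 0 ∧ j = 1) := by omega
    rcases this with ⟨rfl, rfl⟩ | ⟨rfl, rfl⟩
    · exact ⟨a, 0, by simp⟩
    · exact ⟨0, a, by simp⟩
  | zero => exact ⟨0, 0, by simp⟩
  | add x y _ _ hx hy =>
    obtain ⟨a, b, rfl⟩ := hx
    obtain ⟨a', b', rfl⟩ := hy
    exact ⟨a + a', b + b', by simp only [map_add]; abel⟩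

theorem decomp_single (hL : ∀ j, Subsingleton (L.X (j + 1))) (n : ℕ) (x : (K ⊗ L).X n) :
    ∃ (a : (K.X n ⊗ L.X 0 : ModuleCat.{v} R)), x = (ι K L n 0 n rfl).hom a := by
  have hx : x ∈ (⨆ (p : {p : ℕ × ℕ // p.1 + p.2 = n}),
      LinearMap.range (ι K L p.1.1 p.1.2 n p.2).hom) := by
    rw [span_ι]; trivial
  induction hx using Submodule.iSup_induction' with
  | mem p x hx =>
    obtain ⟨⟨i, j⟩, h⟩ := p
    obtain ⟨a, rfl⟩ := hx
    rcases j with _ | j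
    · obtain rfl : i = n := by omega
      exact ⟨a, rfl⟩
    · haveI := hL j
      haveI : Subsingleton (K.X i ⊗ L.X (j + 1) : ModuleCat.{v} R) :=
        inferInstanceAs (Subsingleton (TensorProduct R (K.X i) (L.X (j + 1))))
      refine ⟨0, ?_⟩
      rw [Subsingleton.elim a 0]
      simp
  | zero => exact ⟨0, by simp⟩
  | add x y _ _ hx hy =>
    obtain ⟨a, rfl⟩ := hx
    obtain ⟨a', rfl⟩ := hy
    exact ⟨a + a', by simp only [map_add]⟩

theorem M1 : ι K L 1 0 1 rfl ≫ (K ⊗ L).d 1 0 = (K.d 1 0 ▷ L.X 0) ≫ ι K L 0 0 0 rfl := by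
  rw [ι_d, d₁_succ K L 0 0 0 rfl, d₂_zero, add_zero]

theorem M2 : ι K L 0 1 1 rfl ≫ (K ⊗ L).d 1 0 = (K.X 0 ◁ L.d 1 0) ≫ ι K L 0 0 0 rfl := by
  rw [ι_d, d₁_zero, d₂_succ K L 0 0 0 rfl, zero_add, pow_zero, one_smul]

theorem M3 : ι K L 2 0 2 rfl ≫ (K ⊗ L).d 2 1 = (K.d 2 1 ▷ L.X 0) ≫ ι K L 1 0 1 rfl := by
  rw [ι_d, d₁_succ K L 1 0 1 rfl, d₂_zero, add_zero]

theorem M4 : ι K L 1 1 2 rfl ≫ (K ⊗ L).d 2 1 =
    (K.d 1 0 ▷ L.X 1) ≫ ι K L 0 1 1 rfl - (K.X 1 ◁ L.d 1 0) ≫ ι K L 1 0 1 rfl := by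
  rw [ι_d, d₁_succ K L 0 1 1 rfl, d₂_succ K L 1 0 1 rfl, pow_one, Units.neg_smul, one_smul,
    sub_eq_add_neg]

theorem M5 : ι K L 0 2 2 rfl ≫ (K ⊗ L).d 2 1 = (K.X 0 ◁ L.d 2 1) ≫ ι K L 0 1 1 rfl := by
  rw [ι_d, d₁_zero, d₂_succ K L 0 1 1 rfl, zero_add, pow_zero, one_smul]

theorem E1 (a : (K.X 1 ⊗ L.X 0 : ModuleCat.{v} R)) :
    ((K ⊗ L).d 1 0).hom ((ι K L 1 0 1 rfl).hom a) =
      (ι K L 0 0 0 rfl).hom ((K.d 1 0 ▷ L.X 0).hom a) := by
  have := congrArg (fun f => f.hom a) (M1 K L)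
  simpa using this

theorem E2 (b : (K.X 0 ⊗ L.X 1 : ModuleCat.{v} R)) :
    ((K ⊗ L).d 1 0).hom ((ι K L 0 1 1 rfl).hom b) =
      (ι K L 0 0 0 rfl).hom ((K.X 0 ◁ L.d 1 0).hom b) := by
  have := congrArg (fun f => f.hom b) (M2 K L)
  simpa using this

theorem E3 (c : (K.X 2 ⊗ L.X 0 : ModuleCat.{v} R)) :
    ((K ⊗ L).d 2 1).hom ((ι K L 2 0 2 rfl).hom c) =
      (ι K L 1 0 1 rfl).hom ((K.d 2 1 ▷ L.X 0).hom c) := by
  have := congrArg (fun f => f.hom c) (M3 K L)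
  simpa using this

theorem E4 (e : (K.X 1 ⊗ L.X 1 : ModuleCat.{v} R)) :
    ((K ⊗ L).d 2 1).hom ((ι K L 1 1 2 rfl).hom e) =
      (ι K L 0 1 1 rfl).hom ((K.d 1 0 ▷ L.X 1).hom e) -
      (ι K L 1 0 1 rfl).hom ((K.X 1 ◁ L.d 1 0).hom e) := by
  have := congrArg (fun f => f.hom e) (M4 K L)
  simpa using this

theorem E5 (g : (K.X 0 ⊗ L.X 2 : ModuleCat.{v} R)) :
    ((K ⊗ L).d 2 1).hom ((ι K L 0 2 2 rfl).hom g) =
      (ι K L 0 1 1 rfl).hom ((K.X 0 ◁ L.d 2 1).hom g) := by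
  have := congrArg (fun f => f.hom g) (M5 K L)
  simpa using this

theorem exists_cycle (S : ShortComplex (ModuleCat.{v} R)) (x : S.X₂) (hx : S.g.hom x = 0) :
    ∃ z : S.cycles, S.iCycles.hom z = x := by
  have hex : (ShortComplex.mk S.iCycles S.g S.iCycles_g).Exact :=
    ShortComplex.exact_of_f_is_kernel _ S.cyclesIsKernel
  rw [ShortComplex.moduleCat_exact_iff] at hex
  exact hex x hx

theorem exists_toCycles (S : ShortComplex (ModuleCat.{v} R)) (z : S.cycles)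
    (hz : S.homologyπ.hom z = 0) : ∃ x₁ : S.X₁, S.toCycles.hom x₁ = z := by
  have hex : (ShortComplex.mk S.toCycles S.homologyπ S.toCycles_comp_homologyπ).Exact :=
    ShortComplex.exact_of_g_is_cokernel _ S.homologyIsCokernel
  rw [ShortComplex.moduleCat_exact_iff] at hex
  exact hex z hz

theorem quasiIso_of_elementwise {S₁ S₂ : ShortComplex (ModuleCat.{v} R)} (φ : S₁ ⟶ S₂)
    (hsurj : ∀ y : S₂.X₂, S₂.g.hom y = 0 →
      ∃ x : S₁.X₂, S₁.g.hom x = 0 ∧ ∃ w : S₂.X₁, φ.τ₂.hom x = y + S₂.f.hom w)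
    (hinj : ∀ x : S₁.X₂, S₁.g.hom x = 0 → (∃ w : S₂.X₁, φ.τ₂.hom x = S₂.f.hom w) →
      ∃ x₁ : S₁.X₁, S₁.f.hom x₁ = x) :
    ShortComplex.QuasiIso φ := by
  rw [ShortComplex.quasiIso_iff, ConcreteCategory.isIso_iff_bijective]
  have hπ₁ : Function.Surjective S₁.homologyπ.hom :=
    (ModuleCat.epi_iff_surjective _).mp inferInstance
  have hπ₂ : Function.Surjective S₂.homologyπ.hom :=
    (ModuleCat.epi_iff_surjective _).mp inferInstance
  have hi₁ : Function.Injective S₁.iCycles.hom :=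
    (ModuleCat.mono_iff_injective _).mp inferInstance
  have hi₂ : Function.Injective S₂.iCycles.hom :=
    (ModuleCat.mono_iff_injective _).mp inferInstance
  have nat1 : ∀ z : S₁.cycles, (ShortComplex.homologyMap φ).hom (S₁.homologyπ.hom z) =
      S₂.homologyπ.hom ((ShortComplex.cyclesMap φ).hom z) := fun z =>
    congrArg (fun f => f.hom z) (ShortComplex.homologyπ_naturality φ)
  have nat2 : ∀ z : S₁.cycles, S₂.iCycles.hom ((ShortComplex.cyclesMap φ).hom z) =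
      φ.τ₂.hom (S₁.iCycles.hom z) := fun z =>
    congrArg (fun f => f.hom z) (ShortComplex.cyclesMap_i φ)
  have ti₁ : ∀ x : S₁.X₁, S₁.iCycles.hom (S₁.toCycles.hom x) = S₁.f.hom x := fun x =>
    congrArg (fun f => f.hom x) S₁.toCycles_i
  have ti₂ : ∀ x : S₂.X₁, S₂.iCycles.hom (S₂.toCycles.hom x) = S₂.f.hom x := fun x =>
    congrArg (fun f => f.hom x) S₂.toCycles_i
  have ig₁ : ∀ z : S₁.cycles, S₁.g.hom (S₁.iCycles.hom z) = 0 := fun z =>
    congrArg (fun f => f.hom z) S₁.iCycles_g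
  have ig₂ : ∀ z : S₂.cycles, S₂.g.hom (S₂.iCycles.hom z) = 0 := fun z =>
    congrArg (fun f => f.hom z) S₂.iCycles_g
  have tπ₂ : ∀ x : S₂.X₁, S₂.homologyπ.hom (S₂.toCycles.hom x) = 0 := fun x =>
    congrArg (fun f => f.hom x) S₂.toCycles_comp_homologyπ
  have tπ₁ : ∀ x : S₁.X₁, S₁.homologyπ.hom (S₁.toCycles.hom x) = 0 := fun x =>
    congrArg (fun f => f.hom x) S₁.toCycles_comp_homologyπ
  constructor
  · -- injective
    intro h h' hh
    rw [← sub_eq_zero] at hh ⊢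
    obtain ⟨z, hz⟩ := hπ₁ (h - h')
    have hh' : (ShortComplex.homologyMap φ).hom (h - h') = 0 := by
      rw [map_sub]; exact hh
    rw [← hz] at hh' ⊢
    rw [nat1] at hh'
    obtain ⟨w, hw⟩ := exists_toCycles S₂ _ hh'
    have h1 : φ.τ₂.hom (S₁.iCycles.hom z) = S₂.f.hom w := by
      rw [← nat2, ← hw, ti₂]
    obtain ⟨x₁, hx₁⟩ := hinj _ (ig₁ z) ⟨w, h1⟩
    have : S₁.toCycles.hom x₁ = z := hi₁ (by rw [ti₁, hx₁])
    rw [← this, tπ₁]
  · -- surjective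
    intro h
    obtain ⟨z, rfl⟩ := hπ₂ h
    obtain ⟨x, hx, w, hxw⟩ := hsurj _ (ig₂ z)
    obtain ⟨z₁, hz₁⟩ := exists_cycle S₁ x hx
    refine ⟨S₁.homologyπ.hom z₁, ?_⟩
    change (ShortComplex.homologyMap φ).hom _ = _
    rw [nat1]
    have : (ShortComplex.cyclesMap φ).hom z₁ = z + S₂.toCycles.hom w := by
      apply hi₂
      rw [nat2, hz₁, hxw, map_add, ti₂]
    rw [this, map_add, tπ₂, add_zero]

theorem ι_whiskerLeft_apply (C P Q : ChainComplex (ModuleCat.{v} R) ℕ) (π : P ⟶ Q)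
    (i j n : ℕ) (h : i + j = n) (a : (C.X i ⊗ P.X j : ModuleCat.{v} R)) :
    ((C ◁ π).f n).hom ((ι C P i j n h).hom a) =
      (ι C Q i j n h).hom ((C.X i ◁ π.f j).hom a) := by
  have := congrArg (fun f => f.hom a) (ι_whiskerLeft C P Q π i j n h)
  simpa using this

/-- facts about a resolution -/
theorem resolution_facts (P : ChainComplex (ModuleCat.{v} R) ℕ) (G : ModuleCat.{v} R)
    [∀ q, Module.Free R (P.X q)]
    (π : P ⟶ (ChainComplex.single₀ (ModuleCat.{v} R)).obj G) [QuasiIso π] :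
    Function.Surjective (π.f 0).hom ∧
    Function.Exact (P.d 1 0).hom (π.f 0).hom ∧
    Function.Exact (P.d 2 1).hom (P.d 1 0).hom := by
  haveI : ∀ n, Projective (P.X n) := fun n => inferInstance
  obtain ⟨Pres, hPc, hPπ⟩ : ∃ Pres : ProjectiveResolution G, ∃ h : Pres.complex = P,
      Pres.π = eqToHom h ≫ π := ⟨{ complex := P, π := π }, rfl, by simp⟩
  subst hPc
  simp only [eqToHom_refl, Category.id_comp] at hPπ
  subst hPπ
  refine ⟨?_, ?_, ?_⟩
  · exact (ModuleCat.epi_iff_surjective _).mp inferInstance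
  · have := ShortComplex.exact_of_g_is_cokernel
      (ShortComplex.mk (Pres.complex.d 1 0) (Pres.π.f 0) Pres.complex_d_comp_π_f_zero)
      Pres.isColimitCokernelCofork
    rw [ShortComplex.ShortExact.moduleCat_exact_iff_function_exact] at this
    exact this
  · have := Pres.exact_succ 0
    rw [ShortComplex.ShortExact.moduleCat_exact_iff_function_exact] at this
    exact this

theorem main_aux (C P Q : ChainComplex (ModuleCat.{v} R) ℕ) [Module.Flat R (C.X 0)]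
    (π : P ⟶ Q) (hQsub : ∀ j, Subsingleton (Q.X (j + 1)))
    (hπsurj : Function.Surjective (π.f 0).hom)
    (hex0 : Function.Exact (P.d 1 0).hom (π.f 0).hom)
    (hex1 : Function.Exact (P.d 2 1).hom (P.d 1 0).hom) :
    IsIso (HomologicalComplex.homologyMap (C ◁ π) 1) := by
  -- tensor exactness facts
  have p_surj : ∀ n, Function.Surjective (C.X n ◁ π.f 0).hom := fun n =>
    LinearMap.lTensor_surjective (C.X n) hπsurj
  have p_exact : ∀ n, Function.Exact (C.X n ◁ P.d 1 0).hom (C.X n ◁ π.f 0).hom := fun n =>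
    lTensor_exact (C.X n) hex0 hπsurj
  have flat_exact : Function.Exact (C.X 0 ◁ P.d 2 1).hom (C.X 0 ◁ P.d 1 0).hom :=
    Module.Flat.lTensor_exact (C.X 0) hex1
  have sub01 : ∀ t : (C.X 0 ⊗ Q.X 1 : ModuleCat.{v} R), t = 0 := by
    intro t
    haveI := hQsub 0
    haveI : Subsingleton (C.X 0 ⊗ Q.X 1 : ModuleCat.{v} R) :=
      inferInstanceAs (Subsingleton (TensorProduct R (C.X 0) (Q.X 1)))
    exact Subsingleton.elim _ _
  -- exchange facts
  have X1 : ∀ a : (C.X 1 ⊗ P.X 0 : ModuleCat.{v} R),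
      (C.X 0 ◁ π.f 0).hom ((C.d 1 0 ▷ P.X 0).hom a) =
        (C.d 1 0 ▷ Q.X 0).hom ((C.X 1 ◁ π.f 0).hom a) := fun a =>
    (congrArg (fun f => f.hom a) (whisker_exchange (C.d 1 0) (π.f 0))).symm
  have X2 : ∀ a : (C.X 2 ⊗ P.X 0 : ModuleCat.{v} R),
      (C.X 1 ◁ π.f 0).hom ((C.d 2 1 ▷ P.X 0).hom a) =
        (C.d 2 1 ▷ Q.X 0).hom ((C.X 2 ◁ π.f 0).hom a) := fun a =>
    (congrArg (fun f => f.hom a) (whisker_exchange (C.d 2 1) (π.f 0))).symm
  have X3 : ∀ e : (C.X 1 ⊗ P.X 1 : ModuleCat.{v} R),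
      (C.X 0 ◁ P.d 1 0).hom ((C.d 1 0 ▷ P.X 1).hom e) =
        (C.d 1 0 ▷ P.X 0).hom ((C.X 1 ◁ P.d 1 0).hom e) := fun e =>
    (congrArg (fun f => f.hom e) (whisker_exchange (C.d 1 0) (P.d 1 0))).symm
  have X4 : ∀ c : (C.X 2 ⊗ P.X 0 : ModuleCat.{v} R),
      (C.d 1 0 ▷ P.X 0).hom ((C.d 2 1 ▷ P.X 0).hom c) = 0 := by
    intro c
    have h0 : (C.d 2 1 ▷ P.X 0) ≫ (C.d 1 0 ▷ P.X 0) = 0 := by
      rw [← comp_whiskerRight, C.d_comp_d, MonoidalPreadditive.zero_whiskerRight]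
    exact congrArg (fun f => f.hom c) h0
  rw [← quasiIsoAt_iff_isIso_homologyMap,
    quasiIsoAt_iff' (C ◁ π) 2 1 0 (by simp) (by simp)]
  apply quasiIso_of_elementwise
  · -- surjectivity
    intro y hy
    change ((C ⊗ Q).d 1 0).hom y = 0 at hy
    obtain ⟨y', rfl⟩ := decomp_single C Q hQsub 1 y
    rw [E1] at hy
    have hy' : (C.d 1 0 ▷ Q.X 0).hom y' = 0 := by
      apply ι_injective C Q 0 0 0 rfl
      rw [hy, map_zero]
    obtain ⟨z, rfl⟩ := p_surj 1 y'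
    have hz : (C.X 0 ◁ π.f 0).hom ((C.d 1 0 ▷ P.X 0).hom z) = 0 := by
      rw [X1, hy']
    obtain ⟨w, hw⟩ := (p_exact 0 _).mp hz
    refine ⟨(ι C P 1 0 1 rfl).hom z - (ι C P 0 1 1 rfl).hom w, ?_, 0, ?_⟩
    · change ((C ⊗ P).d 1 0).hom _ = 0
      rw [map_sub, E1, E2, hw, sub_self]
    · change ((C ◁ π).f 1).hom _ = _
      rw [map_sub, ι_whiskerLeft_apply, ι_whiskerLeft_apply, sub01 ((C.X 0 ◁ π.f 1).hom w),
        map_zero, sub_zero, map_zero]
      exact (add_zero _).symm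
  · -- injectivity
    intro x hx hxw
    change ((C ⊗ P).d 1 0).hom x = 0 at hx
    obtain ⟨y₂, hy₂⟩ := hxw
    change ((C ◁ π).f 1).hom x = ((C ⊗ Q).d 2 1).hom y₂ at hy₂
    obtain ⟨a, b, rfl⟩ := decomp_one C P x
    obtain ⟨c, rfl⟩ := decomp_single C Q hQsub 2 y₂
    rw [map_add, ι_whiskerLeft_apply, ι_whiskerLeft_apply, sub01 ((C.X 0 ◁ π.f 1).hom b),
      map_zero, add_zero, E3] at hy₂
    have h1 : (C.X 1 ◁ π.f 0).hom a = (C.d 2 1 ▷ Q.X 0).hom c :=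
      ι_injective C Q 1 0 1 rfl hy₂
    obtain ⟨c', rfl⟩ := p_surj 2 c
    have h2 : (C.X 1 ◁ π.f 0).hom (a - (C.d 2 1 ▷ P.X 0).hom c') = 0 := by
      rw [map_sub, X2, h1, sub_self]
    obtain ⟨e, he⟩ := (p_exact 1 _).mp h2
    rw [map_add, E1, E2, ← map_add] at hx
    have h3 : (C.d 1 0 ▷ P.X 0).hom a + (C.X 0 ◁ P.d 1 0).hom b = 0 := by
      apply ι_injective C P 0 0 0 rfl
      rw [hx, map_zero]
    have h4 : (C.X 0 ◁ P.d 1 0).hom (b + (C.d 1 0 ▷ P.X 1).hom e) = 0 := by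
      rw [map_add, X3, he, map_sub, X4, sub_zero, add_comm]
      exact h3
    obtain ⟨g, hg⟩ := (flat_exact _).mp h4
    refine ⟨(ι C P 2 0 2 rfl).hom c' - (ι C P 1 1 2 rfl).hom e + (ι C P 0 2 2 rfl).hom g, ?_⟩
    change ((C ⊗ P).d 2 1).hom _ = _
    rw [map_add, map_sub, E3, E4, E5, hg, he, map_add, map_sub]
    abel

theorem main (C P : ChainComplex (ModuleCat.{v} R) ℕ) (G : ModuleCat.{v} R)
    [Module.Free R (C.X 0)] [∀ q, Module.Free R (P.X q)]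
    (π : P ⟶ (ChainComplex.single₀ (ModuleCat.{v} R)).obj G) [QuasiIso π] :
    IsIso (HomologicalComplex.homologyMap (C ◁ π) 1) := by
  obtain ⟨hπsurj, hex0, hex1⟩ := resolution_facts P G π
  refine main_aux C P _ π (fun j => ?_) hπsurj hex0 hex1
  exact ModuleCat.subsingleton_of_isZero
    (isZero_single_obj_X (ComplexShape.down ℕ) 0 G (j + 1) (by simp))

end Helper71.TotH1
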