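import Mathlib

/-!
# Uniformly bounded presentations (helper71 seat library)

Element-level finite presentations `HasPres A M σ ρ` (generators indexed by `σ`, relations by `ρ`),
Schanuel-type regeneration, base change, descent along a finite partition of unity with explicit
bounds on the index types, and finite presentation of a product of uniformly presented modules over
the product ring.
-/

set_option autoImplicit false
universe u v w

open scoped BigOperators TensorProduct

namespace Helper71.UnifPres

section Basic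

variable {A : Type u} {M : Type v} [CommRing A] [AddCommGroup M] [Module A M]

/-- `x` generates `M`. -/
def Gen {σ : Type} [Fintype σ] (x : σ → M) : Prop :=
  ∀ y : M, ∃ c : σ → A, ∑ s, c s • x s = y

/-- The rows of `k` generate the module of relations among the `x s`. -/
def IsRel {σ ρ : Type} [Fintype σ] [Fintype ρ] (x : σ → M) (k : ρ → σ → A) : Prop :=
  ∀ c : σ → A, ∑ s, c s • x s = 0 ↔ ∃ d : ρ → A, ∀ s, c s = ∑ r, d r * k r s

variable (A M) in
/-- `M` has a presentation with generators indexed by `σ` and relations indexed by `ρ`. -/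
def HasPres (σ ρ : Type) [Fintype σ] [Fintype ρ] : Prop :=
  ∃ (x : σ → M) (k : ρ → σ → A), Gen (A := A) x ∧ IsRel x k

theorem IsRel.row_zero {σ ρ : Type} [Fintype σ] [Fintype ρ] [DecidableEq ρ] {x : σ → M}
    {k : ρ → σ → A} (h : IsRel x k) (r : ρ) : ∑ s, k r s • x s = 0 := by
  rw [h]
  refine ⟨Pi.single r 1, fun s => ?_⟩
  rw [Finset.sum_eq_single r]
  · simp
  · intro b _ hb
    simp [Pi.single_apply, hb]
  · intro h
    exact absurd (Finset.mem_univ r) h

theorem local_span {ι : Type} [Fintype ι] (e : ι → A) (he : Ideal.span (Set.range e) = ⊤)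
    (P : Submodule A M) (x : M) (h : ∀ i, ∃ N : ℕ, e i ^ N • x ∈ P) : x ∈ P := by
  classical
  choose N hN using h
  obtain ⟨K, hK'⟩ : ∃ K, ∀ i, N i ≤ K := ⟨Finset.univ.sup N, fun i => Finset.le_sup (Finset.mem_univ i)⟩
  have hK : ∀ i, e i ^ K • x ∈ P := by
    intro i
    have : e i ^ K • x = e i ^ (K - N i) • (e i ^ N i • x) := by
      rw [smul_smul, ← pow_add, Nat.sub_add_cancel (hK' i)]
    rw [this]
    exact P.smul_mem _ (hN i)
  have h1 := Ideal.span_pow_eq_top _ he K
  have h2 : Ideal.span ((fun r => r ^ K) '' Set.range e) ≤ P.comap (LinearMap.toSpanSingleton A M x) := by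
    rw [Ideal.span_le]
    rintro _ ⟨_, ⟨i, rfl⟩, rfl⟩
    exact hK i
  rw [h1] at h2
  have h3 : (1 : A) ∈ P.comap (LinearMap.toSpanSingleton A M x) := h2 Submodule.mem_top
  have h4 : (1 : A) • x ∈ P := h3
  rwa [one_smul] at h4

end Basic

section Regen

variable {A : Type u} {M : Type v} [CommRing A] [AddCommGroup M] [Module A M]

/-- Schanuel-type lemma: if `M` is presented by `(x, k)`, then for any other finite generating family
`z` indexed by `τ` the relations among the `z t` are generated by `ρ ⊕ τ` explicit relations. -/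
theorem regen {σ ρ τ : Type} [Fintype σ] [Fintype ρ] [Fintype τ]
    {x : σ → M} {k : ρ → σ → A} (hx : Gen (A := A) x) (hk : IsRel x k)
    {z : τ → M} (hz : Gen (A := A) z) :
    ∃ k' : (ρ ⊕ τ) → τ → A, IsRel z k' := by
  classical
  choose α hα using fun t => hx (z t)
  choose β hβ using fun s => hz (x s)
  refine ⟨Sum.elim (fun r t => ∑ s, k r s * β s t)
    (fun t0 t => (if t = t0 then 1 else 0) - ∑ s, α t0 s * β s t), ?_⟩
  have hrow : ∀ j : ρ ⊕ τ, ∑ t, (Sum.elim (fun r t => ∑ s, k r s * β s t)
      (fun t0 t => (if t = t0 then 1 else 0) - ∑ s, α t0 s * β s t) j t) • z t = 0 := by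
    rintro (r | t0)
    · simp only [Sum.elim_inl]
      calc ∑ t, (∑ s, k r s * β s t) • z t
          = ∑ t, ∑ s, k r s • (β s t • z t) := by
            refine Finset.sum_congr rfl fun t _ => ?_
            rw [Finset.sum_smul]
            refine Finset.sum_congr rfl fun s _ => ?_
            rw [mul_smul]
        _ = ∑ s, k r s • ∑ t, β s t • z t := by
            rw [Finset.sum_comm]
            refine Finset.sum_congr rfl fun s _ => ?_
            rw [Finset.smul_sum]
        _ = ∑ s, k r s • x s := by simp_rw [hβ]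
        _ = 0 := hk.row_zero r
    · simp only [Sum.elim_inr]
      calc ∑ t, ((if t = t0 then (1 : A) else 0) - ∑ s, α t0 s * β s t) • z t
          = ∑ t, (if t = t0 then (1 : A) else 0) • z t - ∑ t, ∑ s, α t0 s • (β s t • z t) := by
            rw [← Finset.sum_sub_distrib]
            refine Finset.sum_congr rfl fun t _ => ?_
            rw [sub_smul, Finset.sum_smul]
            congr 1
            refine Finset.sum_congr rfl fun s _ => ?_
            rw [mul_smul]
        _ = z t0 - ∑ s, α t0 s • ∑ t, β s t • z t := by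
            congr 1
            · simp
            · rw [Finset.sum_comm]
              refine Finset.sum_congr rfl fun s _ => ?_
              rw [Finset.smul_sum]
        _ = z t0 - ∑ s, α t0 s • x s := by simp_rw [hβ]
        _ = 0 := by rw [hα, sub_self]
  intro c
  constructor
  · intro hc
    have h1 : ∑ s, (∑ t, c t * α t s) • x s = 0 := by
      calc ∑ s, (∑ t, c t * α t s) • x s
          = ∑ s, ∑ t, c t • (α t s • x s) := by
            refine Finset.sum_congr rfl fun s _ => ?_
            rw [Finset.sum_smul]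
            refine Finset.sum_congr rfl fun t _ => ?_
            rw [mul_smul]
        _ = ∑ t, c t • ∑ s, α t s • x s := by
            rw [Finset.sum_comm]
            refine Finset.sum_congr rfl fun t _ => ?_
            rw [Finset.smul_sum]
        _ = ∑ t, c t • z t := by simp_rw [hα]
        _ = 0 := hc
    obtain ⟨d0, hd0⟩ := (hk _).mp h1
    refine ⟨Sum.elim d0 c, fun t => ?_⟩
    rw [Fintype.sum_sum_type]
    simp only [Sum.elim_inl, Sum.elim_inr]
    have e1 : ∑ r, d0 r * ∑ s, k r s * β s t = ∑ s, (∑ t', c t' * α t' s) * β s t := by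
      calc ∑ r, d0 r * ∑ s, k r s * β s t
          = ∑ r, ∑ s, (d0 r * k r s) * β s t := by
            refine Finset.sum_congr rfl fun r _ => ?_
            rw [Finset.mul_sum]
            refine Finset.sum_congr rfl fun s _ => ?_
            rw [mul_assoc]
        _ = ∑ s, (∑ r, d0 r * k r s) * β s t := by
            rw [Finset.sum_comm]
            refine Finset.sum_congr rfl fun s _ => ?_
            rw [Finset.sum_mul]
        _ = ∑ s, (∑ t', c t' * α t' s) * β s t := by simp_rw [← hd0]
    have e2 : ∑ t0, c t0 * ((if t = t0 then (1 : A) else 0) - ∑ s, α t0 s * β s t)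
        = c t - ∑ s, (∑ t', c t' * α t' s) * β s t := by
      calc ∑ t0, c t0 * ((if t = t0 then (1 : A) else 0) - ∑ s, α t0 s * β s t)
          = ∑ t0, c t0 * (if t = t0 then (1 : A) else 0) - ∑ t0, ∑ s, (c t0 * α t0 s) * β s t := by
            rw [← Finset.sum_sub_distrib]
            refine Finset.sum_congr rfl fun t0 _ => ?_
            rw [mul_sub, Finset.mul_sum]
            congr 1
            refine Finset.sum_congr rfl fun s _ => ?_
            rw [mul_assoc]
        _ = c t - ∑ s, (∑ t', c t' * α t' s) * β s t := by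
            congr 1
            · simp
            · rw [Finset.sum_comm]
              refine Finset.sum_congr rfl fun s _ => ?_
              rw [Finset.sum_mul]
    rw [e1, e2]
    ring
  · rintro ⟨d, hd⟩
    calc ∑ t, c t • z t
        = ∑ t, ∑ j, d j • ((Sum.elim (fun r t => ∑ s, k r s * β s t)
            (fun t0 t => (if t = t0 then 1 else 0) - ∑ s, α t0 s * β s t) j t) • z t) := by
          refine Finset.sum_congr rfl fun t _ => ?_
          rw [hd t, Finset.sum_smul]
          refine Finset.sum_congr rfl fun j _ => ?_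
          rw [mul_smul]
      _ = ∑ j, d j • ∑ t, (Sum.elim (fun r t => ∑ s, k r s * β s t)
            (fun t0 t => (if t = t0 then 1 else 0) - ∑ s, α t0 s * β s t) j t) • z t := by
          rw [Finset.sum_comm]
          refine Finset.sum_congr rfl fun j _ => ?_
          rw [Finset.smul_sum]
      _ = 0 := by simp_rw [hrow, smul_zero, Finset.sum_const_zero]

end Regen

section Loc

variable {A : Type u} {M : Type v} {A' : Type w} {M' : Type w}
  [CommRing A] [AddCommGroup M] [Module A M] [CommRing A'] [AddCommGroup M'] [Module A' M']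

/-- Element-level data saying that `(A', M')` is the localization of `(A, M)` away from `e`. -/
structure LocData (e : A) (ψ : A →+* A') (φ : M →+ M') : Prop where
  semi : ∀ (r : A) (x : M), φ (r • x) = ψ r • φ x
  unit : IsUnit (ψ e)
  L2 : ∀ t : A', ∃ (n : ℕ) (s : A), ψ s = ψ e ^ n * t
  L3 : ∀ s : A, ψ s = 0 → ∃ n : ℕ, e ^ n * s = 0
  M2 : ∀ t : M', ∃ (n : ℕ) (x : M), φ x = ψ e ^ n • t
  M3 : ∀ x : M, φ x = 0 → ∃ n : ℕ, e ^ n • x = 0

namespace LocData

variable {e : A} {ψ : A →+* A'} {φ : M →+ M'} (h : LocData e ψ φ)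
include h

theorem map_sum {T : Type} [Fintype T] (c : T → A) (x : T → M) :
    φ (∑ t, c t • x t) = ∑ t, ψ (c t) • φ (x t) := by
  rw [_root_.map_sum]
  exact Finset.sum_congr rfl fun t _ => h.semi _ _

theorem L2fam {J : Type} [Fintype J] (t : J → A') :
    ∃ (n : ℕ) (s : J → A), ∀ j, ψ (s j) = ψ e ^ n * t j := by
  classical
  choose n s hs using fun j => h.L2 (t j)
  obtain ⟨K, hK⟩ : ∃ K, ∀ j, n j ≤ K := ⟨Finset.univ.sup n, fun j => Finset.le_sup (Finset.mem_univ j)⟩
  refine ⟨K, fun j => e ^ (K - n j) * s j, fun j => ?_⟩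
  rw [map_mul, map_pow, hs, ← mul_assoc, ← pow_add, Nat.sub_add_cancel (hK j)]

theorem L3fam {J : Type} [Fintype J] (s : J → A) (hs : ∀ j, ψ (s j) = 0) :
    ∃ n : ℕ, ∀ j, e ^ n * s j = 0 := by
  classical
  choose n hn using fun j => h.L3 (s j) (hs j)
  obtain ⟨K, hK⟩ : ∃ K, ∀ j, n j ≤ K := ⟨Finset.univ.sup n, fun j => Finset.le_sup (Finset.mem_univ j)⟩
  refine ⟨K, fun j => ?_⟩
  rw [← Nat.sub_add_cancel (hK j), pow_add, mul_assoc, hn, mul_zero]

theorem M3fam {J : Type} [Fintype J] (x : J → M) (hx : ∀ j, φ (x j) = 0) :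
    ∃ n : ℕ, ∀ j, e ^ n • x j = 0 := by
  classical
  choose n hn using fun j => h.M3 (x j) (hx j)
  obtain ⟨K, hK⟩ : ∃ K, ∀ j, n j ≤ K := ⟨Finset.univ.sup n, fun j => Finset.le_sup (Finset.mem_univ j)⟩
  refine ⟨K, fun j => ?_⟩
  rw [← Nat.sub_add_cancel (hK j), pow_add, mul_smul, hn, smul_zero]

/-- Local generation: lifts of (multiples of) local generators generate up to a power of `e`. -/
theorem gen_local {σ : Type} [Fintype σ] {x' : σ → M'} (hx' : Gen (A := A') x')
    (X : σ → M) (N : σ → ℕ) (hX : ∀ s, φ (X s) = ψ e ^ N s • x' s) (y : M) :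
    ∃ (n : ℕ) (c : σ → A), e ^ n • y = ∑ s, c s • X s := by
  obtain ⟨u, hu⟩ := h.unit
  obtain ⟨c', hc'⟩ := hx' (φ y)
  have hx'' : ∀ s, x' s = (↑(u⁻¹ ^ N s) : A') • φ (X s) := by
    intro s
    rw [hX, ← hu, smul_smul, ← Units.val_pow_eq_pow_val, ← Units.val_mul, ← mul_pow, inv_mul_cancel,
      one_pow, Units.val_one, one_smul]
  obtain ⟨n, d, hd⟩ := h.L2fam (fun s => c' s * (↑(u⁻¹ ^ N s) : A'))
  have h1 : φ (e ^ n • y - ∑ s, d s • X s) = 0 := by
    rw [map_sub, h.semi, h.map_sum, ← hc', Finset.smul_sum, sub_eq_zero]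
    refine Finset.sum_congr rfl fun s _ => ?_
    rw [hd, map_pow, mul_smul, mul_smul, ← hx'' s]
  obtain ⟨n', hn'⟩ := h.M3 _ h1
  refine ⟨n' + n, fun s => e ^ n' * d s, ?_⟩
  rw [smul_sub, sub_eq_zero, smul_smul, ← pow_add] at hn'
  rw [hn', Finset.smul_sum]
  exact Finset.sum_congr rfl fun s _ => by rw [mul_smul]

/-- Local relations: for a global finite generating family `x`, finitely many (`ρ ⊕ T`) global
relations generate all relations up to a power of `e`. -/
theorem rel_local {σ ρ T : Type} [Fintype σ] [Fintype ρ] [Fintype T]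
    (hP : HasPres A' M' σ ρ) {x : T → M} (hx : Gen (A := A) x) :
    ∃ v : (ρ ⊕ T) → T → A, (∀ j, ∑ t, v j t • x t = 0) ∧
      ∀ c : T → A, ∑ t, c t • x t = 0 →
        ∃ (n : ℕ) (d : (ρ ⊕ T) → A), ∀ t, e ^ n * c t = ∑ j, d j * v j t := by
  classical
  obtain ⟨u, hu⟩ := h.unit
  obtain ⟨x', k', hx', hk'⟩ := hP
  -- the images of the `x t` generate `M'`
  have hz : Gen (A := A') (fun t => φ (x t)) := by
    intro y'
    obtain ⟨n, y, hy⟩ := h.M2 y'
    obtain ⟨c, hc⟩ := hx y
    refine ⟨fun t => (↑(u⁻¹ ^ n) : A') * ψ (c t), ?_⟩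
    have : ∑ t, ((↑(u⁻¹ ^ n) : A') * ψ (c t)) • φ (x t) = (↑(u⁻¹ ^ n) : A') • φ y := by
      rw [← hc, h.map_sum, Finset.smul_sum]
      exact Finset.sum_congr rfl fun t _ => by rw [mul_smul]
    rw [this, hy, ← hu, smul_smul, ← Units.val_pow_eq_pow_val, ← Units.val_mul, ← mul_pow,
      inv_mul_cancel, one_pow, Units.val_one, one_smul]
  obtain ⟨w, hw⟩ := regen hx' hk' hz
  -- clear denominators in `w`
  obtain ⟨n0, v0, hv0⟩ := h.L2fam (fun jt : (ρ ⊕ T) × T => w jt.1 jt.2)
  have hv0z : ∀ j, φ (∑ t, v0 (j, t) • x t) = 0 := by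
    intro j
    rw [h.map_sum]
    have : ∑ t, ψ (v0 (j, t)) • φ (x t) = ψ e ^ n0 • ∑ t, w j t • φ (x t) := by
      rw [Finset.smul_sum]
      exact Finset.sum_congr rfl fun t _ => by rw [hv0, mul_smul]
    rw [this, hw.row_zero j, smul_zero]
  obtain ⟨n1, hn1⟩ := h.M3fam _ hv0z
  refine ⟨fun j t => e ^ n1 * v0 (j, t), fun j => ?_, fun c hc => ?_⟩
  · have := hn1 j
    rw [Finset.smul_sum] at this
    rw [← this]
    exact Finset.sum_congr rfl fun t _ => by rw [mul_smul]
  · have hc' : ∑ t, ψ (c t) • φ (x t) = 0 := by rw [← h.map_sum, hc, map_zero]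
    obtain ⟨d', hd'⟩ := (hw _).mp hc'
    obtain ⟨n2, d0, hd0⟩ := h.L2fam d'
    have hz' : ∀ t, ψ (e ^ (n2 + n0 + n1) * c t - ∑ j, d0 j * (e ^ n1 * v0 (j, t))) = 0 := by
      intro t
      rw [map_sub, map_mul, map_pow, hd' t, _root_.map_sum, Finset.mul_sum, sub_eq_zero]
      refine Finset.sum_congr rfl fun j _ => ?_
      rw [map_mul, map_mul, map_pow, hd0, hv0]
      ring
    obtain ⟨n3, hn3⟩ := h.L3fam _ hz'
    refine ⟨n3 + (n2 + n0 + n1), fun j => e ^ n3 * d0 j, fun t => ?_⟩
    have := hn3 t
    rw [mul_sub, sub_eq_zero, ← mul_assoc, ← pow_add] at this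
    rw [this, Finset.mul_sum]
    exact Finset.sum_congr rfl fun j _ => by ring

end LocData

end Loc

section Global

variable {A : Type u} {M : Type v} [CommRing A] [AddCommGroup M] [Module A M]

/-- **Descent of presentations along a finite partition of unity, with explicit bounds.** -/
theorem hasPres_of_local {ι : Type} [Fintype ι] (e : ι → A) (he : Ideal.span (Set.range e) = ⊤)
    (A' : ι → Type w) (M' : ι → Type w) [∀ a, CommRing (A' a)] [∀ a, AddCommGroup (M' a)]
    [∀ a, Module (A' a) (M' a)]
    (ψ : ∀ a, A →+* A' a) (φ : ∀ a, M →+ M' a) (hloc : ∀ a, LocData (e a) (ψ a) (φ a))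
    (σ ρ : ι → Type) [∀ a, Fintype (σ a)] [∀ a, Fintype (ρ a)]
    (hP : ∀ a, HasPres (A' a) (M' a) (σ a) (ρ a)) :
    HasPres A M (Σ a, σ a) (Σ a, (ρ a ⊕ (Σ b, σ b))) := by
  classical
  -- local generators and their lifts
  have hgen : ∀ a, ∃ x' : σ a → M' a, Gen (A := A' a) x' := fun a => by
    obtain ⟨x', k', hx', -⟩ := hP a
    exact ⟨x', hx'⟩
  choose x' hx' using hgen
  choose N X hX using fun (a : ι) (s : σ a) => (hloc a).M2 (x' a s)
  -- the global generating family
  obtain ⟨x, hxdef⟩ : ∃ x : (Σ a, σ a) → M, ∀ a s, x ⟨a, s⟩ = X a s := ⟨fun p => X p.1 p.2, fun _ _ => rfl⟩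
  have hx : Gen (A := A) x := by
    intro y
    have hy : y ∈ Submodule.span A (Set.range x) := by
      refine local_span e he _ y fun a => ?_
      obtain ⟨n, c, hc⟩ := (hloc a).gen_local (hx' a) (X a) (N a) (hX a) y
      refine ⟨n, ?_⟩
      rw [hc]
      refine Submodule.sum_mem _ fun s _ => Submodule.smul_mem _ _ (Submodule.subset_span ⟨⟨a, s⟩, ?_⟩)
      exact hxdef a s
    obtain ⟨c, hc⟩ := (Submodule.mem_span_range_iff_exists_fun A).mp hy
    exact ⟨c, hc⟩
  -- local relations
  choose v hv0 hv using fun a => (hloc a).rel_local (hP a) hx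
  obtain ⟨k, hkdef⟩ : ∃ k : (Σ a, (ρ a ⊕ (Σ b, σ b))) → (Σ a, σ a) → A, ∀ a j, k ⟨a, j⟩ = v a j :=
    ⟨fun p => v p.1 p.2, fun _ _ => rfl⟩
  refine ⟨x, k, hx, fun c => ⟨fun hc => ?_, ?_⟩⟩
  · have hmem : c ∈ Submodule.span A (Set.range k) := by
      refine local_span e he _ c fun a => ?_
      obtain ⟨n, d, hd⟩ := hv a c hc
      refine ⟨n, ?_⟩
      have : e a ^ n • c = ∑ j, d j • v a j := by
        funext t
        rw [Pi.smul_apply, smul_eq_mul, hd t, Finset.sum_apply]
        exact Finset.sum_congr rfl fun j _ => by rw [Pi.smul_apply, smul_eq_mul]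
      rw [this]
      refine Submodule.sum_mem _ fun j _ => Submodule.smul_mem _ _ (Submodule.subset_span ⟨⟨a, j⟩, ?_⟩)
      exact hkdef a j
    obtain ⟨d, hd⟩ := (Submodule.mem_span_range_iff_exists_fun A).mp hmem
    refine ⟨d, fun s => ?_⟩
    rw [← hd, Finset.sum_apply]
    exact Finset.sum_congr rfl fun r _ => by rw [Pi.smul_apply, smul_eq_mul]
  · rintro ⟨d, hd⟩
    have hrow : ∀ p, ∑ t, k p t • x t = 0 := by
      rintro ⟨a, j⟩
      rw [hkdef]
      exact hv0 a j
    calc ∑ t, c t • x t = ∑ t, ∑ p, d p • (k p t • x t) := by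
          refine Finset.sum_congr rfl fun t _ => ?_
          rw [hd t, Finset.sum_smul]
          exact Finset.sum_congr rfl fun p _ => by rw [mul_smul]
      _ = ∑ p, d p • ∑ t, k p t • x t := by
          rw [Finset.sum_comm]
          exact Finset.sum_congr rfl fun p _ => by rw [Finset.smul_sum]
      _ = 0 := by simp_rw [hrow, smul_zero, Finset.sum_const_zero]

end Global

section Prod

/-- **A product of uniformly presented modules is finitely presented over the product ring.** -/
theorem finitePresentation_pi {ι : Type v} (A : ι → Type u) (M : ι → Type w)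
    [∀ i, CommRing (A i)] [∀ i, AddCommGroup (M i)] [∀ i, Module (A i) (M i)]
    (σ ρ : Type) [Fintype σ] [Fintype ρ] (h : ∀ i, HasPres (A i) (M i) σ ρ) :
    Module.FinitePresentation (∀ i, A i) (∀ i, M i) := by
  classical
  choose x k hx hk using h
  -- the map from the free module
  let Φ : (σ → (∀ i, A i)) →ₗ[∀ i, A i] (∀ i, M i) :=
    Fintype.linearCombination (∀ i, A i) (fun s i => x i s)
  have hΦ : ∀ c i, Φ c i = ∑ s, c s i • x i s := by
    intro c i
    simp only [Φ, Fintype.linearCombination_apply, Finset.sum_apply, Pi.smul_apply']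
  refine Module.finitePresentation_of_free_of_surjective Φ ?_ ?_
  · intro y
    choose c hc using fun i => hx i (y i)
    refine ⟨fun s i => c i s, ?_⟩
    funext i
    rw [hΦ]
    exact hc i
  · have hker : LinearMap.ker Φ =
        Submodule.span (∀ i, A i) (Set.range fun r : ρ => (fun s i => k i r s : σ → (∀ i, A i))) := by
      apply le_antisymm
      · intro c hc
        rw [LinearMap.mem_ker] at hc
        have h1 : ∀ i, ∑ s, c s i • x i s = 0 := fun i => by rw [← hΦ, hc]; rfl
        choose d hd using fun i => (hk i _).mp (h1 i)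
        have : c = ∑ r, (fun i => d i r : ∀ i, A i) • (fun s i => k i r s : σ → (∀ i, A i)) := by
          funext s i
          rw [hd i s, Finset.sum_apply, Finset.sum_apply]
          rfl
        rw [this]
        exact Submodule.sum_mem _ fun r _ => Submodule.smul_mem _ _ (Submodule.subset_span ⟨r, rfl⟩)
      · rw [Submodule.span_le]
        rintro _ ⟨r, rfl⟩
        rw [SetLike.mem_coe, LinearMap.mem_ker]
        funext i
        rw [hΦ]
        exact (hk i).row_zero r
    rw [hker]
    exact Submodule.fg_span (Set.finite_range _)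

end Prod

section Equiv

variable {A : Type u} {M : Type v} {N : Type w} [CommRing A] [AddCommGroup M] [Module A M]
  [AddCommGroup N] [Module A N]

theorem HasPres.of_equiv {σ ρ : Type} [Fintype σ] [Fintype ρ] (h : HasPres A M σ ρ) (f : M ≃ₗ[A] N) :
    HasPres A N σ ρ := by
  obtain ⟨x, k, hx, hk⟩ := h
  refine ⟨fun s => f (x s), k, fun y => ?_, fun c => ?_⟩
  · obtain ⟨c, hc⟩ := hx (f.symm y)
    refine ⟨c, ?_⟩
    have := congrArg f hc
    rw [map_sum, LinearEquiv.apply_symm_apply] at this
    rw [← this]
    exact Finset.sum_congr rfl fun s _ => by rw [map_smul]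
  · rw [← hk c]
    have : ∑ s, c s • f (x s) = f (∑ s, c s • x s) := by
      rw [map_sum]
      exact Finset.sum_congr rfl fun s _ => by rw [map_smul]
    rw [this]
    exact ⟨fun h => f.injective (by rw [h, map_zero]), fun h => by rw [h, map_zero]⟩

/-- A finitely presented module has some presentation. -/
theorem exists_hasPres [Module.FinitePresentation A M] :
    ∃ (g r : ℕ), HasPres A M (Fin g) (Fin r) := by
  classical
  obtain ⟨g, K, e, hK⟩ := Module.FinitePresentation.exists_fin A M
  obtain ⟨r, kk, hkk⟩ := Submodule.fg_iff_exists_fin_generating_family.mp hK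
  have key : ∀ c : Fin g → A, ∑ s, c s • e.symm (Submodule.Quotient.mk (Pi.single s (1 : A))) =
      e.symm (Submodule.Quotient.mk c) := by
    intro c
    have h1 : c = ∑ s, c s • (Pi.single s (1 : A) : Fin g → A) := by
      funext t
      simp [Finset.sum_apply, Pi.single_apply]
    conv_rhs => rw [h1]
    rw [← Submodule.mkQ_apply, map_sum, map_sum]
    exact Finset.sum_congr rfl fun s _ => by rw [map_smul, map_smul, Submodule.mkQ_apply]
  refine ⟨g, r, fun s => e.symm (Submodule.Quotient.mk (Pi.single s 1)), kk, ?_, ?_⟩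
  · intro y
    obtain ⟨c, hc⟩ := Submodule.Quotient.mk_surjective K (e y)
    refine ⟨c, ?_⟩
    rw [key, hc, LinearEquiv.symm_apply_apply]
  · intro c
    rw [key, LinearEquiv.map_eq_zero_iff, Submodule.Quotient.mk_eq_zero, ← hkk,
      Submodule.mem_span_range_iff_exists_fun]
    constructor
    · rintro ⟨d, hd⟩
      refine ⟨d, fun s => ?_⟩
      rw [← hd, Finset.sum_apply]
      exact Finset.sum_congr rfl fun r _ => by rw [Pi.smul_apply, smul_eq_mul]
    · rintro ⟨d, hd⟩
      refine ⟨d, ?_⟩
      funext s
      rw [hd s, Finset.sum_apply]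
      exact Finset.sum_congr rfl fun r _ => by rw [Pi.smul_apply, smul_eq_mul]

end Equiv

section BaseChange

variable {B : Type u} {P : Type v} {A' : Type w} [CommRing B] [AddCommGroup P] [Module B P]
  [CommRing A'] [Algebra B A']

theorem algebraMap_smul_one_tmul (b : B) (p : P) :
    algebraMap B A' b • ((1 : A') ⊗ₜ[B] p) = (1 : A') ⊗ₜ[B] (b • p) := by
  rw [TensorProduct.smul_tmul', smul_eq_mul, mul_one, TensorProduct.tmul_smul,
    TensorProduct.smul_tmul', Algebra.smul_def, mul_one]

/-- Base change of a presentation. -/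
theorem HasPres.baseChange {σ ρ : Type} [Fintype σ] [Fintype ρ] (h : HasPres B P σ ρ) :
    HasPres A' (A' ⊗[B] P) σ ρ := by
  classical
  obtain ⟨x, k, hx, hk⟩ := h
  refine ⟨fun s => 1 ⊗ₜ x s, fun r s => algebraMap B A' (k r s), ?_, ?_⟩
  · intro y
    induction y using TensorProduct.induction_on with
    | zero => exact ⟨0, by simp⟩
    | tmul a p =>
      obtain ⟨c, hc⟩ := hx p
      refine ⟨fun s => a * algebraMap B A' (c s), ?_⟩
      rw [← hc, TensorProduct.tmul_sum]
      refine Finset.sum_congr rfl fun s _ => ?_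
      rw [mul_smul, algebraMap_smul_one_tmul, TensorProduct.smul_tmul', smul_eq_mul, mul_one]
    | add y1 y2 h1 h2 =>
      obtain ⟨c1, hc1⟩ := h1
      obtain ⟨c2, hc2⟩ := h2
      refine ⟨c1 + c2, ?_⟩
      rw [← hc1, ← hc2, ← Finset.sum_add_distrib]
      exact Finset.sum_congr rfl fun s _ => by rw [Pi.add_apply, add_smul]
  · intro c
    constructor
    · intro hc
      -- right exactness of the tensor product
      let g : (σ → B) →ₗ[B] P := Fintype.linearCombination B x
      let f : (ρ → B) →ₗ[B] (σ → B) := Fintype.linearCombination B k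
      have hg : Function.Surjective g := by
        intro p
        obtain ⟨c, hc⟩ := hx p
        exact ⟨c, by simpa [g, Fintype.linearCombination_apply] using hc⟩
      have hfg : Function.Exact f g := by
        intro c
        have h1 : g c = ∑ s, c s • x s := by simp [g, Fintype.linearCombination_apply]
        rw [h1, hk c]
        constructor
        · rintro ⟨d, hd⟩
          refine ⟨d, ?_⟩
          funext s
          simp only [f, Fintype.linearCombination_apply, Finset.sum_apply, Pi.smul_apply, smul_eq_mul]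
          exact (hd s).symm
        · rintro ⟨d, hd⟩
          refine ⟨d, fun s => ?_⟩
          rw [← hd]
          simp only [f, Fintype.linearCombination_apply, Finset.sum_apply, Pi.smul_apply, smul_eq_mul]
      have hex := lTensor_exact A' hfg hg
      have hC : ∀ c : σ → A', (g.lTensor A') ((TensorProduct.piScalarRight B A' A' σ).symm c) =
          ∑ s, c s • ((1 : A') ⊗ₜ[B] x s) := by
        intro c
        have h1 : c = ∑ s, Pi.single s (c s) := by
          funext t
          simp [Finset.sum_apply, Pi.single_apply]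
        conv_lhs => rw [h1]
        rw [map_sum, map_sum]
        refine Finset.sum_congr rfl fun s _ => ?_
        rw [TensorProduct.piScalarRight_symm_single, LinearMap.lTensor_tmul,
          TensorProduct.smul_tmul', smul_eq_mul, mul_one]
        congr 1
        simp [g, Fintype.linearCombination_apply, Pi.single_apply]
      have hD : ∀ D : A' ⊗[B] (ρ → B), TensorProduct.piScalarRight B A' A' σ ((f.lTensor A') D) =
          fun s => ∑ r, (TensorProduct.piScalarRight B A' A' ρ D) r * algebraMap B A' (k r s) := by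
        intro D
        induction D using TensorProduct.induction_on with
        | zero => funext s; simp
        | tmul a v =>
          funext s
          rw [LinearMap.lTensor_tmul, TensorProduct.piScalarRight_apply,
            TensorProduct.piScalarRightHom_tmul, TensorProduct.piScalarRight_apply,
            TensorProduct.piScalarRightHom_tmul]
          simp only [f, Fintype.linearCombination_apply, Finset.sum_apply, Pi.smul_apply, smul_eq_mul]
          rw [Finset.sum_smul]
          refine Finset.sum_congr rfl fun r _ => ?_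
          rw [Algebra.smul_def, Algebra.smul_def, map_mul]
          ring
        | add D1 D2 h1 h2 =>
          rw [map_add, map_add, h1, h2]
          funext s
          simp only [Pi.add_apply, map_add, add_mul, Finset.sum_add_distrib]
      have h0 : (g.lTensor A') ((TensorProduct.piScalarRight B A' A' σ).symm c) = 0 := by
        rw [hC, hc]
      obtain ⟨D, hD'⟩ := (hex _).mp h0
      refine ⟨TensorProduct.piScalarRight B A' A' ρ D, fun s => ?_⟩
      have := congrFun (hD D) s
      rw [hD', LinearEquiv.apply_symm_apply] at this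
      exact this
    · rintro ⟨d, hd⟩
      have hrow : ∀ r, ∑ s, algebraMap B A' (k r s) • ((1 : A') ⊗ₜ[B] x s) = 0 := by
        intro r
        have : ∑ s, algebraMap B A' (k r s) • ((1 : A') ⊗ₜ[B] x s) =
            (1 : A') ⊗ₜ[B] (∑ s, k r s • x s) := by
          rw [TensorProduct.tmul_sum]
          exact Finset.sum_congr rfl fun s _ => algebraMap_smul_one_tmul _ _
        rw [this, IsRel.row_zero hk r, TensorProduct.tmul_zero]
      calc ∑ s, c s • ((1 : A') ⊗ₜ[B] x s)
          = ∑ s, ∑ r, d r • (algebraMap B A' (k r s) • ((1 : A') ⊗ₜ[B] x s)) := by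
            refine Finset.sum_congr rfl fun s _ => ?_
            rw [hd s, Finset.sum_smul]
            exact Finset.sum_congr rfl fun r _ => by rw [mul_smul]
        _ = ∑ r, d r • ∑ s, algebraMap B A' (k r s) • ((1 : A') ⊗ₜ[B] x s) := by
            rw [Finset.sum_comm]
            exact Finset.sum_congr rfl fun r _ => by rw [Finset.smul_sum]
        _ = 0 := by simp_rw [hrow, smul_zero, Finset.sum_const_zero]

end BaseChange

end Helper71.UnifPres
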