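import Groth.Agent.Lib.Helper71.UnifPres
import Groth.Agent.Lib.Lead.PullbackAff4
import Groth.Agent.Lib.Helper2.FinPresAff

/-!
# Uniform presentations of sections of pullbacks along maps from affine schemes (helper71 seat library)
-/

set_option autoImplicit false
set_option linter.style.haveILetI false
universe u

open AlgebraicGeometry CategoryTheory Opposite TopologicalSpace

namespace Helper71.UnifPresSch

open Helper71.UnifPres Scheme.Modules Groth.Agent.Lib.Lead.QCohAff Groth.Agent.Lib.Lead.PullbackAff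
open Groth.Agent.Lib.Helper21.RelFPSch Groth.Agent.Lib.Helper2.FinTypeAff

/-- Shrinking a finite open cover of `Spec B` to a cover by basic opens with the same index set
(partition of unity); cf. helper40's `S17860.exists_basicOpen_shrink`. -/
theorem exists_basicOpen_shrink {B : CommRingCat.{u}} (n : ℕ) (O : Fin n → (Spec B).Opens)
    (hO : ⨆ a, O a = ⊤) :
    ∃ e : Fin n → Γ(Spec B, ⊤), (∀ a, (Spec B).basicOpen (e a) ≤ O a) ∧
      Ideal.span (Set.range e) = ⊤ := by
  have h1 : ∀ a, ∃ s : Set B, ∀ x : PrimeSpectrum B,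
      (x ∈ PrimeSpectrum.zeroLocus s ↔ ¬ ((show ↥(Spec B) from x) ∈ O a)) := fun a => by
    let Us : Set (PrimeSpectrum B) := {x | (show ↥(Spec B) from x) ∈ O a}
    have hUs : IsOpen Us := (O a).2
    obtain ⟨s, hs⟩ := (PrimeSpectrum.isOpen_iff Us).mp hUs
    refine ⟨s, fun x => ?_⟩
    rw [← hs]
    rfl
  choose s hs using h1
  have h2 : (⨆ a, Ideal.span (s a) : Ideal B) = ⊤ := by
    rw [← PrimeSpectrum.zeroLocus_empty_iff_eq_top, PrimeSpectrum.zeroLocus_iSup]
    rw [Set.eq_empty_iff_forall_notMem]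
    intro x hx
    have hx' : (show ↥(Spec B) from x) ∈ (⨆ a, O a : (Spec B).Opens) := hO ▸ trivial
    obtain ⟨a, ha⟩ := TopologicalSpace.Opens.mem_iSup.mp hx'
    have h3 := Set.mem_iInter.mp hx a
    rw [PrimeSpectrum.zeroLocus_span] at h3
    exact (hs a x).mp h3 ha
  have h3 : (1 : B) ∈ (⨆ a, Ideal.span (s a) : Ideal B) := h2 ▸ Submodule.mem_top
  rw [Submodule.mem_iSup_iff_exists_finsupp] at h3
  obtain ⟨e, he, hsum⟩ := h3
  refine ⟨fun a => (Scheme.ΓSpecIso B).inv (e a), ?_, ?_⟩
  · intro a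
    rw [basicOpen_eq_of_affine]
    intro x hx
    by_contra hx2
    have hx3 := (hs a x).mpr hx2
    rw [← PrimeSpectrum.zeroLocus_span] at hx3
    exact hx (hx3 (he a))
  · have h4 : Ideal.span (Set.range fun a => e a) = (⊤ : Ideal B) := by
      rw [Ideal.eq_top_iff_one, ← hsum]
      exact Ideal.sum_mem _ (fun a _ => Ideal.subset_span ⟨a, rfl⟩)
    have h5 := congrArg (Ideal.map (Scheme.ΓSpecIso B).inv.hom) h4
    rw [Ideal.map_span, Ideal.map_top, ← Set.range_comp] at h5
    exact h5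

/-- Sections of a quasi-coherent module over a basic open of an affine open, as element-level
localization data. -/
theorem locData {X : Scheme.{u}} (F : X.Modules) [F.IsQuasicoherent] {U : X.Opens}
    (hU : IsAffineOpen U) (a : Γ(X, U)) :
    LocData (A := Γ(X, U)) (M := Γ(F, U)) (A' := Γ(X, X.basicOpen a)) (M' := Γ(F, X.basicOpen a))
      a (resRing X (X.basicOpen_le a))
      (F.presheaf.map (homOfLE (X.basicOpen_le a)).op).hom := by
  have hloc := hU.isLocalization_basicOpen a
  refine ⟨fun r x => res_smul F (X.basicOpen_le a) r x, X.toRingedSpace.isUnit_res_basicOpen a,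
    fun t => ?_, fun s hs => ?_, fun t => ?_, fun x hx => ?_⟩
  · obtain ⟨⟨s, ⟨_, n, rfl⟩⟩, hs⟩ := IsLocalization.surj (Submonoid.powers a) t
    refine ⟨n, s, ?_⟩
    have hs' : t * resRing X (X.basicOpen_le a) (a ^ n) = resRing X (X.basicOpen_le a) s := hs
    rw [← hs', map_pow, mul_comm]
  · have hs' : algebraMap Γ(X, U) Γ(X, X.basicOpen a) s = 0 := hs
    rw [IsLocalization.map_eq_zero_iff (Submonoid.powers a)] at hs'
    obtain ⟨⟨_, n, rfl⟩, hn⟩ := hs'
    exact ⟨n, hn⟩
  · exact exists_res_eq_pow_smul F hU a t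
  · exact exists_pow_smul_eq_zero F hU a x hx

/-- Presentations pull back: for `G` quasi-coherent on `Y`, `V ⊆ Y` and `U ⊆ f⁻¹ V` affine opens, a
presentation of `Γ(G, V)` gives one of `Γ(f^* G, U)` with the same index types. -/
theorem hasPres_pullback {X Y : Scheme.{u}} (f : X ⟶ Y) (G : Y.Modules) [G.IsQuasicoherent]
    {U : X.Opens} {V : Y.Opens} (hU : IsAffineOpen U) (hV : IsAffineOpen V) (e : U ≤ f ⁻¹ᵁ V)
    {σ ρ : Type} [Fintype σ] [Fintype ρ] (h : HasPres Γ(Y, V) Γ(G, V) σ ρ) :
    HasPres Γ(X, U) Γ((pullback f).obj G, U) σ ρ := by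
  letI := (f.appLE V U e).hom.toAlgebra
  exact (h.baseChange (A' := Γ(X, U))).of_equiv (sectionsPullbackEquiv f G hU hV e).symm

theorem main (X : Scheme.{u}) [CompactSpace X] {ι : Type u} (A : ι → CommRingCat.{u})
    (f : ∀ i, Spec (A i) ⟶ X) (F : X.Modules)
    (hF : SheafOfModules.IsFinitePresentation (R := X.ringCatSheaf) F) :
    Module.FinitePresentation (∀ i, Γ(Spec (A i), ⊤))
      (∀ i, Γ((Scheme.Modules.pullback (f i)).obj F, ⊤)) := by
  haveI := hF
  haveI hq : F.IsQuasicoherent :=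
    SheafOfModules.QuasicoherentData.isQuasicoherent (R := X.ringCatSheaf) (M := F)
      (SheafOfModules.IsFinitePresentation.exists_quasicoherentData
        (R := X.ringCatSheaf) F).choose
  -- a finite affine cover of `X`
  obtain ⟨s, hsfin, hs⟩ :=
    (isCompact_and_isOpen_iff_finite_and_eq_biUnion_affineOpens (X := X) (U := Set.univ)).mp
      ⟨isCompact_univ, isOpen_univ⟩
  obtain ⟨m, Uc, -, hUc⟩ := hsfin.fin_param
  have hcov : ∀ x : X, ∃ a, x ∈ (Uc a : X.Opens) := by
    intro x
    have hx : x ∈ (Set.univ : Set X) := trivial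
    rw [hs] at hx
    simp only [Set.mem_iUnion] at hx
    obtain ⟨V, hV, hxV⟩ := hx
    rw [← hUc] at hV
    obtain ⟨a, rfl⟩ := hV
    exact ⟨a, hxV⟩
  -- presentations of the sections over the members of the cover
  have hfp : ∀ a, Module.FinitePresentation Γ(X, (Uc a : X.Opens)) Γ(F, (Uc a : X.Opens)) :=
    fun a => finitePresentation_sections F (Uc a).2
  choose g r hgr using fun a =>
    (haveI := hfp a; exists_hasPres (A := Γ(X, (Uc a : X.Opens))) (M := Γ(F, (Uc a : X.Opens))))
  refine finitePresentation_pi _ _ (Σ a, Fin (g a)) (Σ a, (Fin (r a) ⊕ (Σ b, Fin (g b))))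
    (fun i => ?_)
  have hO : ⨆ a, (f i) ⁻¹ᵁ (Uc a : X.Opens) = ⊤ := by
    rw [eq_top_iff]
    intro x _
    obtain ⟨a, ha⟩ := hcov (f i x)
    exact Opens.mem_iSup.mpr ⟨a, ha⟩
  obtain ⟨e, he1, he2⟩ := exists_basicOpen_shrink m _ hO
  have hTop := isAffineOpen_top (Spec (A i))
  exact hasPres_of_local e he2
    (fun a => Γ(Spec (A i), (Spec (A i)).basicOpen (e a)))
    (fun a => Γ((pullback (f i)).obj F, (Spec (A i)).basicOpen (e a)))
    (fun a => resRing _ ((Spec (A i)).basicOpen_le (e a)))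
    (fun a => (((pullback (f i)).obj F).presheaf.map
      (homOfLE ((Spec (A i)).basicOpen_le (e a))).op).hom)
    (fun a => locData _ hTop (e a)) (fun a => Fin (g a)) (fun a => Fin (r a))
    (fun a => hasPres_pullback (f i) F (hTop.basicOpen (e a)) (Uc a).2 (he1 a) (hgr a))

end Helper71.UnifPresSch
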