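import Mathlib
import Groth.Prelude.Def_W4stkdualitygroupp2Univ

set_option autoImplicit false

namespace Helper71.UnivEt

open MvPolynomial Synt

variable (n d : ℕ)

/-- the naive presentation of the universal algebra -/
noncomputable def pres :
    Algebra.PreSubmersivePresentation (UnivBase n d) (UnivAlg n d) (Fin n) (Fin n) :=
  Algebra.PreSubmersivePresentation.naive (v := univPoly n d) (a := id) Function.injective_id

theorem etale_away :
    Algebra.Etale (UnivBase n d) (Localization.Away (pres n d).jacobian) := by
  obtain ⟨Δ, hΔdef⟩ : ∃ Δ : UnivAlg n d, Δ = (pres n d).jacobian := ⟨_, rfl⟩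
  rw [← hΔdef]
  have hΔ : IsUnit (algebraMap (UnivAlg n d) (Localization.Away Δ) Δ) :=
    IsLocalization.Away.algebraMap_isUnit _
  let P : Algebra.SubmersivePresentation (UnivBase n d) (Localization.Away Δ) _ _ :=
    { toPreSubmersivePresentation :=
        .comp (.localizationAway (Localization.Away Δ) Δ) (pres n d),
      jacobian_isUnit := by
        rw [Algebra.PreSubmersivePresentation.comp_jacobian_eq_jacobian_smul_jacobian,
          Algebra.PreSubmersivePresentation.localizationAway_jacobian, Algebra.smul_def, ← hΔdef]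
        exact hΔ.mul hΔ }
  have : Algebra.IsStandardSmoothOfRelativeDimension 0 (UnivBase n d) (Localization.Away Δ) :=
    ⟨_, _, _, inferInstance, P, by
      simp only [Algebra.PreSubmersivePresentation.dimension_comp_eq_dimension_add_dimension, P]
      simp [Algebra.Presentation.dimension]⟩
  infer_instance

theorem exponent_apply' {n d : ℕ} (E : UnivIdx n d) (i : Fin n) : E.exponent i = (E.1 i : ℕ) := by
  simp [UnivIdx.exponent]

theorem exponent_injective' {n d : ℕ} :
    Function.Injective (UnivIdx.exponent (n := n) (d := d)) := by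
  intro E E' h
  apply Subtype.ext
  funext i
  apply Fin.ext
  have := DFunLike.congr_fun h i
  rwa [exponent_apply', exponent_apply'] at this

/-- the index of the exponent vector `e_j` -/
def E1 {n d : ℕ} (hd : 1 ≤ d) (j : Fin n) : UnivIdx n d :=
  ⟨fun k => if k = j then ⟨1, by omega⟩ else ⟨0, by omega⟩, by
    classical
    have h1 : ∀ k : Fin n, (((if k = j then (⟨1, by omega⟩ : Fin (d + 1)) else ⟨0, by omega⟩) : Fin (d + 1)) : ℕ)
        = if k = j then 1 else 0 := by
      intro k
      by_cases hk : k = j
      · rw [if_pos hk, if_pos hk]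
      · rw [if_neg hk, if_neg hk]
    rw [Finset.sum_congr rfl (fun k _ => h1 k), Finset.sum_ite_eq' Finset.univ j, if_pos (Finset.mem_univ j)]
    exact hd⟩

theorem exponent_E1 {n d : ℕ} (hd : 1 ≤ d) (j : Fin n) :
    (E1 hd j : UnivIdx n d).exponent = Finsupp.single j 1 := by
  classical
  ext k
  rw [exponent_apply', Finsupp.single_apply]
  unfold E1
  by_cases hk : k = j
  · subst hk
    simp
  · have : ¬ j = k := fun h => hk h.symm
    simp [hk, this]

/-- the coefficient specialisation `a_{i,E} ↦ [E = e_i]` -/
noncomputable def φ0 : UnivBase n d →+* ℤ := by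
  classical
  exact eval₂Hom (RingHom.id ℤ)
    (fun p : Fin n × UnivIdx n d => if p.2.exponent = Finsupp.single p.1 1 then 1 else 0)

theorem φ0_X (i : Fin n) (E : UnivIdx n d) :
    φ0 n d (X (i, E)) = if E.exponent = Finsupp.single i 1 then 1 else 0 := by
  classical
  unfold φ0
  rw [coe_eval₂Hom, eval₂_X]

/-- evaluation at the point `f_i = x_i`, `x = 0` -/
noncomputable def ev' : MvPolynomial (Fin n) (UnivBase n d) →+* ℤ :=
  eval₂Hom (φ0 n d) (fun _ => 0)

theorem ev'_monomial (e : Fin n →₀ ℕ) (a : UnivBase n d) :
    ev' n d (monomial e a) = if e = 0 then φ0 n d a else 0 := by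
  unfold ev'
  rw [coe_eval₂Hom, eval₂_monomial]
  by_cases he : e = 0
  · rw [if_pos he, he, Finsupp.prod_zero_index, mul_one]
  · rw [if_neg he]
    obtain ⟨k, hk⟩ : ∃ k, e k ≠ 0 := by
      by_contra h
      push Not at h
      exact he (Finsupp.ext h)
    have : (e.prod fun _ m => (0 : ℤ) ^ m) = 0 := by
      rw [Finsupp.prod]
      apply Finset.prod_eq_zero (Finsupp.mem_support_iff.mpr hk)
      exact zero_pow hk
    rw [this, mul_zero]

theorem ev'_univPoly (i : Fin n) : ev' n d (univPoly n d i) = 0 := by
  classical
  unfold univPoly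
  rw [map_sum]
  apply Finset.sum_eq_zero
  intro E _
  rw [ev'_monomial, φ0_X]
  by_cases hE : E.exponent = 0
  · rw [if_pos hE, if_neg]
    rw [hE]
    intro h
    have := DFunLike.congr_fun h i
    simp at this
  · rw [if_neg hE]

theorem ev'_pderiv_univPoly (hd : 1 ≤ d) (i j : Fin n) :
    ev' n d (pderiv i (univPoly n d j)) = if i = j then 1 else 0 := by
  classical
  unfold univPoly
  rw [map_sum, map_sum, Finset.sum_eq_single (E1 hd j)]
  · rw [pderiv_monomial, ev'_monomial, exponent_E1, map_mul, φ0_X, exponent_E1, if_pos rfl, one_mul,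
      Finsupp.single_apply]
    by_cases hij : i = j
    · subst hij
      simp
    · have hji : ¬ j = i := fun h => hij h.symm
      rw [if_neg hij, if_neg hji]
      simp
  · intro E _ hE
    rw [pderiv_monomial, ev'_monomial, map_mul, φ0_X]
    have hne : E.exponent ≠ Finsupp.single j 1 := by
      intro h
      apply hE
      apply exponent_injective'
      rw [h, exponent_E1]
    rw [if_neg hne, zero_mul, ite_self]
  · intro h
    exact absurd (Finset.mem_univ _) h

/-- the quotient map as a ring hom into `UnivAlg` -/
noncomputable def mkB : MvPolynomial (Fin n) (UnivBase n d) →+* UnivAlg n d :=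
  Ideal.Quotient.mk (univIdeal n d)

/-- the evaluation on the universal algebra -/
noncomputable def ev : UnivAlg n d →+* ℤ :=
  Ideal.Quotient.lift (univIdeal n d) (ev' n d) (by
    intro a ha
    have hle : univIdeal n d ≤ RingHom.ker (ev' n d) := by
      unfold univIdeal
      rw [Ideal.span_le]
      rintro _ ⟨i, rfl⟩
      exact ev'_univPoly n d i
    exact hle ha)

theorem ev_mkB (a : MvPolynomial (Fin n) (UnivBase n d)) : ev n d (mkB n d a) = ev' n d a := by
  unfold ev mkB
  exact Ideal.Quotient.lift_mk _ _ _

theorem algebraMap_eq_mkB (x : (pres n d).Ring) :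
    algebraMap (pres n d).Ring (UnivAlg n d) x = mkB n d x := by
  have h := (pres n d).toGenerators.algebraMap_apply x
  refine h.trans ?_
  have h2 : ((aeval (pres n d).val : MvPolynomial (Fin n) (UnivBase n d) →ₐ[UnivBase n d] UnivAlg n d) :
      MvPolynomial (Fin n) (UnivBase n d) →+* UnivAlg n d) = mkB n d := by
    apply MvPolynomial.ringHom_ext
    · intro a
      have : (aeval (pres n d).val : MvPolynomial (Fin n) (UnivBase n d) →ₐ[UnivBase n d] UnivAlg n d) (C a) =
          algebraMap (UnivBase n d) (UnivAlg n d) a := aeval_C _ a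
      exact this
    · intro i
      have : (aeval (pres n d).val : MvPolynomial (Fin n) (UnivBase n d) →ₐ[UnivBase n d] UnivAlg n d) (X i) =
          (pres n d).val i := aeval_X _ i
      exact this
  exact RingHom.congr_fun h2 x

theorem ev_jacobian (hd : 1 ≤ d) : ev n d (pres n d).jacobian = 1 := by
  classical
  have h0 : ev n d (pres n d).jacobian = ev' n d (pres n d).jacobiMatrix.det := by
    have h1 := (pres n d).jacobian_eq_jacobiMatrix_det
    have h2 := algebraMap_eq_mkB n d (pres n d).jacobiMatrix.det
    have h3 := ev_mkB n d (pres n d).jacobiMatrix.det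
    exact (congrArg (ev n d) (h1.trans h2)).trans h3
  refine h0.trans ?_
  rw [RingHom.map_det]
  have h1 : (ev' n d).mapMatrix (pres n d).jacobiMatrix = 1 := by
    ext i j
    rw [RingHom.mapMatrix_apply, Matrix.map_apply]
    have h4 : (pres n d).jacobiMatrix i j = pderiv i (univPoly n d j) := by
      unfold pres
      exact Algebra.PreSubmersivePresentation.jacobiMatrix_naive _ _ _ _ i j
    rw [h4, ev'_pderiv_univPoly n d hd, Matrix.one_apply]
  rw [h1, Matrix.det_one]

theorem main (hd : 1 ≤ d) : ∃ q : PrimeSpectrum (UnivAlg n d),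
    Algebra.QuasiFiniteAt (UnivBase n d) q.asIdeal ∧ Algebra.IsEtaleAt (UnivBase n d) q.asIdeal := by
  have hprime : (RingHom.ker (ev n d)).IsPrime := RingHom.ker_isPrime _
  obtain ⟨q, hq⟩ : ∃ q : PrimeSpectrum (UnivAlg n d), q = ⟨RingHom.ker (ev n d), hprime⟩ := ⟨_, rfl⟩
  have hΔ : (pres n d).jacobian ∉ q.asIdeal := by
    intro h
    rw [hq, RingHom.mem_ker, ev_jacobian n d hd] at h
    exact one_ne_zero h
  have het : Algebra.IsEtaleAt (UnivBase n d) q.asIdeal := by
    have h1 := etale_away n d
    have hsub := (Algebra.basicOpen_subset_etaleLocus_iff (R := UnivBase n d) (A := UnivAlg n d)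
      (f := (pres n d).jacobian)).mpr inferInstance
    exact hsub (show q ∈ PrimeSpectrum.basicOpen _ from hΔ)
  refine ⟨q, ?_, het⟩
  have hfp : Algebra.FinitePresentation (UnivBase n d) (UnivAlg n d) :=
    (pres n d).finitePresentation_of_isFinite
  have h1 : Algebra.EssFiniteType (UnivAlg n d) (Localization.AtPrime q.asIdeal) :=
    Algebra.EssFiniteType.of_isLocalization _ q.asIdeal.primeCompl
  have h2 : Algebra.EssFiniteType (UnivBase n d) (Localization.AtPrime q.asIdeal) :=
    Algebra.EssFiniteType.comp (UnivBase n d) (UnivAlg n d) _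
  have h3 : Algebra.FormallyEtale (UnivBase n d) (Localization.AtPrime q.asIdeal) := het
  show Algebra.QuasiFinite (UnivBase n d) (Localization.AtPrime q.asIdeal)
  infer_instance

end Helper71.UnivEt
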