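import Mathlib
import Groth.Prelude.Def_RelProj2
set_option autoImplicit false
universe u
open CategoryTheory AlgebraicGeometry TopologicalSpace Opposite

noncomputable section

namespace Groth.Agent.Lib.Helper71.VAP1

/-- P1: pullback pseudofunctor bookkeeping. -/
theorem nonempty_iso_of_chain {X D P PT : Scheme.{u}} (κ : X ⟶ D) (ρ : D ⟶ X) (hκ : κ ≫ ρ = 𝟙 X)
    (r : D ⟶ P) (h : P ⟶ PT) (O1 : PT.Modules) (OA : P.Modules) (Ln : X.Modules)
    (a : Nonempty ((Scheme.Modules.pullback h).obj O1 ≅ OA))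
    (b : Nonempty ((Scheme.Modules.pullback r).obj OA ≅ (Scheme.Modules.pullback ρ).obj Ln)) :
    Nonempty (Ln ≅ (Scheme.Modules.pullback (κ ≫ r ≫ h)).obj O1) := by
  obtain ⟨a⟩ := a
  obtain ⟨b⟩ := b
  -- (κ ≫ r ≫ h)^* O1 ≅ κ^* ((r ≫ h)^* O1) ≅ κ^* (r^* (h^* O1))
  have e1 : (Scheme.Modules.pullback (κ ≫ r ≫ h)).obj O1 ≅
      (Scheme.Modules.pullback κ).obj ((Scheme.Modules.pullback (r ≫ h)).obj O1) :=
    ((Scheme.Modules.pullbackComp κ (r ≫ h)).app O1).symm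
  have e2 : (Scheme.Modules.pullback (r ≫ h)).obj O1 ≅
      (Scheme.Modules.pullback r).obj ((Scheme.Modules.pullback h).obj O1) :=
    ((Scheme.Modules.pullbackComp r h).app O1).symm
  have e3 : (Scheme.Modules.pullback r).obj ((Scheme.Modules.pullback h).obj O1) ≅
      (Scheme.Modules.pullback ρ).obj Ln :=
    (Scheme.Modules.pullback r).mapIso a ≪≫ b
  have e4 : (Scheme.Modules.pullback κ).obj ((Scheme.Modules.pullback ρ).obj Ln) ≅
      (Scheme.Modules.pullback (κ ≫ ρ)).obj Ln :=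
    (Scheme.Modules.pullbackComp κ ρ).app Ln
  have e5 : (Scheme.Modules.pullback (κ ≫ ρ)).obj Ln ≅ (Scheme.Modules.pullback (𝟙 X)).obj Ln :=
    (Scheme.Modules.pullbackCongr hκ).app Ln
  have e6 : (Scheme.Modules.pullback (𝟙 X)).obj Ln ≅ Ln := (Scheme.Modules.pullbackId X).app Ln
  exact ⟨(e1 ≪≫ (Scheme.Modules.pullback κ).mapIso (e2 ≪≫ e3) ≪≫ e4 ≪≫ e5 ≪≫ e6).symm⟩

end Groth.Agent.Lib.Helper71.VAP1
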