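import Groth.Prelude.Def_W4c1liftfrobW2
import Mathlib

set_option autoImplicit false
universe u v

namespace Groth.Agent.Lib.Helper71.W2

open FrobAlg

variable (p : ℕ) [Fact p.Prime]

section general

variable (R : Type u) [CommRing R]

theorem ext2 {x y : W2 p R} (h0 : x.coeff 0 = y.coeff 0) (h1 : x.coeff 1 = y.coeff 1) : x = y := by
  refine TruncatedWittVector.ext fun i => ?_
  fin_cases i
  · exact h0
  · exact h1

variable [CharP R p]

theorem coeff_p_zero : (p : W2 p R).coeff 0 = 0 := by
  rw [← map_natCast (WittVector.truncate (p := p) (R := R) 2), WittVector.coeff_truncate]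
  exact WittVector.coeff_p_zero p R

theorem coeff_p_one : (p : W2 p R).coeff 1 = 1 := by
  rw [← map_natCast (WittVector.truncate (p := p) (R := R) 2), WittVector.coeff_truncate]
  exact WittVector.coeff_p_one p R

theorem coeff_p_mul_zero (x : W2 p R) : ((p : W2 p R) * x).coeff 0 = 0 := by
  obtain ⟨X, rfl⟩ := WittVector.truncate_surjective p 2 R x
  rw [← map_natCast (WittVector.truncate (p := p) (R := R) 2), ← map_mul,
    WittVector.coeff_truncate, mul_comm]
  exact WittVector.mul_charP_coeff_zero X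

theorem coeff_p_mul_one (x : W2 p R) : ((p : W2 p R) * x).coeff 1 = x.coeff 0 ^ p := by
  obtain ⟨X, rfl⟩ := WittVector.truncate_surjective p 2 R x
  rw [← map_natCast (WittVector.truncate (p := p) (R := R) 2), ← map_mul,
    WittVector.coeff_truncate, WittVector.coeff_truncate, mul_comm]
  exact WittVector.mul_charP_coeff_succ X 0

theorem p_mul_p : (p : W2 p R) * (p : W2 p R) = 0 := by
  apply ext2
  · rw [coeff_p_mul_zero, TruncatedWittVector.coeff_zero]
  · rw [coeff_p_mul_one, coeff_p_zero, zero_pow (Fact.out : p.Prime).ne_zero,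
      TruncatedWittVector.coeff_zero]

end general

section field

variable (k : Type u) [Field k] [CharP k p] [PerfectRing k p]

theorem exists_eq_p_mul {x : W2 p k} (h : x.coeff 0 = 0) :
    ∃ y : W2 p k, x = (p : W2 p k) * y := by
  refine ⟨TruncatedWittVector.mk p fun _ => (frobeniusEquiv k p).symm (x.coeff 1), ?_⟩
  apply ext2
  · rw [coeff_p_mul_zero, h]
  · rw [coeff_p_mul_one, TruncatedWittVector.coeff_mk, frobeniusEquiv_symm_pow_p]

omit [PerfectRing k p] in
theorem p_mul_eq_zero_iff {x : W2 p k} : (p : W2 p k) * x = 0 ↔ x.coeff 0 = 0 := by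
  constructor
  · intro h
    have h1 := congrArg (fun z : W2 p k => z.coeff 1) h
    simp only [coeff_p_mul_one, TruncatedWittVector.coeff_zero] at h1
    exact pow_eq_zero_iff (Fact.out : p.Prime).ne_zero |>.mp h1
  · intro h
    apply ext2
    · rw [coeff_p_mul_zero, TruncatedWittVector.coeff_zero]
    · rw [coeff_p_mul_one, h, zero_pow (Fact.out : p.Prime).ne_zero,
        TruncatedWittVector.coeff_zero]

theorem mem_span_p_iff {x : W2 p k} : x ∈ Ideal.span {(p : W2 p k)} ↔ x.coeff 0 = 0 := by
  rw [Ideal.mem_span_singleton']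
  constructor
  · rintro ⟨a, rfl⟩
    rw [mul_comm, coeff_p_mul_zero]
  · intro h
    obtain ⟨y, rfl⟩ := exists_eq_p_mul p k h
    exact ⟨y, mul_comm _ _⟩

theorem ker_res : RingHom.ker (res p k) = Ideal.span {(p : W2 p k)} := by
  ext x
  rw [RingHom.mem_ker, res_apply, mem_span_p_iff]

omit [PerfectRing k p] in
theorem isUnit_iff {x : W2 p k} : IsUnit x ↔ x.coeff 0 ≠ 0 := by
  constructor
  · intro hx h
    have h2 : IsUnit (res p k x) := hx.map (res p k)
    rw [res_apply, h] at h2
    exact not_isUnit_zero h2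
  · intro h
    obtain ⟨X, rfl⟩ := WittVector.truncate_surjective p 2 k x
    rw [WittVector.coeff_truncate] at h
    exact (WittVector.isUnit_of_coeff_zero_ne_zero X h).map (WittVector.truncate 2)

theorem ideal_cases (I : Ideal (W2 p k)) :
    I = ⊥ ∨ I = Ideal.span {(p : W2 p k)} ∨ I = ⊤ := by
  by_cases h1 : ∃ x ∈ I, x.coeff 0 ≠ 0
  · obtain ⟨x, hx, hx0⟩ := h1
    exact Or.inr (Or.inr (Ideal.eq_top_of_isUnit_mem I hx ((isUnit_iff p k).mpr hx0)))
  · push Not at h1
    have hle : I ≤ Ideal.span {(p : W2 p k)} := fun x hx => (mem_span_p_iff p k).mpr (h1 x hx)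
    by_cases h2 : I = ⊥
    · exact Or.inl h2
    · refine Or.inr (Or.inl (le_antisymm hle ?_))
      obtain ⟨x, hx, hx0⟩ := Submodule.exists_mem_ne_zero_of_ne_bot h2
      obtain ⟨y, rfl⟩ := exists_eq_p_mul p k (h1 x hx)
      have hy : IsUnit y := by
        rw [isUnit_iff]
        intro hy0
        obtain ⟨z, rfl⟩ := exists_eq_p_mul p k hy0
        apply hx0
        rw [← mul_assoc, p_mul_p, zero_mul]
      rw [Ideal.span_singleton_le_iff_mem]
      obtain ⟨u, rfl⟩ := hy
      have := I.mul_mem_right (↑u⁻¹ : W2 p k) hx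
      rwa [mul_assoc, Units.mul_inv, mul_one] at this

omit [PerfectRing k p] in
theorem nontrivial : Nontrivial (W2 p k) := ⟨⟨0, 1, fun h => by
  have h1 := congrArg (res p k) h
  rw [map_zero, map_one] at h1
  exact zero_ne_one h1⟩⟩

instance : IsLocalRing (W2 p k) :=
  haveI := nontrivial p k
  IsLocalRing.of_surjective' (WittVector.truncate (p := p) (R := k) 2)
    (WittVector.truncate_surjective p 2 k)

theorem maximalIdeal_eq : IsLocalRing.maximalIdeal (W2 p k) = Ideal.span {(p : W2 p k)} := by
  ext x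
  rw [IsLocalRing.mem_maximalIdeal, mem_nonunits_iff, isUnit_iff, not_not, mem_span_p_iff]

instance : Finite (Ideal (W2 p k)) := by
  have : (Set.univ : Set (Ideal (W2 p k))) ⊆ {⊥, Ideal.span {(p : W2 p k)}, ⊤} := by
    intro I _
    rcases ideal_cases p k I with h | h | h <;> simp [h]
  exact Set.finite_univ_iff.mp ((Set.toFinite _).subset this)

instance : IsArtinianRing (W2 p k) := by
  unfold IsArtinianRing IsArtinian
  infer_instance

end field

section flat

variable (k : Type u) [Field k] [CharP k p] [PerfectRing k p]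
variable (M : Type v) [AddCommGroup M] [Module (W2 p k) M]

theorem exists_eq_p_smul_of_flat [Module.Flat (W2 p k) M] (m : M)
    (hm : (p : W2 p k) • m = 0) : ∃ m' : M, m = (p : W2 p k) • m' := by
  have hrel : ∑ i : Fin 1, (fun _ : Fin 1 => (p : W2 p k)) i • (fun _ : Fin 1 => m) i = 0 := by
    simpa using hm
  obtain ⟨κ, a, y, hxy, haj⟩ := Module.Flat.isTrivialRelation_of_sum_smul_eq_zero hrel
  have hb : ∀ j, ∃ b : W2 p k, a 0 j = (p : W2 p k) * b := by
    intro j
    have := haj j
    simp only [Finset.univ_unique, Finset.sum_singleton] at this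
    exact exists_eq_p_mul p k ((p_mul_eq_zero_iff p k).mp this)
  choose b hb using hb
  refine ⟨∑ j, b j • y j, ?_⟩
  have h0 : m = ∑ j, a 0 j • y j := hxy 0
  rw [Finset.smul_sum]
  refine h0.trans (Finset.sum_congr rfl fun j _ => ?_)
  rw [hb j, mul_smul]

theorem flat_of_forall (h : ∀ m : M, (p : W2 p k) • m = 0 → ∃ m' : M, m = (p : W2 p k) • m') :
    Module.Flat (W2 p k) M := by
  rw [Module.Flat.iff_rTensor_injective']
  intro I
  rcases ideal_cases p k I with rfl | rfl | rfl
  · have : Subsingleton (TensorProduct (W2 p k) (⊥ : Ideal (W2 p k)) M) := by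
      refine ⟨fun a b => ?_⟩
      have hz : ∀ z : TensorProduct (W2 p k) (⊥ : Ideal (W2 p k)) M, z = 0 := by
        intro z
        induction z using TensorProduct.induction_on with
        | zero => rfl
        | tmul x y =>
          have : x = 0 := Subsingleton.elim _ _
          rw [this, TensorProduct.zero_tmul]
        | add x y hx hy => rw [hx, hy, add_zero]
      rw [hz a, hz b]
    exact Function.injective_of_subsingleton _
  · rw [injective_iff_map_eq_zero]
    intro z hz
    have hform : ∀ z : TensorProduct (W2 p k) (Ideal.span {(p : W2 p k)}) M,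
        ∃ m : M, z = (⟨(p : W2 p k), Ideal.subset_span rfl⟩ :
          (Ideal.span {(p : W2 p k)} : Ideal (W2 p k))) ⊗ₜ[W2 p k] m := by
      intro z
      induction z using TensorProduct.induction_on with
      | zero => exact ⟨0, (TensorProduct.tmul_zero _ _).symm⟩
      | tmul x y =>
        obtain ⟨x, hx⟩ := x
        obtain ⟨c, hc⟩ := Ideal.mem_span_singleton'.mp hx
        refine ⟨c • y, ?_⟩
        rw [← TensorProduct.smul_tmul]
        congr 1
        apply Subtype.ext
        simp [← hc]
      | add x y hx hy =>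
        obtain ⟨m1, rfl⟩ := hx
        obtain ⟨m2, rfl⟩ := hy
        exact ⟨m1 + m2, (TensorProduct.tmul_add _ _ _).symm⟩
    obtain ⟨m, rfl⟩ := hform z
    rw [LinearMap.rTensor_tmul, Submodule.subtype_apply] at hz
    have hz' : (p : W2 p k) • m = 0 := by
      have := congrArg (TensorProduct.lid (W2 p k) M) hz
      simpa using this
    obtain ⟨m', rfl⟩ := h m hz'
    rw [← TensorProduct.smul_tmul]
    have : (p : W2 p k) • (⟨(p : W2 p k), Ideal.subset_span rfl⟩ :
          (Ideal.span {(p : W2 p k)} : Ideal (W2 p k))) = 0 := by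
      apply Subtype.ext
      simp [p_mul_p]
    rw [this, TensorProduct.zero_tmul]
  · have hinj : Function.Injective
        ((Submodule.topEquiv (R := W2 p k) (M := W2 p k)).toLinearMap.rTensor M) := by
      apply Function.LeftInverse.injective
        (g := (Submodule.topEquiv (R := W2 p k) (M := W2 p k)).symm.toLinearMap.rTensor M)
      intro z
      rw [← LinearMap.rTensor_comp_apply]
      simp
    exact hinj

theorem flat_iff : Module.Flat (W2 p k) M ↔
    ∀ m : M, (p : W2 p k) • m = 0 → ∃ m' : M, m = (p : W2 p k) • m' :=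
  ⟨fun _ => exists_eq_p_smul_of_flat p k M, flat_of_forall p k M⟩

end flat

section quot

variable (k : Type u) [Field k] [CharP k p] [PerfectRing k p]
variable (B : Type v) [CommRing B] [Algebra (W2 p k) B]

omit [PerfectRing k p] in
theorem p_smul_eq (b : B) : (p : W2 p k) • b = (p : B) * b := by
  rw [Algebra.smul_def, map_natCast]

theorem natCast_mul_natCast_alg (k : Type u) [CommRing k] [CharP k p]
    (B : Type v) [CommRing B] [Algebra (W2 p k) B] : (p : B) * (p : B) = 0 := by
  have h := congrArg (algebraMap (W2 p k) B) (p_mul_p p k)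
  rwa [map_mul, map_natCast, map_zero] at h

theorem eq_p_mul_of_p_mul_eq_zero [Module.Flat (W2 p k) B] (b : B) (hb : (p : B) * b = 0) :
    ∃ b' : B, b = (p : B) * b' := by
  obtain ⟨b', hb'⟩ := exists_eq_p_smul_of_flat p k B b (by rw [p_smul_eq, hb])
  exact ⟨b', by rw [hb', p_smul_eq]⟩

theorem flat_of_forall_alg (h : ∀ b : B, (p : B) * b = 0 → ∃ b' : B, b = (p : B) * b') :
    Module.Flat (W2 p k) B := by
  apply flat_of_forall
  intro b hb
  obtain ⟨b', hb'⟩ := h b (by rw [← p_smul_eq p k, hb])
  exact ⟨b', by rw [hb', p_smul_eq]⟩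

theorem flat_quotient_iff [Module.Flat (W2 p k) B] (J : Ideal B) :
    Module.Flat (W2 p k) (B ⧸ J) ↔
      Ideal.span {(p : B)} ⊓ J = Ideal.span {(p : B)} * J := by
  constructor
  · intro hfl
    refine le_antisymm ?_ Ideal.mul_le_inf
    rintro x ⟨hx1, hx2⟩
    obtain ⟨b, rfl⟩ := Ideal.mem_span_singleton'.mp hx1
    have h0 : (p : B ⧸ J) * Ideal.Quotient.mk J b = 0 := by
      rw [← map_natCast (Ideal.Quotient.mk J), ← map_mul, Ideal.Quotient.eq_zero_iff_mem,
        mul_comm]
      exact hx2
    obtain ⟨m', hm'⟩ := eq_p_mul_of_p_mul_eq_zero p k (B ⧸ J) _ h0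
    obtain ⟨b', rfl⟩ := Ideal.Quotient.mk_surjective m'
    rw [← map_natCast (Ideal.Quotient.mk J), ← map_mul, Ideal.Quotient.eq] at hm'
    have : b * (p : B) = (p : B) * (b - (p : B) * b') := by
      rw [mul_sub, ← mul_assoc, natCast_mul_natCast_alg p k B, zero_mul, sub_zero, mul_comm]
    rw [this]
    exact Ideal.mul_mem_mul (Ideal.mem_span_singleton_self _) hm'
  · intro hJ
    apply flat_of_forall_alg
    intro m hm
    obtain ⟨b, rfl⟩ := Ideal.Quotient.mk_surjective m
    rw [← map_natCast (Ideal.Quotient.mk J), ← map_mul, Ideal.Quotient.eq_zero_iff_mem] at hm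
    have hmem : (p : B) * b ∈ Ideal.span {(p : B)} ⊓ J :=
      ⟨Ideal.mul_mem_right _ _ (Ideal.mem_span_singleton_self _), hm⟩
    rw [hJ, Ideal.mem_span_singleton_mul] at hmem
    obtain ⟨j, hj, hpj⟩ := hmem
    have h0 : (p : B) * (b - j) = 0 := by rw [mul_sub, hpj, sub_self]
    obtain ⟨b', hb'⟩ := eq_p_mul_of_p_mul_eq_zero p k B _ h0
    refine ⟨Ideal.Quotient.mk J b', ?_⟩
    rw [← map_natCast (Ideal.Quotient.mk J), ← map_mul, ← hb', map_sub, eq_comm, sub_eq_self,
      Ideal.Quotient.eq_zero_iff_mem]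
    exact hj

end quot

section lift

variable (k : Type u) [Field k] [CharP k p] [PerfectRing k p]
variable (A : Type v) [CommRing A] [Algebra k A] (B : Type v) [CommRing B]
  (ι : W2 p k →+* B) (π : B →+* A)

theorem map_ker_res : Ideal.map ι (RingHom.ker (res p k)) = Ideal.span {(p : B)} := by
  rw [ker_res, Ideal.map_span, Set.image_singleton, map_natCast]

variable {A B ι π}

theorem IsLift.ker_eq_span (h : IsLift p k A B ι π) : RingHom.ker π = Ideal.span {(p : B)} := by
  rw [h.ker_eq, map_ker_res]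

theorem IsLift.map_p (h : IsLift p k A B ι π) : π (p : B) = 0 := by
  rw [← RingHom.mem_ker, IsLift.ker_eq_span p k h]
  exact Ideal.mem_span_singleton_self _

theorem IsLift.exists_of_map_eq_zero (h : IsLift p k A B ι π) (b : B) (hb : π b = 0) :
    ∃ b' : B, b = (p : B) * b' := by
  rw [← RingHom.mem_ker, IsLift.ker_eq_span p k h, Ideal.mem_span_singleton'] at hb
  obtain ⟨a, ha⟩ := hb
  exact ⟨a, by rw [← ha, mul_comm]⟩

theorem IsLift.exists_of_p_mul_eq_zero (h : IsLift p k A B ι π) (b : B)
    (hb : (p : B) * b = 0) : ∃ b' : B, b = (p : B) * b' := by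
  letI := ι.toAlgebra
  haveI : Module.Flat (W2 p k) B := h.flat
  exact eq_p_mul_of_p_mul_eq_zero p k B b hb

theorem IsLift.p_mul_p (h : IsLift p k A B ι π) : (p : B) * (p : B) = 0 := by
  letI := ι.toAlgebra
  exact natCast_mul_natCast_alg p k B

theorem IsLift.p_mul_eq_zero_iff (h : IsLift p k A B ι π) (b : B) :
    (p : B) * b = 0 ↔ π b = 0 := by
  constructor
  · intro hb
    obtain ⟨b', rfl⟩ := IsLift.exists_of_p_mul_eq_zero p k h b hb
    rw [map_mul, IsLift.map_p p k h, zero_mul]
  · intro hb
    obtain ⟨b', rfl⟩ := IsLift.exists_of_map_eq_zero p k h b hb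
    rw [← mul_assoc, IsLift.p_mul_p p k h, zero_mul]

theorem IsLift.of_forall
    (hflat : ∀ b : B, (p : B) * b = 0 → ∃ b' : B, b = (p : B) * b')
    (hsurj : Function.Surjective π)
    (hker : ∀ b : B, π b = 0 → ∃ b' : B, b = (p : B) * b')
    (hp0 : π (p : B) = 0)
    (hcomm : π.comp ι = (algebraMap k A).comp (res p k)) : IsLift p k A B ι π where
  flat := by
    letI := ι.toAlgebra
    exact flat_of_forall_alg p k B hflat
  surj := hsurj
  ker_eq := by
    rw [map_ker_res]
    ext b
    rw [RingHom.mem_ker, Ideal.mem_span_singleton']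
    constructor
    · intro hb
      obtain ⟨b', rfl⟩ := hker b hb
      exact ⟨b', mul_comm _ _⟩
    · rintro ⟨a, rfl⟩
      rw [map_mul, hp0, mul_zero]
  comm := hcomm

end lift

end Groth.Agent.Lib.Helper71.W2
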