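import Groth.Agent.Lib.Helper71.W2Arith

set_option autoImplicit false
universe u v

namespace Groth.Agent.Lib.Helper71.W2

open FrobAlg

variable (p : ℕ) [Fact p.Prime]

section gamma

variable (k : Type u) [Field k] [CharP k p] [PerfectRing k p]
variable {A : Type v} [CommRing A] [Algebra k A] {B : Type v} [CommRing B]
  {ι : W2 p k →+* B} {π : B →+* A}

theorem IsLift.pow_eq_of_map_eq (h : IsLift p k A B ι π) {x y : B} (hxy : π x = π y) :
    x ^ p = y ^ p := by
  have h1 : π (x - y) = 0 := by rw [map_sub, hxy, sub_self]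
  obtain ⟨c, hc⟩ := IsLift.exists_of_map_eq_zero p k h _ h1
  have h2 : (p : B) ∣ x - y := ⟨c, hc⟩
  have h3 := dvd_sub_pow_of_dvd_sub h2 1
  have h4 : ((p : B) ^ (1 + 1)) = 0 := by rw [pow_succ, pow_one, IsLift.p_mul_p p k h]
  rw [pow_one, h4, zero_dvd_iff, sub_eq_zero] at h3
  exact h3

theorem IsLift.truncMap_eq_of (h : IsLift p k A B ι π) {x y : W2 p B}
    (h0 : π (x.coeff 0) = π (y.coeff 0)) (hg : ghost1 p x = ghost1 p y) :
    WittGrp.truncMap p 2 π x = WittGrp.truncMap p 2 π y := by
  apply ext2
  · rw [WittGrp.coeff_truncMap, WittGrp.coeff_truncMap, h0]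
  · rw [WittGrp.coeff_truncMap, WittGrp.coeff_truncMap]
    rw [ghost1_apply, ghost1_apply, IsLift.pow_eq_of_map_eq p k h h0] at hg
    have h1 : (p : B) * (x.coeff 1 - y.coeff 1) = 0 := by
      rw [mul_sub, sub_eq_zero]
      exact add_left_cancel hg
    rw [IsLift.p_mul_eq_zero_iff p k h, map_sub, sub_eq_zero] at h1
    exact h1

theorem IsLift.ghost1_eq_zero_of (h : IsLift p k A B ι π) {x : W2 p B}
    (hx : WittGrp.truncMap p 2 π x = 0) : ghost1 p x = 0 := by
  have h0 : π (x.coeff 0) = 0 := by
    have := congrArg (fun z : W2 p A => z.coeff 0) hx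
    simpa [WittGrp.coeff_truncMap] using this
  have h1 : π (x.coeff 1) = 0 := by
    have := congrArg (fun z : W2 p A => z.coeff 1) hx
    simpa [WittGrp.coeff_truncMap] using this
  rw [ghost1_apply]
  have e0 : x.coeff 0 ^ p = 0 := by
    have := IsLift.pow_eq_of_map_eq p k h (x := x.coeff 0) (y := 0) (by rw [h0, map_zero])
    rwa [zero_pow (Fact.out : p.Prime).ne_zero] at this
  rw [e0, zero_add, IsLift.p_mul_eq_zero_iff p k h, h1]

noncomputable def gamma (h : IsLift p k A B ι π) : W2 p A →+* B :=
  RingHom.liftOfSurjective (WittGrp.truncMap p 2 π) (truncMap_surjective p π h.surj)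
    ⟨ghost1 p, fun _ hx => IsLift.ghost1_eq_zero_of p k h hx⟩

theorem gamma_truncMap (h : IsLift p k A B ι π) (x : W2 p B) :
    gamma p k h (WittGrp.truncMap p 2 π x) = ghost1 p x :=
  RingHom.liftOfRightInverse_comp_apply _ _ _ _ x

theorem map_gamma (h : IsLift p k A B ι π) (y : W2 p A) :
    π (gamma p k h y) = y.coeff 0 ^ p := by
  obtain ⟨x, rfl⟩ := truncMap_surjective p π h.surj y
  rw [gamma_truncMap, ghost1_apply, map_add, map_mul, map_natCast, map_pow,
    WittGrp.coeff_truncMap]
  have : (p : A) = 0 := by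
    rw [← map_natCast π, IsLift.map_p p k h]
  rw [this, zero_mul, add_zero]

noncomputable def xw (w : W2 p k) : W2 p B :=
  T p (ι (T p (w.coeff 0))) + V p (ι (T p (w.coeff 1)))

theorem truncMap_xw (h : IsLift p k A B ι π) (w : W2 p k) :
    WittGrp.truncMap p 2 π (xw p k (ι := ι) w) = WittGrp.truncMap p 2 (algebraMap k A) w := by
  have hc : ∀ z : W2 p k, π (ι z) = algebraMap k A (z.coeff 0) := by
    intro z
    have := congrArg (fun f => f z) h.comm
    simpa only [RingHom.comp_apply, res_apply] using this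
  rw [xw, map_add, truncMap_T, truncMap_V, hc, hc, coeff_T_zero, coeff_T_zero]
  conv_rhs => rw [eq_T_add_V p w, map_add, truncMap_T, truncMap_V]

theorem ghost1_xw (w : W2 p k) :
    ghost1 p (xw p k (ι := ι) w) = ι (sigma p k w) := by
  rw [xw, ghost1_apply, coeff_T_add_V_zero, coeff_T_add_V_one, ← map_pow, ← map_natCast ι,
    ← map_mul, ← map_add, ← map_pow, p_mul_eq_V, coeff_T_zero]
  congr 1
  apply ext2
  · rw [coeff_T_add_V_zero, WittGrp.coeff_frob]
  · rw [coeff_T_add_V_one, WittGrp.coeff_frob]

end gamma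

section theta

variable (k : Type u) [Field k] [CharP k p] [PerfectRing k p]
variable {A : Type v} [CommRing A] [Algebra k A] {B : Type v} [CommRing B]
  {ι : W2 p k →+* B} {π : B →+* A}

theorem frobLift_of_theta (h : IsLift p k A B ι π) (θ : B →+* W2 p A)
    (h1 : (res p A).comp θ = π)
    (h2 : θ.comp ι = WittGrp.truncMap p 2 (algebraMap k A)) :
    IsFrobLift p k A B ι π ((gamma p k h).comp θ) where
  toIsLift := h
  semi := by
    ext w
    rw [RingHom.comp_apply, RingHom.comp_apply, RingHom.comp_apply]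
    have := congrArg (fun f => f w) h2
    simp only [RingHom.comp_apply] at this
    rw [this, ← truncMap_xw p k h, gamma_truncMap, ghost1_xw]
  red := by
    intro b
    rw [RingHom.comp_apply, map_gamma]
    have := congrArg (fun f => f b) h1
    simp only [RingHom.comp_apply, res_apply] at this
    rw [this]

theorem exists_theta_of_frobLift (Φ : B →+* B) (h : IsFrobLift p k A B ι π Φ) :
    ∃ θ : B →+* W2 p A, (res p A).comp θ = π ∧
      θ.comp ι = WittGrp.truncMap p 2 (algebraMap k A) ∧
      ∀ b, gamma p k h.toIsLift (θ b) = Φ b := by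
  have hL := h.toIsLift
  have hex : ∀ b : B, ∃ c : B, Φ b = b ^ p + (p : B) * c := by
    intro b
    have h1 : π (Φ b - b ^ p) = 0 := by rw [map_sub, h.red, map_pow, sub_self]
    obtain ⟨c, hc⟩ := IsLift.exists_of_map_eq_zero p k hL _ h1
    exact ⟨c, by rw [← hc]; ring⟩
  choose d hd using hex
  have hg : ∀ b, ghost1 p (T p b + V p (d b)) = Φ b := by
    intro b
    rw [ghost1_apply, coeff_T_add_V_zero, coeff_T_add_V_one, hd]
  have hc0 : ∀ b, (T p b + V p (d b)).coeff 0 = b := fun b => coeff_T_add_V_zero p b (d b)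
  let θ : B →+* W2 p A :=
    { toFun := fun b => WittGrp.truncMap p 2 π (T p b + V p (d b))
      map_one' := by
        rw [← map_one (WittGrp.truncMap p 2 π)]
        apply IsLift.truncMap_eq_of p k hL
        · have e1 : (1 : W2 p B).coeff 0 = 1 := by rw [← res_apply, map_one]
          rw [hc0, e1]
        · rw [hg, map_one, map_one]
      map_mul' := by
        intro b c
        rw [← map_mul (WittGrp.truncMap p 2 π)]
        apply IsLift.truncMap_eq_of p k hL
        · rw [hc0, coeff_zero_mul, hc0, hc0]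
        · rw [hg, map_mul (ghost1 p), hg, hg, map_mul]
      map_zero' := by
        rw [← map_zero (WittGrp.truncMap p 2 π)]
        apply IsLift.truncMap_eq_of p k hL
        · rw [hc0, TruncatedWittVector.coeff_zero]
        · rw [hg, map_zero, map_zero]
      map_add' := by
        intro b c
        rw [← map_add (WittGrp.truncMap p 2 π)]
        apply IsLift.truncMap_eq_of p k hL
        · rw [hc0, coeff_zero_add, hc0, hc0]
        · rw [hg, map_add (ghost1 p), hg, hg, map_add] }
  have hθ : ∀ b, θ b = WittGrp.truncMap p 2 π (T p b + V p (d b)) := fun _ => rfl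
  refine ⟨θ, ?_, ?_, ?_⟩
  · ext b
    rw [RingHom.comp_apply, res_apply, hθ, WittGrp.coeff_truncMap, hc0]
  · ext1 w
    rw [RingHom.comp_apply, hθ, ← truncMap_xw p k hL]
    apply IsLift.truncMap_eq_of p k hL
    · rw [hc0, xw, coeff_T_add_V_zero]
      have hc : ∀ z : W2 p k, π (ι z) = algebraMap k A (z.coeff 0) := by
        intro z
        have := congrArg (fun f => f z) hL.comm
        simpa only [RingHom.comp_apply, res_apply] using this
      rw [hc, hc, coeff_T_zero]
    · rw [hg, ghost1_xw]
      have := congrArg (fun f => f w) h.semi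
      simpa only [RingHom.comp_apply] using this
  · intro b
    rw [hθ, gamma_truncMap, hg]

end theta

end Groth.Agent.Lib.Helper71.W2
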