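import Groth.Agent.Lib.Helper71.W2Frob

set_option autoImplicit false
universe u v

namespace Groth.Agent.Lib.Helper71.W2Poly

open FrobAlg

section taylor

open Groth.Agent.Lib.Helper71.W2 MvPolynomial

variable (p : ℕ) [Fact p.Prime] (k : Type u) [Field k] [CharP k p] [PerfectRing k p] {σ : Type v}

omit [PerfectRing k p] in
theorem PP : (p : MvPolynomial σ (W2 p k)) * (p : MvPolynomial σ (W2 p k)) = 0 :=
  natCast_mul_natCast_alg p k _

omit [PerfectRing k p] in
theorem P_mul_add_pow (a b : MvPolynomial σ (W2 p k)) :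
    (p : MvPolynomial σ (W2 p k)) * (a + b) ^ p =
      (p : MvPolynomial σ (W2 p k)) * a ^ p + (p : MvPolynomial σ (W2 p k)) * b ^ p := by
  obtain ⟨r, hr⟩ := exists_add_pow_prime_eq (Fact.out : p.Prime) a b
  rw [hr, mul_add, mul_add]
  have : (p : MvPolynomial σ (W2 p k)) * (↑p * a * b * r) = 0 := by
    rw [mul_assoc (p : MvPolynomial σ (W2 p k)) a, mul_assoc (p : MvPolynomial σ (W2 p k)),
      ← mul_assoc, PP, zero_mul]
  rw [this, add_zero]

theorem polyFrob_sub_pow_mem (g : MvPolynomial σ (W2 p k)) :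
    ∃ c, polyFrob p k σ g - g ^ p = (p : MvPolynomial σ (W2 p k)) * c := by
  induction g using MvPolynomial.induction_on with
  | C a =>
    have h0 : (sigma p k a - a ^ p).coeff 0 = 0 := by
      rw [coeff_zero_sub, WittGrp.coeff_frob, ← res_apply, ← res_apply, map_pow, sub_self]
    obtain ⟨y, hy⟩ := exists_eq_p_mul p k h0
    refine ⟨C y, ?_⟩
    have : polyFrob p k σ (C a) = C (sigma p k a) := by
      unfold polyFrob
      rw [coe_eval₂Hom, eval₂_C]
      rfl
    rw [this, ← map_pow, ← map_sub, hy, map_mul, map_natCast]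
  | add g1 g2 h1 h2 =>
    obtain ⟨c1, hc1⟩ := h1
    obtain ⟨c2, hc2⟩ := h2
    obtain ⟨r, hr⟩ := exists_add_pow_prime_eq (Fact.out : p.Prime) g1 g2
    refine ⟨c1 + c2 - g1 * g2 * r, ?_⟩
    rw [map_add, hr, mul_sub, mul_add, ← hc1, ← hc2]
    ring
  | mul_X g i h =>
    obtain ⟨c, hc⟩ := h
    refine ⟨c * X i ^ p, ?_⟩
    have : polyFrob p k σ (X i) = X i ^ p := by
      unfold polyFrob
      rw [coe_eval₂Hom, eval₂_X]
    rw [map_mul, this, mul_pow, ← sub_mul, hc, mul_assoc]

theorem P_mul_polyFrob (g : MvPolynomial σ (W2 p k)) :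
    (p : MvPolynomial σ (W2 p k)) * polyFrob p k σ g =
      (p : MvPolynomial σ (W2 p k)) * g ^ p := by
  obtain ⟨c, hc⟩ := polyFrob_sub_pow_mem p k g
  rw [← sub_eq_zero, ← mul_sub, hc, ← mul_assoc, PP, zero_mul]

noncomputable def Phit (h : σ → MvPolynomial σ (W2 p k)) :
    MvPolynomial σ (W2 p k) →+* MvPolynomial σ (W2 p k) :=
  eval₂Hom (C.comp (sigma p k)) fun j => X j ^ p - (p : MvPolynomial σ (W2 p k)) * h j

omit [PerfectRing k p] in
theorem Phit_C (h : σ → MvPolynomial σ (W2 p k)) (a : W2 p k) :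
    Phit p k h (C a) = C (sigma p k a) := by
  unfold Phit
  rw [coe_eval₂Hom, eval₂_C]
  rfl

omit [PerfectRing k p] in
theorem Phit_X (h : σ → MvPolynomial σ (W2 p k)) (j : σ) :
    Phit p k h (X j) = X j ^ p - (p : MvPolynomial σ (W2 p k)) * h j := by
  unfold Phit
  rw [coe_eval₂Hom, eval₂_X]

theorem Phit_eq [Fintype σ] [DecidableEq σ] (h : σ → MvPolynomial σ (W2 p k)) (g : MvPolynomial σ (W2 p k)) :
    Phit p k h g = polyFrob p k σ g -
      (p : MvPolynomial σ (W2 p k)) * ∑ j, pderiv j g ^ p * h j := by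
  induction g using MvPolynomial.induction_on with
  | C a =>
    have h1 : polyFrob p k σ (C a) = C (sigma p k a) := by
      unfold polyFrob
      rw [coe_eval₂Hom, eval₂_C]
      rfl
    rw [Phit_C, h1]
    simp [zero_pow (Fact.out : p.Prime).ne_zero]
  | add g1 g2 h1 h2 =>
    rw [map_add, h1, h2, map_add]
    have : (p : MvPolynomial σ (W2 p k)) * ∑ j, pderiv j (g1 + g2) ^ p * h j =
        (p : MvPolynomial σ (W2 p k)) * ∑ j, pderiv j g1 ^ p * h j +
        (p : MvPolynomial σ (W2 p k)) * ∑ j, pderiv j g2 ^ p * h j := by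
      rw [Finset.mul_sum, Finset.mul_sum, Finset.mul_sum, ← Finset.sum_add_distrib]
      refine Finset.sum_congr rfl fun j _ => ?_
      rw [map_add, ← mul_assoc, P_mul_add_pow, add_mul, mul_assoc, mul_assoc]
    rw [this]
    ring
  | mul_X g i hg =>
    have hX : polyFrob p k σ (X i) = X i ^ p := by
      unfold polyFrob
      rw [coe_eval₂Hom, eval₂_X]
    rw [map_mul, hg, Phit_X, map_mul, hX]
    have hsum : (p : MvPolynomial σ (W2 p k)) * ∑ j, pderiv j (g * X i) ^ p * h j =
        (p : MvPolynomial σ (W2 p k)) * (∑ j, pderiv j g ^ p * h j) * X i ^ p +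
        (p : MvPolynomial σ (W2 p k)) * g ^ p * h i := by
      have hterm : ∀ j, (p : MvPolynomial σ (W2 p k)) * (pderiv j (g * X i) ^ p * h j) =
          (p : MvPolynomial σ (W2 p k)) * (pderiv j g ^ p * h j) * X i ^ p +
          (if j = i then (p : MvPolynomial σ (W2 p k)) * g ^ p * h i else 0) := by
        intro j
        rw [Derivation.leibniz, pderiv_X, smul_eq_mul, smul_eq_mul, ← mul_assoc, P_mul_add_pow]
        by_cases hji : j = i
        · subst hji
          rw [if_pos rfl, Pi.single_eq_same, mul_one, mul_pow]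
          ring
        · rw [if_neg hji, Pi.single_eq_of_ne (Ne.symm hji), mul_zero, zero_pow (Fact.out : p.Prime).ne_zero,
            mul_zero, zero_add, mul_pow, add_zero]
          ring
      rw [Finset.mul_sum, Finset.sum_congr rfl fun j _ => hterm j, Finset.sum_add_distrib,
        Finset.sum_ite_eq' Finset.univ i, if_pos (Finset.mem_univ i), Finset.mul_sum,
        Finset.sum_mul]
    rw [hsum]
    have e1 : polyFrob p k σ g * ((p : MvPolynomial σ (W2 p k)) * h i) =
        (p : MvPolynomial σ (W2 p k)) * g ^ p * h i := by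
      rw [← mul_assoc, mul_comm _ (p : MvPolynomial σ (W2 p k)), P_mul_polyFrob]
    have e2 : ((p : MvPolynomial σ (W2 p k)) * ∑ j, pderiv j g ^ p * h j) *
        ((p : MvPolynomial σ (W2 p k)) * h i) = 0 := by
      rw [mul_mul_mul_comm, PP, zero_mul]
    rw [sub_mul, mul_sub, mul_sub, e1, e2]
    ring

end taylor

section main

open Groth.Agent.Lib.Helper71.W2 MvPolynomial

variable (p : ℕ) [Fact p.Prime] (k : Type u) [Field k] [CharP k p] [PerfectRing k p] {σ : Type v}

theorem ker_map_res_le (g : MvPolynomial σ (W2 p k))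
    (hg : MvPolynomial.map (res p k) g = 0) :
    ∃ c, g = (p : MvPolynomial σ (W2 p k)) * c := by
  have h1 : g ∈ RingHom.ker (MvPolynomial.map (σ := σ) (res p k)) := hg
  rw [MvPolynomial.ker_map, ker_res, Ideal.map_span, Set.image_singleton, map_natCast,
    Ideal.mem_span_singleton'] at h1
  obtain ⟨c, hc⟩ := h1
  exact ⟨c, by rw [← hc, mul_comm]⟩

omit [PerfectRing k p] in
theorem map_res_P :
    MvPolynomial.map (σ := σ) (res p k) (p : MvPolynomial σ (W2 p k)) = 0 := by
  rw [map_natCast]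
  have : (p : MvPolynomial σ k) = C (p : k) := by rw [map_natCast]
  rw [this, CharP.cast_eq_zero, map_zero]

omit [PerfectRing k p] in
theorem map_res_Phit (h : σ → MvPolynomial σ (W2 p k))
    (g : MvPolynomial σ (W2 p k)) :
    MvPolynomial.map (res p k) (Phit p k h g) = (MvPolynomial.map (res p k) g) ^ p := by
  induction g using MvPolynomial.induction_on with
  | C a =>
    rw [Phit_C, map_C, map_C, ← map_pow, res_apply, WittGrp.coeff_frob, res_apply]
  | add g1 g2 h1 h2 =>
    rw [map_add, map_add, h1, h2, map_add, add_pow_char]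
  | mul_X g i hg =>
    rw [map_mul, map_mul, hg, Phit_X, map_mul, map_sub, map_mul, map_res_P, zero_mul, sub_zero,
      map_pow, mul_pow]

end main

section present

open Groth.Agent.Lib.Helper71.W2 MvPolynomial

variable (p : ℕ) [Fact p.Prime] (k : Type u) [Field k] [CharP k p] [PerfectRing k p] {σ : Type v}

omit [PerfectRing k p] in
theorem map_res_eq_zero_of_P_mul (a : MvPolynomial σ (W2 p k))
    (ha : (p : MvPolynomial σ (W2 p k)) * a = 0) : MvPolynomial.map (res p k) a = 0 := by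
  ext m
  rw [coeff_map, coeff_zero, res_apply]
  have h1 : (p : MvPolynomial σ (W2 p k)) = C (p : W2 p k) := by rw [map_natCast]
  have h2 := congrArg (coeff m) ha
  rw [h1, coeff_C_mul, coeff_zero] at h2
  exact (p_mul_eq_zero_iff p k).mp h2

omit [PerfectRing k p] in
theorem add_P_mul_pow (a b : MvPolynomial σ (W2 p k)) :
    (a + (p : MvPolynomial σ (W2 p k)) * b) ^ p = a ^ p := by
  have h2 : (p : MvPolynomial σ (W2 p k)) ∣ (a + (p : MvPolynomial σ (W2 p k)) * b) - a :=
    ⟨b, by ring⟩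
  have h3 := dvd_sub_pow_of_dvd_sub h2 1
  have h4 : ((p : MvPolynomial σ (W2 p k)) ^ (1 + 1)) = 0 := by rw [pow_succ, pow_one, PP]
  rw [pow_one, h4, zero_dvd_iff, sub_eq_zero] at h3
  exact h3

omit [PerfectRing k p] in
theorem P_mul_add_P_mul_pow (a b : MvPolynomial σ (W2 p k)) :
    (p : MvPolynomial σ (W2 p k)) * (a + (p : MvPolynomial σ (W2 p k)) * b) ^ p =
      (p : MvPolynomial σ (W2 p k)) * a ^ p := by
  rw [add_P_mul_pow]

theorem exists_presentation (J : Ideal (MvPolynomial σ k)) {B' : Type (max u v)} [CommRing B']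
    (ι : W2 p k →+* B') (π : B' →+* (MvPolynomial σ k ⧸ J))
    (hL : IsLift p k (MvPolynomial σ k ⧸ J) B' ι π) :
    ∃ ψ : MvPolynomial σ (W2 p k) →+* B',
      (∀ a, ψ (C a) = ι a) ∧
      (∀ g, π (ψ g) = Ideal.Quotient.mk J (MvPolynomial.map (res p k) g)) ∧
      Function.Surjective ψ ∧
      (∀ s ∈ J, ∃ s', MvPolynomial.map (res p k) s' = s ∧ ψ s' = 0) ∧
      (∀ z, ψ z = 0 → MvPolynomial.map (res p k) z = 0 →
        ∃ a, z = (p : MvPolynomial σ (W2 p k)) * a ∧ MvPolynomial.map (res p k) a ∈ J) := by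
  have hμsurj : Function.Surjective (MvPolynomial.map (σ := σ) (res p k)) :=
    MvPolynomial.map_surjective _ (fun a => ⟨T p a, by rw [res_apply, coeff_T_zero]⟩)
  have hb : ∀ j : σ, ∃ b : B', π b = Ideal.Quotient.mk _ (X j) := fun j => hL.surj _
  choose b hb using hb
  let ψ : MvPolynomial σ (W2 p k) →+* B' := eval₂Hom ι b
  have hψC : ∀ a, ψ (C a) = ι a := fun a => by
    change eval₂Hom ι b (C a) = ι a
    rw [coe_eval₂Hom, eval₂_C]
  have hψX : ∀ j, ψ (X j) = b j := fun j => by
    change eval₂Hom ι b (X j) = b j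
    rw [coe_eval₂Hom, eval₂_X]
  have hπψ' : π.comp ψ = (Ideal.Quotient.mk J).comp (MvPolynomial.map (res p k)) := by
    apply MvPolynomial.ringHom_ext
    · intro a
      rw [RingHom.comp_apply, hψC, RingHom.comp_apply, map_C]
      have := congrArg (fun g => g a) hL.comm
      simp only [RingHom.comp_apply] at this
      rw [this]
      rfl
    · intro j
      rw [RingHom.comp_apply, hψX, hb, RingHom.comp_apply, map_X]
  have hπψ : ∀ g, π (ψ g) = Ideal.Quotient.mk J (MvPolynomial.map (res p k) g) := fun g => by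
    have := congrArg (fun F => F g) hπψ'
    simpa only [RingHom.comp_apply] using this
  have hψP : ψ (p : MvPolynomial σ (W2 p k)) = (p : B') := map_natCast ψ p
  have hstep : ∀ b' : B', ∃ g b1, b' = ψ g + (p : B') * b1 := by
    intro b'
    obtain ⟨r, hr⟩ := Ideal.Quotient.mk_surjective (π b')
    obtain ⟨g, rfl⟩ := hμsurj r
    obtain ⟨b1, hb1⟩ := IsLift.exists_of_map_eq_zero p k hL (b' - ψ g)
      (by rw [map_sub, hπψ, hr, sub_self])
    exact ⟨g, b1, by rw [← hb1]; ring⟩
  have hψsurj : Function.Surjective ψ := by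
    intro b'
    obtain ⟨g, b1, rfl⟩ := hstep b'
    obtain ⟨g1, b2, rfl⟩ := hstep b1
    refine ⟨g + (p : MvPolynomial σ (W2 p k)) * g1, ?_⟩
    rw [map_add, map_mul, hψP, mul_add, ← mul_assoc, IsLift.p_mul_p p k hL, zero_mul, add_zero]
  refine ⟨ψ, hψC, hπψ, hψsurj, ?_, ?_⟩
  · intro s hs
    obtain ⟨g, hg⟩ := hμsurj s
    have h0 : π (ψ g) = 0 := by
      rw [hπψ, hg, Ideal.Quotient.eq_zero_iff_mem]
      exact hs
    obtain ⟨b1, hb1⟩ := IsLift.exists_of_map_eq_zero p k hL _ h0
    obtain ⟨g1, rfl⟩ := hψsurj b1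
    refine ⟨g - (p : MvPolynomial σ (W2 p k)) * g1, ?_, ?_⟩
    · rw [map_sub, map_mul, map_res_P, zero_mul, sub_zero, hg]
    · rw [map_sub, map_mul, hψP, hb1, sub_self]
  · intro z hz hz0
    obtain ⟨a, rfl⟩ := ker_map_res_le p k z hz0
    refine ⟨a, rfl, ?_⟩
    rw [map_mul, hψP, IsLift.p_mul_eq_zero_iff p k hL, hπψ, Ideal.Quotient.eq_zero_iff_mem] at hz
    exact hz

theorem exists_Phit (J : Ideal (MvPolynomial σ k)) {B' : Type (max u v)} [CommRing B']
    (ι : W2 p k →+* B') (π : B' →+* (MvPolynomial σ k ⧸ J)) (Φ : B' →+* B')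
    (hΦ : IsFrobLift p k (MvPolynomial σ k ⧸ J) B' ι π Φ)
    (ψ : MvPolynomial σ (W2 p k) →+* B') (hψC : ∀ a, ψ (C a) = ι a)
    (hψsurj : Function.Surjective ψ) :
    ∃ h : σ → MvPolynomial σ (W2 p k), ∀ g, Φ (ψ g) = ψ (Phit p k h g) := by
  have hL := hΦ.toIsLift
  have hψP : ψ (p : MvPolynomial σ (W2 p k)) = (p : B') := map_natCast ψ p
  have hex : ∀ j : σ, ∃ hj : MvPolynomial σ (W2 p k),
      Φ (ψ (X j)) = ψ (X j ^ p - (p : MvPolynomial σ (W2 p k)) * hj) := by
    intro j
    obtain ⟨b1, hb1⟩ := IsLift.exists_of_map_eq_zero p k hL (Φ (ψ (X j)) - ψ (X j) ^ p)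
      (by rw [map_sub, hΦ.red, map_pow, sub_self])
    obtain ⟨c, rfl⟩ := hψsurj b1
    refine ⟨-c, ?_⟩
    rw [mul_neg, sub_neg_eq_add, map_add, map_pow, map_mul, hψP, ← hb1]
    ring
  choose h hh using hex
  have hcomp : Φ.comp ψ = ψ.comp (Phit p k h) := by
    apply MvPolynomial.ringHom_ext
    · intro a
      rw [RingHom.comp_apply, hψC, RingHom.comp_apply, Phit_C, hψC]
      have := congrArg (fun g => g a) hΦ.semi
      simpa only [RingHom.comp_apply] using this
    · intro j
      rw [RingHom.comp_apply, hh, RingHom.comp_apply, Phit_X]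
  refine ⟨h, fun g => ?_⟩
  have := congrArg (fun F => F g) hcomp
  simpa only [RingHom.comp_apply] using this

end present

end Groth.Agent.Lib.Helper71.W2Poly
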