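import Mathlib
import Groth.Agent.Lib.Helper6.WeilAlg
set_option autoImplicit false
open TensorProduct Module
universe u
open Groth.Agent.Lib.Helper6.WeilAlg

namespace Groth.Agent.Lib.Helper71.WeilAlgFP

section Aux

variable {R : Type u} [CommRing R] {C : Type u} [CommRing C] [Algebra R C] {ι : Type}
  [Fintype ι] (b : Basis ι R C) (B : Type u) [CommRing B] [Algebra R B]
  (n : ℕ) (π : MvPolynomial (Fin n) R →ₐ[R] B) (S : Finset (MvPolynomial (Fin n) R))

/-- the polynomial ring on the coordinates. -/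
abbrev Q (R : Type u) [CommRing R] (ι : Type) (n : ℕ) : Type u := MvPolynomial (Fin n × ι) R

/-- the generic map `R[X_j] → R[X_{j,i}] ⊗ C`, `X_j ↦ Σ_i X_{j,i} ⊗ e_i`. -/
noncomputable def gen' : MvPolynomial (Fin n) R →ₐ[R] (Q R ι n) ⊗[R] C :=
  MvPolynomial.aeval fun j => ∑ i, (MvPolynomial.X (j, i) : Q R ι n) ⊗ₜ[R] b i

/-- `X_{j,i} ↦ q (X (π X_j, i))`. -/
noncomputable def α₀ : Q R ι n →ₐ[R] WAlg b B :=
  MvPolynomial.aeval fun ji => q b B (MvPolynomial.X (π (MvPolynomial.X ji.1), ji.2))

theorem map_α₀_gen' :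
    (Algebra.TensorProduct.map (α₀ b B n π) (AlgHom.id R C)).comp (gen' b n) =
      (coev b B).comp π := by
  apply MvPolynomial.algHom_ext
  intro j
  simp only [AlgHom.comp_apply, gen', α₀, MvPolynomial.aeval_X, map_sum,
    Algebra.TensorProduct.map_tmul, AlgHom.id_apply]
  rw [coev_apply]

/-- the finite set of relations. -/
noncomputable def T : Set (Q R ι n) :=
  {p | ∃ f ∈ S, ∃ i : ι, p = (Algebra.TensorProduct.basis (Q R ι n) b).repr (gen' b n f) i}

theorem T_finite : (T b n S).Finite := by
  classical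
  have : T b n S = (fun fi : MvPolynomial (Fin n) R × ι =>
      (Algebra.TensorProduct.basis (Q R ι n) b).repr (gen' b n fi.1) fi.2) ''
        ((S : Set (MvPolynomial (Fin n) R)) ×ˢ (Set.univ : Set ι)) := by
    ext p
    constructor
    · rintro ⟨f, hf, i, rfl⟩
      exact ⟨(f, i), ⟨hf, trivial⟩, rfl⟩
    · rintro ⟨⟨f, i⟩, ⟨hf, -⟩, rfl⟩
      exact ⟨f, hf, i, rfl⟩
  rw [this]
  exact (S.finite_toSet.prod Set.finite_univ).image _

/-- the ideal of relations. -/
noncomputable def J' : Ideal (Q R ι n) := Ideal.span (T b n S)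

theorem J'_fg : (J' b n S).FG := ⟨(T_finite b n S).toFinset, by simp [J']⟩

/-- the finitely presented model. -/
def W' : Type u := Q R ι n ⧸ J' b n S

noncomputable instance : CommRing (W' b n S) :=
  inferInstanceAs (CommRing (Q R ι n ⧸ J' b n S))

noncomputable instance : Algebra R (W' b n S) :=
  inferInstanceAs (Algebra R (Q R ι n ⧸ J' b n S))

instance : Algebra.FinitePresentation R (W' b n S) :=
  (Algebra.FinitePresentation.quotient (J'_fg b n S) :
    Algebra.FinitePresentation R (Q R ι n ⧸ J' b n S))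

/-- the quotient map. -/
noncomputable def mk' : Q R ι n →ₐ[R] W' b n S := Ideal.Quotient.mkₐ R (J' b n S)

theorem mk'_surjective : Function.Surjective (mk' b n S) := Ideal.Quotient.mkₐ_surjective R _

/-- `R[X_j] → W' ⊗ C`. -/
noncomputable def ψ' : MvPolynomial (Fin n) R →ₐ[R] (W' b n S) ⊗[R] C :=
  (Algebra.TensorProduct.map (mk' b n S) (AlgHom.id R C)).comp (gen' b n)

theorem ψ'_apply (p : MvPolynomial (Fin n) R) :
    ψ' b n S p = Algebra.TensorProduct.map (mk' b n S) (AlgHom.id R C) (gen' b n p) := rfl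

theorem ψ'_S (f : MvPolynomial (Fin n) R) (hf : f ∈ S) : ψ' b n S f = 0 := by
  apply (Algebra.TensorProduct.basis (W' b n S) b).repr.injective
  ext i
  rw [ψ'_apply, repr_map, map_zero, Finsupp.zero_apply]
  exact Ideal.Quotient.eq_zero_iff_mem.mpr (Ideal.subset_span ⟨f, hf, i, rfl⟩)

theorem ψ'_ker (hS : Ideal.span (S : Set (MvPolynomial (Fin n) R)) = RingHom.ker π.toRingHom) :
    RingHom.ker π.toRingHom ≤ RingHom.ker (ψ' b n S).toRingHom := by
  rw [← hS]
  exact Ideal.span_le.mpr (fun f hf => ψ'_S b n S f hf)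

variable (hπ : Function.Surjective π)
  (hS : Ideal.span (S : Set (MvPolynomial (Fin n) R)) = RingHom.ker π.toRingHom)

/-- `B → W' ⊗ C`. -/
noncomputable def ψ : B →ₐ[R] (W' b n S) ⊗[R] C :=
  AlgHom.liftOfSurjective π hπ (ψ' b n S) (ψ'_ker b B n π S hS)

theorem ψ_π (p : MvPolynomial (Fin n) R) : ψ b B n π S hπ hS (π p) = ψ' b n S p :=
  AlgHom.liftOfSurjective_apply π hπ (ψ' b n S) (ψ'_ker b B n π S hS) p

/-- `WAlg → W'`. -/
noncomputable def β : WAlg b B →ₐ[R] W' b n S := lift b B (ψ b B n π S hπ hS)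

theorem map_β_coev :
    (Algebra.TensorProduct.map (β b B n π S hπ hS) (AlgHom.id R C)).comp (coev b B) =
      ψ b B n π S hπ hS :=
  map_lift_coev b B (ψ b B n π S hπ hS)

include hS in
theorem α₀_J' (p : Q R ι n) (hp : p ∈ J' b n S) : α₀ b B n π p = 0 := by
  have : J' b n S ≤ RingHom.ker (α₀ b B n π) := by
    refine Ideal.span_le.mpr ?_
    rintro _ ⟨f, hf, i, rfl⟩
    rw [SetLike.mem_coe, RingHom.mem_ker, ← repr_map]
    have h := congrArg (fun F => F f) (map_α₀_gen' b B n π)
    simp only [AlgHom.comp_apply] at h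
    have hf0 : π f = 0 := by
      have : f ∈ RingHom.ker π.toRingHom := by rw [← hS]; exact Ideal.subset_span hf
      exact this
    rw [h, hf0, map_zero, map_zero, Finsupp.zero_apply]
  exact this hp

/-- `W' → WAlg`. -/
noncomputable def α : W' b n S →ₐ[R] WAlg b B :=
  Ideal.Quotient.liftₐ (J' b n S) (α₀ b B n π) (α₀_J' b B n π S hS)

theorem α_mk' (p : Q R ι n) : α b B n π S hS (mk' b n S p) = α₀ b B n π p := rfl

theorem map_α_map_mk' (z : (Q R ι n) ⊗[R] C) :
    (Algebra.TensorProduct.map (α b B n π S hS) (AlgHom.id R C))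
      ((Algebra.TensorProduct.map (mk' b n S) (AlgHom.id R C)) z) =
    (Algebra.TensorProduct.map (α₀ b B n π) (AlgHom.id R C)) z := by
  induction z using TensorProduct.induction_on with
  | zero => simp
  | tmul p c => simp only [Algebra.TensorProduct.map_tmul, AlgHom.id_apply, α_mk']
  | add x y hx hy => simp only [map_add, hx, hy]

theorem α_comp_β : (α b B n π S hS).comp (β b B n π S hπ hS) = AlgHom.id R (WAlg b B) := by
  apply lift_unique b B
  apply AlgHom.ext
  intro x
  obtain ⟨p, rfl⟩ := hπ x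
  have e1 : (Algebra.TensorProduct.map ((α b B n π S hS).comp (β b B n π S hπ hS))
      (AlgHom.id R C)) (coev b B (π p)) =
      (Algebra.TensorProduct.map (α b B n π S hS) (AlgHom.id R C))
        ((Algebra.TensorProduct.map (β b B n π S hπ hS) (AlgHom.id R C)) (coev b B (π p))) := by
    generalize coev b B (π p) = z
    induction z using TensorProduct.induction_on with
    | zero => simp
    | tmul p c => simp only [Algebra.TensorProduct.map_tmul, AlgHom.id_apply, AlgHom.comp_apply]
    | add x y hx hy => simp only [map_add, hx, hy]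
  have e2 : (Algebra.TensorProduct.map (β b B n π S hπ hS) (AlgHom.id R C)) (coev b B (π p)) =
      ψ b B n π S hπ hS (π p) :=
    congrArg (fun F => F (π p)) (map_β_coev b B n π S hπ hS)
  have e4 := congrArg (fun F => F p) (map_α₀_gen' b B n π)
  simp only [AlgHom.comp_apply] at e4
  have e5 : (Algebra.TensorProduct.map (AlgHom.id R (WAlg b B)) (AlgHom.id R C))
      (coev b B (π p)) = coev b B (π p) := by
    generalize coev b B (π p) = z
    induction z using TensorProduct.induction_on with
    | zero => simp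
    | tmul p c => simp only [Algebra.TensorProduct.map_tmul, AlgHom.id_apply]
    | add x y hx hy => simp only [map_add, hx, hy]
  simp only [AlgHom.comp_apply]
  rw [e1, e2, ψ_π, ψ'_apply, map_α_map_mk', e4, e5]

theorem β_comp_α : (β b B n π S hπ hS).comp (α b B n π S hS) = AlgHom.id R (W' b n S) := by
  have hcomp : ((β b B n π S hπ hS).comp (α b B n π S hS)).comp (mk' b n S) =
      (AlgHom.id R (W' b n S)).comp (mk' b n S) := by
    apply MvPolynomial.algHom_ext
    rintro ⟨j, i⟩
    simp only [AlgHom.comp_apply, AlgHom.id_apply]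
    rw [α_mk']
    simp only [α₀, MvPolynomial.aeval_X]
    rw [show β b B n π S hπ hS (q b B (MvPolynomial.X (π (MvPolynomial.X j), i))) =
      lift₀ b B (ψ b B n π S hπ hS) (MvPolynomial.X (π (MvPolynomial.X j), i)) from rfl]
    simp only [lift₀, MvPolynomial.aeval_X]
    rw [ψ_π, ψ'_apply]
    simp only [gen', MvPolynomial.aeval_X, map_sum, Algebra.TensorProduct.map_tmul,
      AlgHom.id_apply]
    rw [← map_sum]
    exact repr_sum_tmul b (fun x => mk' b n S (MvPolynomial.X (j, x))) i
  apply AlgHom.ext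
  intro y
  obtain ⟨p, rfl⟩ := mk'_surjective b n S y
  exact congrArg (fun F => F p) hcomp

end Aux

/-- (FP) the Weil restriction algebra of a finitely presented algebra is finitely presented. -/
theorem finitePresentation_WAlg {R : Type u} [CommRing R] {C : Type u} [CommRing C] [Algebra R C]
    {ι : Type} [Fintype ι] (b : Basis ι R C) (B : Type u) [CommRing B] [Algebra R B]
    [Algebra.FinitePresentation R B] : Algebra.FinitePresentation R (WAlg b B) := by
  obtain ⟨n, π, hπ, S, hS⟩ := Algebra.FinitePresentation.out (R := R) (A := B)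
  exact Algebra.FinitePresentation.equiv
    (AlgEquiv.ofAlgHom (α b B n π S hS) (β b B n π S hπ hS) (α_comp_β b B n π S hπ hS)
      (β_comp_α b B n π S hπ hS))

end Groth.Agent.Lib.Helper71.WeilAlgFP
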