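import Mathlib

set_option autoImplicit false
universe u

namespace Helper71.Zeta

open MvPolynomial CategoryTheory AlgebraicGeometry

--BEGIN1
section Identity

variable {k : Type u} [Field k] [Fintype k] {n : ℕ}

local notation "ι" => (Fin (n + 1) ⊕ Fin (n + 1))

/-- value of `F` at a point of a commutative ring -/
def Fv {C : Type*} [CommRing C] (q : ℕ) (Z : ι → C) : C :=
  ∑ i : Fin (n + 1), (Z (Sum.inl i) * Z (Sum.inr i) ^ q - Z (Sum.inr i) * Z (Sum.inl i) ^ q)

/-- value of `L` at a point of a commutative `k`-algebra -/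
def Lv {C : Type*} [CommRing C] [Algebra k C] (c : ι → k) (Z : ι → C) : C :=
  ∑ v, algebraMap k C (c v) * Z v

/-- the tangency point -/
def P₀ (c : ι → k) : ι → k := Sum.elim (fun i => - c (Sum.inr i)) (fun i => c (Sum.inl i))

omit [Fintype k] in
theorem aeval_F {C : Type*} [CommRing C] [Algebra k C] (F : MvPolynomial ι k) (q : ℕ)
    (hF : F = ∑ i : Fin (n + 1), (X (Sum.inl i) * X (Sum.inr i) ^ q - X (Sum.inr i) * X (Sum.inl i) ^ q))
    (Z : ι → C) : aeval Z F = Fv q Z := by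
  rw [hF]
  simp [Fv, map_sum]

omit [Fintype k] in
theorem aeval_L {C : Type*} [CommRing C] [Algebra k C] (L : MvPolynomial ι k) (c : ι → k)
    (hL : L = ∑ v, MvPolynomial.C (c v) * X v) (Z : ι → C) : aeval Z L = Lv c Z := by
  rw [hL]
  simp [Lv, map_sum]

omit [Fintype k] in
theorem Lv_add {C : Type*} [CommRing C] [Algebra k C] (c : ι → k) (Z W : ι → C) :
    Lv c (fun v => Z v + W v) = Lv c Z + Lv c W := by
  simp only [Lv, mul_add, Finset.sum_add_distrib]

omit [Fintype k] in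
theorem Lv_P₀ {C : Type*} [CommRing C] [Algebra k C] (c : ι → k) :
    Lv c (fun v => algebraMap k C (P₀ c v)) = 0 := by
  simp only [Lv, Fintype.sum_sum_type, P₀, Sum.elim_inl, Sum.elim_inr, map_neg]
  rw [← Finset.sum_add_distrib]
  apply Finset.sum_eq_zero
  intro i _
  ring

/-- the key identity in the polynomial ring -/
theorem key_poly (c : ι → k) :
    Fv (Fintype.card k) (fun v => (MvPolynomial.C (P₀ c v) + X v : MvPolynomial ι k)) =
      Lv c (X : ι → MvPolynomial ι k) - (Lv c (X : ι → MvPolynomial ι k)) ^ Fintype.card k +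
      Fv (Fintype.card k) (X : ι → MvPolynomial ι k) := by
  classical
  obtain ⟨p, hp⟩ := CharP.exists k
  obtain ⟨r, hprime, hq⟩ := FiniteField.card k p
  have : Fact p.Prime := ⟨hprime⟩
  have hfrob : ∀ (a : k) (Y : MvPolynomial ι k),
      (MvPolynomial.C a + Y) ^ Fintype.card k = MvPolynomial.C a + Y ^ Fintype.card k := by
    intro a Y
    rw [hq, add_pow_char_pow, ← hq, ← map_pow, FiniteField.pow_card]
  have hLq : (Lv c (X : ι → MvPolynomial ι k)) ^ Fintype.card k =
      ∑ v, MvPolynomial.C (c v) * X v ^ Fintype.card k := by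
    unfold Lv
    rw [hq, sum_pow_char_pow, ← hq]
    refine Finset.sum_congr rfl (fun v _ => ?_)
    rw [mul_pow, MvPolynomial.algebraMap_eq, ← map_pow, FiniteField.pow_card]
  rw [hLq]
  unfold Fv Lv
  simp only [hfrob]
  simp only [Fintype.sum_sum_type, P₀, Sum.elim_inl, Sum.elim_inr, MvPolynomial.algebraMap_eq,
    map_neg]
  simp only [← Finset.sum_add_distrib, ← Finset.sum_sub_distrib]
  refine Finset.sum_congr rfl (fun i _ => ?_)
  ring

/-- the key identity at points of an arbitrary commutative `k`-algebra -/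
theorem key {C : Type*} [CommRing C] [Algebra k C] (c : ι → k) (Z : ι → C) :
    Fv (Fintype.card k) (fun v => algebraMap k C (P₀ c v) + Z v) =
      Lv c Z - (Lv c Z) ^ Fintype.card k + Fv (Fintype.card k) Z := by
  have h := congrArg (aeval Z) (key_poly (k := k) (n := n) c)
  simpa [Fv, Lv, map_sum] using h

theorem Fv_smul {C : Type*} [CommRing C] (q : ℕ) (s : C) (Z : ι → C) :
    Fv q (fun v => s * Z v) = s ^ (q + 1) * Fv q Z := by
  unfold Fv
  rw [Finset.mul_sum]
  refine Finset.sum_congr rfl (fun i _ => ?_)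
  ring

end Identity
--END1

--BEGIN2
section Direction

variable {k : Type u} [Field k] [Fintype k] {n : ℕ}

local notation "ι" => (Fin (n + 1) ⊕ Fin (n + 1))

theorem exists_direction (hn : 1 ≤ n) (c : ι → k) (hc : c ≠ 0) :
    ∃ g : ι → Polynomial k, Lv c g = 0 ∧
      Fv (Fintype.card k) g = Polynomial.X ^ Fintype.card k - Polynomial.X := by
  classical
  have hq : Fintype.card k ≠ 0 := Fintype.card_ne_zero
  -- index with nonzero coefficient pair
  obtain ⟨i₀, hi₀⟩ : ∃ i₀ : Fin (n + 1), c (Sum.inl i₀) ≠ 0 ∨ c (Sum.inr i₀) ≠ 0 := by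
    by_contra h
    push Not at h
    apply hc
    funext v
    rcases v with i | i
    · exact (h i).1
    · exact (h i).2
  have : Nontrivial (Fin (n + 1)) := Fin.nontrivial_iff_two_le.mpr (by omega)
  obtain ⟨i₁, hi₁⟩ := exists_ne i₀
  set ℓ : Polynomial k := Polynomial.C (c (Sum.inl i₁)) + Polynomial.C (c (Sum.inr i₁)) * Polynomial.X
    with hℓ
  -- the pair (a₀, b₀)
  obtain ⟨a₀, b₀, hab, hprod⟩ : ∃ a₀ b₀ : Polynomial k,
      Polynomial.C (c (Sum.inl i₀)) * a₀ + Polynomial.C (c (Sum.inr i₀)) * b₀ = -ℓ ∧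
      (a₀ = 0 ∨ b₀ = 0) := by
    by_cases hα : c (Sum.inl i₀) ≠ 0
    · refine ⟨-(Polynomial.C (c (Sum.inl i₀))⁻¹ * ℓ), 0, ?_, Or.inr rfl⟩
      rw [mul_zero, add_zero, mul_neg, ← mul_assoc, ← Polynomial.C_mul, mul_inv_cancel₀ hα,
        Polynomial.C_1, one_mul]
    · push Not at hα
      have hβ : c (Sum.inr i₀) ≠ 0 := by
        rcases hi₀ with h | h
        · exact absurd hα h
        · exact h
      refine ⟨0, -(Polynomial.C (c (Sum.inr i₀))⁻¹ * ℓ), ?_, Or.inl rfl⟩
      rw [mul_zero, zero_add, mul_neg, ← mul_assoc, ← Polynomial.C_mul, mul_inv_cancel₀ hβ,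
        Polynomial.C_1, one_mul]
  let g : ι → Polynomial k := fun v =>
    match v with
    | Sum.inl i => if i = i₀ then a₀ else if i = i₁ then 1 else 0
    | Sum.inr i => if i = i₀ then b₀ else if i = i₁ then Polynomial.X else 0
  have gl0 : g (Sum.inl i₀) = a₀ := by simp [g]
  have gr0 : g (Sum.inr i₀) = b₀ := by simp [g]
  have gl1 : g (Sum.inl i₁) = 1 := by simp [g, hi₁]
  have gr1 : g (Sum.inr i₁) = Polynomial.X := by simp [g, hi₁]
  have glo : ∀ i, i ≠ i₀ ∧ i ≠ i₁ → g (Sum.inl i) = 0 := by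
    intro i hi; simp [g, hi.1, hi.2]
  have gro : ∀ i, i ≠ i₀ ∧ i ≠ i₁ → g (Sum.inr i) = 0 := by
    intro i hi; simp [g, hi.1, hi.2]
  refine ⟨g, ?_, ?_⟩
  · unfold Lv
    rw [Fintype.sum_sum_type, ← Finset.sum_add_distrib]
    rw [Fintype.sum_eq_add i₀ i₁ hi₁.symm]
    · rw [gl0, gr0, gl1, gr1]
      simp only [Polynomial.algebraMap_eq]
      rw [hab, hℓ]; ring
    · intro i hi
      rw [glo i hi, gro i hi]; ring
  · unfold Fv
    rw [Fintype.sum_eq_add i₀ i₁ hi₁.symm]
    · rw [gl0, gr0, gl1, gr1]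
      have h0 : a₀ * b₀ ^ Fintype.card k - b₀ * a₀ ^ Fintype.card k = 0 := by
        rcases hprod with h | h
        · rw [h, zero_pow hq]; ring
        · rw [h, zero_pow hq]; ring
      rw [h0]; ring
    · intro i hi
      rw [glo i hi, gro i hi, zero_pow hq]; ring

end Direction
--END2


--BEGIN3
section NoLift

variable {k : Type u} [Field k] [Fintype k] {n : ℕ}

local notation "ι" => (Fin (n + 1) ⊕ Fin (n + 1))
local notation "S" => Polynomial (Polynomial k)
local notation "qq" => Fintype.card k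

omit [Fintype k] in
theorem map_Fv {C₁ C₂ : Type*} [CommRing C₁] [CommRing C₂] (φ : C₁ →+* C₂) (q : ℕ) (Z : ι → C₁) :
    Fv q (fun v => φ (Z v)) = φ (Fv q Z) := by
  simp [Fv, map_sum]

omit [Fintype k] in
theorem map_Lv {C₁ C₂ : Type*} [CommRing C₁] [CommRing C₂] [Algebra k C₁] [Algebra k C₂]
    (φ : C₁ →ₐ[k] C₂) (c : ι → k) (Z : ι → C₁) :
    Lv c (fun v => φ (Z v)) = φ (Lv c Z) := by
  simp [Lv, map_sum]

omit [Fintype k] in
theorem Lv_smul {C : Type*} [CommRing C] [Algebra k C] (c : ι → k) (s : C) (Z : ι → C) :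
    Lv c (fun v => s * Z v) = s * Lv c Z := by
  unfold Lv
  rw [Finset.mul_sum]
  refine Finset.sum_congr rfl (fun v _ => ?_)
  ring

/-- the algebraic core: no point of `B = S/(X^{q+2})` lifts the jet. -/
theorem no_lift {B : Type*} [CommRing B] [Algebra k B] (mB : S →ₐ[k] B)
    (kerB : ∀ x : S, mB x = 0 ↔ (Polynomial.X : S) ^ (qq + 2) ∣ x)
    (c : ι → k) (g : ι → Polynomial k)
    (hFg : Fv qq g = Polynomial.X ^ qq - Polynomial.X)
    (p : ι → B)
    (hp : ∀ v, ∃ r : S, p v = mB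
      (algebraMap k S (P₀ c v) + Polynomial.X * (Polynomial.C (g v) + Polynomial.X ^ qq * r)))
    (hF : Fv qq p = 0) (hL : Lv c p = 0) : False := by
  classical
  have hq0 : qq ≠ 0 := Fintype.card_ne_zero
  have hq1 : 1 < qq := Fintype.one_lt_card
  choose r hr using hp
  obtain ⟨u, hu⟩ : ∃ u : ι → S, u = fun v => Polynomial.C (g v) + Polynomial.X ^ qq * r v :=
    ⟨_, rfl⟩
  obtain ⟨Z, hZ⟩ : ∃ Z : ι → S, Z = fun v => Polynomial.X * u v := ⟨_, rfl⟩
  have hp' : p = fun v => mB (algebraMap k S (P₀ c v) + Z v) := by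
    funext v; rw [hr v, hZ, hu]
  -- L
  have hLZ : mB (Lv c Z) = 0 := by
    have h1 : Lv c p = mB (Lv c (fun v => algebraMap k S (P₀ c v) + Z v)) := by
      rw [hp']
      exact map_Lv mB c (fun v => algebraMap k S (P₀ c v) + Z v)
    rw [h1, Lv_add, Lv_P₀, zero_add] at hL
    exact hL
  -- F
  have hFZ : mB (Fv qq Z) = 0 := by
    have h1 : Fv qq p = mB (Fv qq (fun v => algebraMap k S (P₀ c v) + Z v)) := by
      rw [hp']
      exact map_Fv (mB : S →+* B) qq (fun v => algebraMap k S (P₀ c v) + Z v)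
    rw [h1, key, map_add, map_sub, map_pow, hLZ, zero_pow hq0, sub_zero, zero_add] at hF
    exact hF
  -- homogeneity
  have h2 : Fv qq Z = Polynomial.X ^ (qq + 1) * Fv qq u := by rw [hZ]; exact Fv_smul qq _ u
  -- constant term
  have h3 : (Fv qq u).coeff 0 = Polynomial.X ^ qq - Polynomial.X := by
    rw [Polynomial.coeff_zero_eq_eval_zero, ← Polynomial.coe_evalRingHom, ← map_Fv, ← hFg]
    congr 1
    funext v
    simp [hu, hq0]
  have h4 : Fv qq u = Polynomial.C ((Fv qq u).coeff 0) + Polynomial.X * (Fv qq u).divX := by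
    conv_lhs => rw [← Polynomial.divX_mul_X_add (Fv qq u)]
    ring
  rw [h2, kerB, pow_succ _ (qq + 1),
    mul_dvd_mul_iff_left (pow_ne_zero _ Polynomial.X_ne_zero), Polynomial.X_dvd_iff, h4] at hFZ
  rw [Polynomial.coeff_add, Polynomial.coeff_C_zero, Polynomial.coeff_X_mul_zero, add_zero, h3] at hFZ
  exact FiniteField.X_pow_card_sub_X_ne_zero k hq1 hFZ

end NoLift
--END3

--BEGIN4
section Main

variable {k : Type u} [Field k] [Fintype k] {n : ℕ}

local notation "ι" => (Fin (n + 1) ⊕ Fin (n + 1))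
local notation "S" => Polynomial (Polynomial k)
local notation "qq" => Fintype.card k

theorem nilpotent_of_sq {B : Type*} [CommRing B] (J : Ideal B)
    (h : ∀ a ∈ J, ∀ b ∈ J, a * b = 0) : IsNilpotent J := by
  refine ⟨2, ?_⟩
  rw [pow_two, Ideal.zero_eq_bot, eq_bot_iff, Ideal.mul_le]
  intro a ha b hb
  rw [Ideal.mem_bot]
  exact h a ha b hb

theorem ker_nilpotent {B Cq : Type*} [CommRing B] [Algebra k B] [CommRing Cq] [Algebra k Cq]
    (mB : S →ₐ[k] B) (hmB : Function.Surjective mB)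
    (kerB : ∀ x : S, mB x = 0 ↔ (Polynomial.X : S) ^ (qq + 2) ∣ x)
    (mC : S →ₐ[k] Cq) (kerC : ∀ x : S, mC x = 0 ↔ (Polynomial.X : S) ^ (qq + 1) ∣ x)
    (π : B →ₐ[k] Cq) (hπ : ∀ x, π (mB x) = mC x) :
    IsNilpotent (RingHom.ker (π : B →+* Cq)) := by
  apply nilpotent_of_sq
  intro a ha b hb
  obtain ⟨a, rfl⟩ := hmB a
  obtain ⟨b, rfl⟩ := hmB b
  rw [RingHom.mem_ker] at ha hb
  have ha' : mC a = 0 := by rw [← hπ]; exact ha
  have hb' : mC b = 0 := by rw [← hπ]; exact hb
  rw [kerC] at ha' hb'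
  obtain ⟨a', rfl⟩ := ha'
  obtain ⟨b', rfl⟩ := hb'
  rw [← map_mul, kerB]
  refine ⟨Polynomial.X ^ qq * a' * b', ?_⟩
  rw [pow_succ, pow_succ, pow_succ]
  ring

omit [Fintype k] in
theorem Lv_pt (c : ι → k) (g : ι → Polynomial k) (hLg : Lv c g = 0) :
    Lv c (fun v => algebraMap k S (P₀ c v) + Polynomial.X * Polynomial.C (g v)) = 0 := by
  have h1 : Lv c (fun v => algebraMap k S (P₀ c v) + Polynomial.X * Polynomial.C (g v)) =
      Lv c (fun v => algebraMap k S (P₀ c v)) +
      Lv c (fun v => (Polynomial.X : S) * Polynomial.C (g v)) := Lv_add c _ _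
  have h2 : Lv c (fun v => (Polynomial.C (g v) : S)) = Polynomial.C (Lv c g) :=
    map_Lv (Polynomial.CAlgHom (R := k) (A := Polynomial k)) c g
  rw [h1, Lv_P₀, Lv_smul, h2, hLg, map_zero, mul_zero, add_zero]

theorem Fv_pt (c : ι → k) (g : ι → Polynomial k) (hLg : Lv c g = 0)
    (hFg : Fv qq g = Polynomial.X ^ qq - Polynomial.X) :
    Fv qq (fun v => algebraMap k S (P₀ c v) + Polynomial.X * Polynomial.C (g v)) =
      Polynomial.X ^ (qq + 1) * Polynomial.C (Polynomial.X ^ qq - Polynomial.X) := by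
  have hq0 : qq ≠ 0 := Fintype.card_ne_zero
  have h1 := key c (fun v => (Polynomial.X : S) * (Polynomial.C (g v) : S))
  have h2 : Lv c (fun v => (Polynomial.C (g v) : S)) = Polynomial.C (Lv c g) :=
    map_Lv (Polynomial.CAlgHom (R := k) (A := Polynomial k)) c g
  have h3 : Fv qq (fun v => (Polynomial.C (g v) : S)) = Polynomial.C (Fv qq g) :=
    map_Fv (Polynomial.C : Polynomial k →+* S) qq g
  rw [h1, Lv_smul, h2, hLg, map_zero, mul_zero, zero_pow hq0, sub_zero, zero_add, Fv_smul, h3, hFg]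

theorem exists_jet {Cq : Type*} [CommRing Cq] [Algebra k Cq]
    (mC : S →ₐ[k] Cq) (kerC : ∀ x : S, mC x = 0 ↔ (Polynomial.X : S) ^ (qq + 1) ∣ x)
    (F L : MvPolynomial ι k)
    (hF : F = ∑ i : Fin (n + 1), (X (Sum.inl i) * X (Sum.inr i) ^ qq - X (Sum.inr i) * X (Sum.inl i) ^ qq))
    (c : ι → k) (hL : L = ∑ v, MvPolynomial.C (c v) * X v)
    (g : ι → Polynomial k) (hLg : Lv c g = 0)
    (hFg : Fv qq g = Polynomial.X ^ qq - Polynomial.X) (w : ι) (hw : P₀ c w ≠ 0) :
    ∃ f : Localization.Away (Ideal.Quotient.mk (Ideal.span {F, L}) (X w)) →ₐ[k] Cq,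
      ∀ v, f (algebraMap _ _ (Ideal.Quotient.mk (Ideal.span {F, L}) (X v))) =
        mC (algebraMap k S (P₀ c v) + Polynomial.X * Polynomial.C (g v)) := by
  classical
  have hXq : mC ((Polynomial.X : S) ^ (qq + 1)) = 0 := (kerC _).mpr dvd_rfl
  obtain ⟨pt, hpt⟩ : ∃ pt : ι → S,
      pt = fun v => algebraMap k S (P₀ c v) + Polynomial.X * Polynomial.C (g v) := ⟨_, rfl⟩
  obtain ⟨f₀, hf₀⟩ : ∃ f₀ : MvPolynomial ι k →ₐ[k] Cq,
      f₀ = aeval (fun v => mC (pt v)) := ⟨_, rfl⟩
  have hf₀F : f₀ F = 0 := by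
    have h0 : f₀ F = Fv qq (fun v => mC (pt v)) := by
      rw [hf₀]; exact aeval_F F qq hF _
    have h := map_Fv (mC : S →+* Cq) qq pt
    have h' : Fv qq (fun v => mC (pt v)) = mC (Fv qq pt) := h
    rw [h0, h', hpt, Fv_pt c g hLg hFg, map_mul, hXq, zero_mul]
  have hf₀L : f₀ L = 0 := by
    have h0 : f₀ L = Lv c (fun v => mC (pt v)) := by
      rw [hf₀]; exact aeval_L L c hL _
    have h : Lv c (fun v => mC (pt v)) = mC (Lv c pt) := map_Lv mC c pt
    rw [h0, h, hpt, Lv_pt c g hLg, map_zero]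
  have hle : ∀ a ∈ Ideal.span {F, L}, f₀ a = 0 := by
    have hle' : Ideal.span {F, L} ≤ RingHom.ker (f₀ : MvPolynomial ι k →+* Cq) := by
      rw [Ideal.span_le]
      intro x hx
      rcases hx with rfl | hx
      · exact hf₀F
      · rw [Set.mem_singleton_iff] at hx; rw [hx]; exact hf₀L
    exact fun a ha => hle' ha
  obtain ⟨f₁, hf₁⟩ : ∃ f₁ : (MvPolynomial ι k ⧸ Ideal.span {F, L}) →ₐ[k] Cq,
      ∀ G, f₁ (Ideal.Quotient.mk (Ideal.span {F, L}) G) = f₀ G :=
    ⟨Ideal.Quotient.liftₐ (Ideal.span {F, L}) f₀ hle, fun G => rfl⟩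
  have hf₁X : ∀ v, f₁ (Ideal.Quotient.mk (Ideal.span {F, L}) (X v)) = mC (pt v) := by
    intro v
    rw [hf₁, hf₀]
    exact aeval_X _ v
  have hunit : ∀ y : Submonoid.powers (Ideal.Quotient.mk (Ideal.span {F, L}) (X w)),
      IsUnit (f₁ y) := by
    rintro ⟨_, m, rfl⟩
    simp only [map_pow]
    apply IsUnit.pow
    rw [hf₁X, hpt]
    have hu : IsUnit (mC (algebraMap k S (P₀ c w))) := by
      have : IsUnit (P₀ c w) := isUnit_iff_ne_zero.mpr hw
      exact (this.map (algebraMap k S)).map mC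
    have hnil : IsNilpotent (mC ((Polynomial.X : S) * Polynomial.C (g w))) := by
      refine ⟨qq + 1, ?_⟩
      rw [← map_pow, mul_pow, map_mul, hXq, zero_mul]
    rw [map_add]
    exact hnil.isUnit_add_left_of_commute hu (Commute.all _ _)
  refine ⟨IsLocalization.liftAlgHom
    (M := Submonoid.powers (Ideal.Quotient.mk (Ideal.span {F, L}) (X w))) (f := f₁) hunit, ?_⟩
  intro v
  rw [IsLocalization.liftAlgHom_apply, IsLocalization.lift_eq]
  have := hf₁X v
  rw [hpt] at this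
  exact this

end Main
--END4

--BEGIN5
section Main2

variable {k : Type u} [Field k] [Fintype k] {n : ℕ}

local notation "ι" => (Fin (n + 1) ⊕ Fin (n + 1))
local notation "S" => Polynomial (Polynomial k)
local notation "qq" => Fintype.card k

theorem not_formallySmooth_abs {B Cq : Type*} [CommRing B] [Algebra k B] [CommRing Cq]
    [Algebra k Cq]
    (mB : S →ₐ[k] B) (hmB : Function.Surjective mB)
    (kerB : ∀ x : S, mB x = 0 ↔ (Polynomial.X : S) ^ (qq + 2) ∣ x)
    (mC : S →ₐ[k] Cq) (hmC : Function.Surjective mC)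
    (kerC : ∀ x : S, mC x = 0 ↔ (Polynomial.X : S) ^ (qq + 1) ∣ x)
    (π : B →ₐ[k] Cq) (hπ : ∀ x, π (mB x) = mC x)
    (hn : 1 ≤ n) (F L : MvPolynomial ι k)
    (hF : F = ∑ i : Fin (n + 1), (X (Sum.inl i) * X (Sum.inr i) ^ qq - X (Sum.inr i) * X (Sum.inl i) ^ qq))
    (c : ι → k) (hc : c ≠ 0)
    (hL : L = ∑ v, MvPolynomial.C (c v) * X v) (w : ι) (hw : P₀ c w ≠ 0)
    [hsm : Algebra.FormallySmooth k
      (Localization.Away (Ideal.Quotient.mk (Ideal.span {F, L}) (X w)))] : False := by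
  classical
  obtain ⟨g, hLg, hFg⟩ := exists_direction hn c hc
  obtain ⟨f, hf⟩ := exists_jet mC kerC F L hF c hL g hLg hFg w hw
  have hπsurj : Function.Surjective π := by
    intro y
    obtain ⟨x, rfl⟩ := hmC y
    exact ⟨mB x, hπ x⟩
  have hnil := ker_nilpotent mB hmB kerB mC kerC π hπ
  obtain ⟨ψ, hψ⟩ : ∃ ψ : Localization.Away (Ideal.Quotient.mk (Ideal.span {F, L}) (X w)) →ₐ[k] B,
      ∀ a, π (ψ a) = f a :=
    ⟨Algebra.FormallySmooth.liftOfSurjective f π hπsurj hnil,
      Algebra.FormallySmooth.liftOfSurjective_apply f π hπsurj hnil⟩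
  obtain ⟨inc, hinc⟩ : ∃ inc : MvPolynomial ι k →ₐ[k]
      Localization.Away (Ideal.Quotient.mk (Ideal.span {F, L}) (X w)),
      ∀ G, inc G = algebraMap _ _ (Ideal.Quotient.mk (Ideal.span {F, L}) G) :=
    ⟨(IsScalarTower.toAlgHom k (MvPolynomial ι k ⧸ Ideal.span {F, L}) _).comp
      (Ideal.Quotient.mkₐ k (Ideal.span {F, L})), fun G => rfl⟩
  obtain ⟨p, hp⟩ : ∃ p : ι → B, p = fun v => ψ (inc (X v)) := ⟨_, rfl⟩
  have hcomp : ∀ G : MvPolynomial ι k, ψ (inc G) = aeval p G := by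
    intro G
    have : (ψ.comp inc) = aeval p := by
      apply MvPolynomial.algHom_ext
      intro v
      rw [aeval_X, hp]
      rfl
    rw [← this]; rfl
  have hincF : inc F = 0 := by
    rw [hinc, Ideal.Quotient.eq_zero_iff_mem.mpr (Ideal.subset_span (Set.mem_insert _ _)), map_zero]
  have hincL : inc L = 0 := by
    rw [hinc, Ideal.Quotient.eq_zero_iff_mem.mpr
      (Ideal.subset_span (Set.mem_insert_of_mem _ (Set.mem_singleton _))), map_zero]
  have hpF : Fv qq p = 0 := by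
    rw [← aeval_F F qq hF p, ← hcomp, hincF, map_zero]
  have hpL : Lv c p = 0 := by
    rw [← aeval_L L c hL p, ← hcomp, hincL, map_zero]
  have hp' : ∀ v, ∃ r : S, p v = mB
      (algebraMap k S (P₀ c v) + Polynomial.X * (Polynomial.C (g v) + Polynomial.X ^ qq * r)) := by
    intro v
    obtain ⟨pv, hpv⟩ := hmB (p v)
    have h1 : π (p v) = mC (algebraMap k S (P₀ c v) + Polynomial.X * Polynomial.C (g v)) := by
      rw [hp, hψ, hinc, hf]
    rw [← hpv, hπ, ← sub_eq_zero, ← map_sub, kerC] at h1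
    obtain ⟨r, hr⟩ := h1
    refine ⟨r, ?_⟩
    rw [← hpv]
    congr 1
    have : pv = algebraMap k S (P₀ c v) + Polynomial.X * Polynomial.C (g v) +
        Polynomial.X ^ (qq + 1) * r := by rw [← hr]; ring
    rw [this]
    ring
  exact no_lift mB kerB c g hFg p hp' hpF hpL

end Main2
--END5

--BEGIN6
section Main3

theorem main (k : Type u) [Field k] [Fintype k] (n : ℕ) (hn : 1 ≤ n)
    (F L : MvPolynomial (Fin (n + 1) ⊕ Fin (n + 1)) k)
    (hF : F = ∑ i : Fin (n + 1), (MvPolynomial.X (Sum.inl i) * MvPolynomial.X (Sum.inr i) ^ Fintype.card k -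
      MvPolynomial.X (Sum.inr i) * MvPolynomial.X (Sum.inl i) ^ Fintype.card k))
    (c : Fin (n + 1) ⊕ Fin (n + 1) → k) (hc : c ≠ 0)
    (hL : L = ∑ v, MvPolynomial.C (c v) * MvPolynomial.X v) :
    ¬ ∀ w : Fin (n + 1) ⊕ Fin (n + 1),
      Smooth (Spec.map (CommRingCat.ofHom (algebraMap k
        (Localization.Away (Ideal.Quotient.mk (Ideal.span {F, L}) (MvPolynomial.X w)))))) := by
  intro hall
  obtain ⟨w, hw⟩ : ∃ w, P₀ c w ≠ 0 := by
    by_contra h
    push Not at h
    apply hc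
    funext v
    rcases v with i | i
    · have := h (Sum.inr i)
      simpa [P₀] using this
    · have := h (Sum.inl i)
      simpa [P₀] using this
  have hsm := hall w
  have h1 : (algebraMap k
      (Localization.Away (Ideal.Quotient.mk (Ideal.span {F, L}) (MvPolynomial.X w)))).Smooth := by
    have := (HasRingHomProperty.Spec_iff (P := @Smooth)).mp hsm
    simpa using this
  have h2 : Algebra.Smooth k
      (Localization.Away (Ideal.Quotient.mk (Ideal.span {F, L}) (MvPolynomial.X w))) :=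
    RingHom.smooth_algebraMap.mp h1
  have h3 : Algebra.FormallySmooth k
      (Localization.Away (Ideal.Quotient.mk (Ideal.span {F, L}) (MvPolynomial.X w))) :=
    inferInstance
  have hI21 : Ideal.span {(Polynomial.X : Polynomial (Polynomial k)) ^ (Fintype.card k + 2)} ≤
      Ideal.span {(Polynomial.X : Polynomial (Polynomial k)) ^ (Fintype.card k + 1)} := by
    rw [Ideal.span_le, Set.singleton_subset_iff]
    exact Ideal.mem_span_singleton.mpr ⟨Polynomial.X, by rw [pow_succ]⟩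
  exact not_formallySmooth_abs
    (B := Polynomial (Polynomial k) ⧸
      Ideal.span {(Polynomial.X : Polynomial (Polynomial k)) ^ (Fintype.card k + 2)})
    (Cq := Polynomial (Polynomial k) ⧸
      Ideal.span {(Polynomial.X : Polynomial (Polynomial k)) ^ (Fintype.card k + 1)})
    (Ideal.Quotient.mkₐ k _) (Ideal.Quotient.mkₐ_surjective k _)
    (fun x => Ideal.Quotient.eq_zero_iff_mem.trans Ideal.mem_span_singleton)
    (Ideal.Quotient.mkₐ k _) (Ideal.Quotient.mkₐ_surjective k _)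
    (fun x => Ideal.Quotient.eq_zero_iff_mem.trans Ideal.mem_span_singleton)
    (Ideal.Quotient.factorₐ k hI21) (fun x => rfl) hn F L hF c hc hL w hw

end Main3
--END6

end Helper71.Zeta
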